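import Mathlib

/-!
Small general lemmas used in the class-size area.
-/

namespace CfsgLib.ClassSizes

variable {G : Type*} [Group G]

/-- For a normal subgroup `H`, the index `|H : H ∩ K|` is at most, indeed divides, `|G : K|`. -/
theorem relIndex_dvd_index_of_normal_right [Finite G] (H K : Subgroup G) [H.Normal] :
    K.relIndex H ∣ K.index := by
  have h1 : (H ⊓ K).relIndex H * H.relIndex (H ⊔ K) = (H ⊓ K).relIndex (H ⊔ K) :=
    Subgroup.relIndex_mul_relIndex _ _ _ inf_le_left le_sup_left
  have h2 : (H ⊓ K).relIndex K * K.relIndex (H ⊔ K) = (H ⊓ K).relIndex (H ⊔ K) :=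
    Subgroup.relIndex_mul_relIndex _ _ _ inf_le_right le_sup_right
  rw [Subgroup.inf_relIndex_left, Subgroup.relIndex_sup_left, ← h2, Subgroup.inf_relIndex_right, mul_comm] at h1
  have hpos : H.relIndex K ≠ 0 := Subgroup.index_ne_zero_of_finite
  rw [Nat.eq_of_mul_eq_mul_left (Nat.pos_of_ne_zero hpos) h1]
  exact Subgroup.relIndex_dvd_index_of_le le_sup_right

/-- Three subgroup lemma modulo a normal subgroup. -/
theorem three_subgroup_le (N : Subgroup G) [N.Normal] {A B C : Subgroup G}
    (h1 : ⁅⁅B, C⁆, A⁆ ≤ N) (h2 : ⁅⁅C, A⁆, B⁆ ≤ N) : ⁅⁅A, B⁆, C⁆ ≤ N := by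
  have key : ∀ X : Subgroup G, X ≤ N ↔ X.map (QuotientGroup.mk' N) = ⊥ := fun X => by
    rw [Subgroup.map_eq_bot_iff, QuotientGroup.ker_mk']
  rw [key, Subgroup.map_commutator, Subgroup.map_commutator] at h1 h2 ⊢
  exact Subgroup.commutator_commutator_eq_bot_of_rotate h1 h2

/-- A Sylow subgroup with nontrivial intersection with the centre gives a proper derived subgroup. -/
theorem central_sylow_inf_commutator [Finite G] {p : ℕ} [Fact p.Prime] (P : Sylow p G)
    (hP : (P : Subgroup G) ≤ Subgroup.center G) : (P : Subgroup G) ⊓ commutator G = ⊥ := by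
  have hN : Subgroup.normalizer ((P : Subgroup G) : Set G) ≤ Subgroup.centralizer ((P : Subgroup G) : Set G) :=
    fun x _ => Subgroup.mem_centralizer_iff.2 fun z hz => (Subgroup.mem_center_iff.1 (hP hz) x).symm
  have hc := MonoidHom.ker_transferSylow_isComplement' P hN
  have hab : IsMulCommutative (P : Subgroup G) :=
    ⟨⟨fun a b => Subtype.ext (Subgroup.mem_center_iff.1 (hP b.2) a)⟩⟩
  have hker : commutator G ≤ (MonoidHom.transferSylow P hN).ker := by
    rw [commutator_def, Subgroup.commutator_le]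
    intro a _ b _
    rw [MonoidHom.mem_ker, map_commutatorElement, commutatorElement_eq_one_iff_mul_comm]
    exact hab.is_comm.comm _ _
  exact le_bot_iff.1 ((inf_le_inf_left _ hker).trans hc.symm.disjoint.le_bot)

end CfsgLib.ClassSizes
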