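import Cfsg.Agent.Lib.Orders.SubgroupCount
import Cfsg.Agent.Lib.PGroups.Basic

/-!
# The number of subgroups of prime power order modulo `p ^ 2`

The number of subgroups of order `p ^ a` is congruent to `1 + p * u` where `u` counts the non-cyclic subgroups of
order `p ^ (a + 1)`.
-/

set_option autoImplicit false

namespace CfsgLib.ClassSizes.Kulakoff

universe u

open scoped Pointwise

variable {G : Type u} [Group G] [Finite G]

theorem eq_of_card_eq_of_isCyclic [IsCyclic G] {H K : Subgroup G} (h : Nat.card H = Nat.card K) : H = K := by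
  classical
  have := Fintype.ofFinite G
  have hle : ∀ L : Subgroup G, Nat.card L = Nat.card H →
      (Finset.univ.filter fun x : G => x ∈ L) = Finset.univ.filter fun x : G => x ^ Nat.card H = 1 := by
    intro L hL
    refine Finset.eq_of_subset_of_card_le (fun x hx => ?_) ((IsCyclic.card_pow_eq_one_le Nat.card_pos).trans ?_)
    · simp only [Finset.mem_filter, Finset.mem_univ, true_and] at hx ⊢
      rw [← hL]
      have h1 : (⟨x, hx⟩ : L) ^ Nat.card L = 1 := pow_card_eq_one'
      exact congrArg Subtype.val h1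
    · rw [← hL, Nat.card_eq_fintype_card, Fintype.card_subtype]
  ext x
  have := Finset.ext_iff.1 ((hle H rfl).trans (hle K h.symm).symm) x
  simpa using this

/-- The index-`p` subgroups of a non-cyclic `p`-group number `1 + p` modulo `p ^ 2`. -/
theorem card_maximal_modEq {p a : ℕ} [hp : Fact p.Prime] (hG : Nat.card G = p ^ (a + 1)) (hnc : ¬ IsCyclic G) :
    Nat.card {K : Subgroup G // Nat.card K = p ^ a} ≡ 1 + p [MOD p ^ 2] := by
  classical
  have hP : IsPGroup p G := IsPGroup.of_card hG
  have hidx : ∀ K : Subgroup G, Nat.card K = p ^ a → K.index = p := by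
    intro K hK
    have h := Subgroup.card_mul_index K
    rw [hK, hG, pow_succ] at h
    exact Nat.eq_of_mul_eq_mul_left (pow_pos hp.out.pos a) h
  have hcardK : ∀ K : Subgroup G, K.index = p → Nat.card K = p ^ a := by
    intro K hK
    have h := Subgroup.card_mul_index K
    rw [hK, hG, pow_succ] at h
    exact Nat.eq_of_mul_eq_mul_right hp.out.pos h
  let C := Multiplicative (ZMod p)
  have hC : Nat.card C = p := by
    show Nat.card (ZMod p) = p
    exact Nat.card_zmod p
  haveI : Finite (G →* C) := Finite.of_injective (fun f => (f : G → C)) DFunLike.coe_injective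
  have hker : ∀ f : G →* C, f ≠ 1 → f.ker.index = p := by
    intro f hf
    rw [Subgroup.index_ker]
    rcases (Nat.dvd_prime hp.out).1 (hC ▸ Subgroup.card_subgroup_dvd_card f.range) with h | h
    · exact absurd (MonoidHom.range_eq_bot_iff.1 (Subgroup.card_eq_one.1 h)) hf
    · exact h
  have hfib : ∀ K : Subgroup G, K.index = p → Nat.card {f : G →* C // f.ker = K} = p - 1 := by
    intro K hK
    haveI : K.Normal := by
      refine Subgroup.normal_of_index_eq_minFac_card ?_
      rw [hK, hG, hp.out.pow_minFac (Nat.succ_ne_zero a)]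
    have hQ : Nat.card (G ⧸ K) = p := by rw [← Subgroup.index_eq_card, hK]
    haveI := isCyclic_of_prime_card hQ
    let e₀ : (G ⧸ K) ≃* C := mulEquivOfCyclicCardEq (by rw [hQ, hC])
    have h1 : Nat.card (MulAut (G ⧸ K)) = p - 1 := by
      rw [IsCyclic.card_mulAut, hQ, Nat.totient_prime hp.out]
    rw [← h1]
    refine (Nat.card_congr (Equiv.ofBijective
      (fun σ : MulAut (G ⧸ K) => (⟨e₀.toMonoidHom.comp ((σ : (G ⧸ K) ≃* (G ⧸ K)).toMonoidHom.comp (QuotientGroup.mk' K)), ?_⟩ :
        {f : G →* C // f.ker = K})) ⟨fun σ τ h => ?_, fun f => ?_⟩)).symm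
    · ext g
      simp [MonoidHom.mem_ker]
    · refine MulEquiv.ext fun z => ?_
      obtain ⟨g, rfl⟩ := QuotientGroup.mk_surjective z
      exact e₀.injective (DFunLike.congr_fun (congrArg Subtype.val h) g)
    · let f' : (G ⧸ K) →* C := QuotientGroup.lift K f.1 (f.2.ge)
      have hinj : Function.Injective f' := by
        refine (injective_iff_map_eq_one _).2 fun z hz => ?_
        obtain ⟨g, rfl⟩ := QuotientGroup.mk_surjective z
        exact (QuotientGroup.eq_one_iff g).2 (f.2.le hz)
      have hbij : Function.Bijective (e₀.symm.toMonoidHom.comp f') :=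
        Finite.injective_iff_bijective.1 (e₀.symm.injective.comp hinj)
      refine ⟨MulEquiv.ofBijective _ hbij, Subtype.ext (MonoidHom.ext fun g => ?_)⟩
      show e₀ (e₀.symm (f' (QuotientGroup.mk g))) = f.1 g
      rw [e₀.apply_symm_apply]
      rfl
  set t := Nat.card {K : Subgroup G // Nat.card K = p ^ a}
  have hsum : Nat.card (G →* C) = 1 + (p - 1) * t := by
    haveI := Fintype.ofFinite (G →* C)
    haveI := Fintype.ofFinite (Subgroup G)
    rw [Nat.card_eq_fintype_card, ← Finset.card_univ, ← Finset.card_filter_add_card_filter_not (fun f : G →* C => f = 1)]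
    congr 1
    · exact Finset.card_eq_one.2 ⟨1, by ext f; simp⟩
    rw [Finset.card_eq_sum_card_fiberwise (f := MonoidHom.ker)
      (t := Finset.univ.filter fun K : Subgroup G => K.index = p)]
    · rw [Finset.sum_congr rfl (g := fun _ => p - 1) fun K hK => ?_, Finset.sum_const, smul_eq_mul, mul_comm]
      · congr 1
        rw [← Fintype.card_subtype, ← Nat.card_eq_fintype_card]
        exact Nat.card_congr (Equiv.subtypeEquivRight fun K => ⟨hcardK K, hidx K⟩)
      · simp only [Finset.mem_filter, Finset.mem_univ, true_and] at hK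
        rw [Finset.filter_filter, ← Fintype.card_subtype, ← Nat.card_eq_fintype_card, ← hfib K hK]
        refine Nat.card_congr (Equiv.subtypeEquivRight fun f => ⟨fun h => h.2, fun h => ⟨fun h1 => ?_, h⟩⟩)
        rw [← h, h1, MonoidHom.ker_one, Subgroup.index_top] at hK
        exact hp.out.one_lt.ne hK
    · intro f hf
      simp only [Finset.coe_filter, Set.mem_ofPred_eq, Finset.mem_univ, true_and] at hf ⊢
      exact hker f hf
  have ht2 : 2 ≤ t := by
    by_contra hlt
    obtain ⟨M, hM⟩ : ∃ M : Subgroup G, IsCoatom M := by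
      rcases eq_top_or_exists_le_coatom (⊥ : Subgroup G) with h | ⟨M, hM, -⟩
      · have := congrArg (fun H : Subgroup G => Nat.card H) h
        simp only [Subgroup.card_bot, Subgroup.card_top, hG] at this
        exact absurd this.symm (Nat.one_lt_pow (by omega) hp.out.one_lt).ne'
      · exact ⟨M, hM⟩
    obtain ⟨x, -, hx⟩ := SetLike.exists_of_lt hM.lt_top
    rcases eq_top_or_exists_le_coatom (Subgroup.zpowers x) with h | ⟨M', hM', hle⟩
    · exact hnc ⟨⟨x, fun g => Subgroup.mem_zpowers_iff.1 (by rw [h]; exact Subgroup.mem_top g)⟩⟩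
    · have hco : ∀ N : Subgroup G, IsCoatom N → Nat.card N = p ^ a := fun N hN =>
        hcardK N (CfsgLib.PGroups.index_of_isCoatom hP hN)
      haveI : Subsingleton {K : Subgroup G // Nat.card K = p ^ a} :=
        Finite.card_le_one_iff_subsingleton.1 (by omega)
      have := congrArg Subtype.val (Subsingleton.elim (⟨M', hco M' hM'⟩ : {K : Subgroup G // Nat.card K = p ^ a}) ⟨M, hco M hM⟩)
      exact hx ((show M' = M from this) ▸ hle (Subgroup.mem_zpowers x))
  have hpg : IsPGroup p (G →* C) := fun f => ⟨1, MonoidHom.ext fun g => by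
    show (f g) ^ p ^ 1 = 1
    rw [pow_one]
    have := pow_card_eq_one' (x := f g)
    rwa [hC] at this⟩
  obtain ⟨j, hj⟩ := hpg.exists_card_eq
  have hj2 : 2 ≤ j := by
    by_contra hlt
    have h1 : p ^ j ≤ p ^ 1 := Nat.pow_le_pow_right hp.out.pos (by omega)
    rw [← hj, hsum, pow_one] at h1
    have := Nat.mul_le_mul_left (p - 1) ht2
    have := hp.out.two_le
    omega
  rw [← ZMod.natCast_eq_natCast_iff]
  have h0 : ((1 + (p - 1) * t : ℕ) : ZMod (p ^ 2)) = 0 := by
    rw [← hsum, hj, ZMod.natCast_eq_zero_iff]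
    exact pow_dvd_pow p hj2
  rw [Nat.cast_add, Nat.cast_mul, Nat.cast_sub hp.out.one_le, Nat.cast_one] at h0
  have hsq : (p : ZMod (p ^ 2)) ^ 2 = 0 := by rw [← Nat.cast_pow, ZMod.natCast_self]
  push_cast
  linear_combination (-(1 : ZMod (p ^ 2)) - (p : ZMod (p ^ 2))) * h0 + (t : ZMod (p ^ 2)) * hsq

section Identity

variable {p a m : ℕ}

theorem le_stab_iff [DecidableEq G] {q : ℕ} (S : Set.powersetCard G q) (K : Subgroup G) :
    K ≤ MulAction.stabilizer G S ↔ ∀ k ∈ K, ∀ y ∈ S, k * y ∈ S := by
  refine ⟨fun h k hk y hy => ?_, fun h k hk => ?_⟩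
  · have : k • y ∈ k • S := by
      rw [← Set.powersetCard.mem_coe_iff, Set.powersetCard.coe_smul]
      exact Finset.smul_mem_smul_finset (Set.powersetCard.mem_coe_iff.2 hy)
    rwa [MulAction.mem_stabilizer_iff.1 (h hk)] at this
  · rw [MulAction.mem_stabilizer_iff]
    refine Set.powersetCard.eq_iff_subset.2 fun y hy => ?_
    rw [Set.powersetCard.coe_smul, Finset.mem_smul_finset] at hy
    obtain ⟨z, hz, rfl⟩ := hy
    exact Set.powersetCard.mem_coe_iff.2 (h k hk z (Set.powersetCard.mem_coe_iff.1 hz))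

/-- The subsets fixed by left multiplication by a subgroup are the unions of its right cosets. -/
theorem card_fixed_sets [DecidableEq G] (K : Subgroup G) {q j : ℕ} (hj : Nat.card K * j = q) :
    Nat.card {S : Set.powersetCard G q // K ≤ MulAction.stabilizer G S} = K.index.choose j := by
  classical
  rw [Subgroup.index_eq_card, ← Set.powersetCard.card]
  let π : G → G ⧸ K := fun y => ((y⁻¹ : G) : G ⧸ K)
  have hπ : ∀ y z : G, π y = π z ↔ y * z⁻¹ ∈ K := fun y z => by
    show ((y⁻¹ : G) : G ⧸ K) = ((z⁻¹ : G) : G ⧸ K) ↔ _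
    rw [QuotientGroup.eq, inv_inv]
  have hπs : Function.Surjective π := fun c => by
    obtain ⟨z, rfl⟩ := QuotientGroup.mk_surjective c
    exact ⟨z⁻¹, by simp [π]⟩
  have hpre : ∀ T : Set (G ⧸ K), Nat.card {y : G // π y ∈ T} = Nat.card K * Nat.card T := by
    intro T
    have h1 : Nat.card {y : G // π y ∈ T} = Nat.card (QuotientGroup.mk ⁻¹' T : Set G) :=
      Nat.card_congr ((Equiv.inv G).subtypeEquiv fun y => Iff.rfl)
    rw [h1, Nat.card_congr (QuotientGroup.preimageMkEquivSubgroupProdSet K T), Nat.card_prod]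
  have hmem : ∀ (n : ℕ) (α : Type u) (S : Set.powersetCard α n), Nat.card {y : α // y ∈ S} = n := fun n α S => by
    rw [Nat.card_congr (Equiv.subtypeEquivRight (q := fun y => y ∈ (S : Finset α))
      fun y => Set.powersetCard.mem_coe_iff.symm), Nat.card_eq_finsetCard, Set.powersetCard.card_eq]
  have := Fintype.ofFinite G
  have hKpos : 0 < Nat.card K := Nat.card_pos
  refine Nat.card_congr
    { toFun := fun S => ⟨(S.1 : Finset G).image π, ?_⟩
      invFun := fun T => ⟨⟨Finset.univ.filter fun y => π y ∈ T, ?_⟩, ?_⟩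
      left_inv := fun S => ?_
      right_inv := fun T => ?_ }
  · show ((S.1 : Finset G).image π).card = j
    refine Nat.eq_of_mul_eq_mul_left hKpos (Eq.trans ?_ hj.symm)
    rw [← Nat.card_eq_finsetCard]
    refine Eq.trans ?_ (hmem q G S.1)
    refine (hpre (((S.1 : Finset G).image π : Finset (G ⧸ K)) : Set (G ⧸ K))).symm.trans
      (Nat.card_congr (Equiv.subtypeEquivRight fun y => ?_))
    rw [Finset.mem_coe, Finset.mem_image]
    refine ⟨?_, fun hy => ⟨y, Set.powersetCard.mem_coe_iff.2 hy, rfl⟩⟩
    rintro ⟨z, hz, hzy⟩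
    have h2 := (le_stab_iff S.1 K).1 S.2 _ ((hπ y z).1 hzy.symm) z (Set.powersetCard.mem_coe_iff.1 hz)
    simpa using h2
  · show Finset.card _ = q
    rw [← Fintype.card_subtype, ← Nat.card_eq_fintype_card, ← hj]
    refine (hpre {c | c ∈ T}).trans ?_
    exact congrArg _ (hmem j (G ⧸ K) T)
  · rw [le_stab_iff]
    intro k hk y hy
    rw [← Set.powersetCard.mem_coe_iff] at hy ⊢
    simp only [Finset.mem_filter, Finset.mem_univ, true_and] at hy ⊢
    rwa [show π (k * y) = π y from (hπ _ _).2 (by simpa using hk)]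
  · refine Subtype.ext (SetLike.ext fun y => ?_)
    rw [← Set.powersetCard.mem_coe_iff, ← Set.powersetCard.mem_coe_iff]
    simp only [Finset.mem_filter, Finset.mem_univ, true_and]
    rw [← Set.powersetCard.mem_coe_iff]
    simp only [Finset.mem_image]
    refine ⟨?_, fun hy => ⟨y, hy, rfl⟩⟩
    rintro ⟨z, hz, hzy⟩
    have h2 := (le_stab_iff S.1 K).1 S.2 _ ((hπ y z).1 hzy.symm) z (Set.powersetCard.mem_coe_iff.1 hz)
    exact Set.powersetCard.mem_coe_iff.2 (by simpa using h2)
  · refine SetLike.ext fun c => ?_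
    rw [← Set.powersetCard.mem_coe_iff]
    simp only [Finset.mem_image]
    constructor
    · rintro ⟨y, hy, rfl⟩
      simpa using hy
    · intro hc
      obtain ⟨y, rfl⟩ := hπs c
      exact ⟨y, by simpa using hc, rfl⟩

theorem choose_mul_eq {q n : ℕ} (hq : 0 < q) (hn : 0 < n) : (q * n).choose q = (q * n - 1).choose (q - 1) * n := by
  refine Nat.eq_of_mul_eq_mul_left hq ?_
  have h := Nat.add_one_mul_choose_eq (q * n - 1) (q - 1)
  rw [Nat.sub_add_cancel (Nat.mul_pos hq hn), Nat.sub_add_cancel hq] at h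
  rw [mul_comm q ((q * n).choose q), ← h]
  ring

/-- The counting identity behind Kulakoff's theorem. -/
theorem count_identity (hp : p.Prime) (hG : Nat.card G = p ^ (a + 1) * m) :
    Nat.card {K : Subgroup G // Nat.card K = p ^ a} * ((p * m - 1).choose (p - 1)) ≡
      (p ^ (a + 1) * m - 1).choose (p ^ (a + 1) - 1) +
        p * Nat.card {H : Subgroup G // Nat.card H = p ^ (a + 1) ∧ ¬ IsCyclic H} [MOD p ^ 2] := by
  classical
  have := Fact.mk hp
  have := Fintype.ofFinite G
  have hm : 0 < m := Nat.pos_of_ne_zero fun h => (Nat.card_pos (α := G)).ne' (by rw [hG, h, mul_zero])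
  set q := p ^ (a + 1)
  have hq : 0 < q := pow_pos hp.pos _
  let Ω := ↥(Set.powersetCard G q)
  haveI : Fintype Ω := Fintype.ofFinite _
  let st : Ω → Subgroup G := fun S => MulAction.stabilizer G S
  have hdvd : ∀ S : Ω, Nat.card (st S) ∣ q := fun S => (CfsgLib.Orders.card_stabilizer_dvd S).1
  haveI := Fintype.ofFinite (Subgroup G)
  let t : Subgroup G → ℕ := fun L => (Finset.univ.filter fun K : Subgroup G => Nat.card K = p ^ a ∧ K ≤ L).card
  -- each subgroup of order `q` is the stabilizer of `m` sets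
  have hN : ∀ H : Subgroup G, Nat.card H = q → (Finset.univ.filter fun S : Ω => st S = H).card = m := by
    intro H hH
    have hiff : ∀ S : Ω, H ≤ st S ↔ st S = H := fun S =>
      ⟨fun h => (Subgroup.eq_of_le_of_card_ge h (hH ▸ Nat.le_of_dvd hq (hdvd S))).symm, fun h => h.ge⟩
    have h := card_fixed_sets H (q := q) (j := 1) (by rw [hH, mul_one])
    have hi : H.index = m := by
      have h2 := Subgroup.card_mul_index H
      rw [hH, hG] at h2
      exact Nat.eq_of_mul_eq_mul_left hq h2
    rw [Nat.choose_one_right, hi] at h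
    rw [← Fintype.card_subtype, ← Nat.card_eq_fintype_card]
    refine Eq.trans (Nat.card_congr (Equiv.subtypeEquivRight fun S => (hiff S).symm)) h
  -- double counting of fixed sets
  have hpairs : ∑ S : Ω, t (st S) = Nat.card {K : Subgroup G // Nat.card K = p ^ a} * ((p * m).choose p) := by
    simp only [t, Finset.card_filter]
    rw [Finset.sum_comm]
    have h : ∀ K : Subgroup G, (∑ S : Ω, if Nat.card K = p ^ a ∧ K ≤ st S then 1 else 0) =
        if Nat.card K = p ^ a then (p * m).choose p else 0 := by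
      intro K
      by_cases hK : Nat.card K = p ^ a
      · have hi : K.index = p * m := by
          have h2 := Subgroup.card_mul_index K
          rw [hK, hG, show q = p ^ a * p from pow_succ p a, mul_assoc] at h2
          exact Nat.eq_of_mul_eq_mul_left (pow_pos hp.pos a) h2
        rw [if_pos hK, ← Finset.card_filter, ← Fintype.card_subtype, ← Nat.card_eq_fintype_card, ← hi,
          ← card_fixed_sets K (q := q) (j := p) (by rw [hK]; exact (pow_succ p a).symm)]
        exact Nat.card_congr (Equiv.subtypeEquivRight fun S => ⟨fun h => h.2, fun h => ⟨hK, h⟩⟩)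
      · rw [if_neg hK]
        exact Finset.sum_eq_zero fun S _ => if_neg fun h => hK h.1
    rw [Finset.sum_congr rfl fun K _ => h K, ← Finset.sum_filter, Finset.sum_const, smul_eq_mul,
      ← Fintype.card_subtype, Nat.card_eq_fintype_card]
  -- the sets with small stabilizer
  have hsmall : p ^ 2 * m ∣ (Finset.univ.filter fun S : Ω => Nat.card (st S) < p ^ a).card := by
    rw [← Fintype.card_subtype, ← Nat.card_eq_fintype_card]
    have hconst : ∀ (g : G) (S : Ω), Nat.card (st (g • S)) = Nat.card (st S) := fun g S => by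
      show Nat.card (MulAction.stabilizer G (g • S)) = _
      rw [MulAction.stabilizer_smul_eq_stabilizer_map_conj]
      exact Subgroup.card_map_of_injective (MulAut.conj g).injective
    let Small := {S : Ω // Nat.card (st S) < p ^ a}
    letI : MulAction G Small :=
      { smul := fun g S => ⟨g • S.1, by rw [hconst]; exact S.2⟩
        one_smul := fun S => Subtype.ext (one_smul G S.1)
        mul_smul := fun a b S => Subtype.ext (mul_smul a b S.1) }
    rw [Nat.card_congr (MulAction.selfEquivSigmaOrbits G Small)]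
    haveI := Fintype.ofFinite (MulAction.orbitRel.Quotient G Small)
    rw [Nat.card_sigma]
    refine Finset.dvd_sum fun o _ => ?_
    generalize Quotient.out o = S
    have h1 : Nat.card (MulAction.orbit G S) * Nat.card (st S.1) = q * m := by
      have hst : st S.1 = MulAction.stabilizer G S := by
        ext g
        rw [MulAction.mem_stabilizer_iff, MulAction.mem_stabilizer_iff]
        exact ⟨fun h => Subtype.ext h, fun h => congrArg Subtype.val h⟩
      rw [hst, ← Nat.card_prod, Nat.card_congr (MulAction.orbitProdStabilizerEquivGroup G S), hG]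
    obtain ⟨i, hi, hi'⟩ := (Nat.dvd_prime_pow hp).1 (hdvd S.1)
    have hlt : i < a := (Nat.pow_lt_pow_iff_right hp.one_lt).1 (hi' ▸ S.2)
    rw [hi'] at h1
    have h2 : Nat.card (MulAction.orbit G S) = p ^ (a + 1 - i) * m := by
      refine Nat.eq_of_mul_eq_mul_right (pow_pos hp.pos i) (h1.trans ?_)
      rw [mul_right_comm, ← pow_add, Nat.sub_add_cancel hi]
    rw [h2]
    exact Nat.mul_dvd_mul_right (pow_dvd_pow p (by omega)) m
  -- the counting function on a single stabilizer
  have htval : ∀ S : Ω, ((t (st S) : ℤ) - 1) = (if Nat.card (st S) = q then (t (st S) : ℤ) - 1 else 0) -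
      (if Nat.card (st S) < p ^ a then 1 else 0) := by
    intro S
    obtain ⟨i, hi, hi'⟩ := (Nat.dvd_prime_pow hp).1 (hdvd S)
    rcases lt_trichotomy i a with h | h | h
    · have hlt : Nat.card (st S) < p ^ a := hi' ▸ (Nat.pow_lt_pow_iff_right hp.one_lt).2 h
      have hne : Nat.card (st S) ≠ q :=
        ne_of_lt (hlt.trans ((Nat.pow_lt_pow_iff_right hp.one_lt).2 (Nat.lt_succ_self a)))
      have h0 : t (st S) = 0 := Finset.card_eq_zero.2 (Finset.filter_eq_empty_iff.2 fun K _ hK => by
        have := Subgroup.card_le_of_le hK.2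
        omega)
      rw [if_neg hne, if_pos hlt, h0]
      simp
    · subst h
      have hne : Nat.card (st S) ≠ q := hi' ▸ ((Nat.pow_lt_pow_iff_right hp.one_lt).2 (Nat.lt_succ_self i)).ne
      have h1 : t (st S) = 1 := Finset.card_eq_one.2 ⟨st S, Finset.eq_singleton_iff_unique_mem.2
        ⟨Finset.mem_filter.2 ⟨Finset.mem_univ _, hi', le_rfl⟩, fun K hK => by
          simp only [Finset.mem_filter, Finset.mem_univ, true_and] at hK
          exact Subgroup.eq_of_le_of_card_ge hK.2 (by rw [hi', hK.1])⟩⟩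
      rw [if_neg hne, if_neg (hi'.symm ▸ lt_irrefl _), h1]
      simp
    · obtain rfl : i = a + 1 := by omega
      rw [if_pos hi', if_neg (fun hlt => absurd ((Nat.pow_lt_pow_iff_right hp.one_lt).1 (hi' ▸ hlt)) (by omega))]
      simp
  have hgood : (∑ S : Ω, if Nat.card (st S) = q then (t (st S) : ℤ) - 1 else 0) =
      (m : ℤ) * ∑ H ∈ Finset.univ.filter (fun H : Subgroup G => Nat.card H = q), ((t H : ℤ) - 1) := by
    rw [← Finset.sum_filter, Finset.mul_sum,
      ← Finset.sum_fiberwise_of_maps_to (g := st) (t := Finset.univ.filter fun H : Subgroup G => Nat.card H = q)]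
    · refine Finset.sum_congr rfl fun H hH => ?_
      simp only [Finset.mem_filter, Finset.mem_univ, true_and] at hH
      have : ((Finset.univ.filter fun S : Ω => Nat.card (st S) = q).filter fun S => st S = H) =
          Finset.univ.filter fun S : Ω => st S = H := by
        ext S
        simp only [Finset.mem_filter, Finset.mem_univ, true_and, and_iff_right_iff_imp]
        exact fun h => h ▸ hH
      rw [this, Finset.sum_congr rfl (g := fun _ => (t H : ℤ) - 1) fun S hS => by
        rw [(Finset.mem_filter.1 hS).2], Finset.sum_const, hN H hH, nsmul_eq_mul]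
    · intro S hS
      exact Finset.mem_filter.2 ⟨Finset.mem_univ _, (Finset.mem_filter.1 hS).2⟩
  have htH : ∀ H : Subgroup G, Nat.card H = q →
      ((t H : ℕ) : ZMod (p ^ 2)) - 1 = if IsCyclic H then 0 else (p : ZMod (p ^ 2)) := by
    intro H hH
    have ht : t H = Nat.card {K : Subgroup H // Nat.card K = p ^ a} := by
      show (Finset.univ.filter _).card = _
      rw [← Fintype.card_subtype, ← Nat.card_eq_fintype_card]
      refine Nat.card_congr
        { toFun := fun K => ⟨K.1.subgroupOf H, by rw [Nat.card_congr (Subgroup.subgroupOfEquivOfLe K.2.2).toEquiv, K.2.1]⟩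
          invFun := fun K => ⟨K.1.map H.subtype, by rw [Subgroup.card_map_of_injective H.subtype_injective]; exact K.2,
            Subgroup.map_subtype_le _⟩
          left_inv := fun K => Subtype.ext (Subgroup.map_subgroupOf_eq_of_le K.2.2)
          right_inv := fun K => Subtype.ext (Subgroup.comap_map_eq_self_of_injective H.subtype_injective _) }
    split_ifs with hc
    · haveI : Subsingleton {K : Subgroup H // Nat.card K = p ^ a} :=
        ⟨fun x y => Subtype.ext (eq_of_card_eq_of_isCyclic (x.2.trans y.2.symm))⟩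
      obtain ⟨K, hK⟩ := Sylow.exists_subgroup_card_pow_prime p (G := H) (n := a) (by
        rw [hH]; exact pow_dvd_pow p (Nat.le_succ a))
      haveI : Nonempty {K : Subgroup H // Nat.card K = p ^ a} := ⟨⟨K, hK⟩⟩
      rw [ht, Nat.card_eq_one_iff_unique.2 ⟨inferInstance, inferInstance⟩, Nat.cast_one, sub_self]
    · rw [ht, (ZMod.natCast_eq_natCast_iff _ _ _).2 (card_maximal_modEq (a := a) hH hc)]
      push_cast
      ring
  have htot : Fintype.card Ω = (q * m - 1).choose (q - 1) * m := by
    rw [← Nat.card_eq_fintype_card, Set.powersetCard.card, hG, choose_mul_eq hq hm]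
  obtain ⟨X, hX⟩ := hsmall
  have hZ : (∑ S : Ω, ((t (st S) : ℤ) - 1)) =
      (m : ℤ) * ∑ H ∈ Finset.univ.filter (fun H : Subgroup G => Nat.card H = q), ((t H : ℤ) - 1) -
        ((p ^ 2 * m * X : ℕ) : ℤ) := by
    rw [Finset.sum_congr rfl fun S _ => htval S, Finset.sum_sub_distrib, hgood, ← hX, Finset.card_filter,
      Nat.cast_sum]
    congr 1
    exact Finset.sum_congr rfl fun S _ => by split_ifs <;> simp
  rw [Finset.sum_sub_distrib, ← Nat.cast_sum, hpairs, choose_mul_eq hp.pos hm, Finset.sum_const, Finset.card_univ,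
    htot, nsmul_one] at hZ
  set c₁ := (p * m - 1).choose (p - 1)
  set s' := Nat.card {K : Subgroup G // Nat.card K = p ^ a}
  set C := (q * m - 1).choose (q - 1)
  push_cast at hZ
  have hZ' : (s' : ℤ) * c₁ - C =
      (∑ H ∈ Finset.univ.filter (fun H : Subgroup G => Nat.card H = q), ((t H : ℤ) - 1)) - (p : ℤ) ^ 2 * X := by
    refine mul_left_cancel₀ (Int.natCast_ne_zero.2 hm.ne' : (m : ℤ) ≠ 0) ?_
    linear_combination hZ
  rw [← ZMod.natCast_eq_natCast_iff]
  have hsq : (p : ZMod (p ^ 2)) ^ 2 = 0 := by rw [← Nat.cast_pow, ZMod.natCast_self]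
  have h := congrArg (fun z : ℤ => (z : ZMod (p ^ 2))) hZ'
  push_cast at h
  rw [hsq, zero_mul, sub_zero, Finset.sum_congr rfl (fun H hH => htH H (Finset.mem_filter.1 hH).2)] at h
  have hu : (∑ H ∈ Finset.univ.filter (fun H : Subgroup G => Nat.card H = q),
      if IsCyclic H then 0 else (p : ZMod (p ^ 2))) =
      (p : ZMod (p ^ 2)) * (Nat.card {H : Subgroup G // Nat.card H = q ∧ ¬ IsCyclic H} : ℕ) := by
    rw [Finset.sum_ite, Finset.sum_const_zero, zero_add, Finset.sum_const, nsmul_eq_mul, Finset.filter_filter,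
      ← Fintype.card_subtype, ← Nat.card_eq_fintype_card, mul_comm]
  rw [hu] at h
  push_cast
  linear_combination h

end Identity

/-- Kulakoff's congruence in terms of non-cyclic subgroups of the next order. -/
theorem card_subgroups_modEq {p a : ℕ} (hp : p.Prime) (hdvd : p ^ (a + 1) ∣ Nat.card G) :
    Nat.card {K : Subgroup G // Nat.card K = p ^ a} ≡
      1 + p * Nat.card {H : Subgroup G // Nat.card H = p ^ (a + 1) ∧ ¬ IsCyclic H} [MOD p ^ 2] := by
  obtain ⟨m, hm⟩ := hdvd
  have hmpos : 0 < m := Nat.pos_of_ne_zero fun h => (Nat.card_pos (α := G)).ne' (by rw [hm, h, mul_zero])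
  have h1 := count_identity hp hm
  let Z := Multiplicative (ZMod (p ^ (a + 1) * m))
  haveI : NeZero (p ^ (a + 1) * m) := ⟨(Nat.mul_pos (pow_pos hp.pos _) hmpos).ne'⟩
  have hZ : Nat.card Z = p ^ (a + 1) * m := Nat.card_zmod _
  have := Fact.mk hp
  have h2 := count_identity (G := Z) hp hZ
  haveI : IsEmpty {H : Subgroup Z // Nat.card H = p ^ (a + 1) ∧ ¬ IsCyclic H} :=
    ⟨fun H => H.2.2 inferInstance⟩
  have hone : Nat.card {K : Subgroup Z // Nat.card K = p ^ a} = 1 := by
    obtain ⟨K, hK⟩ := Sylow.exists_subgroup_card_pow_prime p (G := Z) (n := a) (by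
      rw [hZ]; exact (pow_dvd_pow p (Nat.le_succ a)).trans (dvd_mul_right _ _))
    exact Nat.card_eq_one_iff_unique.2
      ⟨⟨fun x y => Subtype.ext (eq_of_card_eq_of_isCyclic (x.2.trans y.2.symm))⟩, ⟨⟨K, hK⟩⟩⟩
  rw [hone, Nat.card_of_isEmpty, mul_zero, add_zero, one_mul] at h2
  have hc1 : (p * m - 1).choose (p - 1) ≡ 1 [MOD p] := by
    simpa using CfsgLib.Orders.choose_pred_modEq_one hp 1 hmpos
  rw [← ZMod.natCast_eq_natCast_iff] at h1 h2 ⊢
  obtain ⟨e, he⟩ := Nat.modEq_iff_dvd.1 hc1
  have hc1' : ((p * m - 1).choose (p - 1) : ZMod (p ^ 2)) = 1 - (p : ZMod (p ^ 2)) * (e : ℤ) := by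
    have h3 := congrArg (fun z : ℤ => (z : ZMod (p ^ 2))) he
    push_cast at h3
    linear_combination -h3
  have hsq : (p : ZMod (p ^ 2)) ^ 2 = 0 := by rw [← Nat.cast_pow, ZMod.natCast_self]
  push_cast at h1 h2 ⊢
  rw [← h2, hc1'] at h1
  linear_combination (1 + (p : ZMod (p ^ 2)) * (e : ℤ)) * h1 +
    ((e : ℤ) : ZMod (p ^ 2)) * ((Nat.card {H : Subgroup G // Nat.card H = p ^ (a + 1) ∧ ¬ IsCyclic H} : ℕ) : ZMod (p ^ 2)) * hsq +
    (((e : ℤ) : ZMod (p ^ 2)) ^ 2 * ((Nat.card {K : Subgroup G // Nat.card K = p ^ a} : ℕ) : ZMod (p ^ 2)) - ((e : ℤ) : ZMod (p ^ 2)) ^ 2) * hsq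

end CfsgLib.ClassSizes.Kulakoff
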