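import Mathlib

/-!
# Automorphisms of alternating groups

For degree at least four, different from six, every automorphism of an alternating group is induced by a
permutation.
-/

set_option autoImplicit false

namespace CfsgLib.ClassSizes.AlternatingAut

open Equiv Equiv.Perm MulAction Pointwise Nat

variable {α : Type*} [Fintype α] [DecidableEq α]

theorem factorial_bound (k : ℕ) (hk : 2 ≤ k) : 2 * (3 ^ k * (k + 1)!) < (3 * k)! := by
  induction k, hk using Nat.le_induction with
  | base => decide
  | succ k hk ih =>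
    rw [show 3 * (k + 1) = 3 * k + 1 + 1 + 1 by ring, factorial_succ (3 * k + 1 + 1), factorial_succ (3 * k + 1),
      factorial_succ (3 * k), factorial_succ (k + 1), pow_succ]
    calc 2 * (3 ^ k * 3 * ((k + 1 + 1) * (k + 1)!)) = 3 * (k + 2) * (2 * (3 ^ k * (k + 1)!)) := by ring
      _ < 3 * (k + 2) * (3 * k)! := Nat.mul_lt_mul_of_pos_left ih (by omega)
      _ ≤ (3 * k + 1 + 1 + 1) * ((3 * k + 1 + 1) * ((3 * k + 1) * (3 * k)!)) := by
        rw [← mul_assoc, ← mul_assoc]
        refine Nat.mul_le_mul_right _ ?_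
        calc 3 * (k + 2) ≤ (3 * k + 1 + 1 + 1) * (3 * k + 1 + 1) := Nat.mul_le_mul (by omega) (by omega)
          _ ≤ (3 * k + 1 + 1 + 1) * (3 * k + 1 + 1) * (3 * k + 1) := Nat.le_mul_of_pos_right _ (by omega)

theorem centralizer_count_ne (k m : ℕ) (hk : 1 ≤ k) (h : ¬ (k = 1 ∧ m = 0)) :
    (m + 3 * k)! ≠ m ! * 3 ^ k * (k + 1)! ∧ (m + 3 * k)! ≠ 2 * (m ! * 3 ^ k * (k + 1)!) := by
  rw [← factorial_mul_ascFactorial m (3 * k)]
  suffices hasc : (m + 1).ascFactorial (3 * k) ≠ 3 ^ k * (k + 1)! ∧
      (m + 1).ascFactorial (3 * k) ≠ 2 * (3 ^ k * (k + 1)!) by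
    refine ⟨fun e => hasc.1 (mul_left_cancel₀ (factorial_ne_zero m) ?_),
      fun e => hasc.2 (mul_left_cancel₀ (factorial_ne_zero m) ?_)⟩ <;> rw [e] <;> ring
  rcases Nat.lt_or_ge k 2 with hk2 | hk2
  · obtain rfl : k = 1 := by omega
    simp only [Nat.mul_one, Nat.ascFactorial_succ, Nat.ascFactorial_zero]
    norm_num [Nat.factorial]
    rcases Nat.lt_or_ge m 2 with hm | hm
    · interval_cases m <;> simp_all
    · have : 5 * (4 * 3) ≤ (m + 1 + 2) * ((m + 1 + 1) * (m + 1)) :=
        Nat.mul_le_mul (by omega) (Nat.mul_le_mul (by omega) (by omega))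
      constructor <;> omega
  · have h1 := Nat.ascFactorial_le (3 * k) (show 0 + 1 ≤ m + 1 by omega)
    rw [zero_add, one_ascFactorial] at h1
    have h2 := factorial_bound k hk2
    exact ⟨by omega, by omega⟩

theorem factorial_mul_lt (i j : ℕ) : 2 * ((i + 3)! * (j + 3)!) < (i + j + 5)! := by
  induction i with
  | zero =>
    induction j with
    | zero => decide
    | succ j ih =>
      rw [show j + 1 + 3 = (j + 3) + 1 by ring, show 0 + (j + 1) + 5 = (0 + j + 5) + 1 by ring,
        factorial_succ (j + 3), factorial_succ (0 + j + 5)]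
      calc 2 * ((0 + 3)! * ((j + 3 + 1) * (j + 3)!)) = (j + 4) * (2 * ((0 + 3)! * (j + 3)!)) := by ring
        _ < (0 + j + 5 + 1) * (0 + j + 5)! := Nat.mul_lt_mul_of_le_of_lt (by omega) ih (by omega)
  | succ i ih =>
    rw [show i + 1 + 3 = (i + 3) + 1 by ring, show i + 1 + j + 5 = (i + j + 5) + 1 by ring,
      factorial_succ (i + 3), factorial_succ (i + j + 5)]
    calc 2 * ((i + 3 + 1) * (i + 3)! * (j + 3)!) = (i + 4) * (2 * ((i + 3)! * (j + 3)!)) := by ring
      _ < (i + j + 5 + 1) * (i + j + 5)! := Nat.mul_lt_mul_of_le_of_lt (by omega) ih (by omega)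

theorem exists_third (h3 : 3 ≤ Fintype.card α) (a b : α) : ∃ c, c ≠ a ∧ c ≠ b := by
  obtain ⟨c, hc⟩ : (({a, b} : Finset α)ᶜ).Nonempty := by
    rw [← Finset.card_pos, Finset.card_compl]
    have := Finset.card_le_two (a := a) (b := b)
    omega
  simp only [Finset.mem_compl, Finset.mem_insert, Finset.mem_singleton, not_or] at hc
  exact ⟨c, hc⟩

theorem exists_cycle_fixing (h4 : 4 ≤ Fintype.card α) {x y : α} (h : x ≠ y) :
    ∃ c : Perm α, c.IsThreeCycle ∧ c x = x ∧ c y ≠ y := by
  obtain ⟨z, w, hzw, hz, hw⟩ : ∃ z w, z ≠ w ∧ (z ≠ x ∧ z ≠ y) ∧ (w ≠ x ∧ w ≠ y) := by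
    have hc : 1 < (({x, y} : Finset α)ᶜ).card := by
      rw [Finset.card_compl]
      have := Finset.card_le_two (a := x) (b := y)
      omega
    obtain ⟨z, hz, w, hw, hzw⟩ := Finset.one_lt_card.1 hc
    simp only [Finset.mem_compl, Finset.mem_insert, Finset.mem_singleton, not_or] at hz hw
    exact ⟨z, w, hzw, hz, hw⟩
  refine ⟨swap y z * swap y w, isThreeCycle_swap_mul_swap_same hz.2.symm hw.2.symm hzw, ?_, ?_⟩
  · rw [Perm.mul_apply, swap_apply_of_ne_of_ne h hw.1.symm, swap_apply_of_ne_of_ne h hz.1.symm]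
  · rw [Perm.mul_apply, swap_apply_left, swap_apply_of_ne_of_ne hw.2 hzw.symm]
    exact hw.2

/-- Centralizer orders in the alternating and symmetric groups. -/
theorem card_centralizer_le (σ : alternatingGroup α) :
    Nat.card (Subgroup.centralizer ({σ} : Set (alternatingGroup α))) ∣
        Nat.card (Subgroup.centralizer ({(σ : Perm α)} : Set (Perm α))) ∧
      Nat.card (Subgroup.centralizer ({(σ : Perm α)} : Set (Perm α))) ∣
        2 * Nat.card (Subgroup.centralizer ({σ} : Set (alternatingGroup α))) ∧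
      ((∃ u : Perm α, Perm.sign u = -1 ∧ Commute u σ) →
        Nat.card (Subgroup.centralizer ({(σ : Perm α)} : Set (Perm α))) =
          2 * Nat.card (Subgroup.centralizer ({σ} : Set (alternatingGroup α)))) := by
  set C := Subgroup.centralizer ({(σ : Perm α)} : Set (Perm α))
  let f : C →* ℤˣ := Perm.sign.comp C.subtype
  have hker : Nat.card f.ker = Nat.card (Subgroup.centralizer ({σ} : Set (alternatingGroup α))) := by
    refine Nat.card_congr
      { toFun := fun x => ⟨⟨(x : C), x.2⟩, ?_⟩
        invFun := fun x => ⟨⟨(x : alternatingGroup α), ?_⟩, x.1.2⟩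
        left_inv := fun x => rfl
        right_inv := fun x => rfl }
    · exact Subgroup.mem_centralizer_singleton_iff.2
        (Subtype.ext (Subgroup.mem_centralizer_singleton_iff.1 (x : C).2))
    · exact Subgroup.mem_centralizer_singleton_iff.2
        (congrArg Subtype.val (Subgroup.mem_centralizer_singleton_iff.1 x.2))
  have hmul := Subgroup.card_mul_index f.ker
  rw [hker, Subgroup.index_ker] at hmul
  have h2 : Nat.card f.range ∣ 2 := by
    have : Nat.card ℤˣ = 2 := by rw [Nat.card_eq_fintype_card]; rfl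
    exact this ▸ Subgroup.card_subgroup_dvd_card _
  refine ⟨Dvd.intro _ hmul, ?_, fun ⟨u, hu, hc⟩ => ?_⟩
  · obtain ⟨d, hd⟩ := h2
    exact ⟨d, by rw [← hmul, hd]; ring⟩
  · rw [← hmul, mul_comm]
    congr 1
    rw [MonoidHom.range_eq_top.2 fun z => ?_, Subgroup.card_top, Nat.card_eq_fintype_card]
    · rfl
    rcases Int.units_eq_one_or z with rfl | rfl
    · exact ⟨1, map_one f⟩
    · exact ⟨⟨u, Subgroup.mem_centralizer_singleton_iff.2 hc.eq⟩, hu⟩

theorem map_isThreeCycle (h4 : 4 ≤ Fintype.card α) (h6 : Fintype.card α ≠ 6) (f₀ : MulAut (alternatingGroup α))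
    (σ : alternatingGroup α) (hσ : (σ : Perm α).IsThreeCycle) : (f₀ σ : Perm α).IsThreeCycle := by
  have ho : orderOf ((f₀ σ : alternatingGroup α) : Perm α) = 3 := by
    rw [Subgroup.orderOf_coe, MulEquiv.orderOf_eq, ← Subgroup.orderOf_coe, hσ.orderOf]
  haveI := Fact.mk Nat.prime_three
  obtain ⟨k, hk⟩ := Perm.cycleType_prime_order (σ := ((f₀ σ : alternatingGroup α) : Perm α)) (by rw [ho]; exact Nat.prime_three)
  rw [ho] at hk
  rcases Nat.eq_zero_or_pos k with rfl | hk1
  · exact hk
  exfalso
  have hsum : 3 * (k + 1) ≤ Fintype.card α := by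
    have := ((f₀ σ : alternatingGroup α) : Perm α).sum_cycleType
    rw [hk, Multiset.sum_replicate, smul_eq_mul] at this
    have := ((f₀ σ : alternatingGroup α) : Perm α).support.card_le_univ
    omega
  obtain ⟨a, b, hab, ha, hb⟩ : ∃ a b, a ≠ b ∧ a ∉ (σ : Perm α).support ∧ b ∉ (σ : Perm α).support := by
    have hc : 1 < ((σ : Perm α).supportᶜ).card := by
      rw [Finset.card_compl, hσ.card_support]
      omega
    obtain ⟨a, ha, b, hb, hab⟩ := Finset.one_lt_card.1 hc
    exact ⟨a, b, hab, Finset.mem_compl.1 ha, Finset.mem_compl.1 hb⟩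
  have hu : Commute (swap a b) (σ : Perm α) := by
    refine Perm.Disjoint.commute fun z => ?_
    by_cases hz : z = a ∨ z = b
    · rcases hz with rfl | rfl
      · exact Or.inr (Perm.notMem_support.1 ha)
      · exact Or.inr (Perm.notMem_support.1 hb)
    · push Not at hz
      exact Or.inl (swap_apply_of_ne_of_ne hz.1 hz.2)
  have h1 := (card_centralizer_le σ).2.2 ⟨_, Perm.sign_swap hab, hu⟩
  have hA : Nat.card (Subgroup.centralizer ({σ} : Set (alternatingGroup α))) =
      Nat.card (Subgroup.centralizer ({f₀ σ} : Set (alternatingGroup α))) := by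
    refine Nat.card_congr (f₀.toEquiv.subtypeEquiv fun g => ?_)
    simp only [Subgroup.mem_centralizer_singleton_iff, MulEquiv.toEquiv_eq_coe, EquivLike.coe_coe]
    rw [← map_mul, ← map_mul, f₀.injective.eq_iff]
  obtain ⟨hd1, hd2, -⟩ := card_centralizer_le (f₀ σ)
  rw [← hA] at hd1 hd2
  rw [hA, ← hA] at h1
  set X := Nat.card (Subgroup.centralizer ({σ} : Set (alternatingGroup α)))
  obtain ⟨d, hd⟩ := hd1
  rw [hd] at hd2
  have hXpos : 0 < X := Nat.card_pos
  have hd' : d = 1 ∨ d = 2 := by
    rw [mul_comm 2 X] at hd2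
    have h3 := (Nat.mul_dvd_mul_iff_left hXpos).1 hd2
    exact (Nat.dvd_prime Nat.prime_two).1 h3
  rw [Perm.nat_card_centralizer, hk] at hd
  rw [Perm.nat_card_centralizer, show (σ : Perm α).cycleType = {3} from hσ] at h1
  have e1 : (Multiset.replicate (k + 1) 3).toFinset = {3} := by
    rw [Multiset.toFinset_replicate, if_neg (Nat.succ_ne_zero k)]
  rw [e1, Finset.prod_singleton, Multiset.count_replicate_self, Multiset.prod_replicate, Multiset.sum_replicate,
    smul_eq_mul] at hd
  simp only [Multiset.sum_singleton, Multiset.prod_singleton, Multiset.toFinset_singleton, Finset.prod_singleton,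
    Multiset.count_singleton_self, Nat.factorial_one, Nat.mul_one] at h1
  obtain ⟨m, hm⟩ := Nat.exists_eq_add_of_le hsum
  rw [hm, show 3 * (k + 1) + m - (k + 1) * 3 = m by omega, pow_succ] at hd
  rw [hm, show 3 * (k + 1) + m - 3 = m + 3 * k by omega] at h1
  obtain ⟨hne1, hne2⟩ := centralizer_count_ne k m hk1 (fun h => h6 (by omega))
  rcases hd' with rfl | rfl
  · apply hne2
    nlinarith
  · apply hne1
    nlinarith

/-- A subgroup of index the degree generated by three-cycles is a point stabilizer. -/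
theorem exists_fixed (h4 : 4 ≤ Fintype.card α) (T : Set (Perm α)) (hT : ∀ c ∈ T, c.IsThreeCycle)
    (hcard : 2 * (Nat.card (Subgroup.closure T) * Fintype.card α) = (Fintype.card α)!) :
    ∃ x : α, ∀ g ∈ Subgroup.closure T, g x = x := by
  set H := Subgroup.closure T with hH
  haveI : Nontrivial α := Fintype.one_lt_card_iff_nontrivial.1 (by omega)
  obtain ⟨c₀, hc₀⟩ : T.Nonempty := by
    by_contra hT0
    rw [Set.not_nonempty_iff_eq_empty] at hT0
    rw [hH, hT0, Subgroup.closure_empty, Subgroup.card_bot, one_mul] at hcard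
    have h1 : Fintype.card α * ((Fintype.card α - 1)!) = (Fintype.card α)! :=
      Nat.mul_factorial_pred (by omega)
    have h2 : (3)! ≤ (Fintype.card α - 1)! := Nat.factorial_le (by omega)
    rw [show (3)! = 6 from rfl] at h2
    nlinarith
  obtain ⟨a, ha⟩ := (hT c₀ hc₀).isCycle.nonempty_support
  let s : Set α := orbit H a
  have hHs : H ≤ stabilizer (Perm α) s := by
    intro g hg
    rw [mem_stabilizer_iff]
    exact smul_orbit (⟨g, hg⟩ : H) a
  have hstab : ∀ g ∈ H, ∀ x, g x ∈ s ↔ x ∈ s := fun g hg => mem_stabilizer_set.1 (hHs hg)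
  by_cases huniv : s = Set.univ
  · exfalso
    haveI hpt : IsPretransitive H α := ⟨fun x y => by
      obtain ⟨g₁, hg₁⟩ : x ∈ s := huniv ▸ Set.mem_univ x
      obtain ⟨g₂, hg₂⟩ : y ∈ s := huniv ▸ Set.mem_univ y
      simp only at hg₁ hg₂
      exact ⟨g₂ * g₁⁻¹, by rw [mul_smul, ← hg₁, inv_smul_smul, hg₂]⟩⟩
    haveI hprim : IsPreprimitive H α := by
      refine { toIsPretransitive := hpt, isTrivialBlock_of_isBlock := fun {B} hB => ?_ }
      by_contra hB'
      rw [IsTrivialBlock, not_or] at hB'
      obtain ⟨p, hp, q, hq, hpq⟩ := Set.not_subsingleton_iff.1 hB'.1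
      have hfix : ∀ c ∈ T, c • B = B := by
        intro c hc
        have hcB := isBlock_iff_smul_eq_smul_or_disjoint.1 hB ⟨c, Subgroup.subset_closure hc⟩ 1
        rw [one_smul] at hcB
        rcases hcB with e | e
        · exact e
        exfalso
        have hmem : ∀ z ∈ B, z ∈ c.support := fun z hz => Perm.mem_support.2 fun e' =>
          Set.disjoint_left.1 e ⟨z, hz, e'⟩ hz
        have h1 : ({p, q, c p, c q} : Finset α) ⊆ c.support := by
          intro z hz
          simp only [Finset.mem_insert, Finset.mem_singleton] at hz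
          rcases hz with rfl | rfl | rfl | rfl
          · exact hmem _ hp
          · exact hmem _ hq
          · exact Perm.apply_mem_support.2 (hmem _ hp)
          · exact Perm.apply_mem_support.2 (hmem _ hq)
        have h2 : ({p, q, c p, c q} : Finset α).card = 4 := by
          have n1 : p ≠ c p := fun e' => Set.disjoint_left.1 e ⟨p, hp, e'.symm⟩ hp
          have n2 : p ≠ c q := fun e' => Set.disjoint_left.1 e ⟨q, hq, e'.symm⟩ hp
          have n3 : q ≠ c p := fun e' => Set.disjoint_left.1 e ⟨p, hp, e'.symm⟩ hq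
          have n4 : q ≠ c q := fun e' => Set.disjoint_left.1 e ⟨q, hq, e'.symm⟩ hq
          simp [hpq, n1, n2, n3, n4, c.injective.ne hpq]
        have := Finset.card_le_card h1
        rw [h2, (hT c hc).card_support] at this
        omega
      have hle : H ≤ stabilizer (Perm α) B := (Subgroup.closure_le _).2 fun c hc => hfix c hc
      apply hB'.2
      refine Set.eq_univ_iff_forall.2 fun z => ?_
      obtain ⟨g, hg⟩ := hpt.exists_smul_eq p z
      rw [← hg]
      exact (mem_stabilizer_set.1 (hle g.2) p).2 hp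
    have hle := alternatingGroup_le_of_isPreprimitive_of_isThreeCycle_mem hprim (hT c₀ hc₀) (Subgroup.subset_closure hc₀)
    have h1 := Subgroup.card_le_of_le hle
    have h2 := two_mul_nat_card_alternatingGroup (α := α)
    rw [Nat.card_perm, Nat.card_eq_fintype_card (α := α)] at h2
    have : Nat.card H * 4 ≤ Nat.card H * Fintype.card α := Nat.mul_le_mul_left _ h4
    have : 0 < Nat.card H := Nat.card_pos
    omega
  obtain ⟨y, hy⟩ := (Set.ne_univ_iff_exists_notMem s).1 huniv
  by_cases hsmall : Nat.card {x // x ∉ s} ≤ 2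
  · refine ⟨y, fun g hg => ?_⟩
    have hle : H ≤ stabilizer (Perm α) y := by
      refine (Subgroup.closure_le _).2 fun c hc => ?_
      rw [SetLike.mem_coe, mem_stabilizer_iff]
      by_contra hne
      have hsub : ∀ z ∈ c.support, z ∉ s := by
        intro z hz
        obtain ⟨i, hi⟩ := (hT c hc).isCycle.exists_pow_eq (x := y) (y := z) hne (Perm.mem_support.1 hz)
        rw [← hi]
        exact fun h => hy ((hstab _ (pow_mem (Subgroup.subset_closure hc) _) y).1 h)
      have h3 : c.support.card ≤ Nat.card {x // x ∉ s} := by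
        rw [← Nat.card_eq_finsetCard]
        exact Nat.card_le_card_of_injective (fun z => ⟨z.1, hsub z.1 z.2⟩)
          fun u v h => Subtype.ext (congrArg (fun w : {x // x ∉ s} => w.1) h)
      rw [(hT c hc).card_support] at h3
      omega
    exact mem_stabilizer_iff.1 (hle hg)
  exfalso
  classical
  let m : H → Perm {x // x ∈ s} × Perm {x // x ∉ s} := fun g =>
    (g.1.subtypePerm (hstab g g.2), g.1.subtypePerm fun x => not_congr (hstab g g.2 x))
  have hm : Function.Injective m := by
    intro g g' h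
    refine Subtype.ext (Equiv.ext fun x => ?_)
    by_cases hx : x ∈ s
    · exact congrArg Subtype.val (Equiv.congr_fun (Prod.ext_iff.1 h).1 ⟨x, hx⟩)
    · exact congrArg Subtype.val (Equiv.congr_fun (Prod.ext_iff.1 h).2 ⟨x, hx⟩)
  have hle := Nat.card_le_card_of_injective m hm
  rw [Nat.card_prod, Nat.card_perm, Nat.card_perm] at hle
  have hadd : Nat.card {x // x ∈ s} + Nat.card {x // x ∉ s} = Fintype.card α := by
    rw [Nat.card_eq_fintype_card, Nat.card_eq_fintype_card, Fintype.card_subtype_compl]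
    have := Fintype.card_subtype_le (fun x => x ∈ s)
    omega
  have h3 : 3 ≤ Nat.card {x // x ∈ s} := by
    rw [← (hT c₀ hc₀).card_support, ← Nat.card_eq_finsetCard]
    refine Nat.card_le_card_of_injective (fun z => ⟨z.1, ?_⟩)
      fun u v h => Subtype.ext (congrArg (fun w : {x // x ∈ s} => w.1) h)
    obtain ⟨i, hi⟩ := (hT c₀ hc₀).isCycle.exists_pow_eq (Perm.mem_support.1 ha) (Perm.mem_support.1 z.2)
    rw [← hi]
    exact ⟨⟨c₀ ^ i, pow_mem (Subgroup.subset_closure hc₀) _⟩, rfl⟩
  obtain ⟨i, hi⟩ := Nat.exists_eq_add_of_le h3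
  obtain ⟨j, hj⟩ := Nat.exists_eq_add_of_le (show 3 ≤ Nat.card {x // x ∉ s} by omega)
  rw [hi, hj, add_comm 3 i, add_comm 3 j] at hle
  have hn : Fintype.card α = i + j + 5 + 1 := by omega
  rw [hn, Nat.factorial_succ, ← mul_assoc, mul_comm (i + j + 5 + 1)] at hcard
  have hH' : 2 * Nat.card H = (i + j + 5)! := Nat.eq_of_mul_eq_mul_right (by omega) hcard
  have := factorial_mul_lt i j
  omega

/-- The stabilizer of a point in the alternating group. -/
def stab (x : α) : Subgroup (alternatingGroup α) :=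
  (stabilizer (Perm α) x).comap (alternatingGroup α).subtype

theorem mem_stab {g : alternatingGroup α} {x : α} : g ∈ stab x ↔ (g : Perm α) x = x := Iff.rfl

theorem stab_eq_closure (x : α) :
    (stab x).map (alternatingGroup α).subtype = Subgroup.closure {c : Perm α | c.IsThreeCycle ∧ c x = x} := by
  refine le_antisymm ?_ ((Subgroup.closure_le _).2 fun c hc => ⟨⟨c, hc.1.mem_alternatingGroup⟩, hc.2, rfl⟩)
  rintro _ ⟨g, hg, rfl⟩
  have hiff : ∀ y, (g : Perm α) y ≠ x ↔ y ≠ x := fun y => not_congr
    ⟨fun h => (g : Perm α).injective (h.trans hg.symm), fun h => by rw [h]; exact hg⟩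
  set g' : Perm {y // y ≠ x} := (g : Perm α).subtypePerm hiff
  have hmove : ∀ y, (g : Perm α) y ≠ y → y ≠ x := fun y hy e => hy (by rw [e]; exact hg)
  have hg' : g' ∈ alternatingGroup {y // y ≠ x} := by
    rw [Perm.mem_alternatingGroup, ← Perm.sign_ofSubtype, Perm.ofSubtype_subtypePerm hiff hmove]
    exact g.2
  rw [← closure_three_cycles_eq_alternating] at hg'
  have h := Subgroup.mem_map_of_mem (Perm.ofSubtype (p := fun y => y ≠ x)) hg'
  rw [MonoidHom.map_closure, Perm.ofSubtype_subtypePerm hiff hmove] at h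
  refine Subgroup.closure_mono ?_ h
  rintro _ ⟨c, hc, rfl⟩
  refine ⟨?_, Perm.ofSubtype_apply_of_not_mem c (fun h => h rfl)⟩
  show (Perm.ofSubtype c).cycleType = {3}
  rw [Perm.cycleType_ofSubtype]
  exact hc

theorem card_stab (h3 : 3 ≤ Fintype.card α) (x : α) :
    2 * (Nat.card (stab x) * Fintype.card α) = (Fintype.card α)! := by
  haveI : Nontrivial α := Fintype.one_lt_card_iff_nontrivial.1 (by omega)
  have hidx : (stab x).index = Fintype.card α := by
    haveI : IsPretransitive (alternatingGroup α) α := ⟨fun a b => by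
      by_cases hab : a = b
      · exact ⟨1, by rw [hab, one_smul]⟩
      obtain ⟨c, hca, hcb⟩ := exists_third h3 a b
      refine ⟨⟨swap a c * swap a b, (isThreeCycle_swap_mul_swap_same hca.symm hab hcb).mem_alternatingGroup⟩, ?_⟩
      show (swap a c * swap a b) a = b
      rw [Perm.mul_apply, swap_apply_left, swap_apply_of_ne_of_ne (Ne.symm hab) hcb.symm]⟩
    rw [← Nat.card_eq_fintype_card, ← index_stabilizer_of_transitive (alternatingGroup α) x]
    congr 1
  rw [← hidx, Subgroup.card_mul_index, two_mul_nat_card_alternatingGroup, Nat.card_perm, hidx,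
    Nat.card_eq_fintype_card]

theorem exists_stab_image (h4 : 4 ≤ Fintype.card α) (f₀ : MulAut (alternatingGroup α))
    (h3c : ∀ σ : alternatingGroup α, (σ : Perm α).IsThreeCycle → (f₀ σ : Perm α).IsThreeCycle)
    (x : α) : ∃ y, (stab x).map f₀.toMonoidHom = stab y := by
  let f : alternatingGroup α →* Perm α := (alternatingGroup α).subtype.comp f₀.toMonoidHom
  set T : Set (Perm α) := {c | ∃ d : alternatingGroup α, (d : Perm α).IsThreeCycle ∧ d ∈ stab x ∧ (f₀ d : Perm α) = c}
  have hT : (stab x).map f = Subgroup.closure T := by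
    refine le_antisymm ?_ ((Subgroup.closure_le _).2 ?_)
    · rintro _ ⟨g, hg, rfl⟩
      have hg' : (g : Perm α) ∈ (stab x).map (alternatingGroup α).subtype := ⟨g, hg, rfl⟩
      rw [stab_eq_closure] at hg'
      have key : ∀ z : Perm α, z ∈ Subgroup.closure {c : Perm α | c.IsThreeCycle ∧ c x = x} →
          ∃ hz : z ∈ alternatingGroup α, f ⟨z, hz⟩ ∈ Subgroup.closure T := by
        intro z hz
        induction hz using Subgroup.closure_induction with
        | mem c hc => exact ⟨hc.1.mem_alternatingGroup, Subgroup.subset_closure ⟨⟨c, _⟩, hc.1, hc.2, rfl⟩⟩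
        | one => exact ⟨one_mem _, by
            rw [show (⟨1, one_mem _⟩ : alternatingGroup α) = 1 from rfl, map_one]; exact one_mem _⟩
        | mul a b _ _ iha ihb =>
          obtain ⟨ha, ha'⟩ := iha
          obtain ⟨hb, hb'⟩ := ihb
          refine ⟨mul_mem ha hb, ?_⟩
          rw [show (⟨a * b, mul_mem ha hb⟩ : alternatingGroup α) = ⟨a, ha⟩ * ⟨b, hb⟩ from rfl, map_mul]
          exact mul_mem ha' hb'
        | inv a _ iha =>
          obtain ⟨ha, ha'⟩ := iha
          refine ⟨inv_mem ha, ?_⟩
          rw [show (⟨a⁻¹, inv_mem ha⟩ : alternatingGroup α) = ⟨a, ha⟩⁻¹ from rfl, map_inv]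
          exact inv_mem ha'
      exact (key _ hg').2
    · rintro _ ⟨d, -, hd, rfl⟩
      exact ⟨d, hd, rfl⟩
  have hfinj : Function.Injective f := fun a b h => f₀.injective (Subtype.ext h)
  have hcard : Nat.card (Subgroup.closure T) = Nat.card (stab x) := by
    rw [← hT, Subgroup.card_map_of_injective hfinj]
  obtain ⟨y, hy⟩ := exists_fixed h4 T (by
    rintro _ ⟨d, hd, -, rfl⟩
    exact h3c d hd) (by rw [hcard]; exact card_stab (by omega) x)
  refine ⟨y, Subgroup.eq_of_le_of_card_ge ?_ ?_⟩
  · rintro _ ⟨g, hg, rfl⟩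
    exact hy _ (hT ▸ Subgroup.mem_map_of_mem f hg)
  · rw [Subgroup.card_map_of_injective f₀.injective]
    have h1 := card_stab (by omega) x
    rw [← card_stab (by omega) y] at h1
    exact le_of_eq (Nat.eq_of_mul_eq_mul_right (by omega) (Nat.eq_of_mul_eq_mul_left two_pos h1.symm))

theorem stab_injective (h4 : 4 ≤ Fintype.card α) : Function.Injective (stab (α := α)) := by
  intro x y h
  by_contra hne
  obtain ⟨c, hc, hcx, hcy⟩ := exists_cycle_fixing h4 hne
  have : (⟨c, hc.mem_alternatingGroup⟩ : alternatingGroup α) ∈ stab y := h ▸ hcx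
  exact hcy this

theorem conjNormal_injective (h4 : 4 ≤ Fintype.card α) :
    Function.Injective (MulAut.conjNormal : Perm α →* MulAut (alternatingGroup α)) := by
  refine (injective_iff_map_eq_one _).2 fun g hg => ?_
  by_contra hne
  obtain ⟨a, ha⟩ : ∃ a, g a ≠ a := by
    by_contra hcon
    push Not at hcon
    exact hne (Equiv.ext hcon)
  obtain ⟨c, hc, hca, hcb⟩ := exists_cycle_fixing h4 ha.symm
  have h := congrArg Subtype.val (MulEquiv.congr_fun hg ⟨c, hc.mem_alternatingGroup⟩)
  rw [MulAut.conjNormal_apply, MulAut.one_apply] at h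
  have h2 : g * c = c * g := mul_inv_eq_iff_eq_mul.1 h
  have h3 := Equiv.congr_fun h2 a
  rw [Perm.mul_apply, Perm.mul_apply, hca] at h3
  exact hcb h3.symm

/-- An automorphism which preserves three-cycles is induced by a permutation. -/
theorem exists_conjNormal_eq (h4 : 4 ≤ Fintype.card α) (f₀ : MulAut (alternatingGroup α))
    (h3c : ∀ σ : alternatingGroup α, (σ : Perm α).IsThreeCycle → (f₀ σ : Perm α).IsThreeCycle) :
    ∃ g : Perm α, MulAut.conjNormal g = f₀ := by
  choose gf hgf using exists_stab_image h4 f₀ h3c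
  have hinj : Function.Injective gf := fun x y h => stab_injective h4
    (Subgroup.map_injective (f := f₀.toMonoidHom) f₀.injective (by rw [hgf, hgf, h]))
  let g : Perm α := Equiv.ofBijective gf (Finite.injective_iff_bijective.1 hinj)
  refine ⟨g, MulEquiv.ext fun σ => Subtype.ext (Equiv.ext fun z => ?_)⟩
  rw [MulAut.conjNormal_apply]
  obtain ⟨x, rfl⟩ := g.surjective z
  show g ((σ : Perm α) (g⁻¹ (g x))) = (f₀ σ : Perm α) (g x)
  rw [show g⁻¹ (g x) = x from g.symm_apply_apply x]
  have hconj : ∀ (τ : alternatingGroup α) (z : α),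
      (stab z).map (MulAut.conj τ).toMonoidHom = stab ((τ : Perm α) z) := by
    intro τ z
    ext w
    constructor
    · rintro ⟨v, hv, rfl⟩
      show ((τ * v * τ⁻¹ : alternatingGroup α) : Perm α) ((τ : Perm α) z) = (τ : Perm α) z
      simp [mem_stab.1 hv]
    · intro hw
      refine ⟨τ⁻¹ * w * τ, ?_, by simp [mul_assoc]⟩
      show ((τ⁻¹ * w * τ : alternatingGroup α) : Perm α) z = z
      simp [mem_stab.1 hw]
  apply stab_injective h4
  rw [← hconj]
  show stab (gf ((σ : Perm α) x)) = (stab (gf x)).map _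
  rw [← hgf, ← hgf, ← hconj, Subgroup.map_map, Subgroup.map_map]
  congr 1
  exact MonoidHom.ext fun v => by simp

/-- Every automorphism of an alternating group of degree at least four, not six, is induced by a permutation. -/
theorem conjNormal_bijective (h4 : 4 ≤ Fintype.card α) (h6 : Fintype.card α ≠ 6) :
    Function.Bijective (MulAut.conjNormal : Perm α →* MulAut (alternatingGroup α)) :=
  ⟨conjNormal_injective h4, fun f₀ => exists_conjNormal_eq h4 f₀ fun σ hσ => map_isThreeCycle h4 h6 f₀ σ hσ⟩

theorem cycleType_cases_six (h6 : Fintype.card α = 6) (σ : Perm α) (hσ : orderOf σ = 3) :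
    σ.cycleType = {3} ∨ σ.cycleType = {3, 3} := by
  obtain ⟨k, hk⟩ := Perm.cycleType_prime_order (σ := σ) (by rw [hσ]; exact Nat.prime_three)
  rw [hσ] at hk
  have hsum := σ.sum_cycleType
  rw [hk, Multiset.sum_replicate, smul_eq_mul] at hsum
  have := σ.support.card_le_univ
  rcases (show k = 0 ∨ k = 1 by omega) with rfl | rfl
  · exact Or.inl hk
  · exact Or.inr hk

/-- In degree six two automorphisms not induced by permutations differ by one that is. -/
theorem index_range_conjNormal_six (h6 : Fintype.card α = 6) :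
    (MulAut.conjNormal : Perm α →* MulAut (alternatingGroup α)).range.index ∣ 2 := by
  set K := (MulAut.conjNormal : Perm α →* MulAut (alternatingGroup α)).range
  have h4 : 4 ≤ Fintype.card α := by omega
  let S1 : Finset (alternatingGroup α) := Finset.univ.filter fun σ => (σ : Perm α).cycleType = {3}
  let S2 : Finset (alternatingGroup α) := Finset.univ.filter fun σ => (σ : Perm α).cycleType = {3, 3}
  have hcard : ∀ (m : Multiset ℕ), (∀ σ : Perm α, σ.cycleType = m → σ ∈ alternatingGroup α) →
      (Finset.univ.filter fun σ : alternatingGroup α => (σ : Perm α).cycleType = m).card =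
        (Finset.univ.filter fun σ : Perm α => σ.cycleType = m).card := by
    intro m hm
    refine Finset.card_bij (fun σ _ => (σ : Perm α)) (fun σ hσ => ?_) (fun σ _ τ _ h => Subtype.ext h)
      fun σ hσ => ?_
    · simpa using hσ
    · simp only [Finset.mem_filter, Finset.mem_univ, true_and] at hσ
      exact ⟨⟨σ, hm σ hσ⟩, by simpa using hσ, rfl⟩
  have h12 : S2.card = S1.card := by
    rw [hcard _ fun σ h => ?_, hcard _ fun σ h => ?_, Perm.card_of_cycleType, Perm.card_of_cycleType, h6]
    · decide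
    all_goals (rw [Perm.mem_alternatingGroup, Perm.sign_of_cycleType, h]; decide)
  have hout : ∀ f : MulAut (alternatingGroup α), f ∉ K →
      ∀ σ : alternatingGroup α, (σ : Perm α).cycleType = {3} → (f σ : Perm α).cycleType = {3, 3} := by
    intro f hf σ hσ
    have ho : ∀ τ : alternatingGroup α, (τ : Perm α).cycleType = {3} → orderOf ((f τ : alternatingGroup α) : Perm α) = 3 := by
      intro τ hτ
      rw [Subgroup.orderOf_coe, MulEquiv.orderOf_eq, ← Subgroup.orderOf_coe]
      exact IsThreeCycle.orderOf hτ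
    refine (cycleType_cases_six h6 _ (ho σ hσ)).resolve_left fun h1 => hf ?_
    have h3c : ∀ τ : alternatingGroup α, (τ : Perm α).IsThreeCycle → (f τ : Perm α).IsThreeCycle := by
      intro τ hτ
      obtain ⟨c, hc⟩ := isConj_iff.1 (alternatingGroup.isThreeCycle_isConj (by rw [Nat.card_eq_fintype_card]; omega) (σ := σ) (τ := τ) hσ hτ)
      rw [← hc, map_mul, map_mul, map_inv]
      show (((f c : alternatingGroup α) : Perm α) * (f σ : Perm α) * ((f c : alternatingGroup α) : Perm α)⁻¹).cycleType = {3}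
      rw [Perm.cycleType_conj]
      exact h1
    obtain ⟨g, hg⟩ := exists_conjNormal_eq h4 f h3c
    exact ⟨g, hg⟩
  have hkey : ∀ f f' : MulAut (alternatingGroup α), f ∉ K → f' ∉ K → f⁻¹ * f' ∈ K := by
    intro f f' hf hf'
    by_contra hn
    obtain ⟨σ, hσ⟩ : S1.Nonempty := by
      rw [← Finset.card_pos, hcard _ fun σ h => ?_, Perm.card_of_cycleType, h6]
      · decide
      · rw [Perm.mem_alternatingGroup, Perm.sign_of_cycleType, h]; decide
    simp only [S1, Finset.mem_filter, Finset.mem_univ, true_and] at hσ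
    have h1 := hout _ hn σ hσ
    have h2 := hout _ hf' σ hσ
    have himg : S1.map ⟨f, f.injective⟩ = S2 := by
      refine Finset.eq_of_subset_of_card_le (fun τ hτ => ?_) (by rw [Finset.card_map, h12])
      obtain ⟨ρ, hρ, rfl⟩ := Finset.mem_map.1 hτ
      simpa [S2] using hout f hf ρ (by simpa [S1] using hρ)
    obtain ⟨ρ, hρ, hρ'⟩ := Finset.mem_map.1 (himg.symm ▸ (show f' σ ∈ S2 by simpa [S2] using h2))
    have hρσ : (f⁻¹ * f') σ = ρ := by
      show f.symm (f' σ) = ρ
      rw [← hρ']
      exact f.symm_apply_apply ρ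
    rw [hρσ, show (ρ : Perm α).cycleType = {3} by simpa [S1] using hρ] at h1
    exact absurd (congrArg Multiset.card h1) (by decide)
  by_cases htop : K = ⊤
  · rw [htop, Subgroup.index_top]
    exact one_dvd _
  obtain ⟨a, ha⟩ : ∃ a, a ∉ K := by
    by_contra h
    push Not at h
    exact htop (eq_top_iff.2 fun x _ => h x)
  rw [Subgroup.index_eq_two_iff.2 ⟨a, fun b => ?_⟩]
  by_cases hb : b ∈ K
  · exact Or.inr ⟨hb, fun h => ha ((K.mul_mem_cancel_left hb).1 h)⟩
  · exact Or.inl ⟨by simpa using hkey b⁻¹ a (fun h => hb (by simpa using K.inv_mem h)) ha, hb⟩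

theorem card_mulAut_six (h6 : Fintype.card α = 6) : Nat.card (MulAut (alternatingGroup α)) ∣ 2 * (6)! := by
  have hK : Nat.card (MulAut.conjNormal : Perm α →* MulAut (alternatingGroup α)).range = (6)! := by
    rw [Nat.card_congr (MonoidHom.ofInjective (conjNormal_injective (α := α) (by omega))).symm.toEquiv,
      Nat.card_perm, Nat.card_eq_fintype_card, h6]
  rw [← Subgroup.card_mul_index (MulAut.conjNormal : Perm α →* MulAut (alternatingGroup α)).range, hK, mul_comm 2]
  exact Nat.mul_dvd_mul_left _ (index_range_conjNormal_six h6)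

end CfsgLib.ClassSizes.AlternatingAut
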