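import Mathlib

/-!
Elements with the smallest nontrivial class size and a normal abelian subgroup.
-/

namespace CfsgLib.ClassSizes.MinimalClass

open Subgroup

variable {G : Type*} [Group G] [Finite G]

theorem commutator_mem_center (A : Subgroup G) [A.Normal] (hA : IsMulCommutative A) {x : G}
    (hmin : ∀ u : G, u ∉ center G → (centralizer ({x} : Set G)).index ≤ (centralizer ({u} : Set G)).index)
    {a : G} (ha : a ∈ A) : a * x * a⁻¹ * x⁻¹ ∈ center G := by
  classical
  have hcomm : ∀ s ∈ A, ∀ t ∈ A, Commute s t := fun s hs t ht =>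
    (congrArg Subtype.val (mul_comm' (⟨s, hs⟩ : A) ⟨t, ht⟩) : s * t = t * s)
  set C := centralizer ({x} : Set G) with hC
  let φ : A →* G :=
    { toFun := fun s => (s : G) * x * (s : G)⁻¹ * x⁻¹
      map_one' := by simp
      map_mul' := fun s t => by
        have ht' : (t : G) * x * (t : G)⁻¹ * x⁻¹ ∈ A := by
          rw [show (t : G) * x * (t : G)⁻¹ * x⁻¹ = t * (x * (t : G)⁻¹ * x⁻¹) by group]
          exact mul_mem t.2 (Normal.conj_mem inferInstance _ (inv_mem t.2) x)
        have hc := (hcomm _ s.2 _ ht').eq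
        push_cast
        calc (s : G) * t * x * ((s : G) * t)⁻¹ * x⁻¹
            = ((s : G) * ((t : G) * x * (t : G)⁻¹ * x⁻¹)) * (x * (s : G)⁻¹ * x⁻¹) := by group
          _ = (((t : G) * x * (t : G)⁻¹ * x⁻¹) * s) * (x * (s : G)⁻¹ * x⁻¹) := by rw [hc]
          _ = ((t : G) * x * (t : G)⁻¹ * x⁻¹) * ((s : G) * x * (s : G)⁻¹ * x⁻¹) := by group
          _ = _ := ((hcomm _ ht' _ (show (s : G) * x * (s : G)⁻¹ * x⁻¹ ∈ A by
              rw [show (s : G) * x * (s : G)⁻¹ * x⁻¹ = s * (x * (s : G)⁻¹ * x⁻¹) by group]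
              exact mul_mem s.2 (Normal.conj_mem inferInstance _ (inv_mem s.2) x))).eq) }
  set I := φ.range with hI
  have hker : φ.ker = (C).subgroupOf A := by
    ext s
    rw [MonoidHom.mem_ker, mem_subgroupOf, hC, mem_centralizer_singleton_iff]
    change (s : G) * x * (s : G)⁻¹ * x⁻¹ = 1 ↔ _
    rw [mul_inv_eq_one, mul_inv_eq_iff_eq_mul]
  have hcardA : Nat.card I * Nat.card (C ⊓ A : Subgroup G) = Nat.card A := by
    rw [φ.ker.card_eq_card_quotient_mul_card_subgroup, Nat.card_congr (QuotientGroup.quotientKerEquivRange φ).toEquiv, hker,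
      ← inf_subgroupOf_right, Nat.card_congr (subgroupOfEquivOfLe (inf_le_right : C ⊓ A ≤ A)).toEquiv]
  by_contra hu
  set u := a * x * a⁻¹ * x⁻¹ with hudef
  have huI : u ∈ I := ⟨⟨a, ha⟩, rfl⟩
  have huA : u ∈ A := by
    rw [show u = a * (x * a⁻¹ * x⁻¹) by rw [hudef]; group]
    exact mul_mem ha (Normal.conj_mem inferInstance _ (inv_mem ha) x)
  have hu1 : u ≠ 1 := fun h => hu (h ▸ one_mem _)
  set D := centralizer ({u} : Set G) with hD
  have hAD : A ≤ D := fun s hs => mem_centralizer_singleton_iff.2 (hcomm s hs u huA).eq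
  have hDC : Nat.card D ≤ Nat.card C := by
    have h1 := C.index_mul_card
    have h2 := D.index_mul_card
    have h3 := hmin u hu
    by_contra hlt
    push Not at hlt
    have : C.index * Nat.card C < D.index * Nat.card D :=
      Nat.mul_lt_mul_of_le_of_lt h3 hlt (Nat.pos_of_ne_zero index_ne_zero_of_finite)
    omega
  have hbig : Nat.card I * Nat.card (C ⊓ D : Subgroup G) ≤ Nat.card D := by
    have hsup := Nat.le_of_dvd Nat.card_pos (card_dvd_of_le (sup_le hAD (inf_le_right : C ⊓ D ≤ D) : A ⊔ (C ⊓ D) ≤ D))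
    refine le_trans ?_ hsup
    have hrel : (C ⊓ D).subgroupOf (A ⊔ (C ⊓ D)) ≤ ⊤ := le_top
    have e1 := ((C ⊓ D).subgroupOf (A ⊔ (C ⊓ D))).index_mul_card
    rw [Nat.card_congr (subgroupOfEquivOfLe (le_sup_right : C ⊓ D ≤ A ⊔ (C ⊓ D))).toEquiv] at e1
    rw [← e1]
    refine Nat.mul_le_mul_right _ ?_
    change _ ≤ (C ⊓ D).relIndex (A ⊔ (C ⊓ D))
    refine le_trans ?_ (relIndex_le_of_le_right (le_sup_left : A ≤ A ⊔ (C ⊓ D)) index_ne_zero_of_finite)
    have hCA : C ⊓ D ⊓ A = C ⊓ A := by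
      apply le_antisymm
      · exact inf_le_inf_right A inf_le_left
      · exact le_inf (le_inf inf_le_left (inf_le_right.trans hAD)) inf_le_right
    rw [← inf_relIndex_right, hCA]
    refine Nat.le_of_mul_le_mul_right ?_ (Nat.card_pos (α := (C ⊓ A : Subgroup G)))
    rw [hcardA, relIndex, ← Nat.card_congr (subgroupOfEquivOfLe (inf_le_right : C ⊓ A ≤ A)).toEquiv, index_mul_card]
  have horb : D.relIndex C < Nat.card I := by
    let f : C ⧸ D.subgroupOf C → I := Quotient.lift (fun c : C => (⟨(c : G) * u * (c : G)⁻¹, by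
      refine ⟨⟨(c : G) * a * (c : G)⁻¹, Normal.conj_mem inferInstance _ ha c⟩, ?_⟩
      have hcx := mem_centralizer_singleton_iff.1 c.2
      change (c : G) * a * (c : G)⁻¹ * x * ((c : G) * a * (c : G)⁻¹)⁻¹ * x⁻¹ = _
      have e : (c : G)⁻¹ * x * c = x := by rw [mul_assoc, ← hcx, inv_mul_cancel_left]
      calc (c : G) * a * (c : G)⁻¹ * x * ((c : G) * a * (c : G)⁻¹)⁻¹ * x⁻¹
          = (c : G) * a * ((c : G)⁻¹ * x * c) * a⁻¹ * ((c : G)⁻¹ * x * c)⁻¹ * (c : G)⁻¹ := by group
        _ = (c : G) * u * (c : G)⁻¹ := by rw [e, hudef]; group⟩ : I)) fun c d hcd => by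
      have h := QuotientGroup.leftRel_apply.1 hcd
      rw [mem_subgroupOf, hD, mem_centralizer_singleton_iff] at h
      push_cast at h
      refine Subtype.ext ?_
      change (c : G) * u * (c : G)⁻¹ = (d : G) * u * (d : G)⁻¹
      calc (c : G) * u * (c : G)⁻¹ = (c : G) * (u * ((c : G)⁻¹ * d)) * (d : G)⁻¹ := by group
        _ = (c : G) * (((c : G)⁻¹ * d) * u) * (d : G)⁻¹ := by rw [h]
        _ = _ := by group
    have hf : Function.Injective f := by
      intro s t
      induction s using QuotientGroup.induction_on with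
      | _ c =>
        induction t using QuotientGroup.induction_on with
        | _ d =>
          intro h
          have h' : (c : G) * u * (c : G)⁻¹ = (d : G) * u * (d : G)⁻¹ := congrArg Subtype.val h
          rw [QuotientGroup.eq, mem_subgroupOf, hD, mem_centralizer_singleton_iff]
          push_cast
          calc (c : G)⁻¹ * d * u = (c : G)⁻¹ * ((d : G) * u * (d : G)⁻¹) * d := by group
            _ = (c : G)⁻¹ * ((c : G) * u * (c : G)⁻¹) * d := by rw [h']
            _ = u * ((c : G)⁻¹ * d) := by group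
    change Nat.card (C ⧸ D.subgroupOf C) < _
    haveI := Fintype.ofFinite (C ⧸ D.subgroupOf C)
    haveI := Fintype.ofFinite I
    rw [Nat.card_eq_fintype_card, Nat.card_eq_fintype_card]
    refine Fintype.card_lt_of_injective_of_notMem f hf (b := 1) ?_
    rintro ⟨s, hs⟩
    induction s using QuotientGroup.induction_on with
    | _ c =>
      have h' : (c : G) * u * (c : G)⁻¹ = 1 := congrArg Subtype.val hs
      exact hu1 (conj_eq_one_iff.1 h')
  have hC' : Nat.card C = D.relIndex C * Nat.card (C ⊓ D : Subgroup G) := by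
    rw [← inf_relIndex_left, relIndex, ← Nat.card_congr (subgroupOfEquivOfLe (inf_le_left : C ⊓ D ≤ C)).toEquiv,
      index_mul_card]
  have := Nat.mul_lt_mul_of_pos_right horb (Nat.card_pos (α := (C ⊓ D : Subgroup G)))
  omega

theorem class_le_three (A : Subgroup G) [A.Normal] (hA : IsMulCommutative A)
    (hCA : centralizer (A : Set G) = A) (T : Set G)
    (hT : ∀ t ∈ T, ∀ a ∈ A, a * t * a⁻¹ * t⁻¹ ∈ center G) :
    Subgroup.upperCentralSeries ↥(closure T) 3 = ⊤ := by
  set M := closure T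
  have h1 : ⁅A, M⁆ ≤ center G := by
    rw [commutator_le]
    intro a ha t ht
    induction ht using closure_induction generalizing a with
    | mem t ht => exact hT t ht a ha
    | one => rw [commutatorElement_one_right]; exact one_mem _
    | mul s t _ _ hs ht =>
      have h := hs a ha
      have h' := ht a ha
      rw [commutatorElement_def] at h h' ⊢
      have e : a * (s * t) * a⁻¹ * (s * t)⁻¹ = (a * s * a⁻¹ * s⁻¹) * (s * (a * t * a⁻¹ * t⁻¹) * s⁻¹) := by group
      rw [e, Subgroup.mem_center_iff.1 h' s, mul_inv_cancel_right]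
      exact mul_mem h h'
    | inv t _ ht =>
      have h := ht a ha
      rw [commutatorElement_def] at h ⊢
      have e : a * t⁻¹ * a⁻¹ * t⁻¹⁻¹ = t⁻¹ * (a * t * a⁻¹ * t⁻¹)⁻¹ * t := by group
      rw [e, Subgroup.mem_center_iff.1 (inv_mem h) t⁻¹, inv_mul_cancel_right]
      exact inv_mem h
  have hcen : ∀ (X : Subgroup G), X ≤ center G → ∀ Y : Subgroup G, ⁅X, Y⁆ = ⊥ := fun X hX Y =>
    commutator_eq_bot_iff_le_centralizer.2 (hX.trans (center_le_centralizer _))
  have h2 : ⁅⁅M, M⁆, A⁆ = ⊥ := by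
    refine commutator_commutator_eq_bot_of_rotate ?_ ?_
    · rw [commutator_comm M A]; exact hcen _ h1 M
    · exact hcen _ h1 M
  have h3 : ⁅M, M⁆ ≤ A := hCA ▸ commutator_eq_bot_iff_le_centralizer.1 h2
  have h4 : ⁅⁅⁅M, M⁆, M⁆, M⁆ = ⊥ := hcen _ ((commutator_mono h3 le_rfl).trans h1) M
  rw [← lowerCentralSeries_eq_bot_iff_upperCentralSeries_eq_top, ← map_eq_bot_iff_of_injective _ M.subtype_injective]
  simp only [Subgroup.lowerCentralSeries, map_commutator, ← MonoidHom.range_eq_map, range_subtype]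
  exact h4

end CfsgLib.ClassSizes.MinimalClass
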