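import Mathlib
import Cfsg.Agent.Lib.ClassSizes.MinimalClass
import Cfsg.Agent.Lib.Core.Nilpotent

/-!
Itô's theorem on groups with two class sizes.
-/

set_option linter.style.haveILetI false

namespace CfsgLib.ClassSizes.TwoSizes

open Subgroup

universe u

variable {G : Type u} [Group G] [Finite G]

omit [Finite G] in
theorem comm_pow_left {a y c : G} (hc : a * y * a⁻¹ * y⁻¹ = c) (hcen : c ∈ center G) (m : ℕ) :
    a ^ m * y * (a ^ m)⁻¹ * y⁻¹ = c ^ m := by
  induction m with
  | zero => simp
  | succ m ih =>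
    calc a ^ (m + 1) * y * (a ^ (m + 1))⁻¹ * y⁻¹
        = a * (a ^ m * y * (a ^ m)⁻¹ * y⁻¹) * (y * a⁻¹ * y⁻¹) := by rw [pow_succ']; group
      _ = c ^ m * a * (y * a⁻¹ * y⁻¹) := by rw [ih, Subgroup.mem_center_iff.1 (pow_mem hcen m) a]
      _ = c ^ m * (a * y * a⁻¹ * y⁻¹) := by group
      _ = c ^ (m + 1) := by rw [hc, pow_succ]

omit [Finite G] in
theorem comm_pow_right {a y c : G} (hc : a * y * a⁻¹ * y⁻¹ = c) (hcen : c ∈ center G) (m : ℕ) :
    a * y ^ m * a⁻¹ * (y ^ m)⁻¹ = c ^ m := by
  induction m with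
  | zero => simp
  | succ m ih =>
    calc a * y ^ (m + 1) * a⁻¹ * (y ^ (m + 1))⁻¹
        = (a * y * a⁻¹ * y⁻¹) * (y * (a * y ^ m * a⁻¹ * (y ^ m)⁻¹) * y⁻¹) := by rw [pow_succ']; group
      _ = c * c ^ m := by
          rw [hc, ih, Subgroup.mem_center_iff.1 (pow_mem hcen m) y, mul_inv_cancel_right]
      _ = c ^ (m + 1) := (pow_succ' c m).symm

/-- A subgroup contains `x` once it contains the prime power elements of `⟨x⟩`. -/
theorem mem_of_primary (K : Subgroup G) (x : G)
    (h : ∀ y ∈ zpowers x, ∀ q k : ℕ, q.Prime → orderOf y = q ^ k → y ∈ K) : x ∈ K := by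
  have htop : K ⊓ zpowers x = zpowers x := by
    refine eq_of_le_of_card_ge inf_le_right (Nat.le_of_dvd Nat.card_pos ?_)
    rw [Nat.card_zpowers]
    refine (Nat.dvd_iff_prime_pow_dvd_dvd _ _).2 fun q k hq hd => ?_
    have hy := orderOf_pow_orderOf_div (orderOf_pos x).ne' hd
    rw [← hy]
    exact Subgroup.orderOf_dvd_natCard _
      ⟨h _ (npow_mem_zpowers x _) q k hq hy, npow_mem_zpowers x _⟩
  exact ((htop.symm ▸ mem_zpowers x : x ∈ K ⊓ zpowers x)).1

theorem centralizer_le_of_mem {x y : G} (h : y ∈ zpowers x) :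
    centralizer ({x} : Set G) ≤ centralizer ({y} : Set G) := fun g hg => by
  obtain ⟨i, rfl⟩ := mem_zpowers_iff.1 h
  exact mem_centralizer_singleton_iff.2 ((show Commute g x from mem_centralizer_singleton_iff.1 hg).zpow_right i).eq

omit [Finite G] in
theorem index_one_iff {x : G} : (centralizer ({x} : Set G)).index = 1 ↔ x ∈ center G := by
  rw [index_eq_one, eq_top_iff, Subgroup.mem_center_iff]
  exact ⟨fun h g => mem_centralizer_singleton_iff.1 (h (mem_top g)),
    fun h g _ => mem_centralizer_singleton_iff.2 (h g)⟩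

variable {n : ℕ}

theorem index_eq (h : ∀ x : G, (centralizer ({x} : Set G)).index = 1 ∨ (centralizer ({x} : Set G)).index = n)
    {x : G} (hx : x ∉ center G) : (centralizer ({x} : Set G)).index = n :=
  (h x).resolve_left fun h1 => hx (index_one_iff.1 h1)

theorem centralizer_eq (h : ∀ x : G, (centralizer ({x} : Set G)).index = 1 ∨ (centralizer ({x} : Set G)).index = n)
    {x y : G} (hx : x ∉ center G) (hy : y ∉ center G)
    (hle : centralizer ({x} : Set G) ≤ centralizer ({y} : Set G)) :
    centralizer ({x} : Set G) = centralizer ({y} : Set G) := by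
  refine eq_of_le_of_card_ge hle (le_of_eq ?_)
  have h1 := (centralizer ({x} : Set G)).index_mul_card
  have h2 := (centralizer ({y} : Set G)).index_mul_card
  rw [index_eq h hx, ← h2, index_eq h hy] at h1
  refine (Nat.eq_of_mul_eq_mul_left (Nat.pos_of_ne_zero ?_) h1).symm
  rw [← index_eq h hx]
  exact index_ne_zero_of_finite

theorem card_centralizer_eq (h : ∀ x : G, (centralizer ({x} : Set G)).index = 1 ∨ (centralizer ({x} : Set G)).index = n)
    {x y : G} (hx : x ∉ center G) (hy : y ∉ center G) :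
    Nat.card (centralizer ({x} : Set G)) = Nat.card (centralizer ({y} : Set G)) := by
  have h1 := (centralizer ({x} : Set G)).index_mul_card
  have h2 := (centralizer ({y} : Set G)).index_mul_card
  rw [index_eq h hx, ← h2, index_eq h hy] at h1
  refine Nat.eq_of_mul_eq_mul_left (Nat.pos_of_ne_zero ?_) h1
  rw [← index_eq h hx]
  exact index_ne_zero_of_finite

/-- Each centralizer contains a noncentral `r`-element as soon as one exists. -/
theorem exists_noncentral (h : ∀ x : G, (centralizer ({x} : Set G)).index = 1 ∨ (centralizer ({x} : Set G)).index = n)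
    {x y : G} {r k : ℕ} [hr : Fact r.Prime] (hx : x ∉ center G) (hy : y ∉ center G) (hyk : orderOf y = r ^ k)
    (S : Sylow r (centralizer ({x} : Set G))) :
    ∃ s ∈ (S : Subgroup (centralizer ({x} : Set G))).map (centralizer ({x} : Set G)).subtype, s ∉ center G := by
  by_contra hcon
  push Not at hcon
  set Sg := (S : Subgroup (centralizer ({x} : Set G))).map (centralizer ({x} : Set G)).subtype
  have hT : IsPGroup r (Sg ⊔ zpowers y : Subgroup G) := by
    refine IsPGroup.to_sup_of_normal_right' (S.isPGroup'.map _) (IsPGroup.of_card (by rw [Nat.card_zpowers, hyk])) ?_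
    intro s hs
    refine mem_normalizer_iff.2 fun a => ?_
    rw [← Subgroup.mem_center_iff.1 (hcon s hs) a, mul_inv_cancel_right]
  have hTle : Sg ⊔ zpowers y ≤ centralizer ({y} : Set G) := sup_le
    (fun s hs => mem_centralizer_singleton_iff.2 (Subgroup.mem_center_iff.1 (hcon s hs) y).symm)
    (zpowers_le.2 (mem_centralizer_singleton_iff.2 rfl))
  obtain ⟨j, hj⟩ := IsPGroup.iff_card.1 hT
  have hd : r ^ j ∣ Nat.card (centralizer ({x} : Set G)) := by
    rw [card_centralizer_eq h hx hy, ← hj]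
    exact card_dvd_of_le hTle
  have hle : Nat.card (Sg ⊔ zpowers y : Subgroup G) ≤ Nat.card Sg := by
    rw [← Nat.card_congr (equivMapOfInjective (S : Subgroup (centralizer ({x} : Set G))) _ (subtype_injective _)).toEquiv, hj]
    exact Nat.le_of_dvd Nat.card_pos (S.pow_dvd_card_of_pow_dvd_card hd)
  have heq : Sg = Sg ⊔ zpowers y := eq_of_le_of_card_ge le_sup_left hle
  exact hy (hcon y (heq ▸ mem_sup_right (mem_zpowers y)))

theorem commute_coprime (h : ∀ x : G, (centralizer ({x} : Set G)).index = 1 ∨ (centralizer ({x} : Set G)).index = n)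
    {x y : G} (hx : x ∉ center G) (hy : y ∉ center G) (hc : Commute x y) (hco : (orderOf x).Coprime (orderOf y)) :
    centralizer ({x} : Set G) = centralizer ({y} : Set G) := by
  have hmem : ∀ {s t : G}, Commute s t → (orderOf t).Coprime (orderOf s) → s ∈ zpowers (s * t) := by
    intro s t hst hco
    obtain ⟨m, hm⟩ := exists_pow_eq_self_of_coprime hco
    have e : s = (s * t) ^ (orderOf t * m) := by rw [pow_mul, hst.mul_pow, pow_orderOf_eq_one, mul_one, hm]
    have := Subgroup.npow_mem_zpowers (s * t) (orderOf t * m)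
    rwa [← e] at this
  have h1 := centralizer_le_of_mem (hmem hc hco.symm)
  have h2 := centralizer_le_of_mem (hmem hc.symm hco)
  rw [← hc.eq] at h2
  have hxy : x * y ∉ center G := fun hcen => hx ((zpowers_le.2 hcen) (hmem hc hco.symm))
  rw [← centralizer_eq h hxy hx h1, centralizer_eq h hxy hy h2]

theorem prime_of_not_le_center {r : ℕ} [Fact r.Prime] {x : G} (hx : r ∣ (centralizer ({x} : Set G)).index) :
    ∃ y : G, y ∉ center G ∧ ∃ k, orderOf y = r ^ k := by
  obtain ⟨R⟩ : Nonempty (Sylow r G) := inferInstance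
  by_contra hcon
  push Not at hcon
  have hR : (R : Subgroup G) ≤ centralizer ({x} : Set G) := by
    intro y hy
    have hyc : y ∈ center G := by
      by_contra hyc
      obtain ⟨k, hk⟩ := IsPGroup.iff_orderOf.1 R.2 ⟨y, hy⟩
      exact hcon y hyc k (by rwa [Subgroup.orderOf_mk] at hk)
    exact mem_centralizer_singleton_iff.2 (Subgroup.mem_center_iff.1 hyc x).symm
  exact R.not_dvd_index (hx.trans (index_dvd_of_le hR))

/-- The centralizers are abelian when no noncentral prime power element is isolated. -/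
theorem abelian_centralizer (h : ∀ x : G, (centralizer ({x} : Set G)).index = 1 ∨ (centralizer ({x} : Set G)).index = n)
    (hmix : ∀ (r k : ℕ) (x : G), r.Prime → x ∉ center G → orderOf x = r ^ k →
      ∃ (q j : ℕ) (y : G), q.Prime ∧ q ≠ r ∧ y ∉ center G ∧ orderOf y = q ^ j ∧ Commute x y)
    {x : G} (hx : x ∉ center G) :
    IsMulCommutative (centralizer ({x} : Set G)) ∧
      ∀ z ∈ centralizer ({x} : Set G), z ∉ center G → centralizer ({z} : Set G) = centralizer ({x} : Set G) := by
  obtain ⟨x₁, hx₁, hx₁c, q₁, k₁, hq₁, hk₁⟩ : ∃ x₁ ∈ zpowers x, x₁ ∉ center G ∧ ∃ q k : ℕ, q.Prime ∧ orderOf x₁ = q ^ k := by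
    by_contra hcon
    push Not at hcon
    exact hx (mem_of_primary _ x fun y hy q k hq hk => by
      by_contra hyc
      exact hcon y hy hyc q k hq hk)
  obtain ⟨q₂, k₂, y₁, hq₂, hne, hy₁, hk₂, hxy⟩ := hmix q₁ k₁ x₁ hq₁ hx₁c hk₁
  have hCx : centralizer ({x} : Set G) = centralizer ({x₁} : Set G) :=
    centralizer_eq h hx hx₁c (centralizer_le_of_mem hx₁)
  have hC1 : centralizer ({x₁} : Set G) = centralizer ({y₁} : Set G) :=
    commute_coprime h hx₁c hy₁ hxy (by rw [hk₁, hk₂]; exact (((Nat.coprime_primes hq₁ hq₂).2 (Ne.symm hne)).pow _ _))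
  have hpp : ∀ z ∈ centralizer ({x₁} : Set G), ∀ q k : ℕ, q.Prime → orderOf z = q ^ k → z ∉ center G →
      centralizer ({z} : Set G) = centralizer ({x₁} : Set G) := by
    intro z hz q k hq hk hzc
    have hzx : Commute z x₁ := mem_centralizer_singleton_iff.1 hz
    rcases eq_or_ne q q₁ with rfl | hqq
    · have hzy : Commute z y₁ := mem_centralizer_singleton_iff.1 (hC1 ▸ hz)
      rw [hC1]
      exact commute_coprime h hzc hy₁ hzy (by rw [hk, hk₂]; exact ((Nat.coprime_primes hq hq₂).2 (Ne.symm hne)).pow _ _)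
    · exact commute_coprime h hzc hx₁c hzx (by rw [hk, hk₁]; exact ((Nat.coprime_primes hq hq₁).2 hqq).pow _ _)
  have hab : centralizer ({x₁} : Set G) ≤ centralizer (centralizer ({x₁} : Set G) : Set G) := by
    intro z hz
    refine mem_of_primary _ z fun w hw q k hq hk => mem_centralizer_iff.2 fun v hv => ?_
    by_cases hwc : w ∈ center G
    · exact Subgroup.mem_center_iff.1 hwc v
    · have hw' := hpp w ((zpowers_le.2 hz) hw) q k hq hk hwc
      exact mem_centralizer_singleton_iff.1 (hw'.symm ▸ hv : v ∈ centralizer ({w} : Set G))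
  haveI : IsMulCommutative (centralizer ({x₁} : Set G)) := le_centralizer_iff_isMulCommutative.1 hab
  rw [hCx]
  refine ⟨inferInstance, fun z hz hzc => ?_⟩
  refine (centralizer_eq h hx₁c hzc fun v hv => ?_).symm
  exact mem_centralizer_singleton_iff.2 (mem_centralizer_iff.1 (hab hv) z hz).symm

open scoped IsMulCommutative in
/-- The mixed case does not occur. -/
theorem exists_isolated (h : ∀ x : G, (centralizer ({x} : Set G)).index = 1 ∨ (centralizer ({x} : Set G)).index = n)
    {x₀ : G} (hx₀ : x₀ ∉ center G) :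
    ∃ (r k : ℕ) (x : G), r.Prime ∧ x ∉ center G ∧ orderOf x = r ^ k ∧
      ∀ (q j : ℕ) (y : G), q.Prime → q ≠ r → orderOf y = q ^ j → Commute x y → y ∈ center G := by
  classical
  by_contra hmix'
  push Not at hmix'
  have hmix : ∀ (r k : ℕ) (x : G), r.Prime → x ∉ center G → orderOf x = r ^ k →
      ∃ (q j : ℕ) (y : G), q.Prime ∧ q ≠ r ∧ y ∉ center G ∧ orderOf y = q ^ j ∧ Commute x y := by
    intro r k x hr hx hk
    obtain ⟨q, j, y, hq, hne, hj, hc, hy⟩ := hmix' r k x hr hx hk
    exact ⟨q, j, y, hq, hne, hy, hj, hc⟩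
  have habel := fun {x : G} (hx : x ∉ center G) => abelian_centralizer h hmix hx
  -- every prime of a noncentral element divides the index
  have hdvd : ∀ (r k : ℕ) (x : G), r.Prime → x ∉ center G → orderOf x = r ^ k → r ∣ n := by
    intro r k x hr hx hk
    haveI := Fact.mk hr
    by_contra hnd
    -- every element is conjugate into `C(x)`
    set A := centralizer ({x} : Set G) with hA
    obtain ⟨R, hR⟩ := (IsPGroup.of_card (p := r) (G := zpowers x) (n := k) (by rw [Nat.card_zpowers, hk])).exists_le_sylow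
    have hcov : ∀ z : G, ∃ g : G, g * z * g⁻¹ ∈ A := by
      intro z
      by_cases hz : z ∈ center G
      · exact ⟨1, mem_centralizer_singleton_iff.2 (by
          rw [one_mul, inv_one, mul_one]; exact (Subgroup.mem_center_iff.1 hz x).symm)⟩
      obtain ⟨S⟩ : Nonempty (Sylow r (centralizer ({z} : Set G))) := inferInstance
      obtain ⟨T, hT⟩ := (S.isPGroup'.map (centralizer ({z} : Set G)).subtype).exists_le_sylow
      have hTle : (T : Subgroup G) ≤ centralizer ({z} : Set G) := by
        refine (eq_of_le_of_card_ge hT ?_).ge.trans (map_subtype_le _)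
        rw [← Nat.card_congr (equivMapOfInjective (S : Subgroup (centralizer ({z} : Set G))) _ (subtype_injective _)).toEquiv,
          T.card_eq_multiplicity]
        refine Nat.le_of_dvd Nat.card_pos (S.pow_dvd_card_of_pow_dvd_card ?_)
        have hd := Nat.ordProj_dvd (Nat.card G) r
        rw [← (centralizer ({z} : Set G)).index_mul_card, index_eq h hz] at hd ⊢
        exact (((hr.coprime_iff_not_dvd).2 hnd).pow_left _).dvd_of_dvd_mul_left hd
      obtain ⟨g, rfl⟩ := MulAction.exists_smul_eq G R T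
      refine ⟨g⁻¹, mem_centralizer_singleton_iff.2 ?_⟩
      have h1 : g * x * g⁻¹ ∈ centralizer ({z} : Set G) := hTle (by
        rw [Sylow.coe_subgroup_smul]; exact ⟨x, hR (mem_zpowers x), rfl⟩)
      have h2 := mem_centralizer_singleton_iff.1 h1
      calc g⁻¹ * z * g⁻¹⁻¹ * x = g⁻¹ * (z * (g * x * g⁻¹)) * g := by group
        _ = g⁻¹ * (g * x * g⁻¹ * z) * g := by rw [h2]
        _ = x * (g⁻¹ * z * g⁻¹⁻¹) := by group
    -- counting
    haveI := Fintype.ofFinite G
    haveI := Fintype.ofFinite (G ⧸ A)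
    haveI := Fintype.ofFinite A
    have hAne : A ≠ ⊤ := fun htop => hx (index_one_iff.1 (index_eq_one.2 htop))
    let f : (G ⧸ A) × {a : A // a ≠ 1} → G := fun d => d.1.out * ((d.2.1 : A) : G) * d.1.out⁻¹
    have hsur : ∀ z : {z : G // z ≠ 1}, ∃ d, f d = z.1 := by
      rintro ⟨z, hz⟩
      obtain ⟨g, hg⟩ := hcov z
      set t : G ⧸ A := QuotientGroup.mk g⁻¹
      have hu : g * t.out ∈ A := by
        have := QuotientGroup.eq.1 (QuotientGroup.out_eq' t).symm
        rwa [inv_inv] at this
      refine ⟨(t, ⟨⟨t.out⁻¹ * z * t.out, ?_⟩, fun h1 => hz ?_⟩), ?_⟩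
      · rw [show t.out⁻¹ * z * t.out = (g * t.out)⁻¹ * (g * z * g⁻¹) * (g * t.out) by group]
        exact mul_mem (mul_mem (inv_mem hu) hg) hu
      · have h2 : t.out⁻¹ * z * t.out = 1 := congrArg Subtype.val h1
        rw [show z = t.out * (t.out⁻¹ * z * t.out) * t.out⁻¹ by group, h2]; group
      · show t.out * (t.out⁻¹ * z * t.out) * t.out⁻¹ = z
        group
    choose d hd using hsur
    have hle : Nat.card {z : G // z ≠ 1} ≤ Nat.card ((G ⧸ A) × {a : A // a ≠ 1}) :=
      Nat.card_le_card_of_injective d fun a b hab => Subtype.ext (by rw [← hd a, ← hd b, hab])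
    rw [Nat.card_prod, ← index_eq_card, Nat.card_eq_fintype_card, Nat.card_eq_fintype_card,
      Fintype.card_subtype_compl, Fintype.card_subtype_compl, Fintype.card_subtype_eq, Fintype.card_subtype_eq] at hle
    have h1 := A.index_mul_card
    rw [Nat.card_eq_fintype_card, Nat.card_eq_fintype_card] at h1
    have h2 : 2 ≤ A.index := by
      have := A.index_ne_zero_of_finite
      have : A.index ≠ 1 := fun h1 => hAne (index_eq_one.1 h1)
      omega
    have h3 := Fintype.card_pos (α := A)
    have h4 : A.index * (Fintype.card A - 1) + A.index = Fintype.card G := by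
      rw [← h1, ← Nat.mul_succ, show (Fintype.card A - 1).succ = Fintype.card A by omega]
    omega
  -- outside elements of the normalizer fix only central elements
  have hfix : ∀ {x : G}, x ∉ center G → ∀ g : G, g ∉ centralizer ({x} : Set G) → ∀ w ∈ centralizer ({x} : Set G),
      g * w * g⁻¹ = w → w ∈ center G := by
    intro x hx g hg w hw hgw
    by_contra hwc
    refine hg ((habel hx).2 w hw hwc ▸ mem_centralizer_singleton_iff.2 ?_)
    exact mul_inv_eq_iff_eq_mul.1 hgw
  -- for every prime of the index, a Sylow subgroup nearly normalizes a centralizer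
  have hsq : ∀ r : ℕ, r.Prime → r ∣ n → ¬ r ^ 2 ∣ n := by
    intro r hr hrn hr2
    haveI := Fact.mk hr
    obtain ⟨y₀, hy₀, k₀, hk₀⟩ := prime_of_not_le_center (r := r) (x := x₀) (by rw [index_eq h hx₀]; exact hrn)
    obtain ⟨R, hR⟩ := (IsPGroup.of_card (p := r) (G := zpowers y₀) (n := k₀) (by rw [Nat.card_zpowers, hk₀])).exists_le_sylow
    -- a second centre element with `r`th power central
    have hZR : ∀ z ∈ (R : Subgroup G), (∀ u ∈ (R : Subgroup G), Commute u z) → z ∈ center G := by
      intro z hz hzc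
      by_contra hzz
      refine R.not_dvd_index (dvd_trans (hrn.trans (dvd_of_eq (index_eq h hzz).symm)) (index_dvd_of_le ?_))
      exact fun u hu => mem_centralizer_singleton_iff.2 (hzc u hu).eq
    haveI : Group.IsNilpotent (R : Subgroup G) := R.isPGroup'.isNilpotent
    set Zr := (center G).subgroupOf (R : Subgroup G)
    haveI : Group.IsNilpotent ((R : Subgroup G) ⧸ Zr) :=
      Group.nilpotent_of_surjective (QuotientGroup.mk' Zr) (QuotientGroup.mk'_surjective Zr)
    haveI : Nontrivial ((R : Subgroup G) ⧸ Zr) := QuotientGroup.nontrivial_iff.2 fun htop =>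
      hy₀ (mem_subgroupOf.1 (htop ▸ mem_top (⟨y₀, hR (mem_zpowers y₀)⟩ : (R : Subgroup G))))
    obtain ⟨⟨tb, htbT, htb⟩, htb1⟩ := Subgroup.ne_bot_iff_exists_ne_one.1
      (CfsgLib.Core.inf_center_ne_bot_of_isNilpotent (⊤ : Subgroup ((R : Subgroup G) ⧸ Zr)) top_ne_bot)
    obtain ⟨t₀, rfl⟩ := QuotientGroup.mk'_surjective Zr tb
    have ht₀ : (t₀ : G) ∉ center G := fun hc => htb1 (Subtype.ext ((QuotientGroup.eq_one_iff t₀).2 (mem_subgroupOf.2 hc)))
    have ht₀c : ∀ u ∈ (R : Subgroup G), (t₀ : G) * u * (t₀ : G)⁻¹ * u⁻¹ ∈ center G := by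
      intro u hu
      have h1 := Subgroup.mem_center_iff.1 htb (QuotientGroup.mk' Zr ⟨u, hu⟩)
      have h2 : QuotientGroup.mk' Zr (t₀ * ⟨u, hu⟩ * t₀⁻¹ * ⟨u, hu⟩⁻¹) = 1 := by
        rw [map_mul, map_mul, map_mul, map_inv, map_inv, ← h1, mul_inv_cancel_right, mul_inv_cancel]
      exact mem_subgroupOf.1 ((QuotientGroup.eq_one_iff _).1 h2)
    obtain ⟨t, htR, htc, htrc, htcomm⟩ : ∃ t ∈ (R : Subgroup G), t ∉ center G ∧ t ^ r ∈ center G ∧
        ∀ u ∈ (R : Subgroup G), t * u * t⁻¹ * u⁻¹ ∈ center G := by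
      obtain ⟨k, hk⟩ := IsPGroup.iff_orderOf.1 R.2 t₀
      have hex : ∃ j, (t₀ : G) ^ r ^ j ∈ center G := ⟨k, by
        rw [← hk, ← Subgroup.orderOf_coe, pow_orderOf_eq_one]; exact one_mem _⟩
      have h0 : Nat.find hex ≠ 0 := fun h0 => ht₀ (by
        have := Nat.find_spec hex; rw [h0, pow_zero, pow_one] at this; exact this)
      refine ⟨(t₀ : G) ^ r ^ (Nat.find hex - 1), pow_mem t₀.2 _, Nat.find_min hex (by omega), ?_, fun u hu => ?_⟩
      · rw [← pow_mul, ← pow_succ, Nat.sub_add_cancel (Nat.one_le_iff_ne_zero.2 h0)]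
        exact Nat.find_spec hex
      · rw [comm_pow_left rfl (ht₀c u hu)]; exact pow_mem (ht₀c u hu) _
    set A := centralizer ({t} : Set G) with hA
    obtain ⟨hAc, hAeq⟩ := habel htc
    haveI := hAc
    have hpowA : ∀ u ∈ (R : Subgroup G), u ^ r ∈ A := by
      intro u hu
      refine mem_centralizer_singleton_iff.2 ?_
      have h1 := comm_pow_right rfl (htcomm u hu) r
      have h2 := comm_pow_left rfl (htcomm u hu) r
      rw [Subgroup.mem_center_iff.1 htrc u |>.symm, mul_inv_cancel_right, mul_inv_cancel] at h2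
      rw [← h2, mul_inv_eq_one, mul_inv_eq_iff_eq_mul] at h1
      exact h1.symm
    have hRN : (R : Subgroup G) ≤ normalizer (A : Set G) := by
      intro u hu
      refine mem_normalizer_iff.2 fun a => ?_
      have hut : u * t * u⁻¹ = (t * u * t⁻¹ * u⁻¹)⁻¹ * t := by group
      have key : ∀ a, a ∈ A ↔ u * a * u⁻¹ ∈ centralizer ({u * t * u⁻¹} : Set G) := by
        intro a
        rw [hA, mem_centralizer_singleton_iff, mem_centralizer_singleton_iff,
          show u * a * u⁻¹ * (u * t * u⁻¹) = u * (a * t) * u⁻¹ by group,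
          show u * t * u⁻¹ * (u * a * u⁻¹) = u * (t * a) * u⁻¹ by group, mul_left_inj, mul_right_inj]
      rw [key a]
      have hc : centralizer ({u * t * u⁻¹} : Set G) = A := by
        rw [hut, hA]
        ext g
        rw [mem_centralizer_singleton_iff, mem_centralizer_singleton_iff]
        have hgc := Subgroup.mem_center_iff.1 (inv_mem (htcomm u hu)) g
        generalize (t * u * t⁻¹ * u⁻¹)⁻¹ = a at hgc
        rw [show g * (a * t) = a * (g * t) by rw [← mul_assoc, hgc, mul_assoc], mul_assoc, mul_right_inj]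
      rw [hc]
    -- the other prime
    obtain ⟨k, hk⟩ := IsPGroup.iff_orderOf.1 R.2 ⟨t, htR⟩
    rw [Subgroup.orderOf_mk] at hk
    obtain ⟨q, j, w, hq, hqr, hwc, hwj, htw⟩ := hmix r k t hr htc hk
    have hwA : w ∈ A := mem_centralizer_singleton_iff.2 htw.eq.symm
    -- `R` modulo `A` is cyclic of order `r`
    have hcyc : ∀ u ∈ (R : Subgroup G), u ∉ A → ∀ z ∈ (R : Subgroup G), ∃ j < r, u ^ j * z ∈ A := by
      intro u hu huA z hz
      by_contra hcon
      push Not at hcon
      have hzA : z ∉ A := fun hzA => hcon 0 hr.pos (by rwa [pow_zero, one_mul])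
      let f := Subgroup.normalizerMonoidHom A
      let act : normalizer (A : Set G) → A → A := fun g a => f g a
      have act_coe : ∀ (g : normalizer (A : Set G)) (a : A), ((f g a : A) : G) = g * a * (g : G)⁻¹ := fun _ _ => rfl
      let u' : normalizer (A : Set G) := ⟨u, hRN hu⟩
      let z' : normalizer (A : Set G) := ⟨z, hRN hz⟩
      have hker : ∀ g : normalizer (A : Set G), (g : G) ∈ A → f g = 1 := fun g hg => MulEquiv.ext fun a => Subtype.ext (by
        have : (g : G) * a = a * g := congrArg Subtype.val (mul_comm' (⟨g, hg⟩ : A) a)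
        rw [act_coe, this, mul_inv_cancel_right]; rfl)
      have hcomm : Commute (f z') (f u') := by
        have hmem : ((z' * u' * z'⁻¹ * u'⁻¹ : normalizer (A : Set G)) : G) ∈ A := by
          show z * u * z⁻¹ * u⁻¹ ∈ A
          refine mem_centralizer_singleton_iff.2 ?_
          have hconj : ∀ v ∈ (R : Subgroup G), v * t * v⁻¹ = (t * v * t⁻¹ * v⁻¹)⁻¹ * t := fun v _ => by group
          have hz1 := hconj z hz
          have hu1 := hconj u hu
          set a := (t * u * t⁻¹ * u⁻¹)⁻¹ with ha
          set b := (t * z * t⁻¹ * z⁻¹)⁻¹ with hb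
          have hac : a ∈ center G := inv_mem (htcomm u hu)
          have hbc : b ∈ center G := inv_mem (htcomm z hz)
          have hzu : (z * u) * t * (z * u)⁻¹ = a * (b * t) := by
            calc (z * u) * t * (z * u)⁻¹ = z * (u * t * u⁻¹) * z⁻¹ := by group
              _ = (z * a) * t * z⁻¹ := by rw [hu1]; group
              _ = a * (z * t * z⁻¹) := by rw [Subgroup.mem_center_iff.1 hac z]; group
              _ = a * (b * t) := by rw [hz1]
          have huz : (u * z) * t * (u * z)⁻¹ = b * (a * t) := by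
            calc (u * z) * t * (u * z)⁻¹ = u * (z * t * z⁻¹) * u⁻¹ := by group
              _ = (u * b) * t * u⁻¹ := by rw [hz1]; group
              _ = b * (u * t * u⁻¹) := by rw [Subgroup.mem_center_iff.1 hbc u]; group
              _ = b * (a * t) := by rw [hu1]
          have heq : (z * u) * t * (z * u)⁻¹ = (u * z) * t * (u * z)⁻¹ := by
            rw [hzu, huz, ← mul_assoc, ← mul_assoc, Subgroup.mem_center_iff.1 hbc a]
          have e : (u * z)⁻¹ * (z * u) * t = t * ((u * z)⁻¹ * (z * u)) := by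
            calc (u * z)⁻¹ * (z * u) * t = (u * z)⁻¹ * ((z * u) * t * (z * u)⁻¹) * (z * u) := by group
              _ = (u * z)⁻¹ * ((u * z) * t * (u * z)⁻¹) * (z * u) := by rw [heq]
              _ = t * ((u * z)⁻¹ * (z * u)) := by group
          -- rewrite through the conjugate
          have e2 : z * u * z⁻¹ * u⁻¹ = (u * z) * ((u * z)⁻¹ * (z * u)) * (u * z)⁻¹ := by group
          have e3 : (u * z) * ((u * z)⁻¹ * (z * u)) * (u * z)⁻¹ * ((u * z) * t * (u * z)⁻¹) =
              (u * z) * t * (u * z)⁻¹ * ((u * z) * ((u * z)⁻¹ * (z * u)) * (u * z)⁻¹) := by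
            calc (u * z) * ((u * z)⁻¹ * (z * u)) * (u * z)⁻¹ * ((u * z) * t * (u * z)⁻¹)
                = (u * z) * ((u * z)⁻¹ * (z * u) * t) * (u * z)⁻¹ := by group
              _ = (u * z) * (t * ((u * z)⁻¹ * (z * u))) * (u * z)⁻¹ := by rw [e]
              _ = _ := by group
          rw [← e2, huz] at e3
          have hab : b * a ∈ center G := mul_mem hbc hac
          have hX := Subgroup.mem_center_iff.1 hab (z * u * z⁻¹ * u⁻¹)
          generalize z * u * z⁻¹ * u⁻¹ = X at e3 hX ⊢
          refine mul_left_cancel (a := b * a) ?_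
          calc b * a * (X * t) = (X * (b * a)) * t := by rw [hX]; group
            _ = X * (b * (a * t)) := by group
            _ = b * (a * t) * X := e3
            _ = b * a * (t * X) := by group
        have h1 := hker _ hmem
        rw [map_mul, map_mul, map_mul, map_inv, map_inv, mul_inv_eq_one, mul_inv_eq_iff_eq_mul] at h1
        exact h1
      have hur : f u' ^ r = 1 := by rw [← map_pow]; exact hker _ (hpowA u hu)
      have hzr : f z' ^ r = 1 := by rw [← map_pow]; exact hker _ (hpowA z hz)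
      -- norms land in the centre
      have hnorm : ∀ g : normalizer (A : Set G), (g : G) ∉ A → f g ^ r = 1 → ∀ a : A,
          ((∏ i ∈ Finset.range r, (f g ^ i) a : A) : G) ∈ center G := by
        intro g hg hgr a
        refine hfix htc g hg _ (SetLike.coe_mem _) ?_
        have hfixed : f g (∏ i ∈ Finset.range r, (f g ^ i) a) = ∏ i ∈ Finset.range r, (f g ^ i) a := by
          rw [map_prod]
          simp only [← MulAut.mul_apply, ← pow_succ']
          have e1 := Finset.prod_range_succ' (fun i => (f g ^ i) a) r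
          have e2 := Finset.prod_range_succ (fun i => (f g ^ i) a) r
          have e3 : (f g ^ r) a = (f g ^ 0) a := by rw [hgr, pow_zero]
          rw [e2, e3] at e1
          exact mul_right_cancel e1.symm
        exact (act_coe g _).symm.trans (congrArg Subtype.val hfixed)
      set w' : A := ⟨w, hwA⟩
      have hcenA : ∀ a : A, (a : G) ∈ center G → ∀ g : normalizer (A : Set G), f g a = a := fun a ha g =>
        Subtype.ext (by rw [act_coe, Subgroup.mem_center_iff.1 ha g, mul_inv_cancel_right])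
      obtain ⟨r', hr'⟩ : ∃ r', r = r' + 1 := ⟨r - 1, by have := hr.pos; omega⟩
      have houter : ∀ j, j < r → ((z' * u' ^ j : normalizer (A : Set G)) : G) ∉ A := by
        intro j hj hmem
        have hmem' : z * u ^ j ∈ A := hmem
        have h1 := (mem_normalizer_iff.1 (pow_mem (hRN hu) j) (z * u ^ j)).1 hmem'
        exact hcon j hj (by rwa [← mul_assoc, mul_inv_cancel_right] at h1)
      have hbig : ((∏ j ∈ Finset.range r, ∏ i ∈ Finset.range r, (f (z' * u' ^ j) ^ i) w' : A) : G) ∈ center G := by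
        change _ ∈ (center G).subgroupOf A
        refine prod_mem fun j hj => hnorm _ (houter j (Finset.mem_range.1 hj)) ?_ w'
        rw [map_mul, map_pow, (hcomm.pow_right j).mul_pow, hzr, one_mul, ← pow_mul, mul_comm, pow_mul, hur, one_pow]
      have hrow : ∀ i ∈ Finset.range r', ((∏ j ∈ Finset.range r, (f (z' * u' ^ j) ^ (i + 1)) w' : A) : G) ∈ center G := by
        intro i hi
        rw [Finset.mem_range] at hi
        have hcop : (i + 1).Coprime r := ((hr.coprime_iff_not_dvd).2
          (Nat.not_dvd_of_pos_of_lt (Nat.succ_pos i) (by omega))).symm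
        have hui : ((u' ^ (i + 1) : normalizer (A : Set G)) : G) ∉ A := by
          intro hmem
          have hmem' : u ^ (i + 1) ∈ A := hmem
          obtain ⟨a, b, hab⟩ := Nat.Coprime.isCoprime hcop
          apply huA
          have e : u = (u ^ (i + 1)) ^ a * (u ^ r) ^ b := by
            rw [← zpow_natCast u (i + 1), ← zpow_natCast u r, ← zpow_mul, ← zpow_mul, ← zpow_add,
              mul_comm ((i + 1 : ℕ) : ℤ), mul_comm (r : ℤ), hab, zpow_one]
          rw [e]
          exact mul_mem (zpow_mem hmem' a) (zpow_mem (hpowA u hu) b)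
        have hsum : ∏ j ∈ Finset.range r, (f (z' * u' ^ j) ^ (i + 1)) w' =
            (f z' ^ (i + 1)) (∏ j ∈ Finset.range r, (f (u' ^ (i + 1)) ^ j) w') := by
          rw [map_prod]
          refine Finset.prod_congr rfl fun j _ => ?_
          rw [← MulAut.mul_apply]
          congr 1
          rw [map_mul, map_pow, map_pow, (hcomm.pow_right j).mul_pow, ← pow_mul, ← pow_mul, mul_comm j]
        rw [hsum]
        have hc := hnorm (u' ^ (i + 1)) hui (by rw [map_pow, ← pow_mul, mul_comm, pow_mul, hur, one_pow]) w'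
        rw [← map_pow, hcenA _ hc]
        exact hc
      rw [Finset.prod_comm, hr', Finset.prod_range_succ'] at hbig
      simp only [← hr', pow_zero] at hbig
      have hw' : ((∏ _x ∈ Finset.range r, (1 : MulAut A) w' : A) : G) ∈ center G :=
        (mul_mem_cancel_left (H := (center G).subgroupOf A) (prod_mem hrow)).1 hbig
      simp only [MulAut.one_apply, Finset.prod_const, Finset.card_range, SubmonoidClass.coe_pow] at hw'
      obtain ⟨m, hm⟩ := exists_pow_eq_self_of_coprime (x := w) (n := r) (by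
        rw [hwj]; exact (((Nat.coprime_primes hq hr).2 hqr).pow_left j).symm)
      exact hwc (hm ▸ pow_mem hw' m)
    -- compare orders
    have hRA : Nat.card (R : Subgroup G) ≤ r * Nat.card ((R : Subgroup G) ⊓ A : Subgroup G) := by
      by_cases hall : (R : Subgroup G) ≤ A
      · rw [inf_eq_left.2 hall]; exact Nat.le_mul_of_pos_left _ hr.pos
      obtain ⟨u, hu, huA⟩ := Set.not_subset.1 hall
      have key : ∀ z : (R : Subgroup G), ∃ d : Fin r × ((R : Subgroup G) ⊓ A : Subgroup G),
          (z : G) = (u ^ (d.1 : ℕ))⁻¹ * d.2 := by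
        rintro ⟨z, hz⟩
        obtain ⟨j, hj, hjA⟩ := hcyc u hu huA z hz
        exact ⟨⟨⟨j, hj⟩, ⟨u ^ j * z, mul_mem (pow_mem hu j) hz, hjA⟩⟩, (inv_mul_cancel_left _ _).symm⟩
      choose d hd using key
      calc Nat.card (R : Subgroup G) ≤ Nat.card (Fin r × ((R : Subgroup G) ⊓ A : Subgroup G)) :=
            Nat.card_le_card_of_injective d fun a b hab => Subtype.ext (by rw [hd a, hd b, hab])
        _ = _ := by rw [Nat.card_prod, Nat.card_fin]
    obtain ⟨e, he⟩ := IsPGroup.iff_card.1 (R.isPGroup'.to_le (inf_le_left : (R : Subgroup G) ⊓ A ≤ R))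
    have hAd : r ^ e ∣ Nat.card A := he ▸ card_dvd_of_le inf_le_right
    have hd2 : r ^ (e + 2) ∣ Nat.card G := by
      rw [← A.index_mul_card, index_eq h htc, pow_add, mul_comm (r ^ e)]
      exact mul_dvd_mul hr2 hAd
    have hle := Nat.le_of_dvd Nat.card_pos (R.pow_dvd_card_of_pow_dvd_card hd2)
    rw [he] at hRA
    have : r ^ (e + 2) ≤ r ^ (e + 1) := hle.trans (by rw [pow_succ']; exact hRA)
    exact absurd ((Nat.pow_le_pow_iff_right hr.one_lt).1 this) (by omega)
  -- every centralizer is normal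
  have hnormal : ∀ x : G, x ∉ center G → (centralizer ({x} : Set G)).Normal := by
    intro x hx
    set A := centralizer ({x} : Set G) with hA
    obtain ⟨hAc, hAeq⟩ := habel hx
    set N := normalizer (A : Set G)
    have hAN : A ≤ N := le_normalizer
    have hmulN : A.relIndex N * N.index = n := by rw [relIndex_mul_index hAN]; exact index_eq h hx
    have hr : ∀ r : ℕ, r.Prime → r ∣ n → r ∣ A.relIndex N := by
      intro r hr hrn
      haveI := Fact.mk hr
      obtain ⟨y₀, hy₀, k₀, hk₀⟩ := prime_of_not_le_center (r := r) (x := x₀) (by rw [index_eq h hx₀]; exact hrn)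
      obtain ⟨S⟩ : Nonempty (Sylow r A) := inferInstance
      obtain ⟨s, hs, hsc⟩ := exists_noncentral h hx hy₀ hk₀ S
      set Sg := (S : Subgroup A).map A.subtype
      obtain ⟨T, hT⟩ := (S.isPGroup'.map A.subtype).exists_le_sylow
      haveI : Group.IsNilpotent (T : Subgroup G) := T.isPGroup'.isNilpotent
      have hlt : Sg.subgroupOf (T : Subgroup G) < ⊤ := by
        rw [lt_top_iff_ne_top, Ne, subgroupOf_eq_top]
        intro hle
        have hTA : (T : Subgroup G) ≤ A := hle.trans (map_subtype_le _)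
        exact T.not_dvd_index ((hrn.trans (dvd_of_eq (index_eq h hx).symm)).trans (index_dvd_of_le hTA))
      have hgrow := Group.normalizerCondition_of_isNilpotent _ hlt
      rw [← subgroupOf_normalizer_eq hT] at hgrow
      obtain ⟨u, hu, huS⟩ := SetLike.exists_of_lt hgrow
      rw [mem_subgroupOf] at hu huS
      have huA : (u : G) ∉ A := by
        intro huA
        have hp : IsPGroup r (((T : Subgroup G) ⊓ A).subgroupOf A) :=
          (T.isPGroup'.to_le inf_le_left).comap_of_injective A.subtype A.subtype_injective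
        have hSle : (S : Subgroup A) ≤ ((T : Subgroup G) ⊓ A).subgroupOf A := fun a ha =>
          mem_subgroupOf.2 ⟨hT (mem_map_of_mem _ ha), a.2⟩
        have := S.is_maximal' hp hSle
        refine huS ⟨⟨u, huA⟩, ?_, rfl⟩
        rw [← this]
        exact mem_subgroupOf.2 ⟨u.2, huA⟩
      have huN : (u : G) ∈ N := by
        have hs' : (u : G) * s * (u : G)⁻¹ ∈ Sg := (mem_normalizer_iff.1 hu s).1 hs
        have hsc' : (u : G) * s * (u : G)⁻¹ ∉ center G := fun hc => hsc (by
          have := Subgroup.Normal.conj_mem (inferInstance : (center G).Normal) _ hc (u : G)⁻¹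
          simpa [mul_assoc] using this)
        have e1 := hAeq s (map_subtype_le _ hs) hsc
        have e2 := hAeq _ (map_subtype_le _ hs') hsc'
        refine mem_normalizer_iff.2 fun a => ?_
        have key : a ∈ centralizer ({s} : Set G) ↔ (u : G) * a * (u : G)⁻¹ ∈ centralizer ({(u : G) * s * (u : G)⁻¹} : Set G) := by
          rw [mem_centralizer_singleton_iff, mem_centralizer_singleton_iff,
            show (u : G) * a * (u : G)⁻¹ * ((u : G) * s * (u : G)⁻¹) = u * (a * s) * (u : G)⁻¹ by group,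
            show (u : G) * s * (u : G)⁻¹ * ((u : G) * a * (u : G)⁻¹) = u * (s * a) * (u : G)⁻¹ by group,
            mul_left_inj, mul_right_inj]
        rw [e1, e2] at key
        exact key
      haveI hAnN : (A.subgroupOf N).Normal := (normal_subgroupOf_iff_le_normalizer hAN).2 le_rfl
      obtain ⟨i, hi⟩ := IsPGroup.iff_orderOf.1 T.2 u
      rw [← Subgroup.orderOf_coe] at hi
      have hd := orderOf_map_dvd (QuotientGroup.mk' (A.subgroupOf N)) ⟨(u : G), huN⟩
      rw [Subgroup.orderOf_mk, hi] at hd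
      obtain ⟨i', -, hi'⟩ := (Nat.dvd_prime_pow hr).1 hd
      have hi0 : i' ≠ 0 := fun h0 => by
        rw [h0, pow_zero, orderOf_eq_one_iff, QuotientGroup.mk'_apply, QuotientGroup.eq_one_iff] at hi'
        exact huA hi'
      exact (dvd_pow_self r hi0).trans (hi' ▸ orderOf_dvd_natCard _)
    refine normalizer_eq_top_iff.1 (index_eq_one.1 ?_)
    by_contra hne
    obtain ⟨r, hrp, hrN⟩ := Nat.exists_prime_and_dvd hne
    have hrn : r ∣ n := hmulN ▸ Dvd.dvd.mul_left hrN _
    exact hsq r hrp hrn (by rw [pow_two, ← hmulN]; exact mul_dvd_mul (hr r hrp hrn) hrN)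
  -- the contradiction
  obtain ⟨x₁, hx₁c, q₁, k₁, hq₁, hk₁⟩ : ∃ x₁ : G, x₁ ∉ center G ∧ ∃ q k : ℕ, q.Prime ∧ orderOf x₁ = q ^ k := by
    by_contra hcon
    push Not at hcon
    exact hx₀ (mem_of_primary _ x₀ fun y _ q k hq hk => by
      by_contra hyc
      exact hcon y hyc q k hq hk)
  obtain ⟨q, j, w, hq, hqr, hwc, hwj, hxw⟩ := hmix q₁ k₁ x₁ hq₁ hx₁c hk₁
  set A := centralizer ({x₁} : Set G) with hA
  haveI := Fact.mk hq₁
  have hqn : q₁ ∣ n := hdvd q₁ k₁ x₁ hq₁ hx₁c hk₁
  obtain ⟨R⟩ : Nonempty (Sylow q₁ G) := inferInstance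
  obtain ⟨u, hu, huA⟩ : ∃ u ∈ (R : Subgroup G), u ∉ A := by
    by_contra hcon
    push Not at hcon
    exact R.not_dvd_index ((hqn.trans (dvd_of_eq (index_eq h hx₁c).symm)).trans (index_dvd_of_le hcon))
  have huc : u ∉ center G := fun hc => huA (mem_centralizer_singleton_iff.2 (Subgroup.mem_center_iff.1 hc x₁).symm)
  haveI := hnormal u huc
  haveI := hnormal x₁ hx₁c
  have hwA : w ∈ A := mem_centralizer_singleton_iff.2 hxw.eq.symm
  set c := u * w * u⁻¹ * w⁻¹ with hc
  have hcA : c ∈ A := mul_mem (Normal.conj_mem inferInstance _ hwA u) (inv_mem hwA)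
  have hcu : c ∈ centralizer ({u} : Set G) := by
    rw [hc, show u * w * u⁻¹ * w⁻¹ = u * (w * u⁻¹ * w⁻¹) by group]
    exact mul_mem (mem_centralizer_singleton_iff.2 rfl)
      (Normal.conj_mem inferInstance _ (inv_mem (mem_centralizer_singleton_iff.2 rfl)) w)
  have hcc : c ∈ center G := by
    by_contra hcc
    have h1 := (habel hx₁c).2 c hcA hcc
    have h2 := (habel huc).2 c hcu hcc
    have hAu : centralizer ({x₁} : Set G) = centralizer ({u} : Set G) := h1.symm.trans h2
    exact huA (show u ∈ centralizer ({x₁} : Set G) by rw [hAu]; exact mem_centralizer_singleton_iff.2 rfl)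
  obtain ⟨i, hi⟩ := IsPGroup.iff_orderOf.1 R.2 ⟨u, hu⟩
  rw [Subgroup.orderOf_mk] at hi
  have h1 : c ^ orderOf u = 1 := by
    rw [← comm_pow_left hc.symm hcc, pow_orderOf_eq_one]; group
  have h2 : c ^ orderOf w = 1 := by
    rw [← comm_pow_right hc.symm hcc, pow_orderOf_eq_one]; group
  have hc1 : c = 1 := orderOf_eq_one_iff.1 (Nat.eq_one_of_dvd_coprimes
    (by rw [hi, hwj]; exact ((Nat.coprime_primes hq₁ hq).2 (Ne.symm hqr)).pow i j)
    (orderOf_dvd_of_pow_eq_one h1) (orderOf_dvd_of_pow_eq_one h2))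
  rw [hc, mul_inv_eq_one] at hc1
  exact hwc (hfix hx₁c u huA w hwA hc1)

theorem two_sizes (hn : 1 < n) (h : ∀ x : G, (centralizer ({x} : Set G)).index = 1 ∨ (centralizer ({x} : Set G)).index = n)
    (hex : ∃ x : G, (centralizer ({x} : Set G)).index = n) :
    ∃ (p : ℕ) (_ : Fact p.Prime) (a : ℕ), n = p ^ a ∧ ∀ P : Sylow p G, (P : Subgroup G).Normal ∧
      (∃ N : Subgroup G, N.Normal ∧ N.IsComplement' (P : Subgroup G) ∧ IsMulCommutative N ∧
        ∀ x ∈ N, ∀ y ∈ (P : Subgroup G), x * y = y * x) ∧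
      ∃ A : Subgroup (P : Subgroup G), A.Normal ∧ IsMulCommutative A ∧ ∀ y : (P : Subgroup G), y ^ p ∈ A := by
  classical
  obtain ⟨x₀, hx₀⟩ := hex
  have hx₀c : x₀ ∉ center G := fun hc => by rw [index_one_iff.2 hc] at hx₀; omega
  obtain ⟨r, k, x, hr, hxc, hk, hiso⟩ := exists_isolated h hx₀c
  haveI := Fact.mk hr
  -- elements of order prime to `r` are central
  have hq : ∀ (q j : ℕ) (y : G), q.Prime → q ≠ r → orderOf y = q ^ j → y ∈ center G := by
    intro q j y hq hne hj
    by_contra hy
    haveI := Fact.mk hq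
    obtain ⟨S⟩ : Nonempty (Sylow q (centralizer ({x} : Set G))) := inferInstance
    obtain ⟨s, hs, hsc⟩ := exists_noncentral h hxc hy hj S
    obtain ⟨s', hs', rfl⟩ := hs
    obtain ⟨i, hi⟩ := IsPGroup.iff_orderOf.1 S.2 ⟨s', hs'⟩
    rw [Subgroup.orderOf_mk, ← Subgroup.orderOf_coe] at hi
    exact hsc (hiso q i s' hq hne hi (mem_centralizer_singleton_iff.1 s'.2).symm)
  have hcop : ∀ y : G, (orderOf y).Coprime r → y ∈ center G := fun y hy =>
    mem_of_primary _ y fun w hw q j hqp hj => by
      rcases Nat.eq_zero_or_pos j with rfl | hj0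
      · rw [pow_zero, orderOf_eq_one_iff] at hj; rw [hj]; exact one_mem _
      refine hq q j w hqp ?_ hj
      rintro rfl
      exact hqp.not_dvd_one (by
        rw [← hy]
        exact Nat.dvd_gcd ((dvd_pow_self q hj0.ne').trans (hj ▸ orderOf_dvd_of_mem_zpowers hw)) dvd_rfl)
  let N : Subgroup G :=
    { carrier := {y | (orderOf y).Coprime r}
      one_mem' := by simp
      mul_mem' := fun {a b} ha hb => by
        have hc : Commute a b := (Subgroup.mem_center_iff.1 (hcop a ha) b).symm
        exact (ha.mul_left hb).coprime_dvd_left hc.orderOf_mul_dvd_mul_orderOf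
      inv_mem' := fun {a} ha => by simpa using ha }
  have hNc : N ≤ center G := fun y hy => hcop y hy
  have hNn : N.Normal := ⟨fun a ha g => by
    rw [Subgroup.mem_center_iff.1 (hNc ha) g, mul_inv_cancel_right]; exact ha⟩
  have hNcard : (Nat.card N).Coprime r := by
    rw [Nat.coprime_comm, hr.coprime_iff_not_dvd]
    intro hd
    obtain ⟨a, ha⟩ := exists_prime_orderOf_dvd_card' r hd
    have := a.2
    change (orderOf (a : G)).Coprime r at this
    rw [Subgroup.orderOf_coe, ha, Nat.coprime_self] at this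
    exact hr.ne_one this
  have hQN : ∀ (q : ℕ) [Fact q.Prime], q ≠ r → ∀ Q : Sylow q G, (Q : Subgroup G) ≤ N := by
    intro q hqf hne Q a ha
    obtain ⟨i, hi⟩ := IsPGroup.iff_orderOf.1 Q.2 ⟨a, ha⟩
    rw [Subgroup.orderOf_mk] at hi
    show (orderOf a).Coprime r
    rw [hi]
    exact ((Nat.coprime_primes hqf.out hr).2 hne).pow_left i
  have hdvdn : ∀ q : ℕ, q.Prime → q ∣ n → q = r := by
    intro q hqp hqn
    by_contra hne
    haveI := Fact.mk hqp
    obtain ⟨Q⟩ : Nonempty (Sylow q G) := inferInstance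
    refine Q.not_dvd_index (dvd_trans ((index_eq h hxc).symm ▸ hqn) (index_dvd_of_le ?_))
    exact fun a ha => mem_centralizer_singleton_iff.2 (Subgroup.mem_center_iff.1 (hNc (hQN q hne Q ha)) x).symm
  refine ⟨r, inferInstance, n.primeFactorsList.length,
    Nat.eq_prime_pow_of_unique_prime_dvd (by omega) (fun {d} hd hdn => hdvdn d hd hdn), fun P => ?_⟩
  have hcomm : ∀ a ∈ N, ∀ b : G, a * b = b * a := fun a ha b => (Subgroup.mem_center_iff.1 (hNc ha) b).symm
  have hmul : Nat.card N * Nat.card (P : Subgroup G) = Nat.card G := by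
    obtain ⟨e, he⟩ := IsPGroup.iff_card.1 P.2
    refine Nat.dvd_antisymm (Nat.Coprime.mul_dvd_of_dvd_of_dvd (by rw [he]; exact hNcard.pow_right e)
      (card_subgroup_dvd_card N) (card_subgroup_dvd_card _)) ?_
    refine (Nat.dvd_iff_prime_pow_dvd_dvd _ _).2 fun q i hqp hd => ?_
    haveI := Fact.mk hqp
    rcases eq_or_ne q r with rfl | hne
    · exact Dvd.dvd.mul_left (P.pow_dvd_card_of_pow_dvd_card hd) _
    · obtain ⟨Q⟩ : Nonempty (Sylow q G) := inferInstance
      exact Dvd.dvd.mul_right ((Q.pow_dvd_card_of_pow_dvd_card hd).trans (card_dvd_of_le (hQN q hne Q))) _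
  have hcompl : N.IsComplement' (P : Subgroup G) := by
    obtain ⟨e, he⟩ := IsPGroup.iff_card.1 P.2
    exact isComplement'_of_coprime hmul (by rw [he]; exact hNcard.pow_right e)
  have hsup : N ⊔ (P : Subgroup G) = ⊤ := hcompl.sup_eq_top
  have hcompl' : ∀ K : Subgroup G, (P : Subgroup G) ≤ normalizer (K : Set G) → K.Normal := fun K hK =>
    normalizer_eq_top_iff.1 (top_le_iff.1 (hsup ▸ sup_le (fun a ha => mem_normalizer_iff.2 fun b => by
      rw [hcomm a ha b, mul_inv_cancel_right]) hK))
  refine ⟨hcompl' _ le_normalizer, ⟨N, hNn, hcompl, ⟨⟨fun a b => Subtype.ext (hcomm a a.2 b)⟩⟩,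
    fun a ha b _ => hcomm a ha b⟩, ?_⟩
  haveI : Group.IsNilpotent (P : Subgroup G) := P.isPGroup'.isNilpotent
  obtain ⟨A, ⟨hAn, hA⟩, hAmax⟩ := WellFounded.has_min (wellFounded_gt (α := Subgroup (P : Subgroup G)))
    {A : Subgroup (P : Subgroup G) | A.Normal ∧ IsMulCommutative A}
    ⟨⊥, inferInstance, ⟨⟨fun a b => Subsingleton.elim _ _⟩⟩⟩
  haveI := hAn
  haveI := hA
  have hCA := CfsgLib.Core.centralizer_eq_of_maximal_abelian_normal A fun M hMn hMc hAM => by
    by_contra hne
    exact hAmax M ⟨hMn, hMc⟩ (lt_of_le_of_ne hAM (Ne.symm hne))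
  refine ⟨A, hAn, hA, fun y => ?_⟩
  rw [← hCA, mem_centralizer_iff]
  intro a ha
  set Ag := A.map (P : Subgroup G).subtype with hAg
  haveI : Ag.Normal := hcompl' Ag (by
    intro g hg
    refine mem_normalizer_iff.2 fun b => ⟨?_, ?_⟩
    · rintro ⟨b', hb', rfl⟩
      exact ⟨⟨g, hg⟩ * b' * ⟨g, hg⟩⁻¹, hAn.conj_mem b' hb' _, rfl⟩
    · rintro ⟨b', hb', hbb⟩
      refine ⟨⟨g, hg⟩⁻¹ * b' * ⟨g, hg⟩⁻¹⁻¹, hAn.conj_mem b' hb' _, ?_⟩
      change g⁻¹ * (b' : G) * g⁻¹⁻¹ = b
      rw [show (b' : G) = g * b * g⁻¹ from hbb]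
      group)
  have hAgc : IsMulCommutative Ag := ⟨⟨fun s t => Subtype.ext (by
    obtain ⟨s', hs', hs''⟩ := s.2
    obtain ⟨t', ht', ht''⟩ := t.2
    show (s : G) * t = t * s
    rw [← hs'', ← ht'']
    exact congrArg (fun q : (P : Subgroup G) => (q : G)) (congrArg Subtype.val (mul_comm' (⟨s', hs'⟩ : A) ⟨t', ht'⟩)))⟩⟩
  refine Subtype.ext ?_
  show (a : G) * (y : G) ^ r = (y : G) ^ r * a
  by_cases hac : (a : G) ∈ center G
  · exact (Subgroup.mem_center_iff.1 hac _).symm
  have hmin : ∀ (v : G) (b : G), b ∈ Ag → b * v * b⁻¹ * v⁻¹ ∈ center G := by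
    intro v b hb
    by_cases hv : v ∈ center G
    · rw [Subgroup.mem_center_iff.1 hv b, mul_inv_cancel_right, mul_inv_cancel]; exact one_mem _
    · refine CfsgLib.ClassSizes.MinimalClass.commutator_mem_center Ag hAgc (fun u hu => ?_) hb
      rw [index_eq h hv, index_eq h hu]
  have hag : (a : G) ∈ Ag := mem_map_of_mem _ ha
  -- the `r`th power of `a` is central
  have har : (a : G) ^ r ∈ center G := by
    by_contra harc
    have heq : centralizer ({(a : G)} : Set G) = centralizer ({(a : G) ^ r} : Set G) :=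
      centralizer_eq h hac harc (centralizer_le_of_mem (npow_mem_zpowers _ _))
    obtain ⟨v, hv⟩ : ∃ v : G, ¬ Commute (a : G) v := by
      by_contra hc
      push Not at hc
      exact hac (Subgroup.mem_center_iff.2 fun g => (hc g).eq.symm)
    set c := (a : G) * v * (a : G)⁻¹ * v⁻¹ with hc
    have hcc : c ∈ center G := hmin v a hag
    obtain ⟨m, hm⟩ := IsPGroup.iff_orderOf.1 P.2 a
    rw [← Subgroup.orderOf_coe] at hm
    have hcpow : c ^ r ^ m = 1 := by
      rw [← comm_pow_left hc.symm hcc, ← hm, pow_orderOf_eq_one]; group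
    have hex2 : ∃ i, c ^ r ^ i = 1 := ⟨m, hcpow⟩
    have hi0 : Nat.find hex2 ≠ 0 := fun h0 => by
      have := Nat.find_spec hex2
      rw [h0, pow_zero, pow_one, hc, mul_inv_eq_one, mul_inv_eq_iff_eq_mul] at this
      exact hv this
    set i := Nat.find hex2 - 1 with hi
    have hci : c ^ r ^ i ≠ 1 := Nat.find_min hex2 (by omega)
    apply hci
    have h1 : v ^ r ^ i ∈ centralizer ({(a : G) ^ r} : Set G) := by
      refine mem_centralizer_singleton_iff.2 ?_
      have h2 := comm_pow_right (comm_pow_left hc.symm hcc r) (pow_mem hcc r) (r ^ i)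
      rw [← pow_mul, ← pow_succ', show i + 1 = Nat.find hex2 by omega, Nat.find_spec hex2, mul_inv_eq_one,
        mul_inv_eq_iff_eq_mul] at h2
      exact h2.symm
    rw [← heq, mem_centralizer_singleton_iff] at h1
    rw [← comm_pow_right hc.symm hcc, ← h1, mul_inv_cancel_right, mul_inv_cancel]
  set c := (a : G) * y * (a : G)⁻¹ * (y : G)⁻¹ with hc
  have hcc : c ∈ center G := hmin y a hag
  have h1 := comm_pow_left hc.symm hcc r
  rw [← Subgroup.mem_center_iff.1 har y, mul_inv_cancel_right, mul_inv_cancel] at h1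
  have h2 := comm_pow_right hc.symm hcc r
  rw [← h1, mul_inv_eq_one, mul_inv_eq_iff_eq_mul] at h2
  exact h2

end CfsgLib.ClassSizes.TwoSizes
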