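import Cfsg.Agent.Lib.ClassSizes.Basic

/-!
Counting commuting pairs, index arithmetic, Sylow subgroups and normal subgroups.
-/

namespace CfsgLib.ClassSizes

variable {G : Type*} [Group G]

theorem sum_card_centralizer (G : Type*) [Group G] [Fintype G] :
    ∑ g : G, Nat.card (Subgroup.centralizer ({g} : Set G)) = Nat.card (ConjClasses G) * Nat.card G := by
  rw [← card_comm_eq_card_conjClasses_mul_card, ← Nat.card_sigma]
  exact Nat.card_congr
    { toFun := fun x => ⟨(x.1, x.2.1), (Subgroup.mem_centralizer_singleton_iff.1 x.2.2).symm⟩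
      invFun := fun x => ⟨x.1.1, x.1.2, Subgroup.mem_centralizer_singleton_iff.2 x.2.symm⟩
      left_inv := fun _ => rfl
      right_inv := fun _ => rfl }

theorem relIndex_le_index [Finite G] (H K : Subgroup G) : H.relIndex K ≤ H.index := by
  rw [← Subgroup.relIndex_top_right]
  exact Subgroup.relIndex_le_of_le_right le_top (Subgroup.index_ne_zero_of_finite)

theorem exists_mul_of_relIndex_eq_index [Finite G] {A B : Subgroup G} (h : B.relIndex A = B.index)
    (g : G) : ∃ a ∈ A, ∃ b ∈ B, g = a * b := by
  let f : A ⧸ B.subgroupOf A → G ⧸ B :=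
    Quotient.map' Subtype.val fun x y hxy => by
      rw [QuotientGroup.leftRel_apply] at hxy ⊢; exact hxy
  have hinj : Function.Injective f := by
    intro x y
    induction x using QuotientGroup.induction_on
    induction y using QuotientGroup.induction_on
    intro hxy
    rw [QuotientGroup.eq, Subgroup.mem_subgroupOf]
    exact QuotientGroup.eq.1 hxy
  obtain ⟨q, hq⟩ := ((Nat.bijective_iff_injective_and_card f).2 ⟨hinj, h⟩).2 (QuotientGroup.mk g)
  induction q using QuotientGroup.induction_on with
  | H a => exact ⟨a, a.2, (a : G)⁻¹ * g, QuotientGroup.eq.1 hq, by group⟩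

/-- Subgroups of coprime index factorize the group. -/
theorem exists_mul_of_coprime_index [Finite G] {A B : Subgroup G} (h : A.index.Coprime B.index)
    (g : G) : ∃ a ∈ A, ∃ b ∈ B, g = a * b := by
  refine exists_mul_of_relIndex_eq_index (le_antisymm (relIndex_le_index _ _) ?_) g
  refine Nat.le_of_dvd (Nat.pos_of_ne_zero Subgroup.index_ne_zero_of_finite) (h.symm.dvd_of_dvd_mul_right ?_)
  have h1 : B.index ∣ (B ⊓ A).index := Subgroup.index_dvd_of_le inf_le_left
  rwa [← Subgroup.relIndex_mul_index (inf_le_right : B ⊓ A ≤ A), Subgroup.inf_relIndex_right] at h1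

/-- `|H| = |H ∩ K| * |H : H ∩ K|`. -/
theorem card_inf_mul_relIndex (H K : Subgroup G) :
    Nat.card ↥(H ⊓ K) * K.relIndex H = Nat.card H := by
  have h := Subgroup.relIndex_mul_relIndex (⊥ : Subgroup G) (H ⊓ K) H bot_le inf_le_left
  rwa [Subgroup.relIndex_bot_left, Subgroup.relIndex_bot_left, Subgroup.inf_relIndex_left] at h

variable [Finite G] {p : ℕ} [Fact p.Prime]

/-- Image of a Sylow subgroup in a quotient. -/
theorem not_dvd_index_map_sylow (P : Sylow p G) (N : Subgroup G) [N.Normal] :
    ¬ p ∣ ((P : Subgroup G).map (QuotientGroup.mk' N)).index := fun h =>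
  P.not_dvd_index (h.trans (Subgroup.index_map_dvd _ (QuotientGroup.mk'_surjective N)))

theorem card_map_sylow_mul (P : Sylow p G) (N : Subgroup G) [N.Normal] :
    Nat.card ((P : Subgroup G).map (QuotientGroup.mk' N)) * Nat.card ↥((P : Subgroup G) ⊓ N) =
      Nat.card (P : Subgroup G) := by
  have h1 : (QuotientGroup.mk' N).ker.relIndex (P : Subgroup G) =
      Nat.card ((P : Subgroup G).map (QuotientGroup.mk' N)) := Subgroup.relIndex_ker _ _
  rw [← h1, QuotientGroup.ker_mk', ← Subgroup.inf_relIndex_left]
  rw [← Subgroup.relIndex_bot_left, ← Subgroup.relIndex_bot_left (H := (P : Subgroup G)), mul_comm]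
  exact Subgroup.relIndex_mul_relIndex _ _ _ bot_le inf_le_left

end CfsgLib.ClassSizes
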