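import Mathlib

/-!
The Brauer–Wielandt formula `|H| |C(a,b)|^2 = |C(a)| |C(b)| |C(ab)|` for commuting involutory
automorphisms of a finite group of odd order.
-/

set_option autoImplicit false

namespace CfsgLib.ClassSizes.BWFour

variable {H : Type*} [Group H] [Finite H]

/-- fixed points in a subgroup `K` split off the inverted elements -/
theorem card_eq_fixed_mul_inverted (hodd : Odd (Nat.card H)) (a : H ≃* H) (ha : ∀ x, a (a x) = x)
    (K : Subgroup H) (hK : ∀ x ∈ K, a x ∈ K) :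
    Nat.card K = Nat.card {x : H // x ∈ K ∧ a x = x} * Nat.card {x : H // x ∈ K ∧ a x = x⁻¹} := by
  obtain ⟨j, hj⟩ := hodd
  have hpow : ∀ x : H, (x ^ (j + 1)) ^ 2 = x := fun x => by
    rw [← pow_mul, show (j + 1) * 2 = Nat.card H + 1 by omega, pow_succ, pow_card_eq_one', one_mul]
  have hsq : ∀ x y : H, x ^ 2 = y ^ 2 → x = y := fun x y h => by
    rw [← hpow x, ← hpow y, ← pow_mul, ← pow_mul, mul_comm (j + 1) 2, pow_mul, pow_mul, h]
  rw [← Nat.card_prod]
  refine (Nat.card_eq_of_bijective (fun p : {x : H // x ∈ K ∧ a x = x} × {x : H // x ∈ K ∧ a x = x⁻¹} =>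
    (⟨p.1.1 * p.2.1, K.mul_mem p.1.2.1 p.2.2.1⟩ : K)) ⟨fun p q h => ?_, fun x => ?_⟩).symm
  · have h' : p.1.1 * p.2.1 = q.1.1 * q.2.1 := congrArg Subtype.val h
    have h2 : p.1.1 * p.2.1⁻¹ = q.1.1 * q.2.1⁻¹ := by
      have := congrArg a h'
      rwa [map_mul, map_mul, p.1.2.2, p.2.2.2, q.1.2.2, q.2.2.2] at this
    have h3 : p.2.1 ^ 2 = q.2.1 ^ 2 := by
      calc p.2.1 ^ 2 = (p.1.1 * p.2.1⁻¹)⁻¹ * (p.1.1 * p.2.1) := by rw [pow_two]; group
        _ = (q.1.1 * q.2.1⁻¹)⁻¹ * (q.1.1 * q.2.1) := by rw [h', h2]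
        _ = q.2.1 ^ 2 := by rw [pow_two]; group
    have e2 := hsq _ _ h3
    rw [e2] at h'
    exact Prod.ext (Subtype.ext (mul_right_cancel h')) (Subtype.ext e2)
  · set d := (a (x : H))⁻¹ * x with hd
    set i := d ^ (j + 1) with hi
    have hdK : d ∈ K := K.mul_mem (K.inv_mem (hK _ x.2)) x.2
    have had : a d = d⁻¹ := by rw [hd, map_mul, map_inv, ha, mul_inv_rev, inv_inv]
    have hai : a i = i⁻¹ := by rw [hi, map_pow, had, inv_pow]
    have hai2 : i ^ 2 = d := hpow d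
    refine ⟨(⟨(x : H) * i⁻¹, K.mul_mem x.2 (K.inv_mem (K.pow_mem hdK _)), ?_⟩,
      ⟨i, K.pow_mem hdK _, hai⟩), Subtype.ext (by simp)⟩
    rw [map_mul, map_inv, hai, inv_inv]
    calc a (x : H) * i = a (x : H) * i ^ 2 * i⁻¹ := by group
      _ = a (x : H) * ((a (x : H))⁻¹ * x) * i⁻¹ := by rw [hai2]
      _ = _ := by group

/-- the inverted elements of `a` factor through those fixed or inverted by `b` -/
theorem card_inverted (hodd : Odd (Nat.card H)) (a b : H ≃* H) (hb : ∀ x, b (b x) = x)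
    (hab : ∀ x, a (b x) = b (a x)) :
    Nat.card {x : H // a x = x⁻¹} =
      Nat.card {x : H // b x = x ∧ a x = x⁻¹} * Nat.card {x : H // b x = x⁻¹ ∧ a x = x⁻¹} := by
  obtain ⟨j, hj⟩ := hodd
  have hpow : ∀ x : H, (x ^ (j + 1)) ^ 2 = x := fun x => by
    rw [← pow_mul, show (j + 1) * 2 = Nat.card H + 1 by omega, pow_succ, pow_card_eq_one', one_mul]
  have hsq : ∀ x y : H, x ^ 2 = y ^ 2 → x = y := fun x y h => by
    rw [← hpow x, ← hpow y, ← pow_mul, ← pow_mul, mul_comm (j + 1) 2, pow_mul, pow_mul, h]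
  rw [← Nat.card_prod]
  refine (Nat.card_eq_of_bijective
    (fun p : {x : H // b x = x ∧ a x = x⁻¹} × {x : H // b x = x⁻¹ ∧ a x = x⁻¹} =>
    (⟨p.1.1 * p.2.1 * p.1.1, by rw [map_mul, map_mul, p.1.2.2, p.2.2.2]; group⟩ : {x : H // a x = x⁻¹}))
    ⟨fun p q h => ?_, fun x => ?_⟩).symm
  · have h1 : p.1.1 * p.2.1 * p.1.1 = q.1.1 * q.2.1 * q.1.1 := congrArg Subtype.val h
    set y := p.1.1 * p.2.1 * p.1.1 with hy
    have hby : ∀ (c i : H), b c = c → b i = i⁻¹ → y = c * i * c → (y⁻¹ * c ^ 2) ^ 2 = y⁻¹ * b y := by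
      intro c i hc hi hyc
      rw [hyc, map_mul, map_mul, hc, hi]
      simp only [pow_two]
      group
    have e := hsq _ _ ((hby _ _ p.1.2.1 p.2.2.1 rfl).trans (hby _ _ q.1.2.1 q.2.2.1 h1).symm)
    have e1 := hsq _ _ (mul_left_cancel e)
    rw [hy, e1] at h1
    exact Prod.ext (Subtype.ext e1) (Subtype.ext (mul_left_cancel (mul_right_cancel h1)))
  · obtain ⟨x, hax⟩ := x
    set d := x⁻¹ * b x with hd
    set r := d ^ (j + 1) with hr
    set m := x * r with hm
    set c := m ^ (j + 1) with hc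
    have hbd : b d = d⁻¹ := by rw [hd, map_mul, map_inv, hb, mul_inv_rev, inv_inv]
    have hbm : b m = m := by
      rw [hm, map_mul, hr, map_pow, hbd, inv_pow, ← hr]
      calc b x * r⁻¹ = x * r ^ 2 * r⁻¹ := by rw [hpow d, hd]; group
        _ = x * r := by group
    have had : a d = x * d⁻¹ * x⁻¹ := by
      rw [hd, map_mul, map_inv, hax, hab, hax, map_inv]
      group
    have ham : a m = m⁻¹ := by
      rw [hm, map_mul, hax, hr, map_pow, had, conj_pow, inv_pow]
      group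
    have hbc : b c = c := by rw [hc, map_pow, hbm]
    have hac : a c = c⁻¹ := by rw [hc, map_pow, ham, inv_pow]
    have hc2 : c ^ 2 = m := hpow m
    refine ⟨(⟨c, hbc, hac⟩, ⟨c⁻¹ * x * c⁻¹, ?_, ?_⟩), Subtype.ext ?_⟩
    · rw [map_mul, map_mul, map_inv, hbc]
      have : b x = m * x⁻¹ * m := by
        calc b x = x * r ^ 2 := by rw [hpow d, hd]; group
          _ = m * x⁻¹ * m := by rw [hm, pow_two]; group
      rw [this, ← hc2]
      group
    · rw [map_mul, map_mul, map_inv, hac, hax]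
      group
    · show c * (c⁻¹ * x * c⁻¹) * c = x
      group

/-- Brauer–Wielandt -/
theorem brauer_wielandt (hodd : Odd (Nat.card H)) (a b : H ≃* H) (ha : ∀ x, a (a x) = x)
    (hb : ∀ x, b (b x) = x) (hab : ∀ x, a (b x) = b (a x)) :
    Nat.card H * Nat.card {x : H // a x = x ∧ b x = x} ^ 2 =
      Nat.card {x : H // a x = x} * Nat.card {x : H // b x = x} * Nat.card {x : H // a (b x) = x} := by
  have h0 := card_eq_fixed_mul_inverted hodd a ha ⊤ (fun x _ => Subgroup.mem_top _)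
  rw [Subgroup.card_top, Nat.card_congr (Equiv.subtypeEquivRight (fun x => by simp) :
      {x : H // x ∈ (⊤ : Subgroup H) ∧ a x = x} ≃ {x : H // a x = x}),
    Nat.card_congr (Equiv.subtypeEquivRight (fun x => by simp) :
      {x : H // x ∈ (⊤ : Subgroup H) ∧ a x = x⁻¹} ≃ {x : H // a x = x⁻¹}),
    card_inverted hodd a b hb hab] at h0
  let Kb : Subgroup H :=
    { carrier := {x | b x = x}
      one_mem' := map_one b
      mul_mem' := fun {x y} (hx : b x = x) (hy : b y = y) => show b (x * y) = x * y by rw [map_mul, hx, hy]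
      inv_mem' := fun {x} (hx : b x = x) => show b x⁻¹ = x⁻¹ by rw [map_inv, hx] }
  let Kc : Subgroup H :=
    { carrier := {x | a (b x) = x}
      one_mem' := show a (b 1) = 1 by rw [map_one, map_one]
      mul_mem' := fun {x y} (hx : a (b x) = x) (hy : a (b y) = y) =>
        show a (b (x * y)) = x * y by rw [map_mul, map_mul, hx, hy]
      inv_mem' := fun {x} (hx : a (b x) = x) => show a (b x⁻¹) = x⁻¹ by rw [map_inv, map_inv, hx] }
  have h1 := card_eq_fixed_mul_inverted hodd a ha Kb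
    (fun x (hx : b x = x) => show b (a x) = a x by rw [← hab, hx])
  have h2 := card_eq_fixed_mul_inverted hodd a ha Kc
    (fun x (hx : a (b x) = x) => show a (b (a x)) = a x by rw [← hab, hx])
  have e1 : Nat.card Kb = Nat.card {x : H // b x = x} := rfl
  have e2 : Nat.card Kc = Nat.card {x : H // a (b x) = x} := rfl
  have e3 : Nat.card {x : H // x ∈ Kb ∧ a x = x} = Nat.card {x : H // a x = x ∧ b x = x} :=
    Nat.card_congr (Equiv.subtypeEquivRight fun x => ⟨fun h => ⟨h.2, h.1⟩, fun h => ⟨h.2, h.1⟩⟩)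
  have e4 : Nat.card {x : H // x ∈ Kc ∧ a x = x} = Nat.card {x : H // a x = x ∧ b x = x} :=
    Nat.card_congr (Equiv.subtypeEquivRight fun x => by
      show a (b x) = x ∧ a x = x ↔ _
      constructor
      · rintro ⟨h1, h2⟩; exact ⟨h2, a.injective (h1.trans h2.symm)⟩
      · rintro ⟨h1, h2⟩; exact ⟨by rw [h2, h1], h1⟩)
  have e5 : Nat.card {x : H // x ∈ Kb ∧ a x = x⁻¹} = Nat.card {x : H // b x = x ∧ a x = x⁻¹} :=
    Nat.card_congr (Equiv.subtypeEquivRight fun x => Iff.rfl)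
  have e6 : Nat.card {x : H // x ∈ Kc ∧ a x = x⁻¹} = Nat.card {x : H // b x = x⁻¹ ∧ a x = x⁻¹} :=
    Nat.card_congr (Equiv.subtypeEquivRight fun x => by
      show a (b x) = x ∧ a x = x⁻¹ ↔ _
      constructor
      · rintro ⟨h1, h2⟩
        refine ⟨a.injective ?_, h2⟩
        rw [h1, map_inv, h2, inv_inv]
      · rintro ⟨h1, h2⟩; exact ⟨by rw [h1, map_inv, h2, inv_inv], h2⟩)
  rw [e1, e3, e5] at h1
  rw [e2, e4, e6] at h2
  rw [h0, h1, h2]
  ring

end CfsgLib.ClassSizes.BWFour
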