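import Mathlib

/-!
Class numbers of symmetric and alternating groups, through partitions.
-/

set_option linter.style.haveILetI false

namespace CfsgLib.ClassSizes

open Equiv Multiset

theorem card_partition_five : Nat.card (Nat.Partition 5) ≤ 8 := by
  let s : Finset (ℕ × ℕ × ℕ × ℕ) :=
    (Finset.range 3 ×ˢ Finset.range 2 ×ˢ Finset.range 2 ×ˢ Finset.range 2).filter
      fun t => 2 * t.1 + 3 * t.2.1 + 4 * t.2.2.1 + 5 * t.2.2.2 ≤ 5
  have hs : s.card ≤ 8 := by decide
  have hsum : ∀ P : Nat.Partition 5, P.parts.count 1 * 1 + P.parts.count 2 * 2 + P.parts.count 3 * 3 +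
      P.parts.count 4 * 4 + P.parts.count 5 * 5 = 5 := by
    intro P
    have hp : P.parts.toFinset ⊆ Finset.Icc 1 5 := fun i hi => by
      rw [Multiset.mem_toFinset] at hi
      exact Finset.mem_Icc.2 ⟨P.parts_pos hi, Nat.Partition.le_of_mem_parts hi⟩
    have h1 : ∑ m ∈ P.parts.toFinset, P.parts.count m * m = 5 := by
      refine Eq.trans ?_ P.parts_sum
      rw [Finset.sum_multiset_count]
      exact Finset.sum_congr rfl fun m _ => (smul_eq_mul _ _).symm
    rw [Finset.sum_subset hp fun m _ hm => by
      rw [Multiset.mem_toFinset, ← Multiset.count_eq_zero] at hm; rw [hm, zero_mul]] at h1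
    rw [show Finset.Icc 1 5 = {1, 2, 3, 4, 5} by decide] at h1
    simpa [add_assoc] using h1
  let f : Nat.Partition 5 → s := fun P =>
    ⟨(P.parts.count 2, P.parts.count 3, P.parts.count 4, P.parts.count 5), by
      have := hsum P
      simp only [s, Finset.mem_filter, Finset.mem_product, Finset.mem_range]
      omega⟩
  have hf : Function.Injective f := by
    intro P Q h
    have h' := congrArg Subtype.val h
    simp only [f, Prod.mk.injEq] at h'
    refine Nat.Partition.ext (Multiset.ext.2 fun i => ?_)
    have hP := hsum P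
    have hQ := hsum Q
    by_cases hi : 1 ≤ i ∧ i ≤ 5
    · obtain ⟨h2, h3, h4, h5⟩ := h'
      obtain ⟨hi1, hi5⟩ := hi
      interval_cases i <;> omega
    · have h0 : ∀ R : Nat.Partition 5, R.parts.count i = 0 := fun R => Multiset.count_eq_zero.2 fun hm =>
        hi ⟨R.parts_pos hm, Nat.Partition.le_of_mem_parts hm⟩
      rw [h0, h0]
  refine (Nat.card_le_card_of_injective f hf).trans ?_
  rw [Nat.card_eq_fintype_card, Fintype.card_coe]
  exact hs

theorem card_partition_succ_le (n : ℕ) : Nat.card (Nat.Partition (n + 1)) ≤ 2 * Nat.card (Nat.Partition n) := by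
  classical
  rw [two_mul, ← Nat.card_sum]
  have hne : ∀ P : Nat.Partition (n + 1), P.parts.toFinset.Nonempty := fun P => by
    rw [Multiset.toFinset_nonempty]
    intro h
    have := P.parts_sum
    rw [h, Multiset.sum_zero] at this
    omega
  let mn : Nat.Partition (n + 1) → ℕ := fun P => P.parts.toFinset.min' (hne P)
  have hmn : ∀ P, mn P ∈ P.parts := fun P => Multiset.mem_toFinset.1 (Finset.min'_mem _ _)
  have hle : ∀ P, ∀ i ∈ P.parts, mn P ≤ i := fun P i hi => Finset.min'_le _ _ (Multiset.mem_toFinset.2 hi)
  let f : Nat.Partition (n + 1) → Nat.Partition n ⊕ Nat.Partition n := fun P =>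
    if h1 : 1 ∈ P.parts then
      Sum.inl ⟨P.parts.erase 1, fun hi => P.parts_pos (Multiset.mem_of_mem_erase hi), by
        have := congrArg Multiset.sum (Multiset.cons_erase h1)
        rw [Multiset.sum_cons, P.parts_sum] at this
        omega⟩
    else
      Sum.inr ⟨(mn P - 1) ::ₘ P.parts.erase (mn P), fun {i} hi => by
          rcases Multiset.mem_cons.1 hi with rfl | hi
          · have := P.parts_pos (hmn P)
            have : mn P ≠ 1 := fun h => h1 (by have := hmn P; rwa [h] at this)
            omega
          · exact P.parts_pos (Multiset.mem_of_mem_erase hi), by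
        have := congrArg Multiset.sum (Multiset.cons_erase (hmn P))
        rw [Multiset.sum_cons, P.parts_sum] at this
        rw [Multiset.sum_cons]
        have := P.parts_pos (hmn P)
        omega⟩
  refine Nat.card_le_card_of_injective f fun P Q h => Nat.Partition.ext ?_
  simp only [f] at h
  by_cases hP : 1 ∈ P.parts <;> by_cases hQ : 1 ∈ Q.parts <;> simp only [dif_pos, dif_neg, hP, hQ, not_false_eq_true, reduceCtorEq] at h
  · have h2 : P.parts.erase 1 = Q.parts.erase 1 := congrArg Nat.Partition.parts (Sum.inl.inj h)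
    rw [← Multiset.cons_erase hP, ← Multiset.cons_erase hQ, h2]
  · have h2 : (mn P - 1) ::ₘ P.parts.erase (mn P) = (mn Q - 1) ::ₘ Q.parts.erase (mn Q) :=
      congrArg Nat.Partition.parts (Sum.inr.inj h)
    have key : ∀ (A B : Nat.Partition (n + 1)), (mn A - 1) ::ₘ A.parts.erase (mn A) =
        (mn B - 1) ::ₘ B.parts.erase (mn B) → mn A ≤ mn B := by
      intro A B hAB
      have h3 : mn B - 1 ∈ (mn A - 1) ::ₘ A.parts.erase (mn A) := hAB ▸ Multiset.mem_cons_self _ _
      have h4 := B.parts_pos (hmn B)
      rcases Multiset.mem_cons.1 h3 with h5 | h5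
      · have := A.parts_pos (hmn A)
        omega
      · have := hle A _ (Multiset.mem_of_mem_erase h5)
        omega
    have he : mn P = mn Q := le_antisymm (key P Q h2) (key Q P h2.symm)
    rw [he] at h2
    rw [← Multiset.cons_erase (hmn P), ← Multiset.cons_erase (hmn Q), he, (Multiset.cons_inj_right _).1 h2]

theorem card_partition_le_two_pow (n : ℕ) (hn : 5 ≤ n) : Nat.card (Nat.Partition n) ≤ 2 ^ (n - 2) := by
  induction n, hn using Nat.le_induction with
  | base => exact card_partition_five.trans (by norm_num)
  | succ n hn ih =>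
    refine (card_partition_succ_le n).trans ?_
    rw [show n + 1 - 2 = (n - 2) + 1 by omega, pow_succ]
    omega

variable (α : Type*) [Fintype α] [DecidableEq α]

/-- The partition of a conjugacy class of permutations. -/
noncomputable def classPartition : ConjClasses (Perm α) → Nat.Partition (Fintype.card α) :=
  Quotient.lift (fun σ => σ.partition) fun _ _ h => Perm.partition_eq_of_isConj.1 h

theorem classPartition_bijective : Function.Bijective (classPartition α) := by
  refine ⟨fun a b => ?_, fun P => ?_⟩
  · obtain ⟨σ, rfl⟩ := ConjClasses.mk_surjective a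
    obtain ⟨τ, rfl⟩ := ConjClasses.mk_surjective b
    intro h
    exact ConjClasses.mk_eq_mk_iff_isConj.2 (Perm.partition_eq_of_isConj.2 h)
  · obtain ⟨g, hg⟩ : ∃ g : Perm α, g.cycleType = P.parts.filter fun i => 2 ≤ i := by
      rw [Perm.exists_with_cycleType_iff]
      refine ⟨?_, fun a ha => (Multiset.mem_filter.1 ha).2⟩
      conv_rhs => rw [← P.parts_sum, ← Multiset.filter_add_not (fun i => 2 ≤ i) P.parts, Multiset.sum_add]
      exact Nat.le_add_right _ _
    refine ⟨ConjClasses.mk g, Nat.Partition.ext ?_⟩
    change g.partition.parts = P.parts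
    rw [Perm.parts_partition, ← Perm.sum_cycleType, hg]
    conv_rhs => rw [← Multiset.filter_add_not (fun i => 2 ≤ i) P.parts]
    congr 1
    have hall : ∀ i ∈ P.parts.filter (fun i => ¬ 2 ≤ i), i = 1 := fun i hi => by
      have := P.parts_pos (Multiset.mem_filter.1 hi).1
      have := (Multiset.mem_filter.1 hi).2
      omega
    have hrep := Multiset.eq_replicate_of_mem hall
    have hsum := congrArg Multiset.sum (Multiset.filter_add_not (fun i => 2 ≤ i) P.parts)
    rw [Multiset.sum_add, P.parts_sum, hrep, Multiset.sum_replicate, smul_eq_mul, mul_one] at hsum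
    rw [hrep]
    congr 1
    omega

/-- An even permutation class. -/
def IsEvenPartition {n : ℕ} (P : Nat.Partition n) : Prop := Even (n + P.parts.card)

/-- Distinct odd parts. -/
def IsSplitPartition {n : ℕ} (P : Nat.Partition n) : Prop := (∀ i ∈ P.parts, Odd i) ∧ P.parts.Nodup

theorem card_conjClasses_alternatingGroup_le :
    Nat.card (ConjClasses (alternatingGroup α)) ≤
      Nat.card {P : Nat.Partition (Fintype.card α) // IsEvenPartition P} +
        Nat.card {P : Nat.Partition (Fintype.card α) // IsSplitPartition P} := by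
  classical
  let part : alternatingGroup α → Nat.Partition (Fintype.card α) := fun g => (g : Perm α).partition
  have heven : ∀ g : alternatingGroup α, IsEvenPartition (part g) := by
    intro g
    have h1 : Perm.sign (g : Perm α) = 1 := g.2
    rw [Perm.sign_of_cycleType] at h1
    have h2 : Even ((g : Perm α).cycleType.sum + Multiset.card (g : Perm α).cycleType) := by
      by_contra h
      rw [Nat.not_even_iff_odd] at h
      rw [h.neg_one_pow] at h1
      exact absurd h1 (by decide)
    have hle : (g : Perm α).cycleType.sum ≤ Fintype.card α := by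
      rw [Perm.sum_cycleType]; exact Finset.card_le_univ _
    change Even (Fintype.card α + Multiset.card ((g : Perm α).partition.parts))
    rw [Perm.parts_partition, Multiset.card_add, Multiset.card_replicate, ← Perm.sum_cycleType]
    rw [Nat.even_iff] at h2 ⊢
    omega
  -- non-split classes do not split
  have hsplit : ∀ g h : alternatingGroup α, IsConj (g : Perm α) h → ¬ IsConj g h →
      Subgroup.centralizer {(g : Perm α)} ≤ alternatingGroup α := by
    intro g h hgh hn z hz
    by_contra hzA
    obtain ⟨c, hc⟩ := isConj_iff.1 hgh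
    have hcA : c ∉ alternatingGroup α := fun hcA => hn (isConj_iff.2 ⟨⟨c, hcA⟩, Subtype.ext hc⟩)
    have hcz : c * z ∈ alternatingGroup α := by
      rw [Perm.mem_alternatingGroup] at hzA hcA ⊢
      rw [map_mul, (Int.units_eq_one_or _).resolve_left hzA, (Int.units_eq_one_or _).resolve_left hcA]
      rfl
    refine hn (isConj_iff.2 ⟨⟨c * z, hcz⟩, Subtype.ext ?_⟩)
    change c * z * g * (c * z)⁻¹ = h
    have hzg : z * g = g * z := (Subgroup.mem_centralizer_iff.1 hz _ rfl).symm
    rw [← hc]
    calc c * z * g * (c * z)⁻¹ = c * (z * g) * z⁻¹ * c⁻¹ := by group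
      _ = c * g * c⁻¹ := by rw [hzg]; group
  have hthree : ∀ g h k : alternatingGroup α, IsConj (g : Perm α) h → IsConj (g : Perm α) k →
      ¬ IsConj g h → ¬ IsConj g k → IsConj h k := by
    intro g h k hgh hgk hn hn'
    obtain ⟨c, hc⟩ := isConj_iff.1 hgh
    obtain ⟨d, hd⟩ := isConj_iff.1 hgk
    have hcA : c ∉ alternatingGroup α := fun hcA => hn (isConj_iff.2 ⟨⟨c, hcA⟩, Subtype.ext hc⟩)
    have hdA : d ∉ alternatingGroup α := fun hdA => hn' (isConj_iff.2 ⟨⟨d, hdA⟩, Subtype.ext hd⟩)
    have hdc : d * c⁻¹ ∈ alternatingGroup α := by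
      rw [Perm.mem_alternatingGroup] at hcA hdA ⊢
      rw [map_mul, map_inv, (Int.units_eq_one_or _).resolve_left hcA, (Int.units_eq_one_or _).resolve_left hdA]
      rfl
    refine isConj_iff.2 ⟨⟨d * c⁻¹, hdc⟩, Subtype.ext ?_⟩
    change d * c⁻¹ * h * (d * c⁻¹)⁻¹ = k
    rw [← hc, ← hd]
    group
  let rep : Nat.Partition (Fintype.card α) → ConjClasses (alternatingGroup α) := fun P =>
    if h : ∃ g, part g = P then ConjClasses.mk h.choose else ConjClasses.mk 1
  have hrep : ∀ g, ∃ g₀, rep (part g) = ConjClasses.mk g₀ ∧ part g₀ = part g := fun g => by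
    have h : ∃ g', part g' = part g := ⟨g, rfl⟩
    exact ⟨h.choose, dif_pos h, h.choose_spec⟩
  have hpartwd : ∀ g h : alternatingGroup α, IsConj g h → part g = part h := fun g h hgh =>
    Perm.partition_eq_of_isConj.1 ((alternatingGroup α).subtype.map_isConj hgh)
  let P' : ConjClasses (alternatingGroup α) → Nat.Partition (Fintype.card α) :=
    Quotient.lift part hpartwd
  have hmem : ∀ C, C ≠ rep (P' C) → IsSplitPartition (P' C) := by
    intro C
    obtain ⟨g, rfl⟩ := ConjClasses.mk_surjective C
    intro hne
    change ConjClasses.mk g ≠ rep (part g) at hne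
    change IsSplitPartition (part g)
    obtain ⟨g₀, hg₀, hpg⟩ := hrep g
    rw [hg₀] at hne
    have hcle := hsplit g g₀ (Perm.partition_eq_of_isConj.2 hpg.symm)
      (fun h => hne (ConjClasses.mk_eq_mk_iff_isConj.2 h))
    obtain ⟨hodd, hsum, hcount⟩ := Equiv.Perm.centralizer_le_alternating_iff.1 hcle
    rw [Perm.sum_cycleType] at hsum
    change (∀ i ∈ (g : Perm α).partition.parts, Odd i) ∧ (g : Perm α).partition.parts.Nodup
    rw [Perm.parts_partition]
    refine ⟨fun i hi => ?_, ?_⟩
    · rcases Multiset.mem_add.1 hi with hi | hi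
      · exact hodd i hi
      · rw [Multiset.eq_of_mem_replicate hi]; exact odd_one
    · rw [Multiset.nodup_add]
      refine ⟨Multiset.nodup_iff_count_le_one.2 hcount, ?_, ?_⟩
      · rw [Multiset.nodup_iff_count_le_one]
        intro i
        rw [Multiset.count_replicate]
        split_ifs <;> omega
      · rw [Multiset.disjoint_left]
        intro i hi hi'
        rw [Multiset.eq_of_mem_replicate hi'] at hi
        have := Perm.two_le_of_mem_cycleType hi
        omega
  have hP'even : ∀ C, IsEvenPartition (P' C) := fun C => by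
    obtain ⟨g, rfl⟩ := ConjClasses.mk_surjective C; exact heven g
  rw [← Nat.card_sum]
  let f : ConjClasses (alternatingGroup α) →
      {P : Nat.Partition (Fintype.card α) // IsEvenPartition P} ⊕ {P : Nat.Partition (Fintype.card α) // IsSplitPartition P} :=
    fun C => if h : C = rep (P' C) then Sum.inl ⟨P' C, hP'even C⟩ else Sum.inr ⟨P' C, hmem C h⟩
  refine Nat.card_le_card_of_injective f fun C D h => ?_
  simp only [f] at h
  by_cases hC : C = rep (P' C) <;> by_cases hD : D = rep (P' D)
  · rw [dif_pos hC, dif_pos hD] at h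
    exact hC.trans ((congrArg rep (congrArg Subtype.val (Sum.inl.inj h))).trans hD.symm)
  · rw [dif_pos hC, dif_neg hD] at h
    exact absurd h Sum.inl_ne_inr
  · rw [dif_neg hC, dif_pos hD] at h
    exact absurd h Sum.inr_ne_inl
  · rw [dif_neg hC, dif_neg hD] at h
    have he : P' C = P' D := congrArg Subtype.val (Sum.inr.inj h)
    obtain ⟨a, rfl⟩ := ConjClasses.mk_surjective C
    obtain ⟨b, rfl⟩ := ConjClasses.mk_surjective D
    change part a = part b at he
    change ¬ ConjClasses.mk a = rep (part a) at hC
    change ¬ ConjClasses.mk b = rep (part b) at hD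
    obtain ⟨g₀, hg₀, hpg⟩ := hrep a
    rw [← he, hg₀] at hD
    rw [hg₀] at hC
    exact ConjClasses.mk_eq_mk_iff_isConj.2 (hthree g₀ a b (Perm.partition_eq_of_isConj.2 hpg)
      (Perm.partition_eq_of_isConj.2 (hpg.trans he))
      (fun h => hC (ConjClasses.mk_eq_mk_iff_isConj.2 h.symm)) (fun h => hD (ConjClasses.mk_eq_mk_iff_isConj.2 h.symm)))

theorem even_sum_add_card_of_forall_odd : ∀ s : Multiset ℕ, (∀ i ∈ s, Odd i) → Even (s.sum + Multiset.card s) := by
  intro s
  induction s using Multiset.induction with
  | empty => simp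
  | cons a s ih =>
    intro h
    have h1 := ih fun i hi => h i (Multiset.mem_cons_of_mem hi)
    have h2 := h a (Multiset.mem_cons_self a s)
    rw [Multiset.sum_cons, Multiset.card_cons, Nat.even_iff]
    rw [Nat.even_iff] at h1
    rw [Nat.odd_iff] at h2
    omega

theorem card_split_lt_card_odd (n : ℕ) (hn : 5 ≤ n) :
    Nat.card {P : Nat.Partition n // IsSplitPartition P} <
      Nat.card {P : Nat.Partition n // ¬ IsEvenPartition P} := by
  classical
  have hne : ∀ P : {P : Nat.Partition n // IsSplitPartition P}, P.1.parts.toFinset.Nonempty := fun P => by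
    rw [Multiset.toFinset_nonempty]
    intro h
    have := P.1.parts_sum
    rw [h, Multiset.sum_zero] at this
    omega
  let M : {P : Nat.Partition n // IsSplitPartition P} → ℕ := fun P => P.1.parts.toFinset.max' (hne P)
  have hM : ∀ P, M P ∈ P.1.parts := fun P => Multiset.mem_toFinset.1 (Finset.max'_mem _ _)
  have hM5 : ∀ P, 5 ≤ M P := by
    intro P
    by_contra h
    have hsub : P.1.parts.toFinset ⊆ {1, 3} := by
      intro i hi
      have h1 : i ≤ M P := Finset.le_max' _ _ hi
      have h2 := P.2.1 i (Multiset.mem_toFinset.1 hi)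
      rw [Nat.odd_iff] at h2
      simp only [Finset.mem_insert, Finset.mem_singleton]
      omega
    have h3 : P.1.parts.sum = ∑ i ∈ P.1.parts.toFinset, i := by
      rw [Finset.sum, Multiset.toFinset_val, Multiset.dedup_eq_self.2 P.2.2, Multiset.map_id']
    have h4 : ∑ i ∈ P.1.parts.toFinset, i ≤ ∑ i ∈ ({1, 3} : Finset ℕ), i :=
      Finset.sum_le_sum_of_subset hsub
    have h5 : ∑ i ∈ ({1, 3} : Finset ℕ), i = 4 := rfl
    have := P.1.parts_sum
    omega
  let img : {P : Nat.Partition n // IsSplitPartition P} → Multiset ℕ := fun P =>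
    (M P - 1) ::ₘ 1 ::ₘ P.1.parts.erase (M P)
  have hsum : ∀ P, (img P).sum = n := by
    intro P
    have := congrArg Multiset.sum (Multiset.cons_erase (hM P))
    rw [Multiset.sum_cons, P.1.parts_sum] at this
    simp only [img, Multiset.sum_cons]
    have := hM5 P
    omega
  have hpos : ∀ P, ∀ {i}, i ∈ img P → 0 < i := by
    intro P i hi
    simp only [img, Multiset.mem_cons] at hi
    rcases hi with rfl | rfl | hi
    · have := hM5 P; omega
    · norm_num
    · exact P.1.parts_pos (Multiset.mem_of_mem_erase hi)
  have hodd : ∀ P, ¬ Even (n + Multiset.card (img P)) := by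
    intro P h
    have h1 := even_sum_add_card_of_forall_odd P.1.parts P.2.1
    rw [P.1.parts_sum] at h1
    have h2 := congrArg Multiset.card (Multiset.cons_erase (hM P))
    rw [Multiset.card_cons] at h2
    simp only [img, Multiset.card_cons] at h
    rw [Nat.even_iff] at h h1
    omega
  let f : {P : Nat.Partition n // IsSplitPartition P} → {P : Nat.Partition n // ¬ IsEvenPartition P} :=
    fun P => ⟨⟨img P, hpos P, hsum P⟩, hodd P⟩
  have hf : Function.Injective f := by
    intro P Q h
    have h1 : img P = img Q := congrArg (fun x => x.1.parts) h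
    have he : M P = M Q := by
      have h2 : M P - 1 ∈ img Q := h1 ▸ Multiset.mem_cons_self _ _
      simp only [img, Multiset.mem_cons] at h2
      have hP := hM5 P
      have hQ := hM5 Q
      have hPo := Nat.odd_iff.1 (P.2.1 _ (hM P))
      rcases h2 with h2 | h2 | h2
      · omega
      · omega
      · have := Nat.odd_iff.1 (Q.2.1 _ (Multiset.mem_of_mem_erase h2))
        omega
    simp only [img] at h1
    rw [he, Multiset.cons_inj_right, Multiset.cons_inj_right] at h1
    apply Subtype.ext
    apply Nat.Partition.ext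
    rw [← Multiset.cons_erase (hM P), ← Multiset.cons_erase (hM Q), he, h1]
  let R : {P : Nat.Partition n // ¬ IsEvenPartition P} :=
    ⟨⟨2 ::ₘ Multiset.replicate (n - 2) 1, fun {i} hi => by
        rcases Multiset.mem_cons.1 hi with rfl | hi
        · norm_num
        · rw [Multiset.eq_of_mem_replicate hi]; norm_num,
      by rw [Multiset.sum_cons, Multiset.sum_replicate, smul_eq_mul, mul_one]; omega⟩, by
      change ¬ Even (n + Multiset.card (2 ::ₘ Multiset.replicate (n - 2) 1))
      rw [Multiset.card_cons, Multiset.card_replicate, Nat.even_iff]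
      omega⟩
  have hR : R ∉ Set.range f := by
    rintro ⟨P, hP⟩
    have h1 : img P = 2 ::ₘ Multiset.replicate (n - 2) 1 := congrArg (fun x => x.1.parts) hP
    have h2 : M P - 1 ∈ img P := Multiset.mem_cons_self _ _
    rw [h1, Multiset.mem_cons] at h2
    have := hM5 P
    rcases h2 with h2 | h2
    · omega
    · have := Multiset.eq_of_mem_replicate h2
      omega
  haveI := Fintype.ofFinite {P : Nat.Partition n // IsSplitPartition P}
  haveI := Fintype.ofFinite {P : Nat.Partition n // ¬ IsEvenPartition P}
  simp only [Nat.card_eq_fintype_card]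
  exact Fintype.card_lt_of_injective_of_notMem f hf hR

theorem card_conjClasses_alternatingGroup_lt (hα : 5 ≤ Fintype.card α) :
    Nat.card (ConjClasses (alternatingGroup α)) < Nat.card (ConjClasses (Perm α)) := by
  classical
  refine (card_conjClasses_alternatingGroup_le α).trans_lt ?_
  rw [Nat.card_congr (Equiv.ofBijective _ (classPartition_bijective α)),
    ← Nat.card_congr (Equiv.sumCompl fun P : Nat.Partition (Fintype.card α) => IsEvenPartition P), Nat.card_sum]
  exact Nat.add_lt_add_left (card_split_lt_card_odd _ hα) _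

theorem card_conjClasses_perm_le (hα : 5 ≤ Fintype.card α) :
    Nat.card (ConjClasses (Perm α)) ≤ 2 ^ (Fintype.card α - 2) :=
  (Nat.card_congr (Equiv.ofBijective _ (classPartition_bijective α))).trans_le (card_partition_le_two_pow _ hα)

end CfsgLib.ClassSizes
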