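import Mathlib
import Cfsg.Agent.Lib.PGroups.Basic

/-!
Burnside: the order of the automorphism group of a `p`-group, through free actions on generating tuples.
-/

set_option linter.style.haveILetI false

namespace CfsgLib.ClassSizes

open Subgroup

theorem card_dvd_card_of_free {A X : Type*} [Group A] [MulAction A X] [Finite X]
    (h : ∀ x : X, MulAction.stabilizer A x = ⊥) : Nat.card A ∣ Nat.card X := by
  classical
  refine Dvd.intro_left (Nat.card (Quotient (MulAction.orbitRel A X))) ?_
  rw [← Nat.card_prod]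
  refine (Nat.card_congr ((MulAction.selfEquivSigmaOrbitsQuotientStabilizer A X).trans
    ((Equiv.sigmaCongrRight fun ω => ?_).trans (Equiv.sigmaEquivProd _ _)))).symm
  rw [h]
  exact QuotientGroup.quotientBot.toEquiv

variable {P : Type*} [Group P] [Finite P] {p : ℕ} [Fact p.Prime]

omit [Finite P] [Fact p.Prime] in
theorem aut_eq_one_of_fix {k : ℕ} {t : Fin k → P} (ht : closure (Set.range t) = ⊤) {e : MulAut P}
    (h : ∀ i, e (t i) = t i) : e = 1 := by
  ext x
  have hx : x ∈ closure (Set.range t) := ht ▸ mem_top x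
  induction hx using Subgroup.closure_induction with
  | mem y hy => obtain ⟨i, rfl⟩ := hy; exact h i
  | one => exact map_one _
  | mul y z _ _ hy hz => rw [map_mul, hy, hz]; rfl
  | inv y _ hy => rw [map_inv, hy]; rfl

/-- Adding an element outside divides the index by `p`. -/
theorem index_sup_zpowers_mul (hP : IsPGroup p P) {H : Subgroup P} (hH : frattini P ≤ H) {s : P}
    (hs : s ∉ H) : (H ⊔ zpowers s).index * p = H.index := by
  haveI : H.Normal := Subgroup.Normal.of_commutator_le P ((PGroups.commutator_le_frattini' hP).trans hH)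
  have hle : H ≤ H ⊔ zpowers s := le_sup_left
  rw [← relIndex_mul_index hle, mul_comm _ p]
  congr 1
  rw [sup_comm, relIndex_sup_right]
  have hord : orderOf (QuotientGroup.mk' H s) = p := by
    refine orderOf_eq_prime ?_ fun h => hs ((QuotientGroup.eq_one_iff s).mp h)
    rw [← map_pow]
    exact (QuotientGroup.eq_one_iff _).mpr (hH (PGroups.pow_mem_frattini hP s))
  rw [Subgroup.relIndex]
  have hker : H.subgroupOf (zpowers s) = ((QuotientGroup.mk' H).comp (zpowers s).subtype).ker := by
    rw [← MonoidHom.comap_ker, QuotientGroup.ker_mk']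
    rfl
  rw [hker, Subgroup.index_ker, MonoidHom.range_comp, Subgroup.range_subtype, MonoidHom.map_zpowers,
    Nat.card_zpowers, hord]

/-- Tuples independent modulo the Frattini subgroup. -/
def Indep {k : ℕ} (t : Fin k → P) : Prop :=
  ∀ i : Fin k, t i ∉ closure (t '' {j | j < i}) ⊔ frattini P

omit [Finite P] in
theorem indep_snoc_iff {k : ℕ} (t : Fin k → P) (s : P) :
    Indep (Fin.snoc t s) ↔ Indep t ∧ s ∉ closure (Set.range t) ⊔ frattini P := by
  have hl : (Fin.snoc t s : Fin (k + 1) → P) '' {j | j < Fin.last k} = Set.range t := by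
    ext x
    constructor
    · rintro ⟨j, hj, rfl⟩
      exact ⟨j.castPred (ne_of_lt hj), by
        conv_rhs => rw [← Fin.castSucc_castPred j (ne_of_lt hj), Fin.snoc_castSucc]⟩
    · rintro ⟨j, rfl⟩
      exact ⟨j.castSucc, Fin.castSucc_lt_last j, Fin.snoc_castSucc ..⟩
  have hc : ∀ i : Fin k, (Fin.snoc t s : Fin (k + 1) → P) '' {j | j < i.castSucc} = t '' {j | j < i} := by
    intro i
    ext x
    constructor
    · rintro ⟨j, hj, rfl⟩
      have hj' : j ≠ Fin.last k := ne_of_lt (lt_of_lt_of_le hj (Fin.le_last _))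
      refine ⟨j.castPred hj', ?_, ?_⟩
      · exact Fin.castSucc_lt_castSucc_iff.1 (by rw [Fin.castSucc_castPred]; exact hj)
      · conv_rhs => rw [← Fin.castSucc_castPred j hj', Fin.snoc_castSucc]
    · rintro ⟨j, hj, rfl⟩
      exact ⟨j.castSucc, Fin.castSucc_lt_castSucc_iff.2 hj, Fin.snoc_castSucc ..⟩
  constructor
  · intro h
    refine ⟨fun i => ?_, ?_⟩
    · have := h i.castSucc
      rwa [Fin.snoc_castSucc, hc] at this
    · have := h (Fin.last k)
      rwa [Fin.snoc_last, hl] at this
  · rintro ⟨h, hs⟩ i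
    induction i using Fin.lastCases with
    | last => rwa [Fin.snoc_last, hl]
    | cast i => rw [Fin.snoc_castSucc, hc]; exact h i

theorem indep_index (hP : IsPGroup p P) {r : ℕ} (hr : (frattini P).index = p ^ r) : ∀ {k : ℕ} {t : Fin k → P},
    Indep t → (closure (Set.range t) ⊔ frattini P).index * p ^ k = p ^ r := by
  intro k
  induction k with
  | zero => intro t _; rw [Set.range_eq_empty, Subgroup.closure_empty, bot_sup_eq, hr, pow_zero, mul_one]
  | succ k ih =>
    intro t
    refine Fin.snocCases (fun t s h => ?_) t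
    rw [indep_snoc_iff] at h
    have e : closure (Set.range (Fin.snoc t s : Fin (k + 1) → P)) ⊔ frattini P =
        (closure (Set.range t) ⊔ frattini P) ⊔ zpowers s := by
      rw [Fin.range_snoc, Set.insert_eq, Subgroup.closure_union, ← zpowers_eq_closure]
      ac_rfl
    rw [e, ← ih h.1, ← index_sup_zpowers_mul hP le_sup_right h.2, pow_succ]
    ring

theorem card_indep (hP : IsPGroup p P) {n r : ℕ} (hn : Nat.card P = p ^ n) (hr : (frattini P).index = p ^ r) :
    ∀ k ≤ r, Nat.card {t : Fin k → P // Indep t} = ∏ i ∈ Finset.range k, (p ^ n - p ^ (n - r + i)) := by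
  classical
  have hrn : r ≤ n := by
    have h := (frattini P).index_dvd_card
    rw [hr, hn, Nat.pow_dvd_pow_iff_le_right (Fact.out : p.Prime).one_lt] at h
    exact h
  intro k
  induction k with
  | zero =>
    intro _
    haveI : Nonempty {t : Fin 0 → P // Indep t} := ⟨⟨Fin.elim0, fun i => i.elim0⟩⟩
    rw [Finset.range_zero, Finset.prod_empty, Nat.card_unique]
  | succ k ih =>
    intro hk
    let e : {t : Fin (k + 1) → P // Indep t} ≃
        Σ t : {t : Fin k → P // Indep t}, {s : P // s ∉ closure (Set.range t.1) ⊔ frattini P} :=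
      { toFun := fun t => ⟨⟨Fin.init t.1, ((indep_snoc_iff _ _).1 ((Fin.snoc_init_self t.1).symm ▸ t.2)).1⟩,
          t.1 (Fin.last k), ((indep_snoc_iff _ _).1 ((Fin.snoc_init_self t.1).symm ▸ t.2)).2⟩
        invFun := fun z => ⟨Fin.snoc z.1.1 z.2.1, (indep_snoc_iff _ _).2 ⟨z.1.2, z.2.2⟩⟩
        left_inv := fun t => Subtype.ext (Fin.snoc_init_self t.1)
        right_inv := fun z => by
          obtain ⟨⟨t, ht⟩, ⟨s, hs⟩⟩ := z
          have h1 : Fin.init (Fin.snoc t s : Fin (k + 1) → P) = t := Fin.init_snoc ..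
          have h2 : (Fin.snoc t s : Fin (k + 1) → P) (Fin.last k) = s := Fin.snoc_last ..
          simp only
          congr 1
          · exact Subtype.ext h1
          · exact (Subtype.heq_iff_coe_eq (fun x => by rw [h1])).2 h2 }
    haveI := Fintype.ofFinite {t : Fin k → P // Indep t}
    rw [Nat.card_congr e, Nat.card_sigma, Finset.prod_range_succ, ← ih (by omega)]
    rw [Nat.card_eq_fintype_card (α := {t : Fin k → P // Indep t}), ← smul_eq_mul, ← Finset.card_univ,
      ← Finset.sum_const]
    refine Finset.sum_congr rfl fun t _ => ?_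
    set H := closure (Set.range t.1) ⊔ frattini P
    have h1 : H.index * p ^ k = p ^ r := indep_index hP hr t.2
    have h2 : Nat.card H = p ^ (n - r + k) := by
      have h3 : H.index = p ^ (r - k) := Nat.eq_of_mul_eq_mul_right (pow_pos (Fact.out : p.Prime).pos k)
        (by rw [h1, ← pow_add]; congr 1; omega)
      have h4 := H.card_mul_index
      rw [h3, hn] at h4
      refine Nat.eq_of_mul_eq_mul_right (pow_pos (Fact.out : p.Prime).pos (r - k)) ?_
      rw [h4, ← pow_add]
      congr 1
      omega
    haveI := Fintype.ofFinite P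
    rw [Nat.card_eq_fintype_card, Fintype.card_subtype_compl, ← Nat.card_eq_fintype_card,
      ← Nat.card_eq_fintype_card, hn]
    congr 1

theorem card_aut_dvd {n : ℕ} (hP : Nat.card P = p ^ n) {r : ℕ} (hr : (frattini P).index = p ^ r) :
    Nat.card (MulAut P) ∣ p ^ (r * (n - r)) * ∏ i ∈ Finset.range r, (p ^ r - p ^ i) := by
  have hPG : IsPGroup p P := IsPGroup.of_card hP
  have hmap : ∀ (e : MulAut P) (t : Fin r → P), Indep t → Indep (e ∘ t) := by
    intro e t ht i hi
    apply ht i
    have hf : (frattini P).map e.toMonoidHom = frattini P :=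
      (Subgroup.characteristic_iff_map_eq.1 inferInstance) e
    rw [Set.image_comp, ← hf, ← e.coe_toMonoidHom, ← MonoidHom.map_closure, ← Subgroup.map_sup,
      Function.comp_apply] at hi
    obtain ⟨y, hy, hye⟩ := hi
    exact e.injective hye ▸ hy
  letI : MulAction (MulAut P) {t : Fin r → P // Indep t} :=
    { smul := fun e t => ⟨e ∘ t.1, hmap e t.1 t.2⟩
      one_smul := fun t => rfl
      mul_smul := fun e f t => rfl }
  have h := card_dvd_card_of_free (A := MulAut P) (X := {t : Fin r → P // Indep t}) fun t => by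
    rw [Subgroup.eq_bot_iff_forall]
    intro e he
    have h1 := indep_index hPG hr t.2
    have htop : closure (Set.range t.1) ⊔ frattini P = ⊤ := Subgroup.index_eq_one.1
      (Nat.eq_of_mul_eq_mul_right (pow_pos (Fact.out : p.Prime).pos r) (h1.trans (one_mul _).symm))
    exact aut_eq_one_of_fix (frattini_nongenerating htop) fun i =>
      congrFun (congrArg Subtype.val (MulAction.mem_stabilizer_iff.1 he)) i
  rw [card_indep hPG hP hr r le_rfl] at h
  refine h.trans (dvd_of_eq ?_)
  have hrn : r ≤ n := by
    have h := (frattini P).index_dvd_card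
    rw [hr, hP, Nat.pow_dvd_pow_iff_le_right (Fact.out : p.Prime).one_lt] at h
    exact h
  have key : ∀ i ∈ Finset.range r, p ^ n - p ^ (n - r + i) = p ^ (n - r) * (p ^ r - p ^ i) := fun i _ => by
    rw [Nat.mul_sub, ← pow_add, ← pow_add]
    congr 2
    omega
  rw [Finset.prod_congr rfl key, Finset.prod_mul_distrib, Finset.prod_const, Finset.card_range, ← pow_mul,
    mul_comm (n - r) r]

theorem card_stabilizing_aut_dvd {n : ℕ} (hP : Nat.card P = p ^ n) {r : ℕ} (hr : (frattini P).index = p ^ r)
    (A : Subgroup (MulAut P)) (hA : ∀ e ∈ A, ∀ x : P, e x * x⁻¹ ∈ frattini P) :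
    Nat.card A ∣ p ^ (r * (n - r)) := by
  classical
  have hPG : IsPGroup p P := IsPGroup.of_card hP
  obtain ⟨t, ht⟩ : ∃ t : Fin r → P, closure (Set.range t) ⊔ frattini P = ⊤ := by
    obtain ⟨t⟩ : Nonempty {t : Fin r → P // Indep t} := by
      refine (Nat.card_pos_iff.1 ?_).1
      rw [card_indep hPG hP hr r le_rfl]
      refine Finset.prod_pos fun i hi => Nat.sub_pos_of_lt (Nat.pow_lt_pow_right (Fact.out : p.Prime).one_lt ?_)
      have h := (frattini P).index_dvd_card
      rw [hr, hP, Nat.pow_dvd_pow_iff_le_right (Fact.out : p.Prime).one_lt] at h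
      rw [Finset.mem_range] at hi
      omega
    exact ⟨t.1, Subgroup.index_eq_one.1
      (Nat.eq_of_mul_eq_mul_right (pow_pos (Fact.out : p.Prime).pos r) ((indep_index hPG hr t.2).trans (one_mul _).symm))⟩
  let X := {u : Fin r → P // ∀ i, u i * (t i)⁻¹ ∈ frattini P}
  letI : MulAction A X :=
    { smul := fun e u => ⟨e.1 ∘ u.1, fun i => by
        have h1 := mul_mem (hA e.1 e.2 (u.1 i)) (u.2 i)
        rw [mul_assoc, ← mul_assoc (u.1 i)⁻¹, inv_mul_cancel, one_mul] at h1
        exact h1⟩
      one_smul := fun u => rfl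
      mul_smul := fun e f u => rfl }
  have h := card_dvd_card_of_free (A := A) (X := X) fun u => by
    rw [Subgroup.eq_bot_iff_forall]
    intro e he
    have htop : closure (Set.range u.1) ⊔ frattini P = ⊤ := by
      rw [eq_top_iff, ← ht, sup_le_iff, Subgroup.closure_le]
      refine ⟨?_, le_sup_right⟩
      rintro _ ⟨i, rfl⟩
      have e' : t i = (u.1 i * (t i)⁻¹)⁻¹ * u.1 i := by group
      rw [e', SetLike.mem_coe]
      exact mul_mem (mem_sup_right (inv_mem (u.2 i))) (mem_sup_left (subset_closure ⟨i, rfl⟩))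
    exact Subtype.ext (aut_eq_one_of_fix (frattini_nongenerating htop) fun i =>
      congrFun (congrArg Subtype.val (MulAction.mem_stabilizer_iff.1 he)) i)
  let eX : X ≃ (Fin r → frattini P) :=
    { toFun := fun u i => ⟨u.1 i * (t i)⁻¹, u.2 i⟩
      invFun := fun f => ⟨fun i => (f i : P) * t i, fun i => by rw [mul_inv_cancel_right]; exact (f i).2⟩
      left_inv := fun u => Subtype.ext (funext fun i => inv_mul_cancel_right _ _)
      right_inv := fun f => funext fun i => Subtype.ext (mul_inv_cancel_right _ _) }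
  rw [Nat.card_congr eX, Nat.card_fun, Nat.card_fin] at h
  refine h.trans (dvd_of_eq ?_)
  have hrn : r ≤ n := by
    have h := (frattini P).index_dvd_card
    rw [hr, hP, Nat.pow_dvd_pow_iff_le_right (Fact.out : p.Prime).one_lt] at h
    exact h
  have h2 : Nat.card (frattini P) = p ^ (n - r) := by
    refine Nat.eq_of_mul_eq_mul_right (pow_pos (Fact.out : p.Prime).pos r) ?_
    rw [← hr, Subgroup.card_mul_index, hP, hr, ← pow_add]
    congr 1
    omega
  rw [h2, ← pow_mul, mul_comm]

end CfsgLib.ClassSizes
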