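import Mathlib
import Cfsg.Agent.Lib.ClassSizes.Basic
import Cfsg.Agent.S4160
import Cfsg.Agent.Lib.Core.Coprime
import Cfsg.Agent.Lib.Core.FPF
import Cfsg.Prelude.Def_Solvable

/-!
# Groups whose prime graph on conjugacy class sizes is disconnected

If every class size is either an `S`-number or prime to `S`, and both kinds occur nontrivially, then
`G = V H` with `V` abelian normal, `H` abelian, `V ∩ H = 1`, `Z(G) ≤ H` and no element of
`H \ Z(G)` centralises a nontrivial element of `V`.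

Owner: helper7.
-/

set_option autoImplicit false
set_option linter.all false

namespace CfsgLib.ClassSizes.GraphSplit

open Subgroup
open scoped commutatorElement

universe u

variable {G : Type u} [Group G] [Finite G]

/-- All prime divisors of `n` lie in `S`. -/
def PN (S : Set ℕ) (n : ℕ) : Prop := ∀ q : ℕ, q.Prime → q ∣ n → q ∈ S

theorem PN.of_dvd {S : Set ℕ} {m n : ℕ} (h : PN S n) (hd : m ∣ n) : PN S m :=
  fun q hq hqm => h q hq (hqm.trans hd)

theorem coprime_of {S : Set ℕ} {m n : ℕ} (hm : PN S m) (hn : PN Sᶜ n) : m.Coprime n :=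
  Nat.coprime_of_dvd fun q hq h1 h2 => hn q hq h2 (hm q hq h1)

theorem eq_one_of {S : Set ℕ} {n : ℕ} (hm : PN S n) (hn : PN Sᶜ n) : n = 1 :=
  (Nat.coprime_self n).1 (coprime_of hm hn)

/-- The size of the class of `x`. -/
noncomputable def sz (x : G) : ℕ := (centralizer ({x} : Set G)).index

theorem card_carrier (x : G) : (ConjClasses.mk x).carrier.ncard = sz x := by
  have h := MulAction.index_stabilizer (ConjAct G) x
  rw [ConjAct.stabilizer_eq_centralizer] at h
  refine Eq.trans ?_ h.symm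
  rw [ConjAct.orbit_eq_carrier_conjClasses]

theorem mem_center_of_sz {x : G} : sz x = 1 ↔ x ∈ center G := by
  rw [sz, index_eq_one, eq_top_iff]
  constructor
  · exact fun h => mem_center_iff.2 fun g => mem_centralizer_singleton_iff.1 (h (mem_top g))
  · exact fun h g _ => mem_centralizer_singleton_iff.2 (mem_center_iff.1 h g)

theorem sz_dvd_of_centralizer_le {x y : G}
    (h : centralizer ({x} : Set G) ≤ centralizer ({y} : Set G)) : sz y ∣ sz x :=
  index_dvd_of_le h

theorem sz_conj (g x : G) : sz (g * x * g⁻¹) = sz x := by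
  rw [← card_carrier, ← card_carrier]
  congr 2
  exact ConjClasses.mk_eq_mk_iff_isConj.2 (isConj_iff.2 ⟨g⁻¹, by group⟩)

theorem exists_mul_of_coprime {A B : Subgroup G} (h : A.index.Coprime B.index) (g : G) :
    ∃ a ∈ A, ∃ b ∈ B, g = a * b := by
  have h1 : A.index * B.index ≤ (A ⊓ B).index :=
    Nat.le_of_dvd (Nat.pos_of_ne_zero index_ne_zero_of_finite)
      (h.mul_dvd_of_dvd_of_dvd (index_dvd_of_le inf_le_left) (index_dvd_of_le inf_le_right))
  have h2 : A.index * B.index = (A ⊓ B).index := le_antisymm h1 index_inf_le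
  have h3 : B.relIndex A * A.index = (A ⊓ B).index := by
    rw [← inf_relIndex_left, relIndex_mul_index inf_le_left]
  have hBA : B.relIndex A = B.index := by
    rw [← h2, mul_comm A.index] at h3
    exact Nat.eq_of_mul_eq_mul_right (Nat.pos_of_ne_zero index_ne_zero_of_finite) h3
  let f : A ⧸ B.subgroupOf A → G ⧸ B :=
    Quotient.map' Subtype.val fun a b hab => by
      rw [QuotientGroup.leftRel_apply] at hab ⊢; exact hab
  have hf : Function.Injective f := by
    rintro ⟨a⟩ ⟨b⟩ hab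
    change (((a : G)) : G ⧸ B) = (((b : G)) : G ⧸ B) at hab
    refine QuotientGroup.eq.2 ?_
    rw [mem_subgroupOf, coe_mul, coe_inv]
    exact (QuotientGroup.eq (s := B)).1 hab
  obtain ⟨⟨a⟩, ha⟩ := (hf.bijective_of_nat_card_le (by
    rw [← index_eq_card, ← index_eq_card]; exact hBA.ge)).2 (g : G ⧸ B)
  exact ⟨a, a.2, a.1⁻¹ * g, QuotientGroup.eq.1 ha, by group⟩

/-- For coprime class sizes the product of two classes is a class. -/
theorem exists_conj_mul {x y : G} (h : (sz x).Coprime (sz y)) (g k : G) :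
    ∃ e : G, e * x * e⁻¹ = g * x * g⁻¹ ∧ e * y * e⁻¹ = k * y * k⁻¹ := by
  obtain ⟨c, hc, d, hd, hcd⟩ := exists_mul_of_coprime h (g⁻¹ * k)
  have hk : k = g * c * d := by rw [mul_assoc, ← hcd]; group
  rw [mem_centralizer_singleton_iff] at hc hd
  refine ⟨g * c, ?_, ?_⟩
  · calc g * c * x * (g * c)⁻¹ = g * (c * x) * c⁻¹ * g⁻¹ := by group
      _ = g * x * g⁻¹ := by rw [hc]; group
  · calc g * c * y * (g * c)⁻¹ = g * c * (y * d) * d⁻¹ * (g * c)⁻¹ := by group
      _ = k * y * k⁻¹ := by rw [← hd, hk]; group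

theorem eq_top_of_conj_cover {X : Type*} [Group X] [Finite X] (H : Subgroup X)
    (h : ∀ x : X, ∃ g : X, g⁻¹ * x * g ∈ H) : H = ⊤ := by
  classical
  let f : (X ⧸ H) × {c : H // c ≠ 1} → {x : X // x ≠ 1} := fun d =>
    ⟨d.1.out * (d.2.1 : X) * d.1.out⁻¹, fun e => d.2.2 (Subtype.ext (conj_eq_one_iff.1 e))⟩
  have hf : Function.Surjective f := by
    rintro ⟨x, hx⟩
    obtain ⟨g, hg⟩ := h x
    set t : X ⧸ H := (g : X ⧸ H)
    have hn : g⁻¹ * t.out ∈ H := QuotientGroup.eq.1 (QuotientGroup.out_eq' t).symm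
    have hm : t.out⁻¹ * x * t.out ∈ H := by
      have e : t.out⁻¹ * x * t.out = (g⁻¹ * t.out)⁻¹ * (g⁻¹ * x * g) * (g⁻¹ * t.out) := by group
      rw [e]
      exact H.mul_mem (H.mul_mem (H.inv_mem hn) hg) hn
    refine ⟨(t, ⟨⟨_, hm⟩, fun e => hx ?_⟩), Subtype.ext (by show t.out * (t.out⁻¹ * x * t.out) * t.out⁻¹ = x; group)⟩
    have e' : t.out⁻¹ * x * t.out = 1 := congrArg Subtype.val e
    calc x = t.out * (t.out⁻¹ * x * t.out) * t.out⁻¹ := by group
      _ = 1 := by rw [e']; group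
  have h1 := Nat.card_le_card_of_surjective f hf
  haveI := Fintype.ofFinite X
  haveI := Fintype.ofFinite H
  rw [Nat.card_prod, ← index_eq_card, Nat.card_eq_fintype_card, Nat.card_eq_fintype_card,
    Fintype.card_subtype_compl, Fintype.card_subtype_compl, Fintype.card_subtype_eq, Fintype.card_subtype_eq] at h1
  have h2 := H.index_mul_card
  rw [Nat.card_eq_fintype_card, Nat.card_eq_fintype_card] at h2
  have h3 : 0 < Fintype.card H := Fintype.card_pos
  rw [← index_eq_one]
  have h4 : H.index ≠ 0 := index_ne_zero_of_finite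
  rcases Nat.exists_eq_add_of_lt h3 with ⟨c, hc⟩
  rw [hc] at h1 h2
  rw [← h2] at h1
  rw [show 0 + c + 1 - 1 = c by omega, show 0 + c + 1 = c + 1 by omega, mul_add, mul_one] at h1
  omega

/-- The structure forced by a disconnected graph. -/
def Split (S : Set ℕ) (V H : Subgroup G) : Prop :=
  V.Normal ∧ (∀ a ∈ V, ∀ b ∈ V, a * b = b * a) ∧ (∀ a ∈ H, ∀ b ∈ H, a * b = b * a) ∧
  center G ≤ H ∧ V ⊓ H = ⊥ ∧ (∀ g : G, ∃ v ∈ V, ∃ h ∈ H, g = v * h) ∧ V ≠ ⊥ ∧ H ≠ center G ∧
  (∀ v ∈ V, ∀ h ∈ H, v * h = h * v → v = 1 ∨ h ∈ center G)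

/-- If every class size divisible by `p` is prime to the largest class size then `G` splits over
an abelian normal subgroup with complement the centralizer of a Sylow `p`-subgroup. -/
theorem pre (S : Set ℕ) {p : ℕ} [hpF : Fact p.Prime] (hpS : p ∈ S)
    (hpiso : ∀ g : G, p ∣ sz g → PN S (sz g))
    {y : G} (hyT : PN Sᶜ (sz y)) (hmax : ∀ z : G, sz z ≤ sz y) :
    ∃ (P : Sylow p G) (V : Subgroup G), V.Normal ∧ (∀ a ∈ V, ∀ b ∈ V, a * b = b * a) ∧
      Nat.card V ∣ sz y ∧ V ⊓ centralizer ((P : Subgroup G) : Set G) = ⊥ ∧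
      (∀ g : G, ∃ v ∈ V, ∃ h ∈ centralizer ((P : Subgroup G) : Set G), g = v * h) ∧
      (∀ u ∈ (P : Subgroup G), u ∈ centralizer ((P : Subgroup G) : Set G)) ∧
      (∀ g : G, ¬ p ∣ sz g → ∃ t : G, t⁻¹ * g * t ∈ centralizer ((P : Subgroup G) : Set G)) ∧
      (∀ g : G, PN S (sz g) → PN S (orderOf g) → g ∈ center G) := by
  have hp : p.Prime := hpF.out
  classical
  -- product of classes
  set Y := (ConjClasses.mk y).carrier with hYdef
  have hstab : ∀ x : G, PN S (sz x) → ∀ g : G, ∀ w ∈ Y, x⁻¹ * (g * x * g⁻¹) * w ∈ Y := by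
    intro x hx g
    have hcop := coprime_of hx hyT
    set C := (ConjClasses.mk (x * y)).carrier with hC
    have hmem : ∀ g' k : G, g' * x * g'⁻¹ * (k * y * k⁻¹) ∈ C := by
      intro g' k
      obtain ⟨e, e1, e2⟩ := exists_conj_mul hcop g' k
      rw [hC, ConjClasses.mem_carrier_iff_mk_eq, ConjClasses.mk_eq_mk_iff_isConj, ← e1, ← e2]
      exact isConj_iff.2 ⟨e⁻¹, by group⟩
    have hC' : C.ncard ≤ Y.ncard := by rw [hC, hYdef, card_carrier, card_carrier]; exact hmax _
    have himg : ∀ g' : G, (fun w => g' * x * g'⁻¹ * w) '' Y = C := by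
      intro g'
      refine Set.eq_of_subset_of_ncard_le ?_ (by rw [Set.ncard_image_of_injective _ (mul_right_injective _)]; exact hC') (Set.toFinite _)
      rintro _ ⟨w, hw, rfl⟩
      obtain ⟨k, rfl⟩ : ∃ k : G, k * y * k⁻¹ = w := by
        rw [hYdef, ConjClasses.mem_carrier_iff_mk_eq, ConjClasses.mk_eq_mk_iff_isConj] at hw
        exact isConj_iff.1 hw.symm
      exact hmem g' k
    intro w hw
    have h1 : g * x * g⁻¹ * w ∈ (fun w => 1 * x * 1⁻¹ * w) '' Y := by
      rw [himg 1, ← himg g]; exact ⟨w, hw, rfl⟩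
    obtain ⟨w', hw', he⟩ := h1
    rw [mul_assoc, ← he]
    simpa using hw'
  -- the normal subgroup `N`
  let gen : Set G := {n | ∃ x g : G, PN S (sz x) ∧ n = x⁻¹ * (g * x * g⁻¹)}
  set N := closure gen with hNdef
  have hgen : ∀ n ∈ gen, ∀ g : G, g * n * g⁻¹ ∈ gen := by
    rintro _ ⟨x, k, hx, rfl⟩ g
    refine ⟨g * x * g⁻¹, g * k * g⁻¹, by rw [sz_conj]; exact hx, by group⟩
  haveI hNn : N.Normal := by
    refine ⟨fun n hn g => ?_⟩
    induction hn using closure_induction with
    | mem n hn => exact subset_closure (hgen n hn g)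
    | one => simpa using one_mem N
    | mul a b _ _ ha hb => rw [show g * (a * b) * g⁻¹ = g * a * g⁻¹ * (g * b * g⁻¹) by group]; exact mul_mem ha hb
    | inv a _ ha => rw [show g * a⁻¹ * g⁻¹ = (g * a * g⁻¹)⁻¹ by group]; exact inv_mem ha
  have hNY : ∀ n ∈ N, ∀ w ∈ Y, n * w ∈ Y := by
    intro n hn
    induction hn using closure_induction with
    | mem n hn => obtain ⟨x, g, hx, rfl⟩ := hn; exact hstab x hx g
    | one => intro w hw; rwa [one_mul]
    | mul a b _ _ ha hb => intro w hw; rw [mul_assoc]; exact ha _ (hb w hw)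
    | inv a _ ha =>
      intro w hw
      have he : (fun v => a * v) '' Y = Y := Set.eq_of_subset_of_ncard_le
        (by rintro _ ⟨v, hv, rfl⟩; exact ha v hv)
        (Set.ncard_image_of_injective _ (mul_right_injective a)).ge (Set.toFinite _)
      obtain ⟨v, hv, hva⟩ := he.ge hw
      rw [← hva, inv_mul_cancel_left]
      exact hv
  have hNcard : Nat.card N ∣ sz y := by
    rw [← card_carrier y, ← hYdef, ← Nat.card_coe_set_eq]
    have he : (QuotientGroup.mk (s := N)) ⁻¹' ((QuotientGroup.mk (s := N)) '' Y) = Y := by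
      refine Set.Subset.antisymm ?_ (Set.subset_preimage_image _ _)
      rintro w ⟨v, hv, hvw⟩
      have hn : v⁻¹ * w ∈ N := QuotientGroup.eq.1 hvw
      have := hNY _ (hNn.conj_mem _ hn v) v hv
      simpa [mul_assoc] using this
    rw [← he, Nat.card_congr (QuotientGroup.preimageMkEquivSubgroupProdSet N _), Nat.card_prod]
    exact dvd_mul_right _ _
  have hNT : PN Sᶜ (Nat.card N) := hyT.of_dvd hNcard
  -- the centralizer of `N`
  set W := centralizer (N : Set G) with hW
  have hNC : ∀ x : G, PN S (sz x) → N ≤ centralizer ({x} : Set G) := by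
    intro x hx
    rw [← relIndex_eq_one]
    refine eq_one_of (hx.of_dvd ?_) (hNT.of_dvd (relIndex_dvd_card _ _))
    exact relIndex_dvd_index_of_normal_right N _
  have hxW : ∀ x : G, PN S (sz x) → x ∈ W := fun x hx => mem_centralizer_iff.2 fun n hn =>
    mem_centralizer_singleton_iff.1 (hNC x hx hn)
  have hWC : ∀ x : G, PN S (sz x) → W ≤ centralizer ({x} : Set G) := by
    intro x hx
    rw [← relIndex_eq_one]
    let c : W →* N :=
      { toFun := fun g => ⟨x⁻¹ * ((g : G) * x * (g : G)⁻¹), subset_closure ⟨x, g, hx, rfl⟩⟩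
        map_one' := Subtype.ext (by simp)
        map_mul' := fun a b => Subtype.ext (by
          show x⁻¹ * ((a : G) * b * x * ((a : G) * b)⁻¹) =
            x⁻¹ * ((a : G) * x * (a : G)⁻¹) * (x⁻¹ * ((b : G) * x * (b : G)⁻¹))
          have hb : x⁻¹ * ((b : G) * x * (b : G)⁻¹) ∈ N := subset_closure ⟨x, b, hx, rfl⟩
          have := mem_centralizer_iff.1 a.2 _ hb
          calc x⁻¹ * ((a : G) * b * x * ((a : G) * b)⁻¹)
              = x⁻¹ * ((a : G) * x * (x⁻¹ * ((b : G) * x * (b : G)⁻¹)) * (a : G)⁻¹) := by group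
            _ = x⁻¹ * ((a : G) * x * ((a : G)⁻¹ * ((a : G) * (x⁻¹ * ((b : G) * x * (b : G)⁻¹)))) * (a : G)⁻¹) := by
                rw [inv_mul_cancel_left]
            _ = _ := by rw [← this]; group) }
    have hker : (centralizer ({x} : Set G)).subgroupOf W = c.ker := by
      ext g
      rw [mem_subgroupOf, mem_centralizer_singleton_iff, MonoidHom.mem_ker]
      constructor
      · intro h
        exact Subtype.ext (show x⁻¹ * ((g : G) * x * (g : G)⁻¹) = 1 by rw [h]; group)
      · intro h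
        have h' : x⁻¹ * ((g : G) * x * (g : G)⁻¹) = 1 := congrArg Subtype.val h
        rw [inv_mul_eq_one, eq_mul_inv_iff_mul_eq] at h'
        exact h'.symm
    haveI : W.Normal := Subgroup.normal_centralizer
    refine eq_one_of (hx.of_dvd (relIndex_dvd_index_of_normal_right W _)) (hNT.of_dvd ?_)
    rw [relIndex, hker, index_ker]
    exact card_subgroup_dvd_card _
  -- the abelian normal subgroup `L`
  set L := closure ({x | PN S (sz x)} : Set G) with hLdef
  have hLW : L ≤ W := (closure_le _).2 fun x hx => hxW x hx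
  have hLc : ∀ a ∈ L, ∀ b ∈ L, a * b = b * a := by
    intro a ha b hb
    induction hb using closure_induction with
    | mem b hb => exact mem_centralizer_singleton_iff.1 (hWC b hb (hLW ha))
    | one => rw [mul_one, one_mul]
    | mul b c _ _ hb hc => exact (Commute.mul_right hb hc : Commute a (b * c))
    | inv b _ hb => exact (Commute.inv_right (hb : Commute a b) : Commute a b⁻¹)
  haveI hLn : L.Normal := by
    refine ⟨fun n hn g => ?_⟩
    induction hn using closure_induction with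
    | mem n hn => exact subset_closure (show PN S (sz (g * n * g⁻¹)) by rw [sz_conj]; exact hn)
    | one => simpa using one_mem L
    | mul a b _ _ ha hb => rw [show g * (a * b) * g⁻¹ = g * a * g⁻¹ * (g * b * g⁻¹) by group]; exact mul_mem ha hb
    | inv a _ ha => rw [show g * a⁻¹ * g⁻¹ = (g * a * g⁻¹)⁻¹ by group]; exact inv_mem ha
  have hphi : ∀ g : G, ∀ l ∈ L, l⁻¹ * (g * l * g⁻¹) ∈ N := by
    intro g l hl
    induction hl using closure_induction with
    | mem x hx => exact subset_closure ⟨x, g, hx, rfl⟩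
    | one => simpa using one_mem N
    | mul a b haL _ ha hb =>
      have e : (a * b)⁻¹ * (g * (a * b) * g⁻¹) = b⁻¹ * (a⁻¹ * (g * a * g⁻¹)) * b * (b⁻¹ * (g * b * g⁻¹)) := by group
      rw [e]
      exact mul_mem (hNn.conj_mem' _ ha b) hb
    | inv a _ ha =>
      have e : a⁻¹⁻¹ * (g * a⁻¹ * g⁻¹) = a * (a⁻¹ * (g * a * g⁻¹))⁻¹ * a⁻¹ := by group
      rw [e]
      exact hNn.conj_mem _ (inv_mem ha) a
  have hNL : N ≤ L := (closure_le _).2 fun n hn => by
    obtain ⟨x, g, hx, rfl⟩ := hn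
    exact L.mul_mem (inv_mem (subset_closure hx)) (hLn.conj_mem _ (subset_closure hx) g)
  have hNc : ∀ a ∈ N, ∀ b ∈ N, a * b = b * a := fun a ha b hb => hLc a (hNL ha) b (hNL hb)
  have hLS : ∀ l ∈ L, PN S (orderOf l) → l ∈ center G := by
    intro l hl ho
    refine mem_center_iff.2 fun g => ?_
    have hn := hphi g l hl
    have hpow : (l⁻¹ * (g * l * g⁻¹)) ^ orderOf l = 1 := by
      have hc : Commute l⁻¹ (g * l * g⁻¹) := (Commute.inv_left (hLc l hl _ (hLn.conj_mem l hl g) : Commute _ _) :)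
      rw [hc.mul_pow, inv_pow, pow_orderOf_eq_one, inv_one, one_mul, conj_pow, pow_orderOf_eq_one, mul_one, mul_inv_cancel]
    have h1 : orderOf (l⁻¹ * (g * l * g⁻¹)) = 1 :=
      eq_one_of (ho.of_dvd (orderOf_dvd_of_pow_eq_one hpow)) (hNT.of_dvd (Subgroup.orderOf_dvd_natCard N hn))
    rw [orderOf_eq_one_iff, inv_mul_eq_one, eq_mul_inv_iff_mul_eq] at h1
    exact h1.symm
  obtain ⟨P⟩ : Nonempty (Sylow p G) := inferInstance
  set H := centralizer ((P : Subgroup G) : Set G) with hHdef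
  have hcover : ∀ g : G, ¬ p ∣ sz g → ∃ t : G, t⁻¹ * g * t ∈ H := by
    intro g hg
    obtain ⟨t, c, hc, rfl⟩ := Cfsg.Agent.S4160.cover_of_coprime P hg
    refine ⟨t.out, ?_⟩
    rw [show t.out⁻¹ * (t.out * c * t.out⁻¹) * t.out = c by group]
    exact hc
  have hGLH : ∀ g : G, ∃ l ∈ L, ∃ h ∈ H, g = l * h := by
    have htop : H.map (QuotientGroup.mk' L) = ⊤ := by
      refine eq_top_of_conj_cover _ fun q => ?_
      obtain ⟨g, rfl⟩ := QuotientGroup.mk'_surjective L q
      by_cases hgL : g ∈ L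
      · refine ⟨1, ?_⟩
        rw [show QuotientGroup.mk' L g = 1 from (QuotientGroup.eq_one_iff g).2 hgL]
        simpa using one_mem (H.map (QuotientGroup.mk' L))
      · obtain ⟨t, ht⟩ := hcover g fun h => hgL (subset_closure (hpiso g h))
        exact ⟨QuotientGroup.mk' L t, ⟨_, ht, by rw [map_mul, map_mul, map_inv]⟩⟩
    intro g
    have h1 : g ∈ (H.map (QuotientGroup.mk' L)).comap (QuotientGroup.mk' L) := by
      rw [htop, comap_top]; trivial
    rw [comap_map_eq, QuotientGroup.ker_mk', sup_comm] at h1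
    obtain ⟨l, hl, h, hh, rfl⟩ := Subgroup.mem_sup_of_normal_left.1 h1
    exact ⟨l, hl, h, hh, rfl⟩
  obtain ⟨n, hn⟩ := IsPGroup.iff_card.1 P.2
  have hPS : PN S (Nat.card (P : Subgroup G)) := fun q hq hqd => by
    rw [hn] at hqd
    rw [(Nat.prime_dvd_prime_iff_eq hq hp).1 (hq.dvd_of_dvd_pow hqd)]
    exact hpS
  have hPord : ∀ u ∈ (P : Subgroup G), PN S (orderOf u) := fun u hu =>
    hPS.of_dvd (Subgroup.orderOf_dvd_natCard _ hu)
  have hPN : ∀ a ∈ (P : Subgroup G), a ∈ N → a = 1 := fun a ha haN =>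
    orderOf_eq_one_iff.1 (eq_one_of (hPord a ha) (hNT.of_dvd (Subgroup.orderOf_dvd_natCard N haN)))
  have hHu : ∀ h ∈ H, ∀ u ∈ (P : Subgroup G), u * h = h * u := fun h hh u hu => mem_centralizer_iff.1 hh u hu
  have hPab : ∀ u ∈ (P : Subgroup G), u ∈ H := by
    intro u hu
    refine mem_centralizer_iff.2 fun v hv => ?_
    obtain ⟨l, hl, h, hh, rfl⟩ := hGLH u
    have e : (l * h) * v * (l * h)⁻¹ * v⁻¹ = l * (v * l⁻¹ * v⁻¹) := by
      calc (l * h) * v * (l * h)⁻¹ * v⁻¹ = l * (h * v) * h⁻¹ * l⁻¹ * v⁻¹ := by group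
        _ = l * (v * h) * h⁻¹ * l⁻¹ * v⁻¹ := by rw [hHu h hh v hv]
        _ = _ := by group
    have h1 : (l * h) * v * (l * h)⁻¹ * v⁻¹ ∈ N := by
      rw [e]
      have := hphi v l⁻¹ (inv_mem hl)
      rwa [inv_inv] at this
    have h2 := hPN _ (mul_mem (mul_mem (mul_mem hu hv) (inv_mem hu)) (inv_mem hv)) h1
    rw [mul_inv_eq_one, mul_inv_eq_iff_eq_mul] at h2
    exact h2.symm
  have hGNH : ∀ g : G, ∃ a ∈ N, ∃ h ∈ H, g = a * h := by
    have hsn : ((P : Subgroup G) ⊔ N).Normal := by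
      refine ⟨fun z hz g => ?_⟩
      obtain ⟨u, hu, a, ha, rfl⟩ := Subgroup.mem_sup_of_normal_right.1 hz
      obtain ⟨l, hl, h, hh, rfl⟩ := hGLH g
      have e : (l * h) * (u * a) * (l * h)⁻¹ = u * (u⁻¹ * (l * u * l⁻¹)) * ((l * h) * a * (l * h)⁻¹) := by
        calc (l * h) * (u * a) * (l * h)⁻¹ = l * (h * u) * h⁻¹ * l⁻¹ * ((l * h) * a * (l * h)⁻¹) := by group
          _ = l * (u * h) * h⁻¹ * l⁻¹ * ((l * h) * a * (l * h)⁻¹) := by rw [hHu h hh u hu]
          _ = _ := by group
      rw [e]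
      refine mul_mem (mul_mem (mem_sup_left hu) (mem_sup_right ?_)) (mem_sup_right (hNn.conj_mem a ha _))
      have := hphi u⁻¹ l hl
      have h3 : l * (l⁻¹ * (u⁻¹ * l * u)) * l⁻¹ ∈ N := hNn.conj_mem _ (by simpa [mul_assoc] using this) l
      have e3 : u⁻¹ * (l * u * l⁻¹) = l * (l⁻¹ * (u⁻¹ * l * u)) * l⁻¹ := by group
      rw [e3]
      exact h3
    intro g
    obtain ⟨a, ha, hga⟩ : ∃ a ∈ N, a⁻¹ * g ∈ normalizer ((P : Subgroup G) : Set G) := by
      haveI := hsn
      have hP' : (P.subtype (le_sup_left : (P : Subgroup G) ≤ (P : Subgroup G) ⊔ N)).map _ = _ :=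
        Subgroup.map_subgroupOf_eq_of_le (le_sup_left : (P : Subgroup G) ≤ (P : Subgroup G) ⊔ N)
      have htop := Sylow.normalizer_sup_eq_top (P.subtype (le_sup_left : (P : Subgroup G) ≤ (P : Subgroup G) ⊔ N))
      rw [hP'] at htop
      have hg : g ∈ normalizer ((P : Subgroup G) : Set G) ⊔ N := by
        have hle : normalizer ((P : Subgroup G) : Set G) ⊔ ((P : Subgroup G) ⊔ N) ≤ normalizer ((P : Subgroup G) : Set G) ⊔ N :=
          sup_le le_sup_left (sup_le (le_normalizer.trans le_sup_left) le_sup_right)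
        exact hle (htop.ge (mem_top g))
      rw [sup_comm] at hg
      obtain ⟨a, ha, b, hb, rfl⟩ := Subgroup.mem_sup_of_normal_left.1 hg
      exact ⟨a, ha, by simpa using hb⟩
    refine ⟨a, ha, a⁻¹ * g, ?_, by group⟩
    set b := a⁻¹ * g
    obtain ⟨l, hl, h, hh, hb⟩ := hGLH b
    refine mem_centralizer_iff.2 fun u hu => ?_
    have hu' : b * u * b⁻¹ ∈ (P : Subgroup G) := (mem_normalizer_iff.1 hga u).1 hu
    have e : (b * u * b⁻¹) * u⁻¹ = l * (u * l⁻¹ * u⁻¹) := by
      calc (b * u * b⁻¹) * u⁻¹ = l * (h * u) * h⁻¹ * l⁻¹ * u⁻¹ := by rw [hb]; group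
        _ = l * (u * h) * h⁻¹ * l⁻¹ * u⁻¹ := by rw [hHu h hh u hu]
        _ = _ := by group
    have h1 : (b * u * b⁻¹) * u⁻¹ ∈ N := by
      rw [e]
      have := hphi u l⁻¹ (inv_mem hl)
      rwa [inv_inv] at this
    have h2 := hPN _ (mul_mem hu' (inv_mem hu)) h1
    rw [mul_inv_eq_one, mul_inv_eq_iff_eq_mul] at h2
    exact h2.symm
  -- `V`
  set V := ⁅N, (P : Subgroup G)⁆ with hVdef
  have hPnorm : (P : Subgroup G) ≤ normalizer (N : Set G) := by rw [normalizer_eq_top_iff.2 hNn]; exact le_top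
  have hcopPN : (Nat.card (P : Subgroup G)).Coprime (Nat.card N) := coprime_of hPS hNT
  have hVN : V ≤ N := CfsgLib.Core.commutator_le_of_normalizes hPnorm
  haveI : IsMulCommutative N := ⟨⟨fun a b => Subtype.ext (hNc a a.2 b b.2)⟩⟩
  have hdec : V ⊔ (N ⊓ H) = N := CfsgLib.Core.commutator_sup_centralizer hPnorm hcopPN (Or.inr (Group.isSolvable_of_comm fun a b => Subtype.ext (hNc a a.2 b b.2)))
  have hd0 : (N ⊓ H) ⊓ V = ⊥ := CfsgLib.Core.abelian_inf_eq_bot hPnorm hcopPN
  have hVH : V ⊓ H = ⊥ := by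
    rw [eq_bot_iff]
    exact fun z hz => hd0.le ⟨⟨hVN hz.1, hz.2⟩, hz.1⟩
  have hHV : ∀ h ∈ H, ∀ v ∈ V, h * v * h⁻¹ ∈ V := by
    intro h hh v hv
    have hle : V ≤ V.comap (MulAut.conj h).toMonoidHom := by
      rw [hVdef, commutator_le]
      intro a ha u hu
      show h * ⁅a, u⁆ * h⁻¹ ∈ V
      rw [conjugate_commutatorElement, show h * u * h⁻¹ = u by rw [← hHu h hh u hu, mul_inv_cancel_right]]
      exact commutator_mem_commutator (hNn.conj_mem a ha h) hu
    exact hle hv
  have hVn : V.Normal := by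
    refine ⟨fun v hv g => ?_⟩
    obtain ⟨a, ha, h, hh, rfl⟩ := hGNH g
    have h1 := hHV h hh v hv
    rw [show (a * h) * v * (a * h)⁻¹ = a * (h * v * h⁻¹) * a⁻¹ by group, hNc a ha _ (hVN h1), mul_inv_cancel_right]
    exact h1
  have hG : ∀ g : G, ∃ v ∈ V, ∃ h ∈ H, g = v * h := by
    intro g
    obtain ⟨a, ha, h, hh, rfl⟩ := hGNH g
    rw [← hdec] at ha
    haveI := hVn
    obtain ⟨v, hv, c, hc, rfl⟩ := Subgroup.mem_sup_of_normal_left.1 ha
    exact ⟨v, hv, c * h, mul_mem hc.2 hh, by group⟩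
  have hVc : ∀ a ∈ V, ∀ b ∈ V, a * b = b * a := fun a ha b hb => hNc a (hVN ha) b (hVN hb)
  have hZH : center G ≤ H := fun z hz => mem_centralizer_iff.2 fun u _ => mem_center_iff.1 hz u
  exact ⟨P, V, hVn, hVc, (Subgroup.card_dvd_of_le hVN).trans hNcard, hVH, hG, hPab, hcover,
    fun g hg ho => hLS g (subset_closure hg) ho⟩

/-- The case in which the largest class size is prime to `S`. -/
theorem core (S : Set ℕ) (hd : ∀ x : G, PN S (sz x) ∨ PN Sᶜ (sz x))
    (hex : ∃ x : G, x ∉ center G ∧ PN S (sz x))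
    {y : G} (hyT : PN Sᶜ (sz y)) (hmax : ∀ z : G, sz z ≤ sz y) :
    ∃ V H : Subgroup G, Split S V H := by
  classical
  obtain ⟨x0, hx0, hx0S⟩ := hex
  obtain ⟨p, hp, hpd⟩ := Nat.exists_prime_and_dvd (fun h => hx0 (mem_center_of_sz.1 h))
  haveI := Fact.mk hp
  have hpS : p ∈ S := hx0S p hp hpd
  obtain ⟨P, V, hVn, hVc, hVcard, hVH, hG, hPab, hcover, hLS⟩ :=
    pre S hpS (fun g hg => (hd g).resolve_right fun h => h p hp hg hpS) hyT hmax
  set H := centralizer ((P : Subgroup G) : Set G) with hHdef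
  obtain ⟨n, hn⟩ := IsPGroup.iff_card.1 P.2
  have hPord : ∀ u ∈ (P : Subgroup G), PN S (orderOf u) := fun u hu q hq hqd => by
    have h1 := hqd.trans (Subgroup.orderOf_dvd_natCard _ hu)
    rw [hn] at h1
    rw [(Nat.prime_dvd_prime_iff_eq hq hp).1 (hq.dvd_of_dvd_pow h1)]
    exact hpS
  have hQ : ∀ g : G, g ∉ center G → PN S (orderOf g) → PN Sᶜ (sz g) := fun g hg ho =>
    (hd g).resolve_left fun h => hg (hLS g h ho)
  have hHu : ∀ h ∈ H, ∀ u ∈ (P : Subgroup G), u * h = h * u := fun h hh u hu => mem_centralizer_iff.1 hh u hu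
  have hZH : center G ≤ H := fun z hz => mem_centralizer_iff.2 fun u _ => mem_center_iff.1 hz u
  -- classes of the elements of `V`
  have hvS : ∀ v ∈ V, v ≠ 1 → v ∉ center G ∧ PN S (sz v) := by
    intro v hv hv1
    have hpv : p ∣ sz v := by
      by_contra hnd
      obtain ⟨t, ht⟩ := hcover v hnd
      have h1 : t⁻¹ * v * t = 1 := Subgroup.mem_bot.1 (hVH.le ⟨hVn.conj_mem' v hv t, ht⟩)
      exact hv1 (by
        calc v = t * (t⁻¹ * v * t) * t⁻¹ := by group
          _ = 1 := by rw [h1]; group)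
    refine ⟨fun hz => ?_, (hd v).resolve_right fun h => h p hp hpv hpS⟩
    · rw [mem_center_of_sz.2 hz] at hpv
      exact hp.not_dvd_one hpv
  obtain ⟨u, huP, huz⟩ : ∃ u ∈ (P : Subgroup G), u ∉ center G := by
    by_contra hcon
    push Not at hcon
    have hle : (P : Subgroup G) ≤ centralizer ({x0} : Set G) := fun u hu =>
      mem_centralizer_singleton_iff.2 (mem_center_iff.1 (hcon u hu) x0).symm
    exact P.not_dvd_index (hpd.trans (index_dvd_of_le hle))
  have hVne : V ≠ ⊥ := by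
    intro hb
    refine huz (mem_center_iff.2 fun g => ?_)
    obtain ⟨v, hv, h, hh, rfl⟩ := hG g
    rw [Subgroup.mem_bot.1 (hb.le hv), one_mul]
    exact (hHu h hh u huP).symm
  -- decomposition of elements
  have huniq : ∀ v ∈ V, ∀ h ∈ H, ∀ v' ∈ V, ∀ h' ∈ H, v * h = v' * h' → v = v' ∧ h = h' := by
    intro v hv h hh v' hv' h' hh' e
    have h1 : v'⁻¹ * v ∈ V ⊓ H := by
      refine Subgroup.mem_inf.2 ⟨mul_mem (inv_mem hv') hv, ?_⟩
      rw [show v'⁻¹ * v = h' * h⁻¹ by rw [eq_mul_inv_iff_mul_eq, mul_assoc, e]; group]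
      exact mul_mem hh' (inv_mem hh)
    rw [hVH, Subgroup.mem_bot, inv_mul_eq_one] at h1
    subst h1
    exact ⟨rfl, mul_left_cancel e⟩
  have hmix : ∀ v ∈ V, v ≠ 1 → ∀ h : G, h ∉ center G → PN Sᶜ (sz h) → sz v ∣ sz (h * v) → sz h ∣ sz (h * v) → False := by
    intro v hv hv1 h hh hhT d1 d2
    obtain ⟨hvz, hvsz⟩ := hvS v hv hv1
    rcases hd (h * v) with hS' | hT'
    · exact hh (mem_center_of_sz.1 (eq_one_of (hS'.of_dvd d2) hhT))
    · exact hvz (mem_center_of_sz.1 (eq_one_of hvsz (hT'.of_dvd d1)))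
  have hcop_split : ∀ a b : G, Commute a b → (orderOf a).Coprime (orderOf b) →
      sz a ∣ sz (a * b) ∧ sz b ∣ sz (a * b) := by
    intro a b hab hco
    have key : ∀ a b : G, Commute a b → (orderOf a).Coprime (orderOf b) →
        centralizer ({a * b} : Set G) ≤ centralizer ({a} : Set G) := by
      intro a b hab hco c hc
      rw [mem_centralizer_singleton_iff] at hc ⊢
      obtain ⟨k, hk⟩ := exists_pow_eq_self_of_coprime (x := a) (n := orderOf b) hco.symm
      have e : a = ((a * b) ^ orderOf b) ^ k := by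
        rw [hab.mul_pow, pow_orderOf_eq_one, mul_one, hk]
      rw [e]
      exact ((Commute.pow_right (hc : Commute c (a * b)) _).pow_right k).eq
    exact ⟨sz_dvd_of_centralizer_le (key a b hab hco),
      sz_dvd_of_centralizer_le (by rw [hab.eq]; exact key b a hab.symm hco.symm)⟩
  have hvT : ∀ v ∈ V, PN Sᶜ (orderOf v) := fun v hv =>
    hyT.of_dvd ((Subgroup.orderOf_dvd_natCard V hv).trans hVcard)
  -- (i) `S`-elements
  have hSel : ∀ h ∈ H, PN S (orderOf h) → ∀ v ∈ V, Commute h v → v = 1 ∨ h ∈ center G := by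
    intro h hh ho v hv hc
    by_contra hcon
    push Not at hcon
    obtain ⟨d1, d2⟩ := hcop_split h v hc (coprime_of ho (hvT v hv))
    exact hmix v hv hcon.1 h hcon.2 (hQ h hcon.2 ho) d2 d1
  -- (ii) elements of order prime to `S`
  have hTel : ∀ r : ℕ, r.Prime → r ∉ S → ∀ h ∈ H, (∃ k, h ^ r ^ k = 1) → h ∈ center G := by
    intro r hr hrS h hh ⟨k, hk⟩
    haveI := Fact.mk hr
    have hho : PN Sᶜ (orderOf h) := fun q hq hqd => by
      rw [(Nat.prime_dvd_prime_iff_eq hq hr).1 (hq.dvd_of_dvd_pow (hqd.trans (orderOf_dvd_of_pow_eq_one hk)))]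
      exact hrS
    by_contra hz
    have hhT : PN Sᶜ (sz h) := by
      refine (hd h).resolve_left fun hhS => ?_
      have hc : Commute u h := hHu h hh u huP
      obtain ⟨d1, d2⟩ := hcop_split u h hc (coprime_of (hPord u huP) hho)
      rcases hd (u * h) with h' | h'
      · exact huz (mem_center_of_sz.1 (eq_one_of (h'.of_dvd d1) (hQ u huz (hPord u huP))))
      · exact hz (mem_center_of_sz.1 (eq_one_of hhS (h'.of_dvd d2)))
    -- it centralises all of `V`
    have hcent : ∀ v ∈ V, h * v = v * h := by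
      intro v hv
      rcases eq_or_ne v 1 with rfl | hv1
      · rw [mul_one, one_mul]
      obtain ⟨hvz, hvsz⟩ := hvS v hv hv1
      obtain ⟨R, hR⟩ := (IsPGroup.of_card (n := (Nat.card (zpowers h)).factorization r) (by
        obtain ⟨i, -, hi⟩ := (Nat.dvd_prime_pow hr).1 (orderOf_dvd_of_pow_eq_one hk)
        rw [Nat.card_zpowers, hi, hr.factorization_pow, Finsupp.single_eq_same]) : IsPGroup r (zpowers h)).exists_le_sylow
      have hndvd : ¬ r ∣ sz v := fun hd' => hrS (hvsz r hr hd')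
      obtain ⟨R', hR'⟩ : ∃ R' : Sylow r G, (R' : Subgroup G) ≤ centralizer ({v} : Set G) := by
        obtain ⟨t, c, hc, hvc⟩ := Cfsg.Agent.S4160.cover_of_coprime R hndvd
        refine ⟨t.out • R, ?_⟩
        rintro _ ⟨a, ha, rfl⟩
        refine mem_centralizer_singleton_iff.2 ?_
        show t.out * a * t.out⁻¹ * v = v * (t.out * a * t.out⁻¹)
        rw [hvc]
        calc t.out * a * t.out⁻¹ * (t.out * c * t.out⁻¹) = t.out * (a * c) * t.out⁻¹ := by group
          _ = t.out * (c * a) * t.out⁻¹ := by rw [mem_centralizer_iff.1 hc a ha]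
          _ = _ := by group
      obtain ⟨g, hg⟩ := MulAction.exists_smul_eq G R R'
      obtain ⟨a, ha, b, hb, rfl⟩ := hG g
      have h1 : (a * b) * h * (a * b)⁻¹ ∈ centralizer ({v} : Set G) := hR' (by
        rw [← hg, Sylow.coe_subgroup_smul]
        exact ⟨h, hR (mem_zpowers h), rfl⟩)
      rw [mem_centralizer_singleton_iff] at h1
      have h2 : Commute (b * h * b⁻¹) v := by
        have hav : a⁻¹ * v * a = v := by rw [hVc _ (inv_mem ha) v hv, inv_mul_cancel_right]
        calc b * h * b⁻¹ * v = a⁻¹ * ((a * b) * h * (a * b)⁻¹ * (a * (a⁻¹ * v * a) * a⁻¹)) * a := by rw [hav]; group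
          _ = a⁻¹ * ((a * b) * h * (a * b)⁻¹ * v) * a := by group
          _ = a⁻¹ * (v * ((a * b) * h * (a * b)⁻¹)) * a := by rw [h1]
          _ = (a⁻¹ * v * a) * (b * h * b⁻¹) := by group
          _ = v * (b * h * b⁻¹) := by rw [hav]
      set h' := b * h * b⁻¹ with hh'
      have hcop : (sz h').Coprime (sz v) := (coprime_of hvsz (by rw [sz_conj]; exact hhT)).symm
      obtain ⟨c, hc, d, hd', hcd⟩ := exists_mul_of_coprime hcop b
      rw [mem_centralizer_singleton_iff] at hc hd'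
      have h3 : Commute h' (b * v * b⁻¹) := by
        have e : b * v * b⁻¹ = c * v * c⁻¹ := by
          rw [hcd]
          calc c * d * v * (c * d)⁻¹ = c * (d * v) * d⁻¹ * c⁻¹ := by group
            _ = c * v * c⁻¹ := by rw [hd']; group
        rw [e]
        have e' : h' = c * h' * c⁻¹ := by rw [hc, mul_inv_cancel_right]
        rw [e']
        exact (Commute.conj_iff c).2 h2
      exact ((Commute.conj_iff b).1 h3).eq
    obtain ⟨⟨v, hv⟩, hv1'⟩ := ne_bot_iff_exists_ne_one.1 hVne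
    have hv1 : v ≠ 1 := fun e => hv1' (Subtype.ext e)
    obtain ⟨hvz, hvsz⟩ := hvS v hv hv1
    have hle : centralizer ({h * v} : Set G) ≤ centralizer ({h} : Set G) ⊓ centralizer ({v} : Set G) := by
      intro g hg
      rw [mem_centralizer_singleton_iff] at hg
      obtain ⟨a, ha, b, hb, rfl⟩ := hG g
      have hbh : b * h * b⁻¹ ∈ H := mul_mem (mul_mem hb hh) (inv_mem hb)
      have hbv : b * v * b⁻¹ ∈ V := hVn.conj_mem v hv b
      have e : (b * v * b⁻¹) * (b * h * b⁻¹) = v * h := by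
        have hab : Commute a (h * v) := Commute.mul_right (hcent a ha).symm (hVc a ha v hv)
        have hb' : b * (h * v) = h * v * b := by
          refine mul_left_cancel (a := a) ?_
          rw [← mul_assoc, hg, ← mul_assoc a (h * v), hab.eq, mul_assoc (h * v)]
        calc b * v * b⁻¹ * (b * h * b⁻¹) = b * (v * h) * b⁻¹ := by group
          _ = b * (h * v) * b⁻¹ := by rw [hcent v hv]
          _ = v * h := by rw [hb', mul_inv_cancel_right, hcent v hv]
      obtain ⟨ev, eh⟩ := huniq _ hbv _ hbh _ hv _ hh e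
      rw [mul_inv_eq_iff_eq_mul] at ev eh
      refine Subgroup.mem_inf.2 ⟨mem_centralizer_singleton_iff.2 ?_, mem_centralizer_singleton_iff.2 ?_⟩
      · rw [mul_assoc, eh, ← mul_assoc, ← hcent a ha, mul_assoc]
      · rw [mul_assoc, ev, ← mul_assoc, hVc a ha v hv, mul_assoc]
    exact hmix v hv hv1 h hz hhT (sz_dvd_of_centralizer_le (hle.trans inf_le_right))
      (sz_dvd_of_centralizer_le (hle.trans inf_le_left))
  -- the quotient `H / Z` is an `S`-group
  have hordH : ∀ h ∈ H, PN S (orderOf (QuotientGroup.mk' (center G) h)) := by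
    intro h hh r hr hrd
    by_contra hrS
    haveI := Fact.mk hr
    set n := orderOf h with hn'
    set m := n / r ^ n.factorization r with hm
    have hm1 : ¬ r ∣ m := Nat.not_dvd_ordCompl hr (orderOf_pos h).ne'
    have hz : h ^ m ∈ center G := hTel r hr hrS _ (pow_mem hh m) ⟨n.factorization r, by
      rw [← pow_mul, hm, Nat.div_mul_cancel (Nat.ordProj_dvd n r), pow_orderOf_eq_one]⟩
    refine hm1 (hrd.trans (orderOf_dvd_of_pow_eq_one ?_))
    rw [← map_pow]
    exact (QuotientGroup.eq_one_iff _).2 hz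
  have hred : ∀ h ∈ H, ∃ k ∈ H, PN S (orderOf k) ∧ k⁻¹ * h ∈ center G ∧ Commute h k := by
    intro h hh
    set d := orderOf (QuotientGroup.mk' (center G) h) with hdd
    obtain ⟨a, b, hab, haS, hbS⟩ : ∃ a b : ℕ, a * b = orderOf h ∧ PN S a ∧ PN Sᶜ b := by
      suffices hsuf : ∀ n : ℕ, n ≠ 0 → ∃ a b : ℕ, a * b = n ∧ PN S a ∧ PN Sᶜ b from hsuf _ (orderOf_pos h).ne'
      refine fun n => Nat.recOnMul (fun h => absurd rfl h) ?_ ?_ ?_ n
      · exact fun _ => ⟨1, 1, rfl, fun q hq hd => absurd (Nat.dvd_one.1 hd) hq.ne_one,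
          fun q hq hd => absurd (Nat.dvd_one.1 hd) hq.ne_one⟩
      · intro q hq _
        by_cases hqS : q ∈ S
        · exact ⟨q, 1, mul_one q, fun r hr hd => (Nat.prime_dvd_prime_iff_eq hr hq).1 hd ▸ hqS,
            fun q hq hd => absurd (Nat.dvd_one.1 hd) hq.ne_one⟩
        · exact ⟨1, q, one_mul q, fun q hq hd => absurd (Nat.dvd_one.1 hd) hq.ne_one,
            fun r hr hd => (Nat.prime_dvd_prime_iff_eq hr hq).1 hd ▸ hqS⟩
      · intro x y hx hy hxy
        obtain ⟨a, b, rfl, ha, hb⟩ := hx (left_ne_zero_of_mul hxy)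
        obtain ⟨a', b', rfl, ha', hb'⟩ := hy (right_ne_zero_of_mul hxy)
        exact ⟨a * a', b * b', by ring, fun q hq hd => (hq.dvd_mul.1 hd).elim (ha q hq) (ha' q hq),
          fun q hq hd => (hq.dvd_mul.1 hd).elim (hb q hq) (hb' q hq)⟩
    obtain ⟨e, he⟩ := exists_pow_eq_self_of_coprime (x := QuotientGroup.mk' (center G) h) (n := b)
      ((coprime_of (hordH h hh) hbS).symm)
    refine ⟨(h ^ b) ^ e, pow_mem (pow_mem hh b) e, haS.of_dvd ?_, ?_, ((Commute.refl h).pow_right b).pow_right e⟩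
    · refine orderOf_dvd_of_pow_eq_one ?_
      rw [← pow_mul, ← pow_mul, show b * (e * a) = (a * b) * e by ring, hab, pow_mul, pow_orderOf_eq_one, one_pow]
    · refine (QuotientGroup.eq_one_iff _).1 ?_
      show QuotientGroup.mk' (center G) _ = 1
      rw [map_mul, map_inv, map_pow, map_pow, he, inv_mul_cancel]
  have hsemi : ∀ v ∈ V, ∀ h ∈ H, v * h = h * v → v = 1 ∨ h ∈ center G := by
    intro v hv h hh hvh
    obtain ⟨k, hk, hkS, hkz, -⟩ := hred h hh
    have hkv : Commute k v := by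
      have e : k = h * (k⁻¹ * h)⁻¹ := by group
      rw [e]
      exact (Commute.mul_left (hvh.symm : Commute h v)
        ((Commute.inv_left (show Commute (k⁻¹ * h) v from (mem_center_iff.1 hkz v).symm)) :) :)
    refine (hSel k hk hkS v hv hkv).imp_right fun hkc => ?_
    have := mul_mem hkc hkz
    rwa [mul_inv_cancel_left] at this
  refine ⟨V, H, hVn, hVc, ?_, hZH, hVH, hG, hVne, fun e => huz (e.le (hPab u huP)), hsemi⟩
  intro h1 hh1 h2 hh2
  by_contra hne
  have hh1z : h1 ∉ center G := fun hz => hne (mem_center_iff.1 hz h2).symm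
  obtain ⟨k, hk, hkS, hkz, hck⟩ := hred h1 hh1
  have hkc : centralizer ({k} : Set G) = centralizer ({h1} : Set G) := by
    ext g
    rw [mem_centralizer_singleton_iff, mem_centralizer_singleton_iff]
    have hgz : Commute g (k⁻¹ * h1) := mem_center_iff.1 hkz g
    constructor
    · intro hg
      have := Commute.mul_right (hg : Commute g k) hgz
      rwa [mul_inv_cancel_left] at this
    · intro hg
      have := Commute.mul_right (hg : Commute g h1) (Commute.inv_right hgz)
      rwa [show h1 * (k⁻¹ * h1)⁻¹ = k by group] at this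
  have hT1 : PN Sᶜ (sz h1) := by
    have hszk : sz k = sz h1 := by rw [sz, sz, hkc]
    rw [← hszk]
    refine hQ k (fun hz => hh1z ?_) hkS
    rw [← mem_center_of_sz, ← hszk, mem_center_of_sz]; exact hz
  have hCle : centralizer ({h1} : Set G) ≤ H := by
    intro g hg
    rw [mem_centralizer_singleton_iff] at hg
    obtain ⟨a, ha, b, hb, rfl⟩ := hG g
    set h' := b * h1 * b⁻¹ with hh'
    have hh'H : h' ∈ H := mul_mem (mul_mem hb hh1) (inv_mem hb)
    have e0 : a * h' = h1 * a := by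
      calc a * h' = a * b * h1 * b⁻¹ := by rw [hh']; group
        _ = h1 * (a * b) * b⁻¹ := by rw [hg]
        _ = h1 * a := by group
    have e1 : (a * (h' * a⁻¹ * h'⁻¹)) * h' = 1 * h1 := by
      calc (a * (h' * a⁻¹ * h'⁻¹)) * h' = a * h' * a⁻¹ := by group
        _ = 1 * h1 := by rw [e0]; group
    obtain ⟨-, e2⟩ := huniq _ (mul_mem ha (hVn.conj_mem _ (inv_mem ha) h')) _ hh'H _ (one_mem V) _ hh1 e1
    rw [e2] at e0
    rcases hsemi a ha h1 hh1 e0 with h | h
    · rw [h, one_mul]; exact hb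
    · exact absurd h hh1z
  have hd1 : (centralizer ({h1} : Set G)).relIndex H ∣ sz h1 :=
    ⟨H.index, (relIndex_mul_index hCle).symm⟩
  have hd2 : PN S ((center G).relIndex H) := by
    intro r hr hrd
    haveI := Fact.mk hr
    rw [show (center G).relIndex H = Nat.card (H.map (QuotientGroup.mk' (center G))) by
      rw [← relIndex_ker, QuotientGroup.ker_mk']] at hrd
    obtain ⟨⟨q, hq⟩, hqo⟩ := exists_prime_orderOf_dvd_card' r hrd
    obtain ⟨h', hh', rfl⟩ := id hq
    have hqo' : orderOf (QuotientGroup.mk' (center G) h') = r := by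
      rw [← hqo, ← Subgroup.orderOf_coe]
    exact hordH h' hh' r hr (hqo' ▸ dvd_rfl)
  have hone : (centralizer ({h1} : Set G)).relIndex H = 1 := by
    refine eq_one_of (hd2.of_dvd (relIndex_dvd_of_le_left H ?_)) (hT1.of_dvd hd1)
    intro z hz
    exact mem_centralizer_singleton_iff.2 (mem_center_iff.1 hz h1).symm
  exact hne (mem_centralizer_singleton_iff.1 (relIndex_eq_one.1 hone hh2)).symm

/-- **The structure theorem.** -/
theorem exists_split (S : Set ℕ) (hd : ∀ x : G, PN S (sz x) ∨ PN Sᶜ (sz x))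
    (hex : ∃ x : G, x ∉ center G ∧ PN S (sz x)) (hex' : ∃ x : G, x ∉ center G ∧ PN Sᶜ (sz x)) :
    ∃ (S' : Set ℕ) (V H : Subgroup G), Split S' V H := by
  obtain ⟨y, hy⟩ := Finite.exists_max (sz : G → ℕ)
  rcases hd y with h | h
  · exact ⟨Sᶜ, core Sᶜ (fun x => (hd x).symm.imp_right (by rw [compl_compl]; exact id)) hex'
      (by rw [compl_compl]; exact h) hy⟩
  · exact ⟨S, core S hd hex h hy⟩

section Consequences

variable {S : Set ℕ} {V H : Subgroup G}

open scoped Pointwise

theorem split_commute (h : Split S V H) {v x : G} (hv : v ∈ V) (hx : x ∈ H) (hxz : x ∉ center G)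
    (hc : v * x = x * v) : v = 1 :=
  (h.2.2.2.2.2.2.2.2 v hv x hx hc).resolve_right hxz

theorem sz_right (h : Split S V H) {x : G} (hx : x ∈ H) (hxz : x ∉ center G) :
    centralizer ({x} : Set G) = H := by
  obtain ⟨hVn, hVc, hHc, -, -, hG, -, -, -⟩ := id h
  refine le_antisymm (fun g hg => ?_) fun g hg => mem_centralizer_singleton_iff.2 (hHc g hg x hx)
  rw [mem_centralizer_singleton_iff] at hg
  obtain ⟨a, ha, b, hb, rfl⟩ := hG g
  have e : a * x = x * a := by
    refine mul_right_cancel (b := b) ?_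
    rw [mul_assoc, ← hHc b hb x hx, ← mul_assoc, hg, mul_assoc]
  rw [split_commute h ha hx hxz e, one_mul]
  exact hb

theorem sz_left (h : Split S V H) {v : G} (hv : v ∈ V) (hv1 : v ≠ 1) :
    sz v = (center G).relIndex H := by
  obtain ⟨hVn, hVc, hHc, -, -, hG, -, -, -⟩ := id h
  have heq : (centralizer ({v} : Set G)).subgroupOf H = (center G).subgroupOf H := by
    ext g
    rw [mem_subgroupOf, mem_subgroupOf, mem_centralizer_singleton_iff]
    constructor
    · intro hg
      by_contra hz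
      exact hv1 (split_commute h hv g.2 hz hg.symm)
    · exact fun hg => (mem_center_iff.1 hg v).symm
  let f : H ⧸ (centralizer ({v} : Set G)).subgroupOf H → G ⧸ centralizer ({v} : Set G) :=
    Quotient.map' Subtype.val fun a b hab => by
      rw [QuotientGroup.leftRel_apply] at hab ⊢; exact hab
  have hf : Function.Bijective f := by
    constructor
    · rintro ⟨a⟩ ⟨b⟩ hab
      change (((a : G)) : G ⧸ centralizer ({v} : Set G)) = ((b : G)) at hab
      refine QuotientGroup.eq.2 ?_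
      rw [mem_subgroupOf, coe_mul, coe_inv]
      exact (QuotientGroup.eq (s := centralizer ({v} : Set G))).1 hab
    · rintro ⟨g⟩
      obtain ⟨a, ha, b, hb, rfl⟩ := hG g
      refine ⟨((⟨b, hb⟩ : H) : H ⧸ _), ?_⟩
      show ((b : G) : G ⧸ centralizer ({v} : Set G)) = ((a * b : G) : G ⧸ centralizer ({v} : Set G))
      rw [QuotientGroup.eq, ← mul_assoc]
      exact mem_centralizer_singleton_iff.2 (hVc _ (hVn.conj_mem' a ha b) v hv)
  rw [sz, index_eq_card, ← Nat.card_congr (Equiv.ofBijective f hf), relIndex, index_eq_card, heq]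

theorem index_right (h : Split S V H) : H.index = Nat.card V := by
  obtain ⟨-, -, -, -, hd, hG, -, -, -⟩ := id h
  have hc : IsComplement' V H := isComplement'_of_disjoint_and_mul_eq_univ (disjoint_iff.2 hd)
    (Set.eq_univ_of_forall fun g => by
      obtain ⟨v, hv, x, hx, rfl⟩ := hG g
      exact Set.mul_mem_mul hv hx)
  exact hc.index_eq_card

theorem frobenius (h : Split S V H) :
    Cfsg.IsFrobeniusComplement (H.map (QuotientGroup.mk' (center G))) ∧
    Cfsg.frobeniusKernel (H.map (QuotientGroup.mk' (center G))) =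
      (V.map (QuotientGroup.mk' (center G)) : Set (G ⧸ center G)) := by
  classical
  obtain ⟨hVn, hVc, hHc, hZH, hd, hG, hV1, hHZ, -⟩ := id h
  set π := QuotientGroup.mk' (center G) with hπ
  have hs : Function.Surjective π := QuotientGroup.mk'_surjective _
  have hmemH : ∀ {g : G}, π g ∈ H.map π → g ∈ H := fun {g} h => by
    have := mem_comap.2 h
    rwa [comap_map_eq_self (by rw [hπ, QuotientGroup.ker_mk']; exact hZH)] at this
  have hdis : ∀ a ∈ V, a ∈ H → a = 1 := fun a ha ha' => Subgroup.mem_bot.1 (hd.le ⟨ha, ha'⟩)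
  have hsmul : ∀ (q : G) (g : G), π g ∈ MulAut.conj (π q) • H.map π ↔ q⁻¹ * g * q ∈ H := by
    intro q g
    rw [mem_pointwise_smul_iff_inv_smul_mem, ← map_inv, MulAut.smul_def, MulAut.conj_apply, inv_inv]
    refine ⟨fun h => hmemH (by rwa [map_mul, map_mul, map_inv]), fun h => ?_⟩
    have := mem_map_of_mem π h
    rwa [map_mul, map_mul, map_inv] at this
  refine ⟨⟨?_, ?_, ?_⟩, ?_⟩
  · intro e
    rw [Subgroup.map_eq_bot_iff, QuotientGroup.ker_mk'] at e
    exact hHZ (le_antisymm e hZH)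
  · intro e
    obtain ⟨⟨a, ha⟩, ha1⟩ := ne_bot_iff_exists_ne_one.1 hV1
    exact ha1 (Subtype.ext (hdis a ha (hmemH (e.ge (mem_top _)))))
  · intro q hq
    obtain ⟨g, rfl⟩ := hs q
    rw [eq_bot_iff]
    rintro _ ⟨⟨x, hx, rfl⟩, hx'⟩
    rw [Subgroup.mem_bot]
    refine (QuotientGroup.eq_one_iff x).2 ?_
    by_contra hxz
    have h1 : g⁻¹ * x * g ∈ H := (hsmul g x).1 hx'
    obtain ⟨a, ha, b, hb, rfl⟩ := hG g
    have h2 : a⁻¹ * x * a ∈ H := by
      have := mul_mem (mul_mem hb h1) (inv_mem hb)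
      rwa [show b * ((a * b)⁻¹ * x * (a * b)) * b⁻¹ = a⁻¹ * x * a by group] at this
    have h3 : a⁻¹ * x * a * x⁻¹ = 1 := hdis _
      (by
        rw [show a⁻¹ * x * a * x⁻¹ = a⁻¹ * (x * a * x⁻¹) by group]
        exact mul_mem (inv_mem ha) (hVn.conj_mem a ha x))
      (mul_mem h2 (inv_mem hx))
    rw [mul_inv_eq_one, mul_assoc, inv_mul_eq_iff_eq_mul] at h3
    exact hq (mem_map_of_mem π (by rw [split_commute h ha hx hxz h3.symm, one_mul]; exact hb))
  · ext q
    obtain ⟨g, rfl⟩ := hs q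
    constructor
    · intro hq
      obtain ⟨a, ha, b, hb, rfl⟩ := hG g
      rcases em (b ∈ center G) with hbz | hbz
      · refine ⟨a, ha, ?_⟩
        rw [map_mul, show π b = 1 from (QuotientGroup.eq_one_iff b).2 hbz, mul_one]
      exfalso
      rcases hq with hq | hq
      · have h1 : a * b ∈ center G := (QuotientGroup.eq_one_iff _).1 hq
        have h2 : a = 1 := hdis a ha (by
          have := mul_mem (hZH h1) (inv_mem hb); rwa [mul_inv_cancel_right] at this)
        rw [h2, one_mul] at h1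
        exact hbz h1
      -- `a b` is conjugate to `b`
      let f : V → V := fun c => ⟨(c : G) * (b * (c : G)⁻¹ * b⁻¹), mul_mem c.2 (hVn.conj_mem _ (inv_mem c.2) b)⟩
      have hf : Function.Injective f := by
        intro c d hcd
        have e : (c : G) * (b * (c : G)⁻¹ * b⁻¹) = (d : G) * (b * (d : G)⁻¹ * b⁻¹) := congrArg Subtype.val hcd
        have e' : ((d : G)⁻¹ * c) * b = b * ((d : G)⁻¹ * c) := by
          calc ((d : G)⁻¹ * c) * b = (d : G)⁻¹ * ((c : G) * (b * (c : G)⁻¹ * b⁻¹)) * b * c := by group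
            _ = b * ((d : G)⁻¹ * c) := by rw [e]; group
        have := split_commute h (mul_mem (inv_mem d.2) c.2) hb hbz e'
        exact Subtype.ext (inv_mul_eq_one.1 this).symm
      obtain ⟨c, hc⟩ := (Finite.injective_iff_surjective.1 hf) ⟨a, ha⟩
      have hc' : (c : G) * (b * (c : G)⁻¹ * b⁻¹) = a := congrArg Subtype.val hc
      refine hq (π c) ((hsmul c (a * b)).2 ?_)
      rw [← hc', show (c : G)⁻¹ * ((c : G) * (b * (c : G)⁻¹ * b⁻¹) * b) * c = b by group]
      exact hb
    · rintro ⟨a, ha, hga⟩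
      rw [← hga]
      rcases eq_or_ne a 1 with rfl | ha1
      · exact Or.inl (map_one π)
      refine Or.inr fun q hmem => ha1 ?_
      obtain ⟨t, rfl⟩ := hs q
      have h1 := hdis _ (hVn.conj_mem' a ha t) ((hsmul t a).1 hmem)
      calc a = t * (t⁻¹ * a * t) * t⁻¹ := by group
        _ = 1 := by rw [h1]; group

theorem coprime_left_right (h : Split S V H) : (Nat.card V).Coprime ((center G).relIndex H) := by
  classical
  obtain ⟨hVn, hVc, hHc, hZH, hd, hG, hV1, hHZ, -⟩ := id h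
  set π := QuotientGroup.mk' (center G) with hπ
  haveI : (V.map π).Normal := hVn.map π (QuotientGroup.mk'_surjective _)
  have hcard : Nat.card (V.map π) = Nat.card V := by
    refine Nat.card_congr (Equiv.ofBijective (π.subgroupMap V) ⟨?_, π.subgroupMap_surjective V⟩).symm
    rw [← MonoidHom.ker_eq_bot_iff, Subgroup.eq_bot_iff_forall]
    intro x hx
    refine Subtype.ext (Subgroup.mem_bot.1 (hd.le ⟨x.2, hZH ?_⟩))
    exact (QuotientGroup.eq_one_iff _).1 (congrArg Subtype.val (MonoidHom.mem_ker.1 hx))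
  have hidx : (center G).relIndex H = Nat.card (H.map π) := by rw [← relIndex_ker, hπ, QuotientGroup.ker_mk']
  rw [hidx, ← hcard]
  refine (CfsgLib.Core.FPF.coprime_card ?_ ?_).symm
  · rw [normalizer_eq_top_iff.2 inferInstance]; exact le_top
  rintro _ ⟨x, hx, rfl⟩ hx1
  rw [eq_bot_iff]
  rintro _ ⟨⟨a, ha, rfl⟩, hc⟩
  rw [Subgroup.mem_bot]
  have h1 : π (a * x * a⁻¹ * x⁻¹) = 1 := by
    rw [map_mul, map_mul, map_mul, map_inv, map_inv, mem_centralizer_singleton_iff.1 hc,
      mul_inv_cancel_right, mul_inv_cancel]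
  have h2 : a * x * a⁻¹ * x⁻¹ = 1 := Subgroup.mem_bot.1 (hd.le ⟨by
      rw [show a * x * a⁻¹ * x⁻¹ = a * (x * a⁻¹ * x⁻¹) by group]
      exact mul_mem ha (hVn.conj_mem _ (inv_mem ha) x), hZH ((QuotientGroup.eq_one_iff _).1 h1)⟩)
  rw [mul_inv_eq_one, mul_inv_eq_iff_eq_mul] at h2
  rw [split_commute h ha hx (fun hz => hx1 ((QuotientGroup.eq_one_iff x).2 hz)) h2, map_one]

end Consequences

end CfsgLib.ClassSizes.GraphSplit
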