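import Mathlib
import Cfsg.Agent.Lib.ClassSizes.ClassGraphSplit

/-!
# The prime graph on class sizes has diameter at most three when connected

Owner: helper7.
-/

set_option autoImplicit false
set_option linter.all false

namespace CfsgLib.ClassSizes.GraphDiameter

open Subgroup CfsgLib.ClassSizes.GraphSplit

universe u

variable {G : Type u} [Group G] [Finite G]

/-- `p * q` divides a class size. -/
def Adj (G : Type u) [Group G] (p q : ℕ) : Prop := ∃ g : G, p * q ∣ sz g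

theorem Adj.symm {p q : ℕ} (h : Adj G p q) : Adj G q p :=
  h.imp fun g hg => by rwa [mul_comm]

/-- A walk of length at most three. -/
def Chain (G : Type u) [Group G] (p q : ℕ) : Prop :=
  ∃ r s : ℕ, r.Prime ∧ s.Prime ∧ (r = p ∨ Adj G p r) ∧ (s = r ∨ Adj G r s) ∧ (q = s ∨ Adj G s q)

theorem Chain.symm {p q : ℕ} (h : Chain G p q) : Chain G q p := by
  obtain ⟨r, s, hr, hs, h1, h2, h3⟩ := h
  exact ⟨s, r, hs, hr, h3.imp Eq.symm Adj.symm, h2.imp Eq.symm Adj.symm, h1.imp Eq.symm Adj.symm⟩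

theorem pow_eq_mul_of_dvd {p q : ℕ} (hp : p.Prime) (hq : q.Prime) (hne : p ≠ q) {n : ℕ}
    (h1 : p ∣ n) (h2 : q ∣ n) : p * q ∣ n :=
  ((Nat.coprime_primes hp hq).2 hne).mul_dvd_of_dvd_of_dvd h1 h2

theorem isolated_chain {y : G} (hmax : ∀ z : G, sz z ≤ sz y) {p : ℕ} (hp : p.Prime)
    (hpy : ¬ p ∣ sz y) (hiso : ∀ t : ℕ, t.Prime → t ∣ sz y → ¬ Adj G p t)
    (hconn : ∀ S : Set ℕ, (∃ a ∈ S, (a.Prime ∧ ∃ g : G, a ∣ sz g)) → (∃ b ∉ S, (b.Prime ∧ ∃ g : G, b ∣ sz g)) →
      ∃ a b : ℕ, (a.Prime ∧ ∃ g : G, a ∣ sz g) ∧ (b.Prime ∧ ∃ g : G, b ∣ sz g) ∧ a ∈ S ∧ b ∉ S ∧ Adj G a b)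
    (hpv : ∃ g : G, p ∣ sz g) {q : ℕ} (hq : q.Prime) (hqv : ∃ g : G, q ∣ sz g) (hpq : p ≠ q) :
    Chain G p q := by
  classical
  haveI := Fact.mk hp
  by_cases hadj : Adj G p q
  · exact ⟨p, p, hp, hp, Or.inl rfl, Or.inl rfl, Or.inr hadj⟩
  set S : Set ℕ := {t | ¬ t ∣ sz y} with hS
  have hyT : PN Sᶜ (sz y) := fun t _ ht h => h ht
  have hpS : p ∈ S := hpy
  have hpiso : ∀ g : G, p ∣ sz g → PN S (sz g) := fun g hg t ht htg hty =>
    hiso t ht hty ⟨g, pow_eq_mul_of_dvd hp ht (fun e => hpy (e ▸ hty)) hg htg⟩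
  obtain ⟨P, V, hVn, hVc, hVcard, hVH, hG, hPab, hcover, -⟩ := pre S hpS hpiso hyT hmax
  set H := centralizer ((P : Subgroup G) : Set G) with hH
  have hdis : ∀ a ∈ V, a ∈ H → a = 1 := fun a ha ha' => Subgroup.mem_bot.1 (hVH.le ⟨ha, ha'⟩)
  haveI := hVn
  -- a class size prime to `p` is that of an element of `H` moving `V`
  have key : ∀ r : ℕ, r.Prime → r ≠ p → ¬ Adj G p r → ∀ g : G, r ∣ sz g →
      ∃ w ∈ H, sz w = sz g ∧ ∃ t : ℕ, t.Prime ∧ t ∣ Nat.card V ∧ t ∣ sz g := by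
    intro r hr hrp hna g hrg
    obtain ⟨c, hc⟩ := hcover g fun h => hna ⟨g, pow_eq_mul_of_dvd hp hr (Ne.symm hrp) h hrg⟩
    obtain ⟨w, hw⟩ : ∃ w, w = c⁻¹ * g * c := ⟨_, rfl⟩
    rw [← hw] at hc
    have hsw : sz w = sz g := by rw [← sz_conj c⁻¹ g, hw, inv_inv]
    refine ⟨w, hc, hsw, ?_⟩
    by_contra hcon
    push Not at hcon
    have hVw : V ≤ centralizer ({w} : Set G) := by
      rw [← relIndex_eq_one]
      refine (Nat.coprime_self _).1 (Nat.coprime_of_dvd fun t ht h1 _ => ?_)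
      refine hcon t ht (h1.trans (relIndex_dvd_card _ _)) ?_
      rw [← hsw]
      exact h1.trans (relIndex_dvd_index_of_normal_right V _)
    obtain ⟨v, hv, hv1⟩ : ∃ v ∈ V, v ≠ 1 := by
      by_contra hall
      push Not at hall
      obtain ⟨g₀, hg₀⟩ := hpv
      obtain ⟨u, hu, hun⟩ : ∃ u ∈ (P : Subgroup G), u ∉ center G := by
        by_contra hc'
        push Not at hc'
        exact P.not_dvd_index (hg₀.trans (index_dvd_of_le fun u hu =>
          mem_centralizer_singleton_iff.2 (mem_center_iff.1 (hc' u hu) g₀).symm))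
      refine hun (mem_center_iff.2 fun z => ?_)
      obtain ⟨v, hv, h, hh, rfl⟩ := hG z
      rw [hall v hv, one_mul]
      exact (mem_centralizer_iff.1 hh u hu).symm
    have hCle : centralizer ({v * w} : Set G) ≤ centralizer ({w} : Set G) := by
      intro z hz
      rw [mem_centralizer_singleton_iff] at hz ⊢
      obtain ⟨a, ha, b, hb, rfl⟩ := hG z
      have haw : a * w = w * a := mem_centralizer_singleton_iff.1 (hVw ha)
      have hvw : v * w = w * v := mem_centralizer_singleton_iff.1 (hVw hv)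
      have hb' : b * (v * w) = (v * w) * b := by
        refine mul_left_cancel (a := a) ?_
        rw [← mul_assoc, hz, ← mul_assoc a (v * w),
          (Commute.mul_right (hVc a ha v hv) haw : Commute a (v * w)).eq, mul_assoc (v * w)]
      have h1 : v⁻¹ * (b * v * b⁻¹) ∈ V ⊓ H := by
        refine Subgroup.mem_inf.2 ⟨mul_mem (inv_mem hv) (hVn.conj_mem v hv b), ?_⟩
        have e : v⁻¹ * (b * v * b⁻¹) = w * (b * w⁻¹ * b⁻¹) := by
          calc v⁻¹ * (b * v * b⁻¹) = v⁻¹ * (b * (v * w)) * w⁻¹ * b⁻¹ := by group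
            _ = w * (b * w⁻¹ * b⁻¹) := by rw [hb']; group
        rw [e]
        exact mul_mem hc (mul_mem (mul_mem hb (inv_mem hc)) (inv_mem hb))
      rw [hVH, Subgroup.mem_bot, inv_mul_eq_one, eq_mul_inv_iff_mul_eq] at h1
      have hbw : b * w = w * b := by
        refine mul_left_cancel (a := v) ?_
        rw [← mul_assoc v w b, ← hb', ← mul_assoc, ← mul_assoc, h1]
      rw [mul_assoc, hbw, ← mul_assoc, haw, mul_assoc]
    refine hna ⟨v * w, pow_eq_mul_of_dvd hp hr (Ne.symm hrp) ?_ ((hsw ▸ hrg).trans (index_dvd_of_le hCle))⟩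
    by_contra hnd
    obtain ⟨d, hd⟩ := hcover (v * w) hnd
    obtain ⟨a, ha, b, hb, hab⟩ := hG d
    refine hv1 (hdis v hv ?_)
    have h2 : a⁻¹ * (v * w) * a ∈ H := by
      have := mul_mem (mul_mem hb hd) (inv_mem hb)
      rwa [show b * (d⁻¹ * (v * w) * d) * b⁻¹ = a⁻¹ * (v * w) * a by rw [hab]; group] at this
    rw [mul_assoc, mul_assoc v, ← mem_centralizer_singleton_iff.1 (hVw ha), ← mul_assoc v,
      hVc v hv a ha, mul_assoc a, inv_mul_cancel_left] at h2
    have := mul_mem h2 (inv_mem hc)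
    rwa [mul_inv_cancel_right] at this
  -- a neighbour of `p` with a neighbour not adjacent to `p`
  obtain ⟨a, b, ⟨ha, -⟩, ⟨hb, -⟩, haS, hbS, g, hg⟩ := hconn {t | t = p ∨ Adj G p t}
    ⟨p, Or.inl rfl, hp, hpv⟩ ⟨q, fun h => h.elim (fun e => hpq e.symm) hadj, hq, hqv⟩
  simp only [Set.mem_setOf_eq, not_or] at haS hbS
  obtain ⟨hbp, hnpb⟩ := hbS
  have hap : Adj G p a := by
    rcases haS with rfl | h
    · exact absurd ⟨g, hg⟩ hnpb
    · exact h
  have hay : ¬ a ∣ sz y := fun h => hiso a ha h hap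
  obtain ⟨w, hwH, hsw, -⟩ := key b hb hbp hnpb g ((dvd_mul_left b a).trans hg)
  have haw : a ∣ sz w := hsw ▸ (dvd_mul_right a b).trans hg
  -- the index inside `H`
  have hJ : ∀ x : G, sz x ∣ (centralizer ({x} : Set G)).relIndex H * H.index := by
    intro x
    rw [← inf_relIndex_right, relIndex_mul_index inf_le_right]
    exact index_dvd_of_le inf_le_left
  have hHidx : H.index = Nat.card V := by
    have hc : IsComplement' V H := isComplement'_of_disjoint_and_mul_eq_univ (disjoint_iff.2 hVH)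
      (Set.eq_univ_of_forall fun z => by
        obtain ⟨v, hv, x, hx, rfl⟩ := hG z
        exact Set.mul_mem_mul hv hx)
    exact hc.index_eq_card
  have haV : ¬ a ∣ Nat.card V := fun h => hay (h.trans hVcard)
  have haJ : a ∣ (centralizer ({w} : Set G)).relIndex H :=
    ((ha.coprime_iff_not_dvd).2 haV).dvd_of_dvd_mul_right (hHidx ▸ haw.trans (hJ w))
  -- the `p'`-part of `w`
  obtain ⟨k, hkodd, hsplit⟩ : ∃ k, ¬ p ∣ k ∧ ∃ j, orderOf w = p ^ j * k :=
    ⟨_, Nat.not_dvd_ordCompl hp (orderOf_pos w).ne', (orderOf w).factorization p, (Nat.ordProj_mul_ordCompl_eq_self _ p).symm⟩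
  obtain ⟨j, hj⟩ := hsplit
  set w' := w ^ p ^ j with hw'
  have hw'H : w' ∈ H := pow_mem hwH _
  have hwk : w ^ k ∈ (P : Subgroup G) := by
    have hz : IsPGroup p (zpowers (w ^ k)) := by
      obtain ⟨i, -, hi⟩ := (Nat.dvd_prime_pow hp).1 (orderOf_dvd_of_pow_eq_one (x := w ^ k) (n := p ^ j) (by
        rw [← pow_mul, mul_comm, ← hj, pow_orderOf_eq_one]))
      exact IsPGroup.of_card (n := i) (by rw [Nat.card_zpowers, hi])
    have hn : zpowers (w ^ k) ≤ normalizer ((P : Subgroup G) : Set G) :=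
      zpowers_le.2 (centralizer_le_normalizer _ (pow_mem hwH k))
    exact (P.is_maximal' (P.isPGroup'.to_sup_of_normal_left' hz hn) le_sup_left).le (mem_sup_right (mem_zpowers _))
  have hJle : centralizer ({w'} : Set G) ⊓ H ≤ centralizer ({w} : Set G) ⊓ H := by
    rintro z ⟨hz, hzH⟩
    refine Subgroup.mem_inf.2 ⟨?_, hzH⟩
    rw [mem_centralizer_singleton_iff]
    have h1 : Commute z w' := mem_centralizer_singleton_iff.1 hz
    have h2 : Commute z (w ^ k) := (mem_centralizer_iff.1 hzH _ hwk).symm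
    have hcop : Int.gcd (p ^ j : ℕ) k = 1 := by
      rw [Int.gcd_natCast_natCast]
      exact Nat.Coprime.pow_left j ((hp.coprime_iff_not_dvd).2 hkodd)
    have hb := Int.gcd_eq_gcd_ab (p ^ j : ℕ) k
    rw [hcop, Nat.cast_one] at hb
    have e : w = w' ^ (Int.gcdA (p ^ j : ℕ) k) * (w ^ k) ^ (Int.gcdB (p ^ j : ℕ) k) := by
      rw [hw', ← zpow_natCast w (p ^ j), ← zpow_natCast w k, ← zpow_mul, ← zpow_mul, ← zpow_add, ← hb, zpow_one]
    rw [e]
    exact ((h1.zpow_right _).mul_right (h2.zpow_right _)).eq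
  have haw' : a ∣ sz w' := by
    have h1 : a ∣ (centralizer ({w'} : Set G)).relIndex H := by
      rw [← inf_relIndex_right]
      exact (by rw [← inf_relIndex_right] at haJ; exact haJ.trans (relIndex_dvd_of_le_left H hJle))
    have h2 : (centralizer ({w'} : Set G)).relIndex H ∣ sz w' := by
      let f := QuotientGroup.mk' V
      have hsurj : (H.map f) = ⊤ := by
        rw [eq_top_iff]
        intro z _
        obtain ⟨z, rfl⟩ := QuotientGroup.mk'_surjective V z
        obtain ⟨v, hv, h, hh, rfl⟩ := hG z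
        exact ⟨h, hh, by rw [map_mul, show f v = 1 from (QuotientGroup.eq_one_iff v).2 hv, one_mul]⟩
      have himg : (centralizer ({w'} : Set G)).map f ≤ (centralizer ({w'} : Set G) ⊓ H).map f := by
        rintro _ ⟨z, hz, rfl⟩
        rw [SetLike.mem_coe, mem_centralizer_singleton_iff] at hz
        obtain ⟨v, hv, h, hh, rfl⟩ := hG z
        refine ⟨h, ⟨mem_centralizer_singleton_iff.2 ?_, hh⟩, by rw [map_mul, show f v = 1 from (QuotientGroup.eq_one_iff v).2 hv, one_mul]⟩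
        have e : h * w' * h⁻¹ * w'⁻¹ ∈ V ⊓ H := by
          refine Subgroup.mem_inf.2 ⟨?_, mul_mem (mul_mem (mul_mem hh hw'H) (inv_mem hh)) (inv_mem hw'H)⟩
          have e1 : h * w' * h⁻¹ * w'⁻¹ = v⁻¹ * (w' * v * w'⁻¹) := by
            calc h * w' * h⁻¹ * w'⁻¹ = v⁻¹ * (v * h * w') * h⁻¹ * w'⁻¹ := by group
              _ = v⁻¹ * (w' * v * w'⁻¹) := by rw [hz]; group
          rw [e1]
          exact mul_mem (inv_mem hv) (hVn.conj_mem v hv w')
        rw [hVH, Subgroup.mem_bot, mul_inv_eq_one, mul_inv_eq_iff_eq_mul] at e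
        exact e
      have h3 : ((centralizer ({w'} : Set G) ⊓ H).map f).index = (centralizer ({w'} : Set G)).relIndex H := by
        have hb : Function.Bijective (f.comp H.subtype) := by
          constructor
          · rw [← MonoidHom.ker_eq_bot_iff, Subgroup.eq_bot_iff_forall]
            intro z hz
            exact Subtype.ext (hdis _ ((QuotientGroup.eq_one_iff _).1 (MonoidHom.mem_ker.1 hz)) z.2)
          · intro z
            obtain ⟨z', hz', e⟩ := hsurj.ge (mem_top z)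
            exact ⟨⟨z', hz'⟩, e⟩
        rw [← subgroupOf_map_subtype, Subgroup.map_map, Subgroup.index_map_of_bijective hb]
        rfl
      rw [← h3]
      exact (index_dvd_of_le himg).trans (index_map_dvd _ (QuotientGroup.mk'_surjective V))
    exact h1.trans h2
  -- `a` is adjacent to all primes of `V`
  have hall : ∀ t : ℕ, t.Prime → t ∣ Nat.card V → Adj G a t := by
    intro t ht htV
    obtain ⟨u, hu, htu⟩ : ∃ u ∈ (P : Subgroup G), t ∣ sz u := by
      by_contra hcon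
      push Not at hcon
      haveI := Fact.mk ht
      obtain ⟨⟨e, he⟩, heo⟩ := exists_prime_orderOf_dvd_card' t htV
      rw [Subgroup.orderOf_mk] at heo
      have he1 : e = 1 := hdis e he (mem_centralizer_iff.2 fun u hu => ?_)
      · rw [he1, orderOf_one] at heo; exact ht.ne_one heo.symm
      haveI : ((centralizer ({u} : Set G)).subgroupOf V).Normal := ⟨fun n hn z => by
        rw [show z * n * z⁻¹ = n from Subtype.ext (by
          show (z : G) * n * (z : G)⁻¹ = n
          rw [hVc z z.2 n n.2, mul_inv_cancel_right])]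
        exact hn⟩
      have hpow : e ^ (centralizer ({u} : Set G)).relIndex V ∈ centralizer ({u} : Set G) := by
        have := pow_index_mem ((centralizer ({u} : Set G)).subgroupOf V) (⟨e, he⟩ : V)
        rwa [mem_subgroupOf, Subgroup.coe_pow] at this
      have hcop : ((centralizer ({u} : Set G)).relIndex V).Coprime t := ((ht.coprime_iff_not_dvd).2 fun h =>
        hcon u hu (h.trans (relIndex_dvd_index_of_normal_right V _))).symm
      obtain ⟨i, hi⟩ := exists_pow_eq_self_of_coprime (x := e) (heo.symm ▸ hcop)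
      have := pow_mem hpow i
      rw [hi] at this
      exact (mem_centralizer_singleton_iff.1 this).symm
    have hcomm : Commute u w' := mem_centralizer_iff.1 hw'H u hu
    obtain ⟨n, hn⟩ := IsPGroup.iff_card.1 P.2
    have hco : (orderOf u).Coprime (orderOf w') := by
      have h1 : orderOf w' ∣ k := orderOf_dvd_of_pow_eq_one (by
        rw [hw', ← pow_mul, ← hj, pow_orderOf_eq_one])
      have h2 : orderOf u ∣ p ^ n := hn ▸ Subgroup.orderOf_dvd_natCard _ hu
      exact (Nat.Coprime.pow_left n ((hp.coprime_iff_not_dvd).2 hkodd)).coprime_dvd_left h2 |>.coprime_dvd_right h1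
    have hsub : ∀ x x' : G, Commute x x' → (orderOf x).Coprime (orderOf x') →
        centralizer ({x * x'} : Set G) ≤ centralizer ({x} : Set G) := by
      intro x x' hxx hco c hc
      rw [mem_centralizer_singleton_iff] at hc ⊢
      obtain ⟨i, hi⟩ := exists_pow_eq_self_of_coprime (x := x) (n := orderOf x') hco.symm
      have e : x = ((x * x') ^ orderOf x') ^ i := by
        rw [hxx.mul_pow, pow_orderOf_eq_one, mul_one, hi]
      rw [e]
      exact ((Commute.pow_right (hc : Commute c (x * x')) _).pow_right i).eq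
    refine ⟨u * w', pow_eq_mul_of_dvd ha ht (fun e => haV (e ▸ htV)) ?_ ?_⟩
    · exact haw'.trans (index_dvd_of_le (by rw [hcomm.eq]; exact hsub w' u hcomm.symm hco.symm))
    · exact htu.trans (index_dvd_of_le (hsub u w' hcomm hco))
  obtain ⟨g', hg'⟩ := hqv
  obtain ⟨w₂, -, -, t, ht, htV, htg⟩ := key q hq (Ne.symm hpq) hadj g' hg'
  refine ⟨a, t, ha, ht, Or.inr hap, Or.inr (hall t ht htV), ?_⟩
  by_cases e : q = t
  · exact Or.inl e
  · exact Or.inr ⟨g', pow_eq_mul_of_dvd ht hq (Ne.symm e) htg hg'⟩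

theorem exists_chain
    (hconn : ∀ S : Set ℕ, (∃ a ∈ S, (a.Prime ∧ ∃ g : G, a ∣ sz g)) → (∃ b ∉ S, (b.Prime ∧ ∃ g : G, b ∣ sz g)) →
      ∃ a b : ℕ, (a.Prime ∧ ∃ g : G, a ∣ sz g) ∧ (b.Prime ∧ ∃ g : G, b ∣ sz g) ∧ a ∈ S ∧ b ∉ S ∧ Adj G a b)
    {p q : ℕ} (hp : p.Prime) (hpv : ∃ g : G, p ∣ sz g) (hq : q.Prime) (hqv : ∃ g : G, q ∣ sz g) (hpq : p ≠ q) :
    Chain G p q := by
  obtain ⟨y, hy⟩ := Finite.exists_max (sz : G → ℕ)
  have hnear : ∀ p : ℕ, p.Prime → ¬ (∃ t : ℕ, t.Prime ∧ t ∣ sz y ∧ (t = p ∨ Adj G p t)) →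
      ¬ p ∣ sz y ∧ ∀ t : ℕ, t.Prime → t ∣ sz y → ¬ Adj G p t := fun p hp h =>
    ⟨fun hd => h ⟨p, hp, hd, Or.inl rfl⟩, fun t ht hd ha => h ⟨t, ht, hd, Or.inr ha⟩⟩
  by_cases h1 : ∃ t : ℕ, t.Prime ∧ t ∣ sz y ∧ (t = p ∨ Adj G p t)
  swap
  · exact isolated_chain hy hp (hnear p hp h1).1 (hnear p hp h1).2 hconn hpv hq hqv hpq
  by_cases h2 : ∃ t : ℕ, t.Prime ∧ t ∣ sz y ∧ (t = q ∨ Adj G q t)
  swap
  · exact (isolated_chain hy hq (hnear q hq h2).1 (hnear q hq h2).2 hconn hqv hp hpv hpq.symm).symm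
  obtain ⟨t, ht, hty, hpt⟩ := h1
  obtain ⟨t', ht', ht'y, hqt'⟩ := h2
  refine ⟨t, t', ht, ht', hpt, ?_, hqt'.imp Eq.symm Adj.symm⟩
  by_cases e : t' = t
  · exact Or.inl e
  · exact Or.inr ⟨y, pow_eq_mul_of_dvd ht ht' (Ne.symm e) hty ht'y⟩

end CfsgLib.ClassSizes.GraphDiameter
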