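import Cfsg.Agent.Lib.PGroups.PolyMap
import Cfsg.Agent.Lib.PGroups.Omega

/-!
# `p`-groups of class less than `p` are regular
-/

set_option autoImplicit false
set_option linter.all false

namespace CfsgLib.ClassSizes.ClassLtP

open Subgroup CfsgLib.PGroups
open scoped commutatorElement

theorem pow_dvd_choose {p n k : ℕ} (hp : p.Prime) (hk : 0 < k) (hkp : k < p) : p ^ n ∣ (p ^ n).choose k := by
  obtain ⟨q', hq'⟩ : ∃ q', p ^ n = q' + 1 := ⟨p ^ n - 1, by have := pow_pos hp.pos n; omega⟩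
  obtain ⟨k', rfl⟩ : ∃ k', k = k' + 1 := ⟨k - 1, by omega⟩
  have h := Nat.add_one_mul_choose_eq q' k'
  rw [← hq'] at h
  refine (Nat.Coprime.pow_left n ((hp.coprime_iff_not_dvd).2 fun hd => ?_)).dvd_of_dvd_mul_right (Dvd.intro _ h)
  have := Nat.le_of_dvd hk hd
  omega

/-- A polynomial sequence with few steps is `1` at a multiple killing its values. -/
theorem apply_eq_one {G : Type*} [Group G] [Finite G] {Φ : ℕ → Subgroup G} {N : ℕ} (hΦ : IsCommFiltration Φ N)
    {p q : ℕ} {d : ℕ} (hd : Φ (d + p) = ⊥) (hq : ∀ k, 0 < k → k < p → q ∣ q.choose k) (M : Subgroup G)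
    (hM : ∀ m ∈ M, m ^ q = 1) {f : ℕ → G} (hf : IsPolySeq Φ d f) (hfM : ∀ n, f n ∈ M) (h0 : f 0 = 1) : f q = 1 := by
  have main : ∀ k, k ≤ p → ∃ g : ℕ → G, IsPolySeq Φ d g ∧ (∀ n, g n ∈ M) ∧ (∀ i < k, g i = 1) ∧ g q = f q ∧ g 0 = 1 := by
    intro k
    induction k with
    | zero => exact fun _ => ⟨f, hf, hfM, fun i hi => absurd hi (Nat.not_lt_zero i), rfl, h0⟩
    | succ k ih =>
      intro hk
      obtain ⟨g, hg, hgM, hg0, hgq, hg00⟩ := ih (by omega)
      rcases Nat.eq_zero_or_pos k with rfl | hk0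
      · exact ⟨g, hg, hgM, fun i hi => by rwa [show i = 0 by omega], hgq, hg00⟩
      have hc : g k ∈ Φ (d + k) := hg.apply_mem_of_vanish hg0
      refine ⟨g * (fun n => g k ^ n.choose k)⁻¹, hg.mul hΦ ((isPolySeq_choose hΦ k d hc).inv hΦ),
        fun n => M.mul_mem (hgM n) (M.inv_mem (M.pow_mem (hgM k) _)), fun i hi => ?_, ?_, ?_⟩
      · rcases Nat.lt_succ_iff_lt_or_eq.mp hi with h | rfl
        · simp [hg0 i h, Nat.choose_eq_zero_of_lt h]
        · simp
      · obtain ⟨m, hm⟩ := hq k hk0 (by omega)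
        simp [hgq, hm, pow_mul, hM _ (hgM k)]
      · simp [hg00, Nat.choose_eq_zero_of_lt hk0]
  obtain ⟨g, hg, -, hg0, hgq, -⟩ := main p le_rfl
  rw [← hgq, hg.eq_one_of_vanish hΦ hg0 hd]

theorem map_lowerCentralSeries_le {A B : Type*} [Group A] [Group B] (f : A →* B) (n : ℕ) :
    ((⊤ : Subgroup A).lowerCentralSeries n).map f ≤ (⊤ : Subgroup B).lowerCentralSeries n := by
  induction n with
  | zero => rw [Subgroup.lowerCentralSeries_zero, Subgroup.lowerCentralSeries_zero]; exact le_top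
  | succ n ih =>
    rw [Subgroup.lowerCentralSeries_succ, Subgroup.lowerCentralSeries_succ, map_commutator]
    exact commutator_mono ih le_top

theorem class_lt_of_hom {A B : Type*} [Group A] [Group B] (f : A →* B) (n : ℕ)
    (h : (⊤ : Subgroup A).lowerCentralSeries n = ⊥) (hf : Function.Surjective f) :
    (⊤ : Subgroup B).lowerCentralSeries n = ⊥ := by
  have key : ∀ m, ((⊤ : Subgroup A).lowerCentralSeries m).map f = (⊤ : Subgroup B).lowerCentralSeries m := by
    intro m
    induction m with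
    | zero => rw [Subgroup.lowerCentralSeries_zero, Subgroup.lowerCentralSeries_zero, map_top_of_surjective f hf]
    | succ m ih =>
      rw [Subgroup.lowerCentralSeries_succ, Subgroup.lowerCentralSeries_succ, map_commutator, ih,
        map_top_of_surjective f hf]
  rw [← key, h, Subgroup.map_bot]

theorem isRegular {G : Type*} [Group G] [Finite G] {p : ℕ} [Fact p.Prime] (hG : IsPGroup p G)
    (hcl : (⊤ : Subgroup G).lowerCentralSeries (p - 1) = ⊥) : Cfsg.IsRegularPGroup p G := by
  classical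
  refine ⟨hG, fun a b n => ?_⟩
  have hp := (Fact.out : p.Prime)
  set K := Subgroup.closure ({a, b} : Set G) with hK
  have ha : a ∈ K := subset_closure (Set.mem_insert _ _)
  have hb : b ∈ K := subset_closure (Set.mem_insert_of_mem _ rfl)
  set W := Cfsg.powerClosure p n (_root_.commutator K) with hW
  haveI hWn : W.Normal := ⟨fun w hw g => by
    have h1 := mem_map_of_mem (MulAut.conj g).toMonoidHom hw
    rw [hW, powerClosure_map, _root_.commutator_def, map_commutator,
      map_top_of_surjective _ (MulAut.conj g).surjective, ← _root_.commutator_def] at h1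
    exact h1⟩
  set π := QuotientGroup.mk' W with hπ
  have hclK : (⊤ : Subgroup K).lowerCentralSeries (p - 1) = ⊥ := by
    have h1 := map_lowerCentralSeries_le K.subtype (p - 1)
    rw [hcl, le_bot_iff, map_eq_bot_iff_of_injective _ K.subtype_injective] at h1
    exact h1
  have hclQ := class_lt_of_hom π (p - 1) hclK (QuotientGroup.mk'_surjective W)
  set x := π ⟨a, ha⟩ with hx
  set y := π ⟨b, hb⟩ with hy
  haveI : IsMulCommutative (Abelianization K) := ⟨⟨mul_comm⟩⟩
  set M := (_root_.commutator K).map π with hM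
  have hgenQ : Subgroup.closure ({x, y} : Set (K ⧸ W)) = ⊤ := by
    have h1 : Subgroup.closure ({⟨a, ha⟩, ⟨b, hb⟩} : Set K) = ⊤ := by
      apply map_injective K.subtype_injective
      rw [MonoidHom.map_closure, Set.image_pair, ← MonoidHom.range_eq_map, range_subtype]
      rfl
    have h2 := congrArg (Subgroup.map π) h1
    rw [MonoidHom.map_closure, Set.image_pair, map_top_of_surjective _ (QuotientGroup.mk'_surjective W)] at h2
    exact h2
  -- the derived subgroup of the quotient has exponent dividing `p ^ n`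
  have hexp : ∀ u : K, u ∈ _root_.commutator K → π u ^ p ^ n = 1 := fun u hu => by
    rw [← map_pow]; exact (QuotientGroup.eq_one_iff _).2 (subset_closure ⟨u, hu, rfl⟩)
  have hMexp : ∀ m ∈ M, m ^ p ^ n = 1 := by
    rintro _ ⟨u, hu, rfl⟩; exact hexp u hu
  have hΦ := isCommFiltration_lowerCentralSeries hclQ
  have hf : IsPolySeq (fun d => (⊤ : Subgroup (K ⧸ W)).lowerCentralSeries (d - 1)) 0
      ((fun m => (x * y) ^ m) * (fun m => y ^ m)⁻¹ * (fun m => x ^ m)⁻¹) :=
    ((isPolySeq_pow hclQ _).mul hΦ ((isPolySeq_pow hclQ _).inv hΦ)).mul hΦ ((isPolySeq_pow hclQ _).inv hΦ)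
  have hfM : ∀ m : ℕ, (x * y) ^ m * (y ^ m)⁻¹ * (x ^ m)⁻¹ ∈ M := by
    intro m
    refine ⟨(⟨a, ha⟩ * ⟨b, hb⟩ : K) ^ m * ((⟨b, hb⟩ : K) ^ m)⁻¹ * ((⟨a, ha⟩ : K) ^ m)⁻¹, ?_, by rw [hx, hy]; rw [map_mul π, map_mul π, map_inv π, map_inv π, map_pow π, map_pow π, map_pow π, map_mul π]⟩
    refine (QuotientGroup.eq_one_iff _).1 (show (Abelianization.of _ : Abelianization K) = 1 from ?_)
    simp only [map_mul, map_inv, map_pow, mul_pow]
    group
  have h1 := apply_eq_one hΦ (p := p) (q := p ^ n) (by simpa using hclQ)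
    (fun k hk hkp => pow_dvd_choose hp hk hkp) M hMexp hf (fun m => hfM m) (by simp)
  simp only [Pi.mul_apply, Pi.inv_apply] at h1
  have h2 : (x * y) ^ p ^ n = x ^ p ^ n * y ^ p ^ n := mul_inv_eq_iff_eq_mul.1 (mul_inv_eq_one.1 h1)
  rw [hx, hy, ← map_mul, ← map_pow, ← map_pow, ← map_pow, ← map_mul, eq_comm, hπ, QuotientGroup.mk'_eq_mk'] at h2
  obtain ⟨w, hw, hweq⟩ := h2
  refine ⟨w, ?_, ?_⟩
  · have h3 := mem_map_of_mem K.subtype hw
    rw [hW, powerClosure_map, map_subtype_commutator] at h3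
    exact h3
  · have h4 := congrArg Subtype.val hweq
    simpa using h4.symm

end CfsgLib.ClassSizes.ClassLtP
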