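import Mathlib
import Cfsg.Agent.Lib.ClassSizes.ClassGraphSplit
import Cfsg.Agent.Lib.Core.FPF
import Cfsg.Agent.Lib.Char.Frobenius

/-!
# Groups whose two largest class sizes are coprime

If the two largest class sizes `m > n > 1` are coprime and `x`, `y` realise `n`, `m`, then
`C(x)` and `C(y)` are abelian and `G/Z(G)` is a Frobenius group with kernel `C(x)/Z(G)`.

Owner: helper7.
-/

set_option autoImplicit false
set_option linter.all false
set_option maxHeartbeats 1000000

namespace CfsgLib.ClassSizes.TopTwo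

open Subgroup CfsgLib.ClassSizes.GraphSplit
open scoped IsMulCommutative

universe u

variable {G : Type u} [Group G]

theorem mem_of_pow (K : Subgroup G) {g : G} {a b : ℕ} (ha : g ^ a ∈ K) (hb : g ^ b ∈ K)
    (h : a.Coprime b) : g ∈ K := by
  obtain ⟨i, j, hij⟩ : IsCoprime (a : ℤ) (b : ℤ) := Nat.isCoprime_iff_coprime.2 h
  have : g = (g ^ a) ^ i * (g ^ b) ^ j := by
    rw [← zpow_natCast, ← zpow_natCast, ← zpow_mul, ← zpow_mul, ← zpow_add, mul_comm (a : ℤ),
      mul_comm (b : ℤ), hij, zpow_one]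
  rw [this]
  exact mul_mem (K.zpow_mem ha i) (K.zpow_mem hb j)

theorem mem_centralizer_self_iff {g a : G} : g ∈ centralizer ({a} : Set G) ↔ Commute g a :=
  mem_centralizer_singleton_iff

/-- Multiplying by a central element does not change the centralizer. -/
theorem centralizer_mul_central {a z : G} (hz : z ∈ center G) :
    centralizer ({a * z} : Set G) = centralizer ({a} : Set G) := by
  ext g
  have hgz : Commute g z := mem_center_iff.1 hz g
  simp only [mem_centralizer_self_iff]
  constructor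
  · intro h
    have := h.mul_right hgz.inv_right
    rwa [mul_inv_cancel_right] at this
  · exact fun h => h.mul_right hgz

theorem mem_map_mk_iff {H : Subgroup G} (h : center G ≤ H) {g : G} :
    QuotientGroup.mk' (center G) g ∈ H.map (QuotientGroup.mk' (center G)) ↔ g ∈ H := by
  rw [← mem_comap, comap_map_eq, QuotientGroup.ker_mk', sup_eq_left.2 h]

theorem mk_eq_one_iff {g : G} : QuotientGroup.mk' (center G) g = 1 ↔ g ∈ center G :=
  QuotientGroup.eq_one_iff g

variable [Finite G]

theorem mem_of_primary (K : Subgroup G) (g : G)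
    (h : ∀ k q i : ℕ, q.Prime → orderOf (g ^ k) = q ^ i → g ^ k ∈ K) : g ∈ K := by
  induction hn : orderOf g using Nat.strong_induction_on generalizing g with
  | _ n ih =>
    rcases eq_or_ne n 1 with rfl | h1
    · rw [orderOf_eq_one_iff] at hn
      rw [hn]
      exact one_mem K
    obtain ⟨q, hq, hqd⟩ := Nat.exists_prime_and_dvd h1
    have hn0 : n ≠ 0 := by rw [← hn]; exact (orderOf_pos g).ne'
    have hr : q ^ n.factorization q * (n / q ^ n.factorization q) = n := Nat.ordProj_mul_ordCompl_eq_self n q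
    have hcop : (q ^ n.factorization q).Coprime (n / q ^ n.factorization q) :=
      (Nat.coprime_ordCompl hq hn0).pow_left _
    have hpos : 0 < n.factorization q := hq.factorization_pos_of_dvd hn0 hqd
    generalize n.factorization q = v at hr hcop hpos
    generalize n / q ^ v = r at hr hcop
    have hr0 : r ≠ 0 := by rintro rfl; exact hn0 (by rw [← hr, mul_zero])
    have e1 : orderOf (g ^ r) = q ^ v := by
      rw [orderOf_pow_of_dvd hr0 ⟨q ^ v, by rw [hn, ← hr, mul_comm]⟩, hn, ← hr,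
        Nat.mul_div_cancel _ (Nat.pos_of_ne_zero hr0)]
    have e2 : orderOf (g ^ q ^ v) = r := by
      rw [orderOf_pow_of_dvd (pow_ne_zero _ hq.ne_zero) ⟨r, by rw [hn, hr]⟩, hn, ← hr,
        Nat.mul_div_cancel_left _ (pow_pos hq.pos _)]
    refine mem_of_pow K (h r q v hq e1) (ih r ?_ (g ^ q ^ v) (fun k p i hp hki => ?_) e2) hcop.symm
    · rw [← hr]
      exact lt_mul_left (Nat.pos_of_ne_zero hr0) (Nat.one_lt_pow hpos.ne' hq.one_lt)
    · rw [← pow_mul] at hki ⊢
      exact h _ p i hp hki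

theorem centralizer_mul_le {a b : G} (hab : Commute a b) (hco : (orderOf a).Coprime (orderOf b)) :
    centralizer ({a * b} : Set G) ≤ centralizer ({a} : Set G) ⊓ centralizer ({b} : Set G) := by
  have key : ∀ a b : G, Commute a b → (orderOf a).Coprime (orderOf b) →
      centralizer ({a * b} : Set G) ≤ centralizer ({a} : Set G) := by
    intro a b hab hco c hc
    rw [mem_centralizer_self_iff] at hc ⊢
    obtain ⟨k, hk⟩ := exists_pow_eq_self_of_coprime (x := a) (n := orderOf b) hco.symm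
    have e : a = ((a * b) ^ orderOf b) ^ k := by
      rw [hab.mul_pow, pow_orderOf_eq_one, mul_one, hk]
    rw [e]
    exact (hc.pow_right _).pow_right k
  exact le_inf (key a b hab hco) (hab.eq ▸ key b a hab.symm hco.symm)

theorem centralizer_eq_of_le {a b : G} (h : centralizer ({a} : Set G) ≤ centralizer ({b} : Set G))
    (e : sz a ≤ sz b) : centralizer ({a} : Set G) = centralizer ({b} : Set G) := by
  refine le_antisymm h (relIndex_eq_one.1 ?_)
  have h1 := relIndex_mul_index h
  have h2 : 0 < sz b := Nat.pos_of_ne_zero index_ne_zero_of_finite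
  have h3 : 0 < (centralizer ({a} : Set G)).relIndex (centralizer ({b} : Set G)) := by
    refine Nat.pos_of_ne_zero fun h0 => ?_
    rw [h0, zero_mul] at h1
    exact index_ne_zero_of_finite h1.symm
  unfold sz at e h2
  nlinarith

theorem sz_mul {a b : G} (h : (sz a).Coprime (sz b)) :
    sz a ≤ sz (a * b) ∧ sz b ≤ sz (a * b) ∧ sz (a * b) ∣ sz a * sz b := by
  have hmem : ∀ g k : G, g * a * g⁻¹ * (k * b * k⁻¹) ∈ (ConjClasses.mk (a * b)).carrier := by
    intro g k
    obtain ⟨e, e1, e2⟩ := exists_conj_mul h g k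
    rw [ConjClasses.mem_carrier_iff_mk_eq, ConjClasses.mk_eq_mk_iff_isConj, ← e1, ← e2]
    exact isConj_iff.2 ⟨e⁻¹, by group⟩
  have hcl : ∀ {c w : G}, w ∈ (ConjClasses.mk c).carrier → ∃ k, k * c * k⁻¹ = w := by
    intro c w hw
    rw [ConjClasses.mem_carrier_iff_mk_eq, ConjClasses.mk_eq_mk_iff_isConj] at hw
    exact isConj_iff.1 hw.symm
  refine ⟨?_, ?_, ?_⟩
  · rw [← card_carrier, ← card_carrier]
    refine Set.ncard_le_ncard_of_injOn (fun w => w * b) (fun w hw => ?_) (fun _ _ _ _ e => mul_right_cancel e) (Set.toFinite _)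
    obtain ⟨k, rfl⟩ := hcl hw
    simpa using hmem k 1
  · rw [← card_carrier, ← card_carrier]
    refine Set.ncard_le_ncard_of_injOn (fun w => a * w) (fun w hw => ?_) (fun _ _ _ _ e => mul_left_cancel e) (Set.toFinite _)
    obtain ⟨k, rfl⟩ := hcl hw
    simpa using hmem 1 k
  · have hle : centralizer ({a} : Set G) ⊓ centralizer ({b} : Set G) ≤ centralizer ({a * b} : Set G) :=
      fun g hg => mem_centralizer_self_iff.2
        ((mem_centralizer_self_iff.1 hg.1).mul_right (mem_centralizer_self_iff.1 hg.2))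
    have h1 : (centralizer ({a} : Set G) ⊓ centralizer ({b} : Set G)).index = sz a * sz b :=
      le_antisymm index_inf_le (Nat.le_of_dvd (Nat.pos_of_ne_zero index_ne_zero_of_finite)
        (h.mul_dvd_of_dvd_of_dvd (index_dvd_of_le inf_le_left) (index_dvd_of_le inf_le_right)))
    exact h1 ▸ index_dvd_of_le hle

/-- The translation subgroup of a product class. -/
theorem exists_translation {a b : G} (h : (sz a).Coprime (sz b)) (he : sz (a * b) = sz b) :
    ∃ N : Subgroup G, N.Normal ∧ (∀ u ∈ N, ∀ v ∈ N, u * v = v * u) ∧ Nat.card N ∣ sz b ∧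
      N ≤ centralizer ({a} : Set G) ∧ ∃ c ∈ N, a * c ∈ center G := by
  classical
  set Y := (ConjClasses.mk b).carrier with hYdef
  set C := (ConjClasses.mk (a * b)).carrier with hC
  have hmem : ∀ g' k : G, g' * a * g'⁻¹ * (k * b * k⁻¹) ∈ C := by
    intro g' k
    obtain ⟨e, e1, e2⟩ := exists_conj_mul h g' k
    rw [hC, ConjClasses.mem_carrier_iff_mk_eq, ConjClasses.mk_eq_mk_iff_isConj, ← e1, ← e2]
    exact isConj_iff.2 ⟨e⁻¹, by group⟩
  have hC' : C.ncard ≤ Y.ncard := by rw [hC, hYdef, card_carrier, card_carrier, he]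
  have himg : ∀ g' : G, (fun w => g' * a * g'⁻¹ * w) '' Y = C := by
    intro g'
    refine Set.eq_of_subset_of_ncard_le ?_
      (by rw [Set.ncard_image_of_injective _ (mul_right_injective _)]; exact hC') (Set.toFinite _)
    rintro _ ⟨w, hw, rfl⟩
    obtain ⟨k, rfl⟩ : ∃ k : G, k * b * k⁻¹ = w := by
      rw [hYdef, ConjClasses.mem_carrier_iff_mk_eq, ConjClasses.mk_eq_mk_iff_isConj] at hw
      exact isConj_iff.1 hw.symm
    exact hmem g' k
  let gen : Set G := Set.range fun g : G => a⁻¹ * (g * a * g⁻¹)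
  have hstab : ∀ n ∈ gen, ∀ w ∈ Y, n * w ∈ Y := by
    rintro _ ⟨g, rfl⟩ w hw
    have h1 : g * a * g⁻¹ * w ∈ (fun w => 1 * a * 1⁻¹ * w) '' Y := by
      rw [himg 1, ← himg g]; exact ⟨w, hw, rfl⟩
    obtain ⟨w', hw', e⟩ := h1
    rw [mul_assoc, ← e]
    simpa using hw'
  set N := closure gen with hNdef
  haveI hNn : N.Normal := by
    refine ⟨fun n hn g => ?_⟩
    induction hn using closure_induction with
    | mem n hn =>
      obtain ⟨k, rfl⟩ := hn
      have e : g * (a⁻¹ * (k * a * k⁻¹)) * g⁻¹ =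
          (a⁻¹ * (g * a * g⁻¹))⁻¹ * (a⁻¹ * ((g * k) * a * (g * k)⁻¹)) := by group
      rw [e]
      exact mul_mem (inv_mem (subset_closure ⟨g, rfl⟩)) (subset_closure ⟨g * k, rfl⟩)
    | one => simpa using one_mem N
    | mul u v _ _ hu hv =>
      rw [show g * (u * v) * g⁻¹ = g * u * g⁻¹ * (g * v * g⁻¹) by group]
      exact mul_mem hu hv
    | inv u _ hu =>
      rw [show g * u⁻¹ * g⁻¹ = (g * u * g⁻¹)⁻¹ by group]
      exact inv_mem hu
  have hNY : ∀ n ∈ N, ∀ w ∈ Y, n * w ∈ Y := by
    intro n hn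
    induction hn using closure_induction with
    | mem n hn => exact hstab n hn
    | one => intro w hw; rwa [one_mul]
    | mul u v _ _ hu hv => intro w hw; rw [mul_assoc]; exact hu _ (hv w hw)
    | inv u _ hu =>
      intro w hw
      have he : (fun v => u * v) '' Y = Y := Set.eq_of_subset_of_ncard_le
        (by rintro _ ⟨v, hv, rfl⟩; exact hu v hv)
        (Set.ncard_image_of_injective _ (mul_right_injective u)).ge (Set.toFinite _)
      obtain ⟨v, hv, hva⟩ := he.ge hw
      rw [← hva, inv_mul_cancel_left]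
      exact hv
  have hNcard : Nat.card N ∣ sz b := by
    rw [← card_carrier b, ← hYdef, ← Nat.card_coe_set_eq]
    have he : (QuotientGroup.mk (s := N)) ⁻¹' ((QuotientGroup.mk (s := N)) '' Y) = Y := by
      refine Set.Subset.antisymm ?_ (Set.subset_preimage_image _ _)
      rintro w ⟨v, hv, hvw⟩
      have hn : v⁻¹ * w ∈ N := QuotientGroup.eq.1 hvw
      have := hNY _ (hNn.conj_mem _ hn v) v hv
      simpa [mul_assoc] using this
    rw [← he, Nat.card_congr (QuotientGroup.preimageMkEquivSubgroupProdSet N _), Nat.card_prod]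
    exact dvd_mul_right _ _
  have hNC : N ≤ centralizer ({a} : Set G) := by
    rw [← relIndex_eq_one]
    exact Nat.eq_one_of_dvd_coprimes h (relIndex_dvd_index_of_normal_right N _)
      ((relIndex_dvd_card _ _).trans hNcard)
  have hconj : ∀ g : G, N ≤ centralizer ({g * a * g⁻¹} : Set G) := by
    intro g n hn
    refine mem_centralizer_self_iff.2 ?_
    have h1 := mem_centralizer_self_iff.1 (hNC (hNn.conj_mem' n hn g))
    have h2 := (Commute.conj_iff g).2 h1
    rwa [show g * (g⁻¹ * n * g) * g⁻¹ = n by group] at h2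
  have hcomm : ∀ u ∈ N, ∀ v ∈ N, u * v = v * u := by
    intro u hu v hv
    induction hv using closure_induction with
    | mem v hv =>
      obtain ⟨g, rfl⟩ := hv
      exact (Commute.mul_right ((mem_centralizer_self_iff.1 (hNC hu)).inv_right)
        (mem_centralizer_self_iff.1 (hconj g hu))).eq
    | one => rw [mul_one, one_mul]
    | mul v w _ _ hv hw => exact (Commute.mul_right hv hw : Commute u (v * w))
    | inv v _ hv => exact (Commute.inv_right (hv : Commute u v) : Commute u v⁻¹)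
  refine ⟨N, hNn, hcomm, hNcard, hNC, ?_⟩
  haveI : IsMulCommutative N := ⟨⟨fun u v => Subtype.ext (hcomm u u.2 v v.2)⟩⟩
  haveI := Fintype.ofFinite (G ⧸ centralizer ({a} : Set G))
  have hwell : ∀ p r : G, (p : G ⧸ centralizer ({a} : Set G)) = r → p * a * p⁻¹ = r * a * r⁻¹ := by
    intro p r hpr
    have h1 := mem_centralizer_singleton_iff.1 (QuotientGroup.eq.1 hpr)
    calc p * a * p⁻¹ = p * (a * (p⁻¹ * r)) * r⁻¹ := by group
      _ = p * (p⁻¹ * r * a) * r⁻¹ := by rw [h1]
      _ = _ := by group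
  let f : G ⧸ centralizer ({a} : Set G) → N := fun q =>
    ⟨a⁻¹ * (q.out * a * q.out⁻¹), subset_closure ⟨q.out, rfl⟩⟩
  let U : G → N := fun g => ⟨a⁻¹ * (g * a * g⁻¹), subset_closure ⟨g, rfl⟩⟩
  have hcop : (Nat.card N).Coprime (sz a) := h.symm.coprime_dvd_left hNcard
  set c : N := (powCoprime hcop).symm (∏ q, f q) with hc
  refine ⟨c, c.2, mem_center_iff.2 fun g => ?_⟩
  let ψ : N →* N :=
    { toFun := fun v => ⟨g * v * g⁻¹, hNn.conj_mem _ v.2 g⟩
      map_one' := Subtype.ext (by simp)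
      map_mul' := fun u v => Subtype.ext (by simp [mul_assoc]) }
  have hψf : ∀ q, ψ (f q) = (U g)⁻¹ * f (g • q) := by
    intro q
    refine Subtype.ext ?_
    show g * (a⁻¹ * (q.out * a * q.out⁻¹)) * g⁻¹ =
      (a⁻¹ * (g * a * g⁻¹))⁻¹ * (a⁻¹ * ((g • q).out * a * (g • q).out⁻¹))
    rw [hwell (g • q).out (g * q.out) (by
      rw [QuotientGroup.out_eq']
      conv_lhs => rw [← QuotientGroup.out_eq' q]
      rfl)]
    group
  have hψc : (ψ c) ^ sz a = ((U g)⁻¹ * c) ^ sz a := by
    have e : c ^ sz a = ∏ q, f q := (powCoprime hcop).apply_symm_apply _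
    rw [← map_pow, mul_pow, e, map_prod, Finset.prod_congr rfl fun q _ => hψf q,
      Finset.prod_mul_distrib, Finset.prod_const, Finset.card_univ, ← Nat.card_eq_fintype_card,
      ← index_eq_card]
    exact congrArg _ (Equiv.prod_comp (MulAction.toPerm g) f)
  have h2 : (g * c * g⁻¹ : G) = (a⁻¹ * (g * a * g⁻¹))⁻¹ * c :=
    congrArg Subtype.val ((powCoprime hcop).injective hψc)
  calc g * (a * c) = g * a * g⁻¹ * (g * c * g⁻¹) * g := by group
    _ = a * c * g := by rw [h2]; group

/-- The standing hypotheses. -/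
structure Hyp (m n : ℕ) (x y : G) (N : Subgroup G) : Prop where
  hlt : n < m
  hn : 1 < n
  hcop : m.Coprime n
  htop : ∀ z : G, sz z ≤ m
  hsecond : ∀ z : G, sz z < m → sz z ≤ n
  hx : sz x = n
  hy : sz y = m
  hxN : x ∈ N
  hNn : N.Normal
  hNc : ∀ u ∈ N, ∀ v ∈ N, u * v = v * u
  hNm : Nat.card N ∣ m

theorem exists_hyp {m n : ℕ} {x y : G} (hlt : n < m) (hn : 1 < n) (hcop : m.Coprime n)
    (htop : ∀ z : G, sz z ≤ m) (hsecond : ∀ z : G, sz z < m → sz z ≤ n) (hx : sz x = n)
    (hy : sz y = m) :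
    ∃ x0 N, Hyp m n x0 y N ∧ centralizer ({x0} : Set G) = centralizer ({x} : Set G) := by
  have h : (sz x).Coprime (sz y) := by rw [hx, hy]; exact hcop.symm
  have he : sz (x * y) = sz y := by
    refine le_antisymm ?_ (sz_mul h).2.1
    rw [hy]; exact htop _
  obtain ⟨N, hNn, hNc, hNm, -, c, hc, hcz⟩ := exists_translation h he
  have e : centralizer ({c⁻¹} : Set G) = centralizer ({x} : Set G) := by
    rw [← centralizer_mul_central (a := c⁻¹) hcz]
    congr 2
    rw [mem_center_iff.1 hcz c⁻¹]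
    group
  refine ⟨c⁻¹, N, ⟨hlt, hn, hcop, htop, hsecond, ?_, hy, inv_mem hc, hNn, hNc, hy ▸ hNm⟩, e⟩
  show (centralizer ({c⁻¹} : Set G)).index = n
  rw [e]
  exact hx

variable {m n : ℕ} {x y : G} {N : Subgroup G}

theorem Hyp.one_lt (h : Hyp m n x y N) : 1 < m := h.hn.trans h.hlt

theorem Hyp.not_dvd (h : Hyp m n x y N) : ¬ n ∣ m := fun hd =>
  h.hn.ne' (Nat.eq_one_of_dvd_coprimes h.hcop hd dvd_rfl)

theorem Hyp.orderOf_x (h : Hyp m n x y N) : orderOf x ∣ m :=
  (Subgroup.orderOf_dvd_natCard N h.hxN).trans h.hNm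

/-- Elements of `C(x)` whose order involves only primes of `n` are central. -/
theorem Hyp.pi_center (h : Hyp m n x y N) {w : G} (hw : w ∈ centralizer ({x} : Set G)) {k : ℕ}
    (ho : orderOf w ∣ n ^ k) : w ∈ center G := by
  have hwc := mem_centralizer_self_iff.1 hw
  have hco : ∀ j, j ∣ m → (orderOf w).Coprime j := fun j hj =>
    ((h.hcop.symm.pow_left k).coprime_dvd_left ho).coprime_dvd_right hj
  have hle := centralizer_mul_le hwc (hco _ h.orderOf_x)
  have hd : n ∣ sz (w * x) := h.hx ▸ sz_dvd_of_centralizer_le (hle.trans inf_le_right)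
  have hne : sz (w * x) ≠ m := fun e => h.not_dvd (e ▸ hd)
  have hle' : sz (w * x) ≤ n := h.hsecond _ (lt_of_le_of_ne (h.htop _) hne)
  have heq := centralizer_eq_of_le (hle.trans inf_le_right) (hle'.trans h.hx.ge)
  have hwn : sz w ∣ n := h.hx ▸ sz_dvd_of_centralizer_le (heq ▸ hle.trans inf_le_left)
  have hc' : (sz w).Coprime (sz y) := h.hy ▸ h.hcop.symm.coprime_dvd_left hwn
  obtain ⟨M, -, -, hMm, hMC, c, hc, hcz⟩ :=
    exists_translation hc' (le_antisymm (h.hy ▸ h.htop _) (sz_mul hc').2.1)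
  have hwcc : Commute w c := (mem_centralizer_self_iff.1 (hMC hc)).symm
  refine mem_of_pow _ (a := orderOf c) (b := orderOf w) ?_ (by rw [pow_orderOf_eq_one]; exact one_mem _)
    (hco _ ((Subgroup.orderOf_dvd_natCard M hc).trans (h.hy ▸ hMm))).symm
  have := (center G).pow_mem hcz (orderOf c)
  rwa [hwcc.mul_pow, pow_orderOf_eq_one, mul_one] at this

/-- The only class sizes prime to `n` are `1` and `m`. -/
theorem Hyp.center_or_max (h : Hyp m n x y N) {z : G} (hz : (sz z).Coprime n) :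
    z ∈ center G ∨ sz z = m := by
  by_cases hzm : sz z = m
  · exact Or.inr hzm
  left
  have hzn : sz z ≤ n := h.hsecond _ (lt_of_le_of_ne (h.htop _) hzm)
  have hc' : (sz z).Coprime (sz x) := h.hx ▸ hz
  obtain ⟨-, h2, h3⟩ := sz_mul hc'
  rw [h.hx] at h2 h3
  have hne : sz (z * x) ≠ m := by
    intro e
    have h4 : m ∣ sz z := h.hcop.dvd_of_dvd_mul_right (e ▸ h3)
    have h5 : m ≤ sz z := Nat.le_of_dvd (Nat.pos_of_ne_zero index_ne_zero_of_finite) h4
    exact absurd (h5.trans hzn) (not_le.2 h.hlt)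
  have he : sz (z * x) = sz x := by
    rw [h.hx]
    exact le_antisymm (h.hsecond _ (lt_of_le_of_ne (h.htop _) hne)) h2
  obtain ⟨M, hMn, -, hMm, -, c, hc, hcz⟩ := exists_translation hc' he
  have hdis : Disjoint M N :=
    disjoint_iff.2 (inf_eq_bot_of_coprime
      (((h.hx ▸ (h.hcop.symm : n.Coprime m) : (sz x).Coprime m).coprime_dvd_left hMm).coprime_dvd_right h.hNm))
  have hcx : c ∈ centralizer ({x} : Set G) :=
    mem_centralizer_self_iff.2 (Subgroup.commute_of_normal_of_disjoint M N hMn h.hNn hdis c x hc h.hxN)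
  have hcc : c ∈ center G := h.pi_center (k := 1) hcx (by
    rw [pow_one]; exact (Subgroup.orderOf_dvd_natCard M hc).trans (h.hx ▸ hMm))
  simpa using mul_mem hcz (inv_mem hcc)

/-- A centralizer containing a centralizer of index `m`. -/
theorem Hyp.cent_eq (h : Hyp m n x y N) {y' z : G} (hy' : sz y' = m) (hz : z ∉ center G)
    (hle : centralizer ({y'} : Set G) ≤ centralizer ({z} : Set G)) :
    sz z = m ∧ centralizer ({y'} : Set G) = centralizer ({z} : Set G) := by
  have hm : sz z = m := (h.center_or_max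
    (h.hcop.coprime_dvd_left (hy' ▸ sz_dvd_of_centralizer_le hle))).resolve_left hz
  exact ⟨hm, centralizer_eq_of_le hle (by rw [hy', hm])⟩

/-- Either `C(y)` is abelian, or modulo the center it is a `q`-group with all `q'`-elements central. -/
theorem Hyp.dichotomy (h : Hyp m n x y N) :
    (∀ a ∈ centralizer ({y} : Set G), ∀ b ∈ centralizer ({y} : Set G), a * b = b * a) ∨
    ∃ q : ℕ, q.Prime ∧ ∀ r ∈ centralizer ({y} : Set G), ¬ q ∣ orderOf r → r ∈ center G := by
  have hyz : y ∉ center G := fun hc => h.one_lt.ne' (h.hy ▸ mem_center_of_sz.2 hc)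
  obtain ⟨k, q, i, hq, hk, hkz⟩ : ∃ k q i, q.Prime ∧ orderOf (y ^ k) = q ^ i ∧ y ^ k ∉ center G := by
    by_contra hcon
    push Not at hcon
    exact hyz (mem_of_primary _ y fun k q i hq hk => hcon k q i hq hk)
  obtain ⟨hy0, hD⟩ := h.cent_eq h.hy hkz fun g hg =>
    mem_centralizer_self_iff.2 ((mem_centralizer_self_iff.1 hg).pow_right k)
  have key : ∀ (q : ℕ) (y' : G), q.Prime → (∃ i, orderOf y' = q ^ i) → sz y' = m →
      ∀ r ∈ centralizer ({y'} : Set G), ¬ q ∣ orderOf r →
        centralizer ({y'} : Set G) ≤ centralizer ({r} : Set G) := by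
    rintro q y' hq ⟨i, hi⟩ hy' r hr hqr
    have hle := centralizer_mul_le (mem_centralizer_self_iff.1 hr)
      (by rw [hi]; exact Nat.Coprime.pow_right _ ((hq.coprime_iff_not_dvd.2 hqr).symm))
    have := centralizer_eq_of_le (hle.trans inf_le_right) (by rw [hy']; exact h.htop _)
    exact this.ge.trans (hle.trans inf_le_left)
  by_cases hB : ∀ r ∈ centralizer ({y} : Set G), ¬ q ∣ orderOf r → r ∈ center G
  · exact Or.inr ⟨q, hq, hB⟩
  left
  push Not at hB
  obtain ⟨r, hr, hqr, hrz⟩ := hB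
  obtain ⟨k', l, i', hl, hk', hrz'⟩ : ∃ k q i, q.Prime ∧ orderOf (r ^ k) = q ^ i ∧ r ^ k ∉ center G := by
    by_contra hcon
    push Not at hcon
    exact hrz (mem_of_primary _ r fun k q i hq hk => hcon k q i hq hk)
  have hdvd : l ^ i' ∣ orderOf r := hk' ▸ orderOf_pow_dvd k'
  have hqr' : ¬ q ∣ orderOf (r ^ k') := fun hd => hqr (hd.trans (orderOf_pow_dvd k'))
  have hi' : i' ≠ 0 := by
    rintro rfl
    rw [pow_zero, orderOf_eq_one_iff] at hk'
    exact hrz' (hk' ▸ one_mem _)
  have hlq : l ≠ q := fun e => hqr (e ▸ ((dvd_pow_self l hi').trans hdvd))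
  obtain ⟨hr0, hD'⟩ := h.cent_eq hy0 hrz'
    (key q (y ^ k) hq ⟨i, hk⟩ hy0 _ (hD ▸ pow_mem hr k') hqr')
  intro a ha b hb
  rw [hD] at ha hb
  refine mem_centralizer_singleton_iff.1 (mem_of_primary (centralizer ({b} : Set G)) a fun j p t hp hj => ?_)
  by_cases hpq : q ∣ orderOf (a ^ j)
  · have hql : ¬ l ∣ orderOf (a ^ j) := by
      intro hd
      rw [hj] at hpq hd
      exact hlq (((Nat.prime_dvd_prime_iff_eq hl hp).1 (hl.dvd_of_dvd_pow hd)).trans
        ((Nat.prime_dvd_prime_iff_eq hq hp).1 (hq.dvd_of_dvd_pow hpq)).symm)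
    exact mem_centralizer_self_iff.2 (mem_centralizer_self_iff.1
      (key l (r ^ k') hl ⟨i', hk'⟩ hr0 _ (hD' ▸ pow_mem ha j) hql (hD' ▸ hb))).symm
  · exact mem_centralizer_self_iff.2 (mem_centralizer_self_iff.1
      (key q (y ^ k) hq ⟨i, hk⟩ hy0 _ (pow_mem ha j) hpq hb)).symm

theorem Hyp.exists_mul (h : Hyp m n x y N) (g : G) :
    ∃ a ∈ centralizer ({x} : Set G), ∃ b ∈ centralizer ({y} : Set G), g = a * b :=
  exists_mul_of_coprime (by rw [← sz, ← sz, h.hx, h.hy]; exact h.hcop.symm) g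

theorem center_le_cent (a : G) : center G ≤ centralizer ({a} : Set G) :=
  fun g hg => mem_centralizer_self_iff.2 (mem_center_iff.1 hg a).symm

theorem Hyp.relIndex_xy (h : Hyp m n x y N) :
    (centralizer ({x} : Set G)).relIndex (centralizer ({y} : Set G)) = n := by
  have h1 : (centralizer ({x} : Set G) ⊓ centralizer ({y} : Set G)).index = n * m := by
    refine le_antisymm ?_ (Nat.le_of_dvd (Nat.pos_of_ne_zero index_ne_zero_of_finite)
      (h.hcop.symm.mul_dvd_of_dvd_of_dvd (h.hx ▸ index_dvd_of_le inf_le_left)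
        (h.hy ▸ index_dvd_of_le inf_le_right)))
    exact index_inf_le.trans (le_of_eq (by rw [← sz, ← sz, h.hx, h.hy]))
  rw [← inf_relIndex_right]
  have h2 := relIndex_mul_index (inf_le_right :
    centralizer ({x} : Set G) ⊓ centralizer ({y} : Set G) ≤ centralizer ({y} : Set G))
  rw [h1, ← sz, h.hy] at h2
  exact Nat.eq_of_mul_eq_mul_right (by linarith [h.one_lt]) h2

theorem Hyp.q_dvd (h : Hyp m n x y N) {q : ℕ} (hq : q.Prime)
    (hB : ∀ r ∈ centralizer ({y} : Set G), ¬ q ∣ orderOf r → r ∈ center G) :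
    q ∣ n ∧ IsPGroup q ((centralizer ({y} : Set G)).map (QuotientGroup.mk' (center G))) := by
  have hp : IsPGroup q ((centralizer ({y} : Set G)).map (QuotientGroup.mk' (center G))) := by
    rintro ⟨_, d, hd, rfl⟩
    obtain ⟨i, r, hr, he⟩ := Nat.exists_eq_pow_mul_and_not_dvd (orderOf_pos d).ne' q hq.ne_one
    refine ⟨i, Subtype.ext ?_⟩
    rw [SubgroupClass.coe_pow, ← map_pow]
    refine mk_eq_one_iff.2 (hB _ (pow_mem hd _) fun hdvd => hr ?_)
    rwa [orderOf_pow_of_dvd (pow_ne_zero _ hq.ne_zero) ⟨r, he⟩, he,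
      Nat.mul_div_cancel_left _ (pow_pos hq.pos _)] at hdvd
  refine ⟨?_, hp⟩
  haveI := Fact.mk hq
  obtain ⟨e, he⟩ := IsPGroup.iff_card.1 hp
  rw [← relIndex_ker, QuotientGroup.ker_mk'] at he
  have h1 : n ∣ q ^ e := by
    rw [← he, ← h.relIndex_xy]
    exact relIndex_dvd_of_le_left _ (center_le_cent x)
  obtain ⟨i, -, hi⟩ := (Nat.dvd_prime_pow hq).1 h1
  rcases Nat.eq_zero_or_pos i with rfl | hi0
  · exact absurd hi (by simpa using h.hn.ne')
  · exact hi ▸ dvd_pow_self q hi0.ne'

theorem Hyp.inf_le_center (h : Hyp m n x y N) :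
    centralizer ({x} : Set G) ⊓ centralizer ({y} : Set G) ≤ center G := by
  rintro r ⟨hrx, hry⟩
  rcases h.dichotomy with hA | ⟨q, hq, hB⟩
  · by_contra hrz
    obtain ⟨-, hD⟩ := h.cent_eq h.hy hrz fun g hg => mem_centralizer_self_iff.2 (hA g hg r hry)
    have hxD : x ∈ centralizer ({y} : Set G) :=
      hD ▸ mem_centralizer_self_iff.2 (mem_centralizer_self_iff.1 hrx).symm
    have hle : centralizer ({y} : Set G) ≤ centralizer ({x} : Set G) :=
      fun g hg => mem_centralizer_self_iff.2 (hA g hg x hxD)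
    exact h.not_dvd (by rw [← h.hx, ← h.hy]; exact sz_dvd_of_centralizer_le hle)
  · refine mem_of_primary _ r fun k p i hp hk => ?_
    by_cases hd : q ∣ orderOf (r ^ k)
    · have hpq : q = p := (Nat.prime_dvd_prime_iff_eq hq hp).1 (hq.dvd_of_dvd_pow (hk ▸ hd))
      exact h.pi_center (k := i) (pow_mem hrx k) (hk ▸ pow_dvd_pow_of_dvd (hpq ▸ (h.q_dvd hq hB).1) i)
    · exact hB _ (pow_mem hry k) hd

theorem Hyp.relIndex_center_y (h : Hyp m n x y N) :
    (center G).relIndex (centralizer ({y} : Set G)) = n := by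
  rw [← h.relIndex_xy, ← inf_relIndex_right (centralizer ({x} : Set G))]
  congr 1
  exact le_antisymm (le_inf (center_le_cent x) (center_le_cent y)) h.inf_le_center

theorem Hyp.index_center (h : Hyp m n x y N) : (center G).index = n * m := by
  rw [← relIndex_mul_index (center_le_cent y), h.relIndex_center_y, ← sz, h.hy]

theorem Hyp.relIndex_center_x (h : Hyp m n x y N) :
    (center G).relIndex (centralizer ({x} : Set G)) = m := by
  have h1 := relIndex_mul_index (center_le_cent x)
  rw [h.index_center, ← sz, h.hx, mul_comm n m] at h1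
  exact Nat.eq_of_mul_eq_mul_right (by linarith [h.hn]) h1

theorem pow_relIndex_mem {g : G} {H : Subgroup G} (hg : g ∈ H) :
    g ^ (center G).relIndex H ∈ center G :=
  mk_eq_one_iff.1 (by
    rw [map_pow]
    have h1 : (center G).relIndex H = Nat.card (H.map (QuotientGroup.mk' (center G))) := by
      rw [← relIndex_ker, QuotientGroup.ker_mk']
    rw [h1, ← orderOf_dvd_iff_pow_eq_one]
    exact Subgroup.orderOf_dvd_natCard _ (mem_map_of_mem _ hg))

/-- In the nonabelian case the `q`-elements of `C(y)` have classes of size `m`. -/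
theorem Hyp.sz_q_element (h : Hyp m n x y N) {q : ℕ} (hq : q.Prime)
    (hB : ∀ r ∈ centralizer ({y} : Set G), ¬ q ∣ orderOf r → r ∈ center G)
    {d : G} (hd : d ∈ centralizer ({y} : Set G)) (hdz : d ∉ center G) {i : ℕ}
    (ho : orderOf d = q ^ i) : sz d = m := by
  classical
  haveI := Fact.mk hq
  obtain ⟨hqn, hP⟩ := h.q_dvd hq hB
  haveI := h.hNn
  haveI : IsMulCommutative N := ⟨⟨fun u v => Subtype.ext (h.hNc u u.2 v v.2)⟩⟩
  have hom : (orderOf d).Coprime m := by
    rw [ho]; exact ((h.hcop.coprime_dvd_right hqn).symm).pow_left i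
  let T : N →* N :=
    { toFun := fun v => ⟨d * v * d⁻¹, h.hNn.conj_mem _ v.2 d⟩
      map_one' := Subtype.ext (by simp)
      map_mul' := fun u v => Subtype.ext (by simp [mul_assoc]) }
  let F : ℕ → N := fun j => ⟨d ^ j * x * (d ^ j)⁻¹, h.hNn.conj_mem _ h.hxN _⟩
  let a : N := ∏ j ∈ Finset.range (orderOf d), F j
  have hTa : T a = a := by
    have h1 : T a = ∏ j ∈ Finset.range (orderOf d), F (j + 1) := by
      rw [map_prod]
      refine Finset.prod_congr rfl fun j _ => Subtype.ext ?_
      show d * (d ^ j * x * (d ^ j)⁻¹) * d⁻¹ = d ^ (j + 1) * x * (d ^ (j + 1))⁻¹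
      rw [pow_succ']; group
    have h2 : F (orderOf d) = F 0 := Subtype.ext (by simp [F])
    have h3 := Finset.prod_range_succ F (orderOf d)
    rw [Finset.prod_range_succ', h2] at h3
    rw [h1]
    exact mul_right_cancel h3
  have hda : Commute d (a : G) := by
    have h1 : d * (a : G) * d⁻¹ = a := congrArg Subtype.val hTa
    exact mul_inv_eq_iff_eq_mul.1 h1
  let φ : N →* N :=
    { toFun := fun v => T v * v⁻¹
      map_one' := by simp
      map_mul' := fun u v => by rw [map_mul, mul_inv, mul_mul_mul_comm] }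
  set H := centralizer ({d} : Set G) ⊓ centralizer ({(a : G)} : Set G) with hH
  have hφker : φ.ker = H.subgroupOf N := by
    ext v
    rw [MonoidHom.mem_ker, mem_subgroupOf]
    constructor
    · intro hv
      refine ⟨mem_centralizer_self_iff.2 ?_, mem_centralizer_self_iff.2 (h.hNc v v.2 a a.2)⟩
      have h1 : d * (v : G) * d⁻¹ = v := congrArg Subtype.val (mul_inv_eq_one.1 hv)
      exact (mul_inv_eq_iff_eq_mul.1 h1).symm
    · intro hv
      refine mul_inv_eq_one.2 (Subtype.ext ?_)
      show d * (v : G) * d⁻¹ = v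
      rw [← mem_centralizer_singleton_iff.1 hv.1, mul_inv_cancel_right]
  have hR : Nat.card φ.range ∣ H.index := by
    rw [← index_ker, hφker]
    exact relIndex_dvd_index_of_normal_right N H
  have hRm : Nat.card φ.range ∣ m := (card_subgroup_dvd_card _).trans h.hNm
  have hw : φ ⟨x, h.hxN⟩ ≠ 1 := by
    intro e
    refine hdz (h.inf_le_center ⟨mem_centralizer_self_iff.2 ?_, hd⟩)
    have h1 : d * x * d⁻¹ = x := congrArg Subtype.val (mul_inv_eq_one.1 e)
    exact mul_inv_eq_iff_eq_mul.1 h1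
  -- a Sylow subgroup of `H` modulo the center
  set Hb := H.map (QuotientGroup.mk' (center G)) with hHb
  obtain ⟨P⟩ : Nonempty (Sylow q Hb) := inferInstance
  set K := ((P : Subgroup Hb).map Hb.subtype).comap (QuotientGroup.mk' (center G)) with hK
  have hKH : K ≤ H := fun g hg => (mem_map_mk_iff (le_inf (center_le_cent d) (center_le_cent _))).1
    (map_subtype_le _ hg)
  have hKZ : center G ≤ K := fun g hg => by
    rw [hK, mem_comap, mk_eq_one_iff.2 hg]
    exact one_mem _
  have hKp : ∀ g ∈ K, ∃ j, g ^ q ^ j ∈ center G := by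
    intro g hg
    obtain ⟨p, hp, hpg⟩ := hg
    obtain ⟨j, hj⟩ := P.2 ⟨p, hp⟩
    refine ⟨j, mk_eq_one_iff.1 ?_⟩
    rw [map_pow, ← hpg, ← map_pow]
    have : p ^ q ^ j = 1 := congrArg Subtype.val hj
    rw [this, map_one]
  have hKcard : (center G).relIndex K = Nat.card (P : Subgroup Hb) := by
    have e1 : (center G).relIndex K = Nat.card (K.map (QuotientGroup.mk' (center G))) := by
      rw [← relIndex_ker, QuotientGroup.ker_mk']
    rw [e1, hK, map_comap_eq_self_of_surjective (QuotientGroup.mk'_surjective _),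
      card_map_of_injective (subtype_injective _)]
  -- the injection
  have hKfix : ∀ t ∈ K, t * (φ ⟨x, h.hxN⟩ : N) * t⁻¹ = (φ ⟨x, h.hxN⟩ : G) → t ∈ center G := by
    intro t ht hfix
    have htd : Commute t d := mem_centralizer_self_iff.1 (hKH ht).1
    have hta : Commute t (a : G) := mem_centralizer_self_iff.1 (hKH ht).2
    set u : N := ⟨x⁻¹ * (t * x * t⁻¹), mul_mem (inv_mem h.hxN) (h.hNn.conj_mem _ h.hxN t)⟩ with hu
    have hdu : Commute d (u : G) := by
      change t * (d * x * d⁻¹ * x⁻¹) * t⁻¹ = d * x * d⁻¹ * x⁻¹ at hfix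
      have h1 : d * (t * x * t⁻¹) * d⁻¹ * (t * x * t⁻¹)⁻¹ = d * x * d⁻¹ * x⁻¹ := by
        refine Eq.trans ?_ hfix
        calc d * (t * x * t⁻¹) * d⁻¹ * (t * x * t⁻¹)⁻¹
            = (d * t) * x * (d * t)⁻¹ * t * x⁻¹ * t⁻¹ := by group
          _ = (t * d) * x * (t * d)⁻¹ * t * x⁻¹ * t⁻¹ := by rw [htd.eq]
          _ = _ := by group
      refine mul_inv_eq_iff_eq_mul.1 ?_
      show d * (x⁻¹ * (t * x * t⁻¹)) * d⁻¹ = x⁻¹ * (t * x * t⁻¹)
      calc d * (x⁻¹ * (t * x * t⁻¹)) * d⁻¹
          = (d * x * d⁻¹)⁻¹ * (d * (t * x * t⁻¹) * d⁻¹ * (t * x * t⁻¹)⁻¹) * (t * x * t⁻¹) := by group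
        _ = _ := by rw [h1]; group
    let S : N →* N :=
      { toFun := fun v => ⟨t * v * t⁻¹, h.hNn.conj_mem _ v.2 t⟩
        map_one' := Subtype.ext (by simp)
        map_mul' := fun u v => Subtype.ext (by simp [mul_assoc]) }
    have hSF : ∀ j, S (F j) = F j * u := by
      intro j
      refine Subtype.ext ?_
      show t * (d ^ j * x * (d ^ j)⁻¹) * t⁻¹ = d ^ j * x * (d ^ j)⁻¹ * (u : G)
      calc t * (d ^ j * x * (d ^ j)⁻¹) * t⁻¹ = (t * d ^ j) * x * (t * d ^ j)⁻¹ := by group
        _ = (d ^ j * t) * x * (d ^ j * t)⁻¹ := by rw [(htd.pow_right j).eq]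
        _ = d ^ j * x * (x⁻¹ * (t * x * t⁻¹) * (d ^ j)⁻¹) := by group
        _ = d ^ j * x * ((d ^ j)⁻¹ * (x⁻¹ * (t * x * t⁻¹))) := by
            congr 1
            exact ((hdu.pow_left j).inv_left.eq).symm
        _ = d ^ j * x * (d ^ j)⁻¹ * (u : G) := by rw [← mul_assoc]
    have hSa : S a = a * u ^ orderOf d := by
      rw [map_prod, Finset.prod_congr rfl fun j _ => hSF j, Finset.prod_mul_distrib, Finset.prod_const,
        Finset.card_range]
    have hSa' : S a = a := Subtype.ext (by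
      show t * (a : G) * t⁻¹ = a
      rw [hta.eq, mul_inv_cancel_right])
    rw [hSa', left_eq_mul] at hSa
    have hu1 : u = 1 := by
      refine orderOf_eq_one_iff.1 (Nat.eq_one_of_dvd_coprimes hom (orderOf_dvd_of_pow_eq_one hSa) ?_)
      exact (orderOf_dvd_natCard u).trans h.hNm
    have htx : t ∈ centralizer ({x} : Set G) := by
      refine mem_centralizer_self_iff.2 (mul_inv_eq_iff_eq_mul.1 ?_)
      exact (inv_mul_eq_one.1 (congrArg Subtype.val hu1)).symm
    obtain ⟨j, hj⟩ := hKp t ht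
    exact mem_of_pow _ hj (h.relIndex_center_x ▸ pow_relIndex_mem htx)
      (((h.hcop.coprime_dvd_right hqn).symm).pow_left j)
  have hconjφ : ∀ t ∈ K, t * (φ ⟨x, h.hxN⟩ : N) * t⁻¹ =
      ((φ ⟨t * x * t⁻¹, h.hNn.conj_mem _ h.hxN t⟩ : N) : G) := by
    intro t ht
    have htd : Commute t d := mem_centralizer_self_iff.1 (hKH ht).1
    show t * (d * x * d⁻¹ * x⁻¹) * t⁻¹ = d * (t * x * t⁻¹) * d⁻¹ * (t * x * t⁻¹)⁻¹
    calc t * (d * x * d⁻¹ * x⁻¹) * t⁻¹ = (t * d) * x * (t * d)⁻¹ * t * x⁻¹ * t⁻¹ := by group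
      _ = (d * t) * x * (d * t)⁻¹ * t * x⁻¹ * t⁻¹ := by rw [htd.eq]
      _ = _ := by group
  have hcnt : (center G).relIndex K < Nat.card φ.range := by
    haveI := Fintype.ofFinite φ.range
    let f : K ⧸ (center G).subgroupOf K → {r : φ.range // r ≠ 1} := fun c =>
      ⟨⟨φ ⟨(c.out : G) * x * (c.out : G)⁻¹, h.hNn.conj_mem _ h.hxN _⟩, _, rfl⟩, fun e => hw (by
        have h1 := hconjφ (c.out : G) c.out.2
        rw [show φ ⟨(c.out : G) * x * (c.out : G)⁻¹, h.hNn.conj_mem _ h.hxN _⟩ = 1 from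
          congrArg Subtype.val e, OneMemClass.coe_one, conj_eq_one_iff] at h1
        exact Subtype.ext h1)⟩
    have hf : Function.Injective f := by
      intro c c' e
      have e' : ((φ ⟨(c.out : G) * x * (c.out : G)⁻¹, h.hNn.conj_mem _ h.hxN _⟩ : N) : G) =
          (φ ⟨(c'.out : G) * x * (c'.out : G)⁻¹, h.hNn.conj_mem _ h.hxN _⟩ : N) :=
        congrArg (fun r : {r : φ.range // r ≠ 1} => ((r.1 : N) : G)) e
      rw [← hconjφ _ c.out.2, ← hconjφ _ c'.out.2] at e'
      rw [← QuotientGroup.out_eq' c, ← QuotientGroup.out_eq' c', QuotientGroup.eq, mem_subgroupOf]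
      refine hKfix _ (c.out⁻¹ * c'.out).2 ?_
      push_cast
      calc (c.out : G)⁻¹ * c'.out * (φ ⟨x, h.hxN⟩ : N) * ((c.out : G)⁻¹ * c'.out)⁻¹
          = (c.out : G)⁻¹ * ((c'.out : G) * (φ ⟨x, h.hxN⟩ : N) * (c'.out : G)⁻¹) * c.out := by group
        _ = _ := by rw [← e']; group
    have h1 := Nat.card_le_card_of_injective f hf
    rw [Nat.card_eq_fintype_card (α := {r : φ.range // r ≠ 1}), Fintype.card_subtype_compl,
      Fintype.card_subtype_eq] at h1
    rw [relIndex, index_eq_card, Nat.card_eq_fintype_card (α := φ.range)]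
    have : 0 < Fintype.card φ.range := Fintype.card_pos
    omega
  -- arithmetic
  have hnq : ∃ e, n = q ^ e := by
    obtain ⟨e, he⟩ := IsPGroup.iff_card.1 hP
    rw [← relIndex_ker, QuotientGroup.ker_mk', h.relIndex_center_y] at he
    exact ⟨e, he⟩
  obtain ⟨e, he⟩ := hnq
  have hnd : n ∣ H.index * Nat.card (P : Subgroup Hb) := by
    have h1 : H.index * Nat.card Hb = n * m := by
      rw [hHb, ← relIndex_ker, QuotientGroup.ker_mk', mul_comm,
        relIndex_mul_index (le_inf (center_le_cent d) (center_le_cent _)), h.index_center]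
    have h2 : n ∣ H.index * Nat.card (P : Subgroup Hb) * (P : Subgroup Hb).index := by
      rw [mul_assoc, mul_comm (Nat.card (P : Subgroup Hb)), index_mul_card, h1]
      exact dvd_mul_right _ _
    refine Nat.Coprime.dvd_of_dvd_mul_right ?_ h2
    rw [he]
    exact Nat.Coprime.pow_left _ (hq.coprime_iff_not_dvd.2 P.not_dvd_index)
  have hdd : n * Nat.card φ.range ∣ H.index * Nat.card (P : Subgroup Hb) :=
    (h.hcop.symm.coprime_dvd_right hRm).mul_dvd_of_dvd_of_dvd hnd (hR.trans (dvd_mul_right _ _))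
  have hs : sz (d * a) = H.index := by
    have hco : (orderOf d).Coprime (orderOf (a : G)) :=
      hom.coprime_dvd_right ((Subgroup.orderOf_dvd_natCard N a.2).trans h.hNm)
    show (centralizer ({d * (a : G)} : Set G)).index = H.index
    congr 1
    exact le_antisymm (centralizer_mul_le hda hco) fun g hg => mem_centralizer_self_iff.2
      ((mem_centralizer_self_iff.1 hg.1).mul_right (mem_centralizer_self_iff.1 hg.2))
  have hsm : H.index = m := by
    rw [← hs]
    by_contra hne
    have h1 : H.index ≤ n := hs ▸ h.hsecond _ (lt_of_le_of_ne (h.htop _) hne)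
    have h2 := Nat.le_of_dvd (Nat.mul_pos (Nat.pos_of_ne_zero index_ne_zero_of_finite) Nat.card_pos) hdd
    rw [hKcard] at hcnt
    have h3 : H.index * Nat.card (P : Subgroup Hb) ≤ n * Nat.card (P : Subgroup Hb) :=
      Nat.mul_le_mul_right _ h1
    have h4 : n * Nat.card (P : Subgroup Hb) < n * Nat.card φ.range :=
      Nat.mul_lt_mul_of_pos_left hcnt (by linarith [h.hn])
    omega
  exact (h.center_or_max (h.hcop.coprime_dvd_left (hsm ▸ index_dvd_of_le inf_le_left))).resolve_left hdz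

/-- The complement `C(y)` is abelian. -/
theorem Hyp.comm_y (h : Hyp m n x y N) :
    ∀ a ∈ centralizer ({y} : Set G), ∀ b ∈ centralizer ({y} : Set G), a * b = b * a := by
  rcases h.dichotomy with hA | ⟨q, hq, hB⟩
  · exact hA
  haveI := Fact.mk hq
  obtain ⟨hqn, hP⟩ := h.q_dvd hq hB
  haveI := h.hNn
  set π := QuotientGroup.mk' (center G) with hπ
  set D := centralizer ({y} : Set G) with hDdef
  -- reduction to `q`-elements
  have hpart : ∀ d ∈ D, d ∉ center G → ∃ k i, orderOf (d ^ k) = q ^ i ∧ d ^ k ∉ center G := by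
    intro d hd hdz
    by_contra hcon
    push Not at hcon
    refine hdz (mem_of_primary _ d fun k p i hp hk => ?_)
    by_cases hd' : q ∣ orderOf (d ^ k)
    · exact hcon k i ((Nat.prime_dvd_prime_iff_eq hq hp).1 (hq.dvd_of_dvd_pow (hk ▸ hd')) ▸ hk)
    · exact hB _ (pow_mem hd k) hd'
  have hxz : x ∉ center G := fun hc => h.hn.ne' (h.hx ▸ mem_center_of_sz.2 hc)
  have hfpf : ∀ a ∈ D.map π, a ≠ 1 → N.map π ⊓ centralizer {a} = ⊥ := by
    rintro _ ⟨d, hd, rfl⟩ hd1
    have hdz : d ∉ center G := fun hc => hd1 (mk_eq_one_iff.2 hc)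
    obtain ⟨k, i, ho, hkz⟩ := hpart d hd hdz
    rw [eq_bot_iff]
    rintro _ ⟨⟨v, hv, rfl⟩, hc⟩
    rw [Subgroup.mem_bot, mk_eq_one_iff]
    by_contra hvz
    set e := d ^ k with he
    have hc2 : Commute (π e) (π v) := by
      rw [he, map_pow]
      exact ((mem_centralizer_self_iff.1 hc).symm).pow_left k
    have hzc : e * v * e⁻¹ * v⁻¹ ∈ center G := mk_eq_one_iff.1 (by
      simp only [map_mul, map_inv]
      rw [hc2.eq, mul_inv_cancel_right, mul_inv_cancel])
    set z := e * v * e⁻¹ * v⁻¹ with hz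
    have hev : ∀ j : ℕ, e ^ j * v * (e ^ j)⁻¹ = z ^ j * v := by
      intro j
      induction j with
      | zero => simp
      | succ j ih =>
        have hze : e * z ^ j = z ^ j * e := mem_center_iff.1 (pow_mem hzc j) e
        calc e ^ (j + 1) * v * (e ^ (j + 1))⁻¹ = e * (e ^ j * v * (e ^ j)⁻¹) * e⁻¹ := by
              rw [pow_succ']; group
          _ = (e * z ^ j) * v * e⁻¹ := by rw [ih]; group
          _ = z ^ j * (e * v * e⁻¹ * v⁻¹) * v := by rw [hze]; group
          _ = _ := by rw [← hz, pow_succ]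
    have h1 : z ^ orderOf e = 1 := by
      have := hev (orderOf e)
      rw [pow_orderOf_eq_one, one_mul, inv_one, mul_one, eq_comm, mul_eq_right] at this
      exact this
    have h2 : z ^ orderOf v = 1 := by
      have hzv : Commute z v := (mem_center_iff.1 hzc v).symm
      have h3 : (z * v) ^ orderOf v = z ^ orderOf v := by
        rw [hzv.mul_pow, pow_orderOf_eq_one, mul_one]
      rw [← h3, show z * v = e * v * e⁻¹ by rw [hz]; group, conj_pow, pow_orderOf_eq_one, mul_one,
        mul_inv_cancel]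
    have hco : (orderOf e).Coprime (orderOf v) := by
      rw [ho]
      exact (((h.hcop.coprime_dvd_right hqn).symm).pow_left i).coprime_dvd_right
        ((Subgroup.orderOf_dvd_natCard N hv).trans h.hNm)
    have hz1 : z = 1 := orderOf_eq_one_iff.1 (Nat.eq_one_of_dvd_coprimes hco
      (orderOf_dvd_of_pow_eq_one h1) (orderOf_dvd_of_pow_eq_one h2))
    have hev' : Commute e v := by
      rw [hz, mul_inv_eq_one, mul_inv_eq_iff_eq_mul] at hz1
      exact hz1
    have hem : sz e = m := h.sz_q_element hq hB (pow_mem hd k) hkz ho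
    have hle := centralizer_mul_le hev' hco
    have heq := centralizer_eq_of_le (hle.trans inf_le_left) (hem.symm ▸ h.htop _)
    obtain ⟨-, hC⟩ := h.cent_eq hem hvz (heq ▸ hle.trans inf_le_right)
    have hxe : x ∈ centralizer ({e} : Set G) :=
      hC ▸ mem_centralizer_self_iff.2 (h.hNc x h.hxN v hv)
    exact hkz (h.inf_le_center
      ⟨mem_centralizer_self_iff.2 (mem_centralizer_self_iff.1 hxe).symm, pow_mem hd k⟩)
  have hNb : N.map π ≠ ⊥ := fun hb => hxz (mk_eq_one_iff.1 ((Subgroup.mem_bot).1 (hb.le (mem_map_of_mem π h.hxN))))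
  have hAK : D.map π ≤ normalizer ((N.map π : Subgroup (G ⧸ center G)) : Set (G ⧸ center G)) := by
    haveI : (N.map π).Normal := h.hNn.map π (QuotientGroup.mk'_surjective _)
    rw [normalizer_eq_top_iff.2 inferInstance]
    exact le_top
  -- the order `q` subgroup attached to an element
  have hroot : ∀ d ∈ D, d ∉ center G → ∃ j, Nat.card (zpowers (π (d ^ j))) = q := by
    intro d hd hdz
    obtain ⟨t, ht⟩ := hP ⟨π d, mem_map_of_mem π hd⟩
    have ht' : (π d) ^ q ^ t = 1 := congrArg Subtype.val ht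
    obtain ⟨s, -, hs⟩ := (Nat.dvd_prime_pow hq).1 (orderOf_dvd_of_pow_eq_one ht')
    obtain ⟨s, rfl⟩ := Nat.exists_eq_succ_of_ne_zero (n := s) fun e => hdz (mk_eq_one_iff.1 (by
      rw [e, pow_zero, orderOf_eq_one_iff] at hs; exact hs))
    refine ⟨q ^ s, ?_⟩
    rw [Nat.card_zpowers, map_pow, orderOf_pow_of_dvd (pow_ne_zero _ hq.ne_zero)
      ⟨q, by rw [hs, pow_succ]⟩, hs, pow_succ, Nat.mul_div_cancel_left _ (pow_pos hq.pos _)]
  have hyz : y ∉ center G := fun hc => h.one_lt.ne' (h.hy ▸ mem_center_of_sz.2 hc)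
  have hyD : y ∈ D := mem_centralizer_self_iff.2 (Commute.refl y)
  have hcent : ∀ d ∈ D, ∀ i, orderOf d = q ^ i → d ∉ center G → D ≤ centralizer ({d} : Set G) := by
    intro d hd i ho hdz
    obtain ⟨j, hj⟩ := hroot d hd hdz
    obtain ⟨j', hj'⟩ := hroot y hyD hyz
    have hX := CfsgLib.Core.FPF.subgroup_order_prime_unique hAK hfpf hNb le_rfl hq hP
      (zpowers_le.2 (mem_map_of_mem π (pow_mem hd j))) (zpowers_le.2 (mem_map_of_mem π (pow_mem hyD j')))
      hj hj'
    obtain ⟨s, hs⟩ := mem_zpowers_iff.1 (hX ▸ mem_zpowers (π (d ^ j)))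
    rw [← map_zpow] at hs
    have hzc : ((y ^ j') ^ s)⁻¹ * d ^ j ∈ center G := QuotientGroup.eq.1 hs
    have hdjz : d ^ j ∉ center G := fun hc => hq.ne_one (by
      rw [← hj, mk_eq_one_iff.2 hc, zpowers_one_eq_bot, Subgroup.card_bot])
    obtain ⟨i', -, hi'⟩ := (Nat.dvd_prime_pow hq).1 (ho ▸ (orderOf_pow_dvd j : orderOf (d ^ j) ∣ orderOf d))
    have hdm : sz (d ^ j) = m := h.sz_q_element hq hB (pow_mem hd j) hdjz hi'
    have hle : D ≤ centralizer ({d ^ j} : Set G) := by
      have e : (y ^ j') ^ s * (((y ^ j') ^ s)⁻¹ * d ^ j) = d ^ j := by group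
      rw [← e, centralizer_mul_central hzc]
      exact fun g hg => mem_centralizer_self_iff.2
        (((mem_centralizer_self_iff.1 hg).pow_right j').zpow_right s)
    have h1 := centralizer_eq_of_le hle (by rw [h.hy, hdm])
    have h2 : centralizer ({d} : Set G) ≤ centralizer ({d ^ j} : Set G) :=
      fun g hg => mem_centralizer_self_iff.2 ((mem_centralizer_self_iff.1 hg).pow_right j)
    have h3 := centralizer_eq_of_le h2 (by rw [hdm, h.sz_q_element hq hB hd hdz ho])
    exact (h1.trans h3.symm).le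
  intro a ha b hb
  refine mem_centralizer_singleton_iff.1 (mem_of_primary (centralizer ({b} : Set G)) a fun k p i hp hk => ?_)
  by_cases hz : a ^ k ∈ center G
  · exact center_le_cent b hz
  by_cases hd' : q ∣ orderOf (a ^ k)
  · exact mem_centralizer_self_iff.2 (mem_centralizer_self_iff.1
      (hcent _ (pow_mem ha k) i ((Nat.prime_dvd_prime_iff_eq hq hp).1 (hq.dvd_of_dvd_pow (hk ▸ hd')) ▸ hk)
        hz hb)).symm
  · exact absurd (hB _ (pow_mem ha k) hd') hz

theorem Hyp.cent_y (h : Hyp m n x y N) {d : G} (hd : d ∈ centralizer ({y} : Set G))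
    (hdz : d ∉ center G) : centralizer ({d} : Set G) = centralizer ({y} : Set G) :=
  (h.cent_eq h.hy hdz fun g hg => mem_centralizer_self_iff.2 (h.comm_y g hg d hd)).2.symm

/-- Centralizers of noncentral elements of `C(x)`. -/
theorem Hyp.cent_x (h : Hyp m n x y N) {w : G} (hw : w ∈ centralizer ({x} : Set G))
    (hwz : w ∉ center G) : sz w = n ∧ N ≤ centralizer ({w} : Set G) := by
  set Cw := centralizer ({w} : Set G) with hCw
  set π := QuotientGroup.mk' (center G) with hπ
  have hcw : (center G).relIndex Cw = Nat.card (Cw.map π) := by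
    rw [← relIndex_ker, QuotientGroup.ker_mk']
  have hco : (Nat.card (Cw.map π)).Coprime n := by
    refine Nat.coprime_of_dvd fun p hp hpc hpn => ?_
    haveI := Fact.mk hp
    obtain ⟨⟨τ, hτ⟩, hτo⟩ := exists_prime_orderOf_dvd_card' p hpc
    have hτ' : orderOf τ = p := by rw [← hτo, ← Subgroup.orderOf_coe]
    obtain ⟨t, ht, rfl⟩ := hτ
    set Db := (centralizer ({y} : Set G)).map π with hDb
    have hidx : Db.index = m := by
      have h1 := Db.index_mul_card
      rw [← index_eq_card, h.index_center, hDb, ← relIndex_ker, QuotientGroup.ker_mk',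
        h.relIndex_center_y, mul_comm n m] at h1
      exact Nat.eq_of_mul_eq_mul_right (by linarith [h.hn]) h1
    have hpt : IsPGroup p (zpowers (π t)) :=
      IsPGroup.of_card (n := 1) (by rw [Nat.card_zpowers, hτ', pow_one])
    have hnd : ¬ p ∣ Nat.card ((G ⧸ center G) ⧸ Db) := by
      rw [← index_eq_card, hidx]
      exact fun hd => hp.not_dvd_one ((Nat.Coprime.gcd_eq_one h.hcop) ▸ Nat.dvd_gcd hd hpn)
    obtain ⟨c, hc⟩ := hpt.nonempty_fixed_point_of_prime_not_dvd_card _ hnd
    have h1 : ((π t * c.out : G ⧸ center G) : (G ⧸ center G) ⧸ Db) = c := by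
      conv_rhs => rw [← hc ⟨π t, mem_zpowers _⟩]
      conv_rhs => rw [← QuotientGroup.out_eq' c]
      rfl
    conv_rhs at h1 => rw [← QuotientGroup.out_eq' c]
    obtain ⟨g, hg⟩ := QuotientGroup.mk'_surjective (center G) c.out
    rw [eq_comm, QuotientGroup.eq, ← hg, ← map_inv, ← map_mul, ← map_mul, hDb,
      mem_map_mk_iff (center_le_cent y)] at h1
    have htz : t ∉ center G := fun hc => hp.ne_one (by
      rw [← hτ', mk_eq_one_iff.2 hc, orderOf_one])
    set t' := g⁻¹ * (t * g) with ht'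
    have ht'z : t' ∉ center G := fun hc => htz (by
      have := (inferInstance : (center G).Normal).conj_mem _ hc g
      rwa [show g * t' * g⁻¹ = t by rw [ht']; group] at this)
    have hw' : g⁻¹ * w * g ∈ centralizer ({y} : Set G) := by
      rw [← h.cent_y h1 ht'z, mem_centralizer_self_iff]
      have h2 : Commute t w := mem_centralizer_self_iff.1 ht
      show g⁻¹ * w * g * (g⁻¹ * (t * g)) = g⁻¹ * (t * g) * (g⁻¹ * w * g)
      calc g⁻¹ * w * g * (g⁻¹ * (t * g)) = g⁻¹ * (w * t) * g := by group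
        _ = g⁻¹ * (t * w) * g := by rw [h2.eq]
        _ = _ := by group
    have h3 : w ^ n ∈ center G := by
      have h4 := pow_relIndex_mem hw'
      rw [h.relIndex_center_y, show g⁻¹ * w * g = g⁻¹ * w * g⁻¹⁻¹ by group, conj_pow, inv_inv] at h4
      have := (inferInstance : (center G).Normal).conj_mem _ h4 g
      rwa [show g * (g⁻¹ * w ^ n * g) * g⁻¹ = w ^ n by group] at this
    exact hwz (mem_of_pow _ h3 (h.relIndex_center_x ▸ pow_relIndex_mem hw) h.hcop.symm)
  have hprod : Nat.card (Cw.map π) * sz w = n * m := by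
    rw [← hcw, sz, relIndex_mul_index (center_le_cent w), h.index_center]
  have hd : n ∣ sz w := hco.symm.dvd_of_dvd_mul_left ⟨m, hprod⟩
  have hne : sz w ≠ m := fun e => h.not_dvd (e ▸ hd)
  have hs : sz w = n := le_antisymm (h.hsecond _ (lt_of_le_of_ne (h.htop _) hne))
    (Nat.le_of_dvd (Nat.pos_of_ne_zero index_ne_zero_of_finite) hd)
  refine ⟨hs, ?_⟩
  haveI := h.hNn
  rw [← relIndex_eq_one]
  exact Nat.eq_one_of_dvd_coprimes h.hcop ((relIndex_dvd_card _ _).trans h.hNm)
    (hs ▸ relIndex_dvd_index_of_normal_right N _)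

theorem Hyp.cent_x_eq (h : Hyp m n x y N) :
    centralizer ({x} : Set G) = centralizer (N : Set G) := by
  refine le_antisymm (fun w hw => mem_centralizer_iff.2 fun v hv => ?_) fun g hg =>
    mem_centralizer_self_iff.2 (mem_centralizer_iff.1 hg x h.hxN).symm
  by_cases hwz : w ∈ center G
  · exact mem_center_iff.1 hwz v
  · exact (mem_centralizer_self_iff.1 ((h.cent_x hw hwz).2 hv)).eq

theorem Hyp.normal_x (h : Hyp m n x y N) : (centralizer ({x} : Set G)).Normal := by
  haveI := h.hNn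
  rw [h.cent_x_eq]
  exact normal_centralizer

theorem Hyp.comm_x (h : Hyp m n x y N) :
    ∀ a ∈ centralizer ({x} : Set G), ∀ b ∈ centralizer ({x} : Set G), a * b = b * a := by
  intro a ha b hb
  haveI := h.normal_x
  by_cases haz : a ∈ center G
  · exact (mem_center_iff.1 haz b).symm
  have hs := (h.cent_x ha haz).1
  have hle : centralizer ({a} : Set G) ≤ centralizer ({x} : Set G) := by
    intro g hg
    have h1 : (center G).relIndex (centralizer ({a} : Set G)) = m := by
      have h2 := relIndex_mul_index (center_le_cent a)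
      rw [h.index_center, ← sz, hs, mul_comm n m] at h2
      exact Nat.eq_of_mul_eq_mul_right (by linarith [h.hn]) h2
    refine mem_of_pow _ (center_le_cent x (h1 ▸ pow_relIndex_mem hg)) ?_ h.hcop
    exact h.hx ▸ pow_index_mem _ g
  have := centralizer_eq_of_le hle (by rw [hs, h.hx])
  exact (mem_centralizer_self_iff.1 (this ▸ hb)).symm.eq

theorem Hyp.frobenius (h : Hyp m n x y N) :
    Cfsg.IsFrobeniusComplement ((centralizer ({y} : Set G)).map (QuotientGroup.mk' (center G))) ∧
      Cfsg.frobeniusKernel ((centralizer ({y} : Set G)).map (QuotientGroup.mk' (center G))) =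
        ((centralizer ({x} : Set G)).map (QuotientGroup.mk' (center G)) : Set (G ⧸ center G)) := by
  set π := QuotientGroup.mk' (center G) with hπ
  set C := centralizer ({x} : Set G) with hC
  set D := centralizer ({y} : Set G) with hD
  haveI : C.Normal := h.normal_x
  have hyz : y ∉ center G := fun hc => h.one_lt.ne' (h.hy ▸ mem_center_of_sz.2 hc)
  have hcD : Nat.card (D.map π) = n := by
    rw [← relIndex_ker, QuotientGroup.ker_mk', h.relIndex_center_y]
  have hfc : Cfsg.IsFrobeniusComplement (D.map π) := by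
    refine ⟨fun hb => h.hn.ne' (by rw [← hcD, hb, Subgroup.card_bot]), fun ht => ?_, ?_⟩
    · rw [ht, Subgroup.card_top, ← index_eq_card, h.index_center] at hcD
      exact h.one_lt.ne' (Nat.eq_of_mul_eq_mul_left (by linarith [h.hn]) (hcD.trans (mul_one n).symm))
    intro gb hgb
    obtain ⟨g, rfl⟩ := QuotientGroup.mk'_surjective (center G) gb
    rw [eq_bot_iff]
    rintro _ ⟨⟨d, hd, rfl⟩, hd2⟩
    replace hd2 := CfsgLib.Frobenius.mem_conj_smul.1 hd2
    rw [← map_inv, ← map_mul, ← map_mul, mem_map_mk_iff (center_le_cent y)] at hd2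
    rw [Subgroup.mem_bot, mk_eq_one_iff]
    by_contra hdz
    refine hgb (mem_map_of_mem π ?_)
    replace hd : d ∈ D := hd
    obtain ⟨c, hc, b, hb, rfl⟩ := h.exists_mul g
    refine mul_mem ?_ hb
    have hd3 : c⁻¹ * d * c ∈ D := by
      have := mul_mem (mul_mem hb hd2) (inv_mem hb)
      rwa [show b * ((c * b)⁻¹ * d * (c * b)) * b⁻¹ = c⁻¹ * d * c by group] at this
    have hz : c⁻¹ * d * c * d⁻¹ ∈ center G := by
      refine h.inf_le_center (Subgroup.mem_inf.2 ⟨?_, mul_mem hd3 (inv_mem hd)⟩)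
      rw [show c⁻¹ * d * c * d⁻¹ = c⁻¹ * (d * c * d⁻¹) by group]
      exact mul_mem (inv_mem hc) (Subgroup.Normal.conj_mem inferInstance c hc d)
    set z := c⁻¹ * d * c * d⁻¹ with hzdef
    have e1 : c⁻¹ * d * c = z * d := by rw [hzdef]; group
    have hzd : Commute z d := (mem_center_iff.1 hz d).symm
    have h1 : z ^ n = 1 := by
      have h2 : (c⁻¹ * d * c) ^ n = d ^ n := by
        rw [show c⁻¹ * d * c = c⁻¹ * d * c⁻¹⁻¹ by group, conj_pow, inv_inv,
          mem_center_iff.1 (h.relIndex_center_y ▸ pow_relIndex_mem hd) c⁻¹, inv_mul_cancel_right]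
      rwa [e1, hzd.mul_pow, mul_eq_right] at h2
    have hcj : ∀ j : ℕ, (c ^ j)⁻¹ * d * c ^ j = z ^ j * d := by
      intro j
      induction j with
      | zero => simp
      | succ j ih =>
        have hzc : c⁻¹ * z ^ j = z ^ j * c⁻¹ := mem_center_iff.1 (pow_mem hz j) c⁻¹
        calc (c ^ (j + 1))⁻¹ * d * c ^ (j + 1) = c⁻¹ * ((c ^ j)⁻¹ * d * c ^ j) * c := by
              rw [pow_succ]; group
          _ = (c⁻¹ * z ^ j) * d * c := by rw [ih]; group
          _ = z ^ j * (c⁻¹ * d * c) := by rw [hzc]; group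
          _ = _ := by rw [e1, pow_succ]; group
    have h2 : z ^ m = 1 := by
      have h3 := hcj m
      rw [mul_assoc, mem_center_iff.1 (h.relIndex_center_x ▸ pow_relIndex_mem hc) d, inv_mul_cancel_left,
        eq_comm, mul_eq_right] at h3
      exact h3
    have hz1 : z = 1 := orderOf_eq_one_iff.1 (Nat.eq_one_of_dvd_coprimes h.hcop
      (orderOf_dvd_of_pow_eq_one h2) (orderOf_dvd_of_pow_eq_one h1))
    have hcd : c ∈ centralizer ({d} : Set G) := by
      rw [hz1, one_mul, mul_assoc, inv_mul_eq_iff_eq_mul] at e1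
      exact mem_centralizer_singleton_iff.2 e1.symm
    exact (h.cent_y hd hdz).le hcd
  refine ⟨hfc, ?_⟩
  haveI := Fintype.ofFinite (G ⧸ center G)
  have hsub : ((C.map π : Subgroup (G ⧸ center G)) : Set (G ⧸ center G)) ⊆ Cfsg.frobeniusKernel (D.map π) := by
    rintro _ ⟨c, hc, rfl⟩
    by_cases hcz : π c = 1
    · exact Or.inl hcz
    refine Or.inr fun gb hgb => hcz ?_
    obtain ⟨g, rfl⟩ := QuotientGroup.mk'_surjective (center G) gb
    rw [CfsgLib.Frobenius.mem_conj_smul, ← map_inv, ← map_mul, ← map_mul,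
      mem_map_mk_iff (center_le_cent y)] at hgb
    have h1 : g⁻¹ * c * g ∈ center G :=
      h.inf_le_center ⟨Subgroup.Normal.conj_mem' inferInstance c hc g, hgb⟩
    have h2 := (inferInstance : (center G).Normal).conj_mem _ h1 g
    rw [show g * (g⁻¹ * c * g) * g⁻¹ = c by group] at h2
    exact mk_eq_one_iff.2 h2
  refine (Set.eq_of_subset_of_ncard_le hsub ?_ (Set.toFinite _)).symm
  rw [← Nat.card_coe_set_eq, ← Nat.card_coe_set_eq, CfsgLib.Frobenius.card_frobeniusKernel hfc]
  have h1 := (D.map π).index_mul_card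
  rw [hcD, ← index_eq_card, h.index_center, mul_comm n m] at h1
  rw [Nat.eq_of_mul_eq_mul_right (by linarith [h.hn]) h1]
  show m ≤ Nat.card (C.map π)
  rw [← relIndex_ker, QuotientGroup.ker_mk', h.relIndex_center_x]

end CfsgLib.ClassSizes.TopTwo
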