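import Mathlib
import Cfsg.Agent.Lib.Core.FPFAutomorphism
import Cfsg.Agent.Lib.Core.SchurZassenhaus
import Cfsg.Agent.Lib.Core.MinNormal
import Cfsg.Agent.Lib.Core.Nilpotent
import Cfsg.Agent.Lib.PLocal.NormalPComplementThms
import Cfsg.Agent.Lib.PGroups.Basic
import Cfsg.Agent.Lib.Char.Burnside
import Cfsg.Agent.Lib.Transfer.PResidual
import Cfsg.Agent.Lib.HallGen.Basic
import Cfsg.Agent.Lib.SolvStruct.NilFactor
import Cfsg.Agent.Lib.HallGen.CentralizerMaximal

/-!
# Normal subgroups whose cosets consist of elements of equal order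

If every coset of `N` outside `N` made of `s`-elements contains only `s`-elements, and `G/N` has a normal
subgroup of prime index `q` that is a nontrivial `q'`-group, then `N` is a `q`-group by nilpotent.
If moreover all elements of such a coset have equal order then `N` is nilpotent.
-/

set_option autoImplicit false
set_option linter.style.haveILetI false

universe u

namespace CfsgLib.ClassSizes.CosetOrders

open scoped Pointwise
open Subgroup Cfsg

/-- Cosets of prime power elements outside `N` consist of elements of the same kind. -/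
def PP {G : Type*} [Group G] (N : Subgroup G) : Prop :=
  ∀ s : ℕ, s.Prime → ∀ x : G, x ∉ N → (∃ k, orderOf x = s ^ k) → ∀ n ∈ N, ∃ k, orderOf (x * n) = s ^ k

/-- `N` is a `q`-group by nilpotent. -/
def PN {G : Type*} [Group G] (q : ℕ) (N : Subgroup G) : Prop :=
  ∃ c, IsPGroup q (N.lowerCentralSeries c)

variable {G : Type u} [Group G]

theorem pp_of_orderOf_eq {N : Subgroup G} (heq : ∀ x : G, x ∉ N → ∀ n ∈ N, orderOf (x * n) = orderOf x) :
    PP N := fun _ _ x hx ⟨k, hk⟩ n hn => ⟨k, (heq x hx n hn).trans hk⟩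

/-- An element of `N` commuting with an `s`-element outside `N` is an `s`-element. -/
theorem pp_cent {N : Subgroup G} (h : PP N) {s : ℕ} (hs : s.Prime) {x n : G} (hx : x ∉ N)
    (ho : ∃ k, orderOf x = s ^ k) (hn : n ∈ N) (hc : Commute x n) : ∃ k, orderOf n = s ^ k := by
  obtain ⟨a, ha⟩ := ho
  obtain ⟨b, hb⟩ := h s hs x hx ⟨a, ha⟩ n hn
  have h1 : orderOf n ∣ s ^ (a + b) := by
    refine orderOf_dvd_of_pow_eq_one ?_
    have h2 : (x * n) ^ (s ^ (a + b)) = 1 :=
      orderOf_dvd_iff_pow_eq_one.1 (hb ▸ pow_dvd_pow s (Nat.le_add_left b a))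
    rwa [hc.mul_pow, orderOf_dvd_iff_pow_eq_one.1 (ha ▸ pow_dvd_pow s (Nat.le_add_right a b)),
      one_mul] at h2
  obtain ⟨k, -, hk⟩ := (Nat.dvd_prime_pow hs).1 h1
  exact ⟨k, hk⟩

theorem pp_cent_eq_one [Finite G] {N T : Subgroup G} (h : PP N) {s : ℕ} (hs : s.Prime) {x n : G} (hx : x ∉ N)
    (ho : ∃ k, orderOf x = s ^ k) (hTN : T ≤ N) (hT : ¬ s ∣ Nat.card T) (hn : n ∈ T) (hc : Commute x n) :
    n = 1 := by
  obtain ⟨k, hk⟩ := pp_cent h hs hx ho (hTN hn) hc
  rw [← orderOf_eq_one_iff, hk]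
  have h1 : s ^ k ∣ Nat.card T := hk ▸ (Subgroup.orderOf_mk n hn).symm ▸ orderOf_dvd_natCard _
  rcases k with _ | k
  · rfl
  · exact absurd ((dvd_pow_self s k.succ_ne_zero).trans h1) hT

/-- `PP` passes to subgroups. -/
theorem pp_subgroupOf {N : Subgroup G} (h : PP N) (L : Subgroup G) : PP (N.subgroupOf L) := by
  intro s hs x hx ho n hn
  rw [← Subgroup.orderOf_coe]
  exact h s hs x hx (by rwa [Subgroup.orderOf_coe]) n hn

/-- A prime power element of a quotient has a prime power preimage. -/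
theorem exists_lift [Finite G] {H : Type*} [Group H] {f : G →* H} (hf : Function.Surjective f) {x : H}
    {s k : ℕ} (hs : s.Prime) (hx : orderOf x = s ^ k) : ∃ y : G, f y = x ∧ ∃ j, orderOf y = s ^ j := by
  haveI := Fact.mk hs
  obtain ⟨g, rfl⟩ := hf x
  obtain ⟨a, b, ha, -, hab, hao, hb⟩ := CfsgLib.HallGen.exists_coprime_parts hs g
  refine ⟨a, ?_, hao⟩
  obtain ⟨i, rfl⟩ := mem_zpowers_iff.1 ha
  have h1 : orderOf (f b) ∣ s ^ k := by
    have hb' : f b = (f (g ^ i))⁻¹ * f g := by rw [eq_inv_mul_iff_mul_eq, ← map_mul, hab]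
    have hmem : f b ∈ zpowers (f g) := by
      rw [hb', map_zpow]
      exact mul_mem (inv_mem ⟨i, rfl⟩) (mem_zpowers _)
    exact hx ▸ (orderOf_dvd_of_mem_zpowers hmem)
  have h2 : f b = 1 := orderOf_eq_one_iff.1
    (Nat.eq_one_of_dvd_coprimes (hb.pow_right k) (orderOf_map_dvd f b) h1)
  conv_rhs => rw [← hab, map_mul, h2, mul_one]

/-- `PP` passes to quotients below `N`. -/
theorem pp_map [Finite G] {N : Subgroup G} (h : PP N) {H : Type*} [Group H] {f : G →* H}
    (hf : Function.Surjective f) (hker : f.ker ≤ N) : PP (N.map f) := by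
  intro s hs x hx ⟨k, hk⟩ n hn
  obtain ⟨y, rfl, hy⟩ := exists_lift hf hs hk
  obtain ⟨n, hn', rfl⟩ := hn
  obtain ⟨j, hj⟩ := h s hs y (fun hy' => hx ⟨y, hy', rfl⟩) hy n hn'
  rw [← map_mul]
  obtain ⟨i, -, hi⟩ := (Nat.dvd_prime_pow hs).1 (hj ▸ orderOf_map_dvd f (y * n))
  exact ⟨i, hi⟩

theorem pn_map {q : ℕ} {N : Subgroup G} (h : PN q N) {H : Type*} [Group H] (f : G →* H) : PN q (N.map f) := by
  obtain ⟨c, hc⟩ := h
  exact ⟨c, by rw [← map_lowerCentralSeries]; exact hc.map f⟩

theorem pn_of_map_inj {q : ℕ} {N : Subgroup G} {H : Type*} [Group H] {f : G →* H}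
    (hf : ∀ x ∈ N, f x = 1 → x = 1) (h : PN q (N.map f)) : PN q N := by
  obtain ⟨c, hc⟩ := h
  refine ⟨c, fun ⟨x, hx⟩ => ?_⟩
  obtain ⟨k, hk⟩ := hc ⟨f x, by rw [← map_lowerCentralSeries]; exact mem_map_of_mem f hx⟩
  refine ⟨k, Subtype.ext ?_⟩
  rw [SubmonoidClass.coe_pow]
  refine hf _ (pow_mem (lowerCentralSeries_le_self N c hx) _) ?_
  rw [map_pow]
  exact congrArg Subtype.val hk

theorem pn_of_isNilpotent {q : ℕ} {N : Subgroup G} (h : Group.IsNilpotent N) : PN q N := by
  obtain ⟨c, hc⟩ := (isNilpotent_iff_lowerCentralSeries N).1 h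
  exact ⟨c, hc ▸ IsPGroup.of_bot⟩

theorem lcs_normal (N : Subgroup G) [N.Normal] (c : ℕ) : (N.lowerCentralSeries c).Normal := by
  refine ⟨fun x hx g => ?_⟩
  have h : (N.lowerCentralSeries c).map (MulAut.conj g).toMonoidHom = N.lowerCentralSeries c := by
    rw [map_lowerCentralSeries]
    exact congrArg (fun S : Subgroup G => S.lowerCentralSeries c) (Normal.conj_smul_eq_self g N)
  rw [← h]
  exact ⟨x, hx, rfl⟩

/-- A `q`-group by nilpotent group has a normal Sylow `q`-subgroup, in fact inside `O_q`. -/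
theorem pn_mem_pCore [Finite G] {q : ℕ} [Fact q.Prime] {N : Subgroup G} [N.Normal] (h : PN q N) {x : G}
    (hx : x ∈ N) (ho : ∃ k, orderOf x = q ^ k) : x ∈ Cfsg.pCore q G := by
  obtain ⟨c, hc⟩ := h
  set D := N.lowerCentralSeries c with hD
  haveI : D.Normal := lcs_normal N c
  have hDq : D ≤ Cfsg.pCore q G := CfsgLib.Core.le_pCore hc
  let π := QuotientGroup.mk' D
  haveI : (N.map π).Normal := Normal.map inferInstance π (QuotientGroup.mk'_surjective D)
  have hnil : Group.IsNilpotent (N.map π) :=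
    (isNilpotent_iff_lowerCentralSeries _).2 ⟨c, by
      rw [← map_lowerCentralSeries, ← hD, (Subgroup.map_eq_bot_iff _).2 (QuotientGroup.ker_mk' D).ge]⟩
  obtain ⟨k, hk⟩ := ho
  obtain ⟨j, -, hj⟩ := (Nat.dvd_prime_pow Fact.out).1 (hk ▸ orderOf_map_dvd π x)
  have h1 : π x ∈ Cfsg.pCore q (G ⧸ D) :=
    CfsgLib.HallGen.mem_pCore_of_mem_nilpotent_normal inferInstance hnil (mem_map_of_mem π hx) hj
  haveI : ((Cfsg.pCore q (G ⧸ D)).comap π).Normal := Normal.comap inferInstance π
  have h2 : IsPGroup q ((Cfsg.pCore q (G ⧸ D)).comap π) := by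
    refine (CfsgLib.Core.isPGroup_pCore q (G ⧸ D)).comap_of_ker_isPGroup π ?_
    rw [QuotientGroup.ker_mk']
    exact hc
  exact CfsgLib.Core.le_pCore h2 h1

open scoped IsMulCommutative in
/-- The trace argument: if all elements of `T y` give elements of order `q` then `T` centralizes `V`. -/
theorem trace_centralizes [Finite G] {T V : Subgroup G} [IsMulCommutative V] {y : G} {q : ℕ} (hq : q.Prime)
    (hyT : y ∈ normalizer (T : Set G)) (hyV : y ∈ normalizer (V : Set G))
    (hTV : T ≤ normalizer (V : Set G)) (hcop : (Nat.card T).Coprime (Nat.card V))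
    (h : ∀ t ∈ T, ∀ v ∈ V, (v * (t * y)) ^ q = 1) : T ≤ centralizer (V : Set G) := by
  haveI : Fintype T := Fintype.ofFinite T
  let c : normalizer (V : Set G) → (V →* V) := fun g =>
    { toFun := fun v => ⟨(g : G) * v * (g : G)⁻¹, (mem_normalizer_iff.1 g.2 _).1 v.2⟩
      map_one' := Subtype.ext (by simp)
      map_mul' := fun a b => Subtype.ext (by simp [mul_assoc]) }
  have hc : ∀ a b : normalizer (V : Set G), ∀ v, c (a * b) v = c a (c b v) := fun a b v =>
    Subtype.ext (by simp [c, mul_assoc])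
  have hexp : ∀ (g : normalizer (V : Set G)) (v : V) (k : ℕ), ((v : G) * (g : G)) ^ k =
      ((∏ i ∈ Finset.range k, c (g ^ i) v : V) : G) * (g : G) ^ k := by
    intro g v k
    induction k with
    | zero => simp
    | succ k ih =>
      rw [pow_succ, ih, Finset.prod_range_succ, Subgroup.coe_mul, pow_succ]
      show _ = _ * ((↑(g ^ k) : G) * v * (↑(g ^ k) : G)⁻¹) * _
      rw [SubmonoidClass.coe_pow]
      group
  let ι : T → normalizer (V : Set G) := fun t => ⟨t, hTV t.2⟩
  let y' : normalizer (V : Set G) := ⟨y, hyV⟩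
  have hord : ∀ t : T, ((t : G) * y) ^ q = 1 := fun t => by simpa using h t t.2 1 (one_mem _)
  have hprod : ∀ (t : T) (v : V), ∏ i ∈ Finset.range q, c ((ι t * y') ^ i) v = 1 := by
    intro t v
    refine Subtype.ext ?_
    have h1 := hexp (ι t * y') v q
    have h2 : ((ι t * y' : normalizer (V : Set G)) : G) = t * y := rfl
    rw [h2, h t t.2 v v.2, hord t, mul_one] at h1
    exact h1.symm
  have hmem : ∀ (i : ℕ) (t : T), ((t : G) * y) ^ i * (y ^ i)⁻¹ ∈ T := by
    intro i
    induction i with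
    | zero => simp
    | succ i ih =>
      intro t
      rw [show ((t : G) * y) ^ (i + 1) * (y ^ (i + 1))⁻¹ =
        (t : G) * (y * (((t : G) * y) ^ i * (y ^ i)⁻¹) * y⁻¹) by rw [pow_succ', pow_succ']; group]
      exact mul_mem t.2 ((mem_normalizer_iff.1 hyT _).1 (ih t))
  intro s hs
  rw [mem_centralizer_iff]
  intro v hv
  let tr : V → V := fun w => ∏ t : T, c (ι t) w
  have htr : ∀ w, c (ι ⟨s, hs⟩) (tr w) = tr w := fun w => by
    rw [map_prod]
    refine Fintype.prod_equiv (Equiv.mulLeft ⟨s, hs⟩) _ _ fun t => ?_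
    exact (hc (ι ⟨s, hs⟩) (ι t) w).symm
  have hall : ∀ w : V, c (ι ⟨s, hs⟩) (w ^ Nat.card T) = w ^ Nat.card T := by
    intro w
    have h1 : ∏ i ∈ Finset.range q, ∏ t : T, c ((ι t * y') ^ i) w = 1 := by
      rw [Finset.prod_comm]
      exact Finset.prod_eq_one fun t _ => hprod t w
    have hterm : ∀ i ∈ Finset.range (q - 1), ∏ t : T, c ((ι t * y') ^ (i + 1)) w = tr (c (y' ^ (i + 1)) w) := by
      intro i hi
      let f : T → T := fun t => ⟨_, hmem (i + 1) t⟩
      have hf : Function.Bijective f := by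
        refine Finite.injective_iff_bijective.1 fun t t' e => ?_
        have e1 : ((t : G) * y) ^ (i + 1) = ((t' : G) * y) ^ (i + 1) := mul_right_cancel (congrArg Subtype.val e)
        have hco : (i + 1).Coprime q := (Nat.coprime_comm.1 (hq.coprime_iff_not_dvd.2 fun hd => by
          have := Nat.le_of_dvd (by omega) hd
          have := Finset.mem_range.1 hi
          omega))
        obtain ⟨j, hj⟩ := exists_pow_eq_self_of_coprime
          (hco.coprime_dvd_right (orderOf_dvd_of_pow_eq_one (hord t)))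
        obtain ⟨j', hj'⟩ := exists_pow_eq_self_of_coprime
          (hco.coprime_dvd_right (orderOf_dvd_of_pow_eq_one (hord t')))
        have e2 : ((t : G) * y) = (t' : G) * y := by
          obtain ⟨a, b, hab⟩ := Int.isCoprime_iff_gcd_eq_one.2 (show Int.gcd (i + 1 : ℕ) (q : ℕ) = 1 by
            rw [Int.gcd_natCast_natCast]; exact hco)
          have key : ∀ z : G, z ^ q = 1 → (z ^ (i + 1)) ^ a = z := fun z hz => by
            rw [← zpow_natCast, ← zpow_mul, show ((i + 1 : ℕ) : ℤ) * a = 1 + (q : ℤ) * (-b) by linarith,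
              zpow_add, zpow_one, zpow_mul, zpow_natCast, hz, one_zpow, mul_one]
          rw [← key _ (hord t), e1, key _ (hord t')]
        exact Subtype.ext (mul_right_cancel e2)
      refine Fintype.prod_bijective f hf _ _ fun t => ?_
      rw [← hc]
      congr 2
      refine Subtype.ext ?_
      show _ = (f t : G) * ((y' ^ (i + 1) : normalizer (V : Set G)) : G)
      simp only [SubmonoidClass.coe_pow, Subgroup.coe_mul, f, ι, y']
      group
    have hq1 : q = q - 1 + 1 := by have := hq.one_lt; omega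
    rw [hq1, Finset.prod_range_succ', Finset.prod_congr rfl hterm] at h1
    have h0 : ∏ t : T, c ((ι t * y') ^ 0) w = w ^ Nat.card T := by
      have : ∀ t : T, c ((ι t * y') ^ 0) w = w := fun t => Subtype.ext (by simp [c])
      rw [Finset.prod_congr rfl fun t _ => this t]
      simp [Nat.card_eq_fintype_card]
    rw [h0] at h1
    rw [eq_inv_of_mul_eq_one_right h1, map_inv, map_prod, Finset.prod_congr rfl fun i _ => htr _]
  obtain ⟨j, hj⟩ := exists_pow_eq_self_of_coprime
    (hcop.coprime_dvd_right (orderOf_dvd_natCard (⟨v, hv⟩ : V)))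
  have h2 : c (ι ⟨s, hs⟩) ⟨v, hv⟩ = ⟨v, hv⟩ := by
    rw [← hj, map_pow, hall]
  have h3 : s * v * s⁻¹ = v := congrArg Subtype.val h2
  exact (mul_inv_eq_iff_eq_mul.1 h3).symm

/-- An element of order `q` outside `N` normalizing a complement of `O_q` in `N`. -/
theorem exists_element [Finite G] {N M Qs : Subgroup G} [N.Normal] [M.Normal] [Qs.Normal] (h : PP N) {q : ℕ}
    (hq : q.Prime) (hNM : N < M) (hMi : M.index = q) (hNi : ¬ q ∣ N.relIndex M)
    (hQN : Qs ≤ N) (hQ : IsPGroup q Qs) (hQi : ¬ q ∣ Qs.relIndex N) :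
    ∃ (y : G) (T : Subgroup G), orderOf y = q ∧ y ∉ N ∧ T ≤ N ∧ ¬ q ∣ Nat.card T ∧
      y ∈ normalizer (T : Set G) ∧ Qs ⊔ T = N := by
  haveI := Fact.mk hq
  obtain ⟨a, ha⟩ := hQ.exists_card_eq
  have hQM : Qs ≤ M := hQN.trans hNM.le
  have hrel : ¬ q ∣ Qs.relIndex M := by
    rw [← relIndex_mul_relIndex Qs N M hQN hNM.le, hq.dvd_mul]
    exact not_or_intro hQi hNi
  obtain ⟨H₀, hH₀⟩ := exists_right_complement'_of_coprime (N := Qs.subgroupOf M) (by
    rw [Nat.card_congr (subgroupOfEquivOfLe hQM).toEquiv, ha]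
    exact (hq.coprime_iff_not_dvd.2 hrel).pow_left a)
  set H := H₀.map M.subtype with hH
  have hHM : H ≤ M := map_subtype_le _
  have hHc : Nat.card H = Qs.relIndex M := by
    rw [hH, card_map_of_injective M.subtype_injective]
    exact hH₀.symm.index_eq_card.symm
  have hHq : ¬ q ∣ Nat.card H := hHc ▸ hrel
  have hcop : (Nat.card H).Coprime (Nat.card Qs) := by
    rw [ha]
    exact ((hq.coprime_iff_not_dvd.2 hHq).pow_left a).symm
  have hsup : H ⊔ Qs = M := by
    refine eq_of_le_of_card_ge (sup_le hHM hQM) ?_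
    rw [CfsgLib.Core.card_sup_of_disjoint H Qs (CfsgLib.Core.le_normalizer_of_normal _ _)
      (disjoint_of_coprime_natCard hcop).eq_bot, hHc, mul_comm]
    refine le_of_eq ?_
    rw [← relIndex_bot_left, ← relIndex_bot_left, relIndex_mul_relIndex ⊥ Qs M bot_le hQM]
  have hsolQ : Group.IsSolvable Qs := by haveI := hQ.isNilpotent; infer_instance
  set NH := normalizer (H : Set G)
  have htop : NH ⊔ Qs = ⊤ := by
    refine eq_top_iff.2 fun g _ => ?_
    obtain ⟨n, hn, hn'⟩ := CfsgLib.Core.exists_conj_eq_of_coprime (H := H) (K := MulAut.conj g • H) (N := Qs)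
      (CfsgLib.Core.le_normalizer_of_normal _ _)
      (by
        rw [hsup, ← Normal.conj_smul_eq_self g M]
        exact CfsgLib.Core.conj_smul_mono hHM)
      (CfsgLib.Core.card_conj_smul g H) hcop (Or.inl hsolQ)
    have hm : n⁻¹ * g ∈ NH := by
      rw [CfsgLib.Core.mem_normalizer_iff_conj_smul_eq, map_mul, mul_smul, ← hn', ← mul_smul, ← map_mul,
        inv_mul_cancel, map_one, one_smul]
    simpa using mul_mem (mem_sup_right hn) (mem_sup_left hm : n⁻¹ * g ∈ NH ⊔ Qs)
  obtain ⟨x, hx, hxN⟩ : ∃ x ∈ H, x ∉ N := by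
    by_contra hcon
    push Not at hcon
    exact hNM.not_ge (hsup ▸ sup_le hcon hQN)
  obtain ⟨r, x', hr, hrq, hx', hxN', hxo⟩ : ∃ (r : ℕ) (x' : G), r.Prime ∧ r ≠ q ∧ x' ∈ H ∧ x' ∉ N ∧
      ∃ k, orderOf x' = r ^ k := by
    by_contra hcon
    push Not at hcon
    refine hxN (CfsgLib.HallGen.mem_of_primePow_parts N x fun z hz r k hr hk => ?_)
    by_contra hzN
    rcases k with _ | k
    · rw [pow_zero, orderOf_eq_one_iff] at hk
      exact hzN (hk ▸ one_mem _)
    refine hcon r z hr (fun e => hHq ?_) (zpowers_le.2 hx hz) hzN (k + 1) hk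
    subst e
    exact (dvd_pow_self r k.succ_ne_zero).trans (hk ▸ (Subgroup.orderOf_mk z (zpowers_le.2 hx hz)).symm ▸
      orderOf_dvd_natCard _)
  have hd : NH ⊓ Qs = ⊥ := by
    rw [eq_bot_iff]
    rintro v ⟨hv, hvQ⟩
    have h1 : v * x' * v⁻¹ * x'⁻¹ ∈ H ⊓ Qs := mem_inf.2 ⟨mul_mem ((mem_normalizer_iff.1 hv x').1 hx') (inv_mem hx'),
      by
        rw [mul_assoc v, mul_assoc v]
        exact mul_mem hvQ (Normal.conj_mem inferInstance _ (inv_mem hvQ) x')⟩
    rw [(disjoint_of_coprime_natCard hcop).eq_bot, mem_bot, mul_inv_eq_one, mul_inv_eq_iff_eq_mul] at h1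
    refine mem_bot.2 (pp_cent_eq_one h hr hxN' hxo hQN (fun hd' => hrq ?_) hvQ h1.symm)
    exact (Nat.prime_dvd_prime_iff_eq hr hq).1 (hr.dvd_of_dvd_pow (ha ▸ hd'))
  have hcard : Nat.card NH = q * Nat.card H := by
    have h1 : Nat.card (NH ⊔ Qs : Subgroup G) = Nat.card NH * Nat.card Qs :=
      CfsgLib.Core.card_sup_of_disjoint NH Qs (CfsgLib.Core.le_normalizer_of_normal _ _) hd
    have h2 : Nat.card G = Nat.card Qs * Nat.card H * q := by
      rw [← card_mul_index M, hMi, ← hsup, CfsgLib.Core.card_sup_of_disjoint H Qs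
        (CfsgLib.Core.le_normalizer_of_normal _ _) (disjoint_of_coprime_natCard hcop).eq_bot]
      ring
    rw [htop, card_top, h2] at h1
    refine Nat.eq_of_mul_eq_mul_right (Nat.card_pos (α := Qs)) ?_
    rw [← h1]
    ring
  obtain ⟨⟨y, hy⟩, hyo⟩ := exists_prime_orderOf_dvd_card' (G := NH) q (hcard ▸ dvd_mul_right q _)
  rw [Subgroup.orderOf_mk] at hyo
  have hyN : y ∉ N := by
    intro hyN
    have h1 : y ∈ Qs := by
      by_contra hyQ
      apply hQi
      have h2 : orderOf (QuotientGroup.mk' (Qs.subgroupOf N) ⟨y, hyN⟩) = q := by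
        have : orderOf (QuotientGroup.mk' (Qs.subgroupOf N) ⟨y, hyN⟩) ∣ q :=
          hyo ▸ (Subgroup.orderOf_mk y hyN) ▸ orderOf_map_dvd _ _
        refine (hq.eq_one_or_self_of_dvd _ this).resolve_left fun e => hyQ ?_
        exact mem_subgroupOf.1 ((QuotientGroup.eq_one_iff (⟨y, hyN⟩ : N)).1 (orderOf_eq_one_iff.1 e))
      show q ∣ (Qs.subgroupOf N).index
      rw [index_eq_card]
      exact h2 ▸ orderOf_dvd_natCard _
    have : y = 1 := mem_bot.1 (hd ▸ ⟨hy, h1⟩)
    rw [this, orderOf_one] at hyo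
    exact hq.one_lt.ne hyo
  refine ⟨y, H ⊓ N, hyo, hyN, inf_le_right, fun hd' => hHq (hd'.trans (card_dvd_of_le inf_le_left)), ?_, ?_⟩
  · exact CfsgLib.Transfer.normalizer_le_normalizer_inf ⟨hy, CfsgLib.Core.le_normalizer_of_normal ⊤ N (mem_top y)⟩
  · refine le_antisymm (sup_le hQN inf_le_right) fun n hn => ?_
    obtain ⟨v, hv, k, hk, rfl⟩ := mem_sup_of_normal_left.1 (show n ∈ Qs ⊔ H by rw [sup_comm, hsup]; exact hNM.le hn)
    refine mul_mem (mem_sup_left hv) (mem_sup_right ⟨hk, ?_⟩)
    simpa using mul_mem (inv_mem (hQN hv)) hn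

/-- The normal `q'`-part is nilpotent. -/
theorem isNilpotent_fpf [Finite G] {N T : Subgroup G} (h : PP N) {q : ℕ} (hq : q.Prime) {y : G}
    (hyo : orderOf y = q) (hyN : y ∉ N) (hTN : T ≤ N) (hTq : ¬ q ∣ Nat.card T)
    (hyT : y ∈ normalizer (T : Set G)) : Group.IsNilpotent T := by
  refine CfsgLib.Core.FPFAut.isNilpotent_of_fpf
    (fun K _ _ p _ hp P h => CfsgLib.PLocal.hasNormalPComplement_glauberman hp P h)
    (T.normalizerMonoidHom ⟨y, hyT⟩) (fun k hk => ?_) hq ?_
  · have hc : Commute y (k : G) := by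
      have h1 : y * (k : G) * y⁻¹ = k := congrArg Subtype.val hk
      exact mul_inv_eq_iff_eq_mul.1 h1
    exact Subtype.ext (pp_cent_eq_one h hq hyN ⟨1, by rw [hyo, pow_one]⟩ hTN hTq k.2 hc)
  · rw [← map_pow]
    convert map_one (T.normalizerMonoidHom)
    exact Subtype.ext (hyo ▸ pow_orderOf_eq_one y)

theorem card_map_lt [Finite G] {V : Subgroup G} [V.Normal] (h : V ≠ ⊥) :
    Nat.card (G ⧸ V) < Nat.card G := CfsgLib.Core.card_quotient_lt V h

/-- A group with normal complements for all primes outside `{2, q}` is solvable. -/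
theorem isSolvable_of_complements {X : Type u} [Group X] [Finite X] {q : ℕ} (hq : q.Prime)
    (h : ∀ r : ℕ, r.Prime → r ∣ Nat.card X → r ≠ 2 → r ≠ q → HasNormalPComplement r X) :
    Group.IsSolvable X := by
  classical
  let s : Finset ℕ := (Nat.card X).primeFactors.filter fun r => r ≠ 2 ∧ r ≠ q
  have hs : ∀ r ∈ s, r.Prime ∧ r ∣ Nat.card X ∧ r ≠ 2 ∧ r ≠ q := fun r hr => by
    obtain ⟨h1, h2⟩ := Finset.mem_filter.1 hr
    exact ⟨Nat.prime_of_mem_primeFactors h1, Nat.dvd_of_mem_primeFactors h1, h2⟩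
  suffices hind : ∀ t ⊆ s, ∃ K : Subgroup X, K.Normal ∧ (∀ r ∈ t, ¬ r ∣ Nat.card K) ∧
      (Group.IsSolvable K → Group.IsSolvable X) by
    obtain ⟨K, hK, hKd, hKs⟩ := hind s (Finset.Subset.refl _)
    refine hKs (CfsgLib.Burnside.isSolvable_of_card_eq Nat.prime_two hq
      (a := if q = 2 then 0 else (Nat.card K).factorization 2) (b := (Nat.card K).factorization q) ?_)
    refine Nat.eq_of_factorization_eq Nat.card_pos.ne' (by positivity [hq.pos]) fun r => ?_
    by_cases hr : r.Prime ∧ r ∣ Nat.card K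
    · have : r = 2 ∨ r = q := by
        by_contra hcon
        push Not at hcon
        exact hKd r (Finset.mem_filter.2 ⟨Nat.mem_primeFactors.2
          ⟨hr.1, hr.2.trans (card_subgroup_dvd_card K), Nat.card_pos.ne'⟩, hcon⟩) hr.2
      rw [Nat.factorization_mul (pow_ne_zero _ two_ne_zero) (pow_ne_zero _ hq.ne_zero),
        Nat.prime_two.factorization_pow, hq.factorization_pow, Finsupp.add_apply, Finsupp.single_apply,
        Finsupp.single_apply]
      rcases this with rfl | rfl <;> split_ifs <;> (try subst_vars) <;> omega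
    · have h0 : (Nat.card K).factorization r = 0 := by
        rw [Nat.factorization_eq_zero_iff]
        tauto
      rw [Nat.factorization_mul (pow_ne_zero _ two_ne_zero) (pow_ne_zero _ hq.ne_zero),
        Nat.prime_two.factorization_pow, hq.factorization_pow, Finsupp.add_apply, Finsupp.single_apply,
        Finsupp.single_apply]
      split_ifs <;> simp_all
  intro t
  induction t using Finset.induction_on with
  | empty =>
    intro _
    exact ⟨⊤, inferInstance, fun r hr => absurd hr (Finset.notMem_empty r), fun h => Group.isSolvable_of_surjective (f := (⊤ : Subgroup X).subtype)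
      (fun x => ⟨⟨x, mem_top x⟩, rfl⟩)⟩
  | insert r t hrt ih =>
    intro hsub
    obtain ⟨K, hK, hKd, hKs⟩ := ih ((Finset.subset_insert r t).trans hsub)
    obtain ⟨hr, hrd, hr2, hrq⟩ := hs r (hsub (Finset.mem_insert_self r t))
    haveI := Fact.mk hr
    obtain ⟨Kr, hKr, hKrc, hKrq⟩ := CfsgLib.Transfer.hasNormalPComplement_iff_exists.1 (h r hr hrd hr2 hrq)
    haveI := hK
    haveI := hKr
    refine ⟨K ⊓ Kr, inferInstance, fun r' hr' hd' => ?_, fun hsol => hKs ?_⟩
    · rcases Finset.mem_insert.1 hr' with rfl | hr'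
      · exact hr.one_lt.ne' (Nat.eq_one_of_dvd_coprimes hKrc (hd'.trans (card_dvd_of_le inf_le_right)) dvd_rfl)
      · exact hKd r' hr' (hd'.trans (card_dvd_of_le inf_le_left))
    · haveI : Group.IsSolvable (X ⧸ Kr) := by
        haveI := hKrq.isNilpotent
        infer_instance
      haveI : Group.IsSolvable ((K ⊓ Kr).subgroupOf K) :=
        CfsgLib.Core.isSolvable_subgroupOf hsol
      exact Group.isSolvable_of_ker_le_range ((K ⊓ Kr).subgroupOf K).subtype
        ((QuotientGroup.mk' Kr).comp K.subtype) (by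
          intro x hx
          rw [Subgroup.range_subtype, mem_subgroupOf]
          exact ⟨x.2, (QuotientGroup.eq_one_iff _).1 hx⟩)

theorem pn_hasNormalPComplement [Finite G] {q r : ℕ} [Fact q.Prime] [Fact r.Prime] (hrq : r ≠ q)
    (h : PN q (⊤ : Subgroup G)) : HasNormalPComplement r G := by
  obtain ⟨c, hc⟩ := h
  set D := (⊤ : Subgroup G).lowerCentralSeries c with hD
  haveI : Group.IsNilpotent (G ⧸ D) := Subgroup.nilpotent_iff_lowerCentralSeries.2 ⟨c, by
    rw [← Subgroup.map_top_of_surjective _ (QuotientGroup.mk'_surjective D), ← map_lowerCentralSeries,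
      ← hD, (Subgroup.map_eq_bot_iff _).2 (QuotientGroup.ker_mk' D).ge]⟩
  obtain ⟨K, hK, hKc, hKq⟩ := CfsgLib.Transfer.hasNormalPComplement_iff_exists.1
    (CfsgLib.Core.FPFAut.hasNormalPComplement_of_isNilpotent (G := G ⧸ D) r)
  haveI := hK
  refine CfsgLib.Transfer.hasNormalPComplement_iff_exists.2 ⟨K.comap (QuotientGroup.mk' D), inferInstance, ?_, ?_⟩
  · obtain ⟨a, ha⟩ := hc.exists_card_eq
    have h1 : Nat.card (K.comap (QuotientGroup.mk' D)) = Nat.card K * Nat.card D := by
      refine Nat.eq_of_mul_eq_mul_right (Nat.pos_of_ne_zero (K.index_ne_zero_of_finite)) ?_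
      conv_lhs => rw [← index_comap_of_surjective K (QuotientGroup.mk'_surjective D), card_mul_index]
      rw [mul_right_comm, card_mul_index, ← index_eq_card, index_mul_card]
    rw [h1, ha]
    exact hKc.mul_left (((Nat.coprime_primes Fact.out Fact.out).2 hrq.symm).pow_left a)
  · have hdisc := QuotientGroup.mk'_surjective D
    intro x
    obtain ⟨g, rfl⟩ := QuotientGroup.mk'_surjective _ x
    obtain ⟨k, hk⟩ := hKq (QuotientGroup.mk' K (QuotientGroup.mk' D g))
    rw [← map_pow, ← map_pow] at hk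
    refine ⟨k, ?_⟩
    rw [← map_pow]
    exact (QuotientGroup.eq_one_iff _).2 ((QuotientGroup.eq_one_iff (QuotientGroup.mk' D (g ^ r ^ k))).1 hk)

theorem pn_lift {N : Subgroup G} {q : ℕ} {V : Subgroup G} [V.Normal] (hV : IsPGroup q V)
    (h : PN q (N.map (QuotientGroup.mk' V))) : PN q N := by
  obtain ⟨c, hc⟩ := h
  rw [← map_lowerCentralSeries] at hc
  refine ⟨c, fun ⟨x, hx⟩ => ?_⟩
  obtain ⟨a, ha⟩ := hc ⟨_, mem_map_of_mem _ hx⟩
  have hxa : x ^ q ^ a ∈ V := (QuotientGroup.eq_one_iff _).1 (congrArg Subtype.val ha)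
  obtain ⟨b, hb⟩ := hV ⟨_, hxa⟩
  refine ⟨a + b, Subtype.ext ?_⟩
  have := congrArg Subtype.val hb
  simpa [pow_add, pow_mul] using this

theorem pn_subdirect [Finite G] {N : Subgroup G} {q : ℕ} {V K : Subgroup G} [V.Normal] [K.Normal]
    (hd : V ⊓ K = ⊥) (h1 : PN q (N.map (QuotientGroup.mk' V))) (h2 : PN q (N.map (QuotientGroup.mk' K))) :
    PN q N := by
  obtain ⟨c, hc⟩ := h1
  obtain ⟨d, hd'⟩ := h2
  rw [← map_lowerCentralSeries] at hc hd'
  refine ⟨max c d, fun ⟨x, hx⟩ => ?_⟩
  obtain ⟨a, ha⟩ := hc ⟨_, mem_map_of_mem _ (Subgroup.lowerCentralSeries_antitone N (le_max_left c d) hx)⟩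
  obtain ⟨b, hb⟩ := hd' ⟨_, mem_map_of_mem _ (Subgroup.lowerCentralSeries_antitone N (le_max_right c d) hx)⟩
  have hxa : x ^ q ^ a ∈ V := (QuotientGroup.eq_one_iff _).1 (congrArg Subtype.val ha)
  have hxb : x ^ q ^ b ∈ K := (QuotientGroup.eq_one_iff _).1 (congrArg Subtype.val hb)
  refine ⟨a + b, Subtype.ext ?_⟩
  have : x ^ q ^ (a + b) ∈ V ⊓ K := mem_inf.2 ⟨by rw [pow_add, pow_mul]; exact pow_mem hxa _,
    by rw [pow_add, mul_comm, pow_mul]; exact pow_mem hxb _⟩
  rw [hd, mem_bot] at this
  simpa using this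

/-- A set-up: `M/N` is a nontrivial `q'`-group of index `q`. -/
def Setup (q : ℕ) (N M : Subgroup G) : Prop :=
  N.Normal ∧ M.Normal ∧ N < M ∧ M.index = q ∧ ¬ q ∣ N.relIndex M

theorem setup_map {q : ℕ} {N M : Subgroup G} (h : Setup q N M) {H : Type*} [Group H] {f : G →* H}
    (hf : Function.Surjective f) (hker : f.ker ≤ N) : Setup q (N.map f) (M.map f) := by
  obtain ⟨hN, hM, hNM, hMi, hNi⟩ := h
  have hcN : (N.map f).comap f = N := comap_map_eq_self hker
  have hcM : (M.map f).comap f = M := comap_map_eq_self (hker.trans hNM.le)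
  refine ⟨hN.map f hf, hM.map f hf, lt_of_le_of_ne (map_mono hNM.le) fun e => hNM.ne ?_, ?_, ?_⟩
  · rw [← hcN, e, hcM]
  · rw [← index_comap_of_surjective _ hf, hcM, hMi]
  · rwa [← relIndex_comap, hcN]

theorem setup_subgroup [Finite G] {q : ℕ} {N M : Subgroup G} (h : Setup q N M) {L : Subgroup G}
    (hL : L ⊔ N = ⊤) : Setup q (N.subgroupOf L) (M.subgroupOf L) := by
  obtain ⟨hN, hM, hNM, hMi, hNi⟩ := h
  haveI := hN
  haveI := hM
  have hN' : N.relIndex L = N.index := by
    rw [← relIndex_sup_right L N, hL, relIndex_top_right]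
  have hM' : M.relIndex L = M.index := by
    rw [← relIndex_sup_right L M, eq_top_iff.2 (hL.ge.trans (sup_le_sup_left hNM.le L)), relIndex_top_right]
  have hmul : (N.subgroupOf L).relIndex (M.subgroupOf L) = N.relIndex M := by
    refine Nat.eq_of_mul_eq_mul_right (Nat.pos_of_ne_zero (index_ne_zero_of_finite (H := M))) ?_
    have h1 : (M.subgroupOf L).index = M.index := hM'
    rw [← h1, relIndex_mul_index (fun x hx => hNM.le hx : N.subgroupOf L ≤ M.subgroupOf L), h1,
      relIndex_mul_index hNM.le]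
    exact hN'
  refine ⟨inferInstance, inferInstance, lt_of_le_of_ne (fun x hx => hNM.le hx) fun e => ?_, hM'.trans hMi, hmul ▸ hNi⟩
  rw [e, relIndex_self] at hmul
  exact hNM.not_ge (relIndex_eq_one.1 hmul.symm)

theorem pn_subgroup {q : ℕ} {N L : Subgroup G} (h : PN q (N.subgroupOf L)) : PN q (N ⊓ L) := by
  have := pn_map h L.subtype
  rwa [subgroupOf_map_subtype] at this

/-- The structure theorem. -/
theorem pn_of_pp.{w} : ∀ (n : ℕ) (G : Type w) [Group G] [Finite G], Nat.card G = n →
    ∀ (N M : Subgroup G) (q : ℕ), q.Prime → PP N → Setup q N M → PN q N := by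
  intro n
  induction n using Nat.strong_induction_on with
  | _ n ih =>
    intro G _ _ hn N M q hq hpp hset
    subst hn
    haveI := Fact.mk hq
    haveI := hset.1
    haveI := hset.2.1
    have hquot : ∀ (K : Subgroup G) [K.Normal], K ≤ N → K ≠ ⊥ → PN q (N.map (QuotientGroup.mk' K)) := by
      intro K _ hKN hK
      exact ih _ (card_map_lt hK) _ rfl _ _ q hq (pp_map hpp (QuotientGroup.mk'_surjective K)
        (by rwa [QuotientGroup.ker_mk']))
        (setup_map hset (QuotientGroup.mk'_surjective K) (by rwa [QuotientGroup.ker_mk']))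
    by_cases hN1 : N = ⊥
    · exact pn_of_isNilpotent (by subst hN1; infer_instance)
    -- a solvable nontrivial normal subgroup inside `N`
    obtain ⟨S, hS, hSN, hS1, hSs⟩ : ∃ S : Subgroup G, S.Normal ∧ S ≤ N ∧ S ≠ ⊥ ∧ Group.IsSolvable S := by
      by_contra hcon
      push Not at hcon
      refine hcon N inferInstance le_rfl hN1 (isSolvable_of_complements hq fun r hr hrd hr2 hrq => ?_)
      haveI := Fact.mk hr
      obtain ⟨P⟩ : Nonempty (Sylow r N) := inferInstance
      set W := centerThompsonAOf (P : Subgroup N) with hW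
      set L := normalizer (W.map N.subtype : Set G) with hL
      have hPne : (P : Subgroup N) ≠ ⊥ := P.ne_bot_of_dvd_card hrd
      by_cases hLt : L = ⊤
      · exfalso
        haveI : (W.map N.subtype).Normal := normalizer_eq_top_iff.1 hLt
        have hWp : IsPGroup r W := P.2.to_le (CfsgLib.PLocal.centerThompsonA_le _)
        refine hcon (W.map N.subtype) inferInstance (map_subtype_le _) ?_ ?_
        · intro h
          exact CfsgLib.PLocal.centerThompsonA_ne_bot P.2 hPne
            ((map_eq_bot_iff_of_injective _ N.subtype_injective).1 h)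
        · haveI := (hWp.map N.subtype).isNilpotent
          infer_instance
      have hcov : L ⊔ N = ⊤ := by
        refine eq_top_iff.2 ((Sylow.normalizer_sup_eq_top P).ge.trans (sup_le_sup_right ?_ _))
        rw [hL, hW, CfsgLib.PLocal.centerThompsonA_map N.subtype _
          (by rw [N.ker_subtype]; exact disjoint_bot_right)]
        exact (CfsgLib.PLocal.centerThompsonALoc r).W_normalizer _
      have h1 : PN q (N.subgroupOf L) := ih _ (CfsgLib.Core.card_subgroup_lt L hLt) _ rfl _ _ q hq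
        (pp_subgroupOf hpp L) (setup_subgroup hset hcov)
      refine CfsgLib.PLocal.hasNormalPComplement_glauberman hr2 P ?_
      apply pn_hasNormalPComplement (q := q) hrq
      set NW := normalizer (W : Set N)
      refine pn_of_map_inj (f := N.subtype.comp NW.subtype) (fun x _ hx =>
        Subtype.ext (N.subtype_injective hx)) ?_
      have h2 : ((⊤ : Subgroup NW)).map (N.subtype.comp NW.subtype) = N ⊓ L := by
        rw [← Subgroup.map_map, ← MonoidHom.range_eq_map, range_subtype]
        ext x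
        constructor
        · rintro ⟨a, ha, rfl⟩
          exact ⟨a.2, le_normalizer_map N.subtype ⟨a, ha, rfl⟩⟩
        · rintro ⟨hxN, hxL⟩
          refine ⟨⟨x, hxN⟩, ?_, rfl⟩
          rw [SetLike.mem_coe, mem_normalizer_iff]
          intro w
          rw [← mem_map_iff_mem (K := W) N.subtype_injective, ← mem_map_iff_mem (K := W) N.subtype_injective]
          exact mem_normalizer_iff.1 hxL _
      rw [h2]
      exact pn_subgroup h1
    -- a minimal normal subgroup
    haveI := hS
    obtain ⟨V, hV, hV1, hVS, hVmin⟩ := CfsgLib.Core.exists_minimal_normal_le' S hS1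
    haveI := hV
    obtain ⟨s, hs, hVp, hVc, -⟩ := CfsgLib.Core.isPGroup_of_minimal_normal V
      (CfsgLib.Core.isSolvable_of_le hSs hVS) hV1 hVmin
    haveI := Fact.mk hs
    haveI := hVc
    have hVN : V ≤ N := hVS.trans hSN
    have hPV := hquot V hVN hV1
    by_cases hsq : s = q
    · subst hsq
      exact pn_lift hVp hPV
    by_cases huniq : ∃ K : Subgroup G, K.Normal ∧ K ≤ N ∧ K ≠ ⊥ ∧ V ⊓ K = ⊥
    · obtain ⟨K, hK, hKN, hK1, hd⟩ := huniq
      haveI := hK
      exact pn_subdirect hd hPV (hquot K hKN hK1)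
    push Not at huniq
    set πV := QuotientGroup.mk' V
    by_cases hfr : V ≤ frattini G
    · obtain ⟨c, hc⟩ := hPV
      rw [← map_lowerCentralSeries] at hc
      set D := N.lowerCentralSeries c with hD
      haveI : D.Normal := lcs_normal N c
      set K := D ⊔ V with hK
      have hKN : K ≤ N := sup_le (lowerCentralSeries_le_self N c) hVN
      obtain ⟨Q⟩ : Nonempty (Sylow q K) := inferInstance
      set Qm := (Q : Subgroup K).map K.subtype
      -- `K = V Q`
      have hKQ : K ≤ Qm ⊔ V := by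
        have h1 : ((Q : Subgroup K) ⊔ V.subgroupOf K) = ⊤ := by
          rw [← index_eq_one]
          refine Nat.eq_one_of_dvd_coprimes ?_ (index_dvd_of_le (le_sup_right : V.subgroupOf K ≤ (Q : Subgroup K) ⊔ _)) (index_dvd_of_le (le_sup_left : (Q : Subgroup K) ≤ _ ⊔ V.subgroupOf K))
          obtain ⟨a, ha⟩ : ∃ a, (V.subgroupOf K).index = q ^ a := by
            have h2 : IsPGroup q (K.map πV) := by
              rw [hK, Subgroup.map_sup, (Subgroup.map_eq_bot_iff V).2 (QuotientGroup.ker_mk' V).ge, sup_bot_eq]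
              exact hc
            obtain ⟨a, ha⟩ := h2.exists_card_eq
            refine ⟨a, ?_⟩
            show V.relIndex K = _
            rw [← CfsgLib.Core.card_map_mk' V K, ha]
          rw [ha]
          exact (hq.coprime_iff_not_dvd.2 Q.not_dvd_index).pow_left a
        calc K = ((Q : Subgroup K) ⊔ V.subgroupOf K).map K.subtype := by
              rw [h1, ← MonoidHom.range_eq_map, range_subtype]
          _ ≤ Qm ⊔ V := by
              rw [Subgroup.map_sup, subgroupOf_map_subtype]
              exact sup_le_sup_left inf_le_left _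
      have hQn : normalizer (Qm : Set G) = ⊤ := by
        refine frattini_nongenerating (top_unique ((Sylow.normalizer_sup_eq_top Q).ge.trans (sup_le le_sup_left ?_)))
        exact hKQ.trans (sup_le (le_normalizer.trans le_sup_left) (hfr.trans le_sup_right))
      haveI : Qm.Normal := normalizer_eq_top_iff.1 hQn
      have hQb : Qm = ⊥ := by
        by_contra hne
        refine huniq Qm inferInstance ((map_subtype_le _).trans hKN) hne ?_
        exact (IsPGroup.disjoint_of_ne s q hsq V Qm hVp (Q.2.map _)).eq_bot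
      rw [hQb, bot_sup_eq] at hKQ
      have hNnil : Group.IsNilpotent N := by
        have h1 : Group.IsNilpotent (N.map (QuotientGroup.mk' (frattini G))) :=
          (isNilpotent_iff_lowerCentralSeries _).2 ⟨c, by
            rw [← map_lowerCentralSeries, Subgroup.map_eq_bot_iff, QuotientGroup.ker_mk']
            exact le_sup_left.trans (hKQ.trans hfr)⟩
        haveI : (N.map (QuotientGroup.mk' (frattini G))).Normal :=
          Normal.map inferInstance _ (QuotientGroup.mk'_surjective _)
        have h2 := CfsgLib.Core.le_fittingSubgroup h1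
        rw [CfsgLib.Core.fittingSubgroup_quotient_frattini, Subgroup.map_le_map_iff, QuotientGroup.ker_mk',
          sup_eq_left.2 CfsgLib.Core.frattini_le_fittingSubgroup] at h2
        haveI := CfsgLib.Core.isNilpotent_fittingSubgroup G
        exact CfsgLib.Core.isNilpotent_of_le h2
      exact pn_of_isNilpotent hNnil
    -- a complement `L` of `V`
    obtain ⟨L, hL, hVL⟩ : ∃ L : Subgroup G, IsCoatom L ∧ ¬ V ≤ L := by
      by_contra hcon
      push Not at hcon
      exact hfr (le_iInf₂ fun L hL => hcon L hL)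
    have hsup : L ⊔ V = ⊤ := hL.2 _ (lt_of_le_of_ne le_sup_left fun e => hVL (e ▸ le_sup_right))
    have hLV : L ⊓ V = ⊥ := by
      haveI : (L ⊓ V).Normal := by
        refine normalizer_eq_top_iff.1 (eq_top_iff.2 (hsup.ge.trans (sup_le ?_ ?_)))
        · exact (le_inf le_normalizer (CfsgLib.Core.le_normalizer_of_normal L V)).trans
            CfsgLib.Transfer.normalizer_le_normalizer_inf
        · intro v hv
          rw [mem_normalizer_iff]
          intro x
          constructor
          · intro hx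
            have : v * x * v⁻¹ = x := by
              rw [show v * x = x * v from congrArg Subtype.val (hVc.is_comm.comm ⟨v, hv⟩ ⟨x, hx.2⟩), mul_inv_cancel_right]
            rwa [this]
          · intro hx
            have : x = v * x * v⁻¹ := by
              have hxV : x ∈ V := by
                have := mul_mem (mul_mem (inv_mem hv) hx.2) hv
                simpa [mul_assoc] using this
              rw [show v * x = x * v from congrArg Subtype.val (hVc.is_comm.comm ⟨v, hv⟩ ⟨x, hxV⟩), mul_inv_cancel_right]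
            rwa [this]
      exact (hVmin (L ⊓ V) inferInstance inf_le_right).resolve_right fun e => hVL (e ▸ inf_le_left)
    have hcov : L ⊔ N = ⊤ := eq_top_iff.2 (hsup.ge.trans (sup_le_sup_left hVN L))
    set U := N.subgroupOf L with hU
    have hPU : PN q U := by
      refine pn_of_map_inj (f := πV.comp L.subtype) (fun x _ hx => Subtype.ext (mem_bot.1 (hLV ▸
        ⟨x.2, (QuotientGroup.eq_one_iff _).1 hx⟩))) ?_
      rw [← Subgroup.map_map, hU, subgroupOf_map_subtype]
      obtain ⟨c, hc⟩ := hPV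
      refine ⟨c, hc.to_le (lowerCentralSeries_mono c ?_)⟩
      exact map_mono inf_le_left
    have hsetL := setup_subgroup hset hcov
    haveI : (M.subgroupOf L).Normal := hsetL.2.1
    set Qs := Cfsg.pCore q L ⊓ U with hQs
    have hQsp : IsPGroup q Qs := (CfsgLib.Core.isPGroup_pCore q L).to_le inf_le_left
    have hQi : ¬ q ∣ Qs.relIndex U := by
      obtain ⟨R⟩ : Nonempty (Sylow q U) := inferInstance
      intro hd
      refine R.not_dvd_index (hd.trans (index_dvd_of_le fun x hx => ?_))
      rw [mem_subgroupOf]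
      refine mem_inf.2 ⟨pn_mem_pCore hPU x.2 ?_, x.2⟩
      rw [Subgroup.orderOf_coe]
      obtain ⟨k, hk⟩ := IsPGroup.iff_orderOf.1 R.2 ⟨x, hx⟩
      exact ⟨k, (Subgroup.orderOf_coe (⟨x, hx⟩ : (R : Subgroup _))).trans hk⟩
    haveI : Qs.Normal := inferInstance
    have hppL := pp_subgroupOf hpp L
    obtain ⟨y₀, T₀, hyo, hyN, hTU, hTq, hyT, hQT⟩ := exists_element hppL hq hsetL.2.2.1 hsetL.2.2.2.1
      hsetL.2.2.2.2 inf_le_right hQsp hQi
    set y : G := (y₀ : G)
    set T := T₀.map L.subtype with hT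
    have hyo' : orderOf y = q := by rw [Subgroup.orderOf_coe]; exact hyo
    have hTN : T ≤ N := by rintro _ ⟨t, ht, rfl⟩; exact hTU ht
    have hTL : T ≤ L := map_subtype_le _
    have hTq' : ¬ q ∣ Nat.card T := by rwa [hT, card_map_of_injective L.subtype_injective]
    have hyT' : y ∈ normalizer (T : Set G) := le_normalizer_map L.subtype ⟨y₀, hyT, rfl⟩
    -- `V T` is a nilpotent group
    have hVq : ¬ q ∣ Nat.card V := fun hd => by
      obtain ⟨a, ha⟩ := hVp.exists_card_eq
      exact hsq ((Nat.prime_dvd_prime_iff_eq hq hs).1 (hq.dvd_of_dvd_pow (ha ▸ hd))).symm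
    have hVTq : ¬ q ∣ Nat.card (T ⊔ V : Subgroup G) := fun hd => by
      have h1 := CfsgLib.Core.card_sup_mul_card_inf T V (CfsgLib.Core.le_normalizer_of_normal _ _)
      have h2 : q ∣ Nat.card T * Nat.card V := h1 ▸ hd.mul_right _
      exact (hq.dvd_mul.1 h2).elim hTq' hVq
    have hnil : Group.IsNilpotent (T ⊔ V : Subgroup G) := by
      refine isNilpotent_fpf hpp hq hyo' hyN (sup_le hTN hVN) hVTq ?_
      rw [CfsgLib.Core.mem_normalizer_iff_conj_smul_eq, smul_sup, Normal.conj_smul_eq_self y V,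
        CfsgLib.Core.mem_normalizer_iff_conj_smul_eq.1 hyT']
    have hfaith : ∀ x : G, x ∈ N → x ∈ L → x ∈ centralizer (V : Set G) → x = 1 := by
      set C := N ⊓ L ⊓ centralizer (V : Set G)
      haveI : C.Normal := by
        refine normalizer_eq_top_iff.1 (eq_top_iff.2 (hsup.ge.trans (sup_le ?_ ?_)))
        · have h1 : L ≤ normalizer ((N ⊓ L : Subgroup G) : Set G) :=
            (le_inf (CfsgLib.Core.le_normalizer_of_normal L N) le_normalizer).trans
              CfsgLib.Transfer.normalizer_le_normalizer_inf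
          exact (le_inf h1 (CfsgLib.Core.le_normalizer_of_normal L _)).trans
            CfsgLib.Transfer.normalizer_le_normalizer_inf
        · intro v hv
          rw [mem_normalizer_iff]
          intro x
          constructor
          · intro hx
            have hvx := mem_centralizer_iff.1 (mem_inf.1 hx).2 v hv
            rwa [show v * x * v⁻¹ = x by rw [hvx, mul_inv_cancel_right]]
          · intro hx
            have hvx := mem_centralizer_iff.1 (mem_inf.1 hx).2 v hv
            have h2 : v * x * v⁻¹ = x := by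
              calc v * x * v⁻¹ = v⁻¹ * (v * (v * x * v⁻¹)) := by group
                _ = v⁻¹ * ((v * x * v⁻¹) * v) := by rw [hvx]
                _ = x := by group
            rwa [h2] at hx
      intro x hxN hxL hxc
      by_contra hx1
      refine huniq C inferInstance (inf_le_left.trans inf_le_left) (fun h => hx1 (mem_bot.1 (h ▸ ⟨⟨hxN, hxL⟩, hxc⟩))) ?_
      rw [eq_bot_iff, ← hLV]
      exact fun z hz => ⟨hz.2.1.2, hz.1⟩
    have hTs : IsPGroup s T := by
      have hVle : V ≤ Cfsg.pCore s G := CfsgLib.Core.le_pCore hVp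
      intro t
      obtain ⟨a, b, ha, hb, hab, ⟨k, hk⟩, hbc⟩ := CfsgLib.HallGen.exists_coprime_parts hs (t : G)
      have hbT : b ∈ T := zpowers_le.2 t.2 hb
      have hb1 : b = 1 := by
        refine hfaith b (hTN hbT) (hTL hbT) (mem_centralizer_iff.2 fun v hv => ?_)
        haveI := hnil
        have hco : (orderOf (⟨v, mem_sup_right hv⟩ : (T ⊔ V : Subgroup G))).Coprime
            (orderOf (⟨b, mem_sup_left hbT⟩ : (T ⊔ V : Subgroup G))) := by
          rw [Subgroup.orderOf_mk, Subgroup.orderOf_mk]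
          obtain ⟨j, hj⟩ := IsPGroup.iff_orderOf.1 hVp ⟨v, hv⟩
          rw [Subgroup.orderOf_mk] at hj
          rw [hj]
          exact (hbc.pow_right j).symm
        exact congrArg Subtype.val (CfsgLib.SolvStruct.commute_of_coprime_orderOf_of_isNilpotent hco).eq
      refine ⟨k, Subtype.ext ?_⟩
      rw [SubmonoidClass.coe_pow, ← hab, hb1, mul_one, ← hk, pow_orderOf_eq_one]
      rfl
    by_cases hQb : Qs = ⊥
    · have hQT' : T₀ = U := by
        refine Eq.trans ?_ hQT
        show T₀ = Qs ⊔ T₀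
        rw [hQb, bot_sup_eq]
      have hNe : N ≤ T ⊔ V := by
        intro n hn
        obtain ⟨l, hl, v, hv, rfl⟩ := mem_sup_of_normal_right.1 (show n ∈ L ⊔ V from hsup ▸ mem_top n)
        refine mul_mem (mem_sup_left ?_) (mem_sup_right hv)
        refine ⟨⟨l, hl⟩, ?_, rfl⟩
        rw [hQT']
        exact (show l ∈ N by simpa using mul_mem hn (inv_mem (hVN hv)))
      exact pn_of_isNilpotent (by haveI := hnil; exact CfsgLib.Core.isNilpotent_of_le hNe)
    exfalso
    -- an element of order `q` in `Qs` commuting with `y`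
    obtain ⟨w, hwQ, hwo, hwy⟩ : ∃ w ∈ Qs, orderOf w = q ∧ Commute y₀ w := by
      set R := zpowers y₀ ⊔ Qs with hR
      have hRp : IsPGroup q R := by
        obtain ⟨a, ha⟩ := hQsp.exists_card_eq
        have h1 := CfsgLib.Core.card_sup_mul_card_inf (zpowers y₀) Qs (CfsgLib.Core.le_normalizer_of_normal _ _)
        obtain ⟨j, -, hj⟩ := (Nat.dvd_prime_pow hq).1
          (show Nat.card R ∣ q ^ (1 + a) by
            rw [Nat.card_zpowers, hyo, ha, ← pow_succ'] at h1
            rw [add_comm, ← h1]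
            exact dvd_mul_right _ _)
        exact IsPGroup.of_card hj
      have hne : Qs.subgroupOf R ≠ ⊥ := fun e => hQb (by
        have := congrArg (Subgroup.map R.subtype) e
        rwa [subgroupOf_map_subtype, inf_eq_left.2 le_sup_right, Subgroup.map_bot] at this)
      have hne2 := CfsgLib.PGroups.inf_center_ne_bot hRp hne
      obtain ⟨⟨z, hz⟩, hz1⟩ := (ne_bot_iff_exists_ne_one.1 hne2)
      have hzne : z ≠ 1 := fun e => hz1 (Subtype.ext e)
      obtain ⟨r, hr, hrd⟩ := Nat.exists_prime_and_dvd (mt orderOf_eq_one_iff.1 hzne)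
      obtain ⟨k, hk⟩ := IsPGroup.iff_orderOf.1 hRp z
      have hrq : r = q := (Nat.prime_dvd_prime_iff_eq hr hq).1 (hr.dvd_of_dvd_pow (hk ▸ hrd))
      subst hrq
      refine ⟨((z ^ (orderOf z / r) : R) : L), ?_, ?_, ?_⟩
      · exact pow_mem (mem_inf.1 hz).1 _
      · rw [Subgroup.orderOf_coe, orderOf_pow_orderOf_div (orderOf_pos z).ne' hrd]
      · exact (congrArg Subtype.val (mem_center_iff.1 (pow_mem (mem_inf.1 hz).2 _)
          (⟨y₀, mem_sup_left (mem_zpowers y₀)⟩ : R)) : _)
    have hwN : (w : G) ∈ N := (mem_inf.1 hwQ).2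
    have hwy' : Commute y (w : G) := congrArg Subtype.val hwy.eq
    have hwo' : orderOf (w : G) = q := by rw [Subgroup.orderOf_coe]; exact hwo
    have hcent : zpowers (w : G) ≤ centralizer (V : Set G) := by
      refine trace_centralizes hq ?_ ((CfsgLib.Core.le_normalizer_of_normal ⊤ V) (mem_top y))
        (CfsgLib.Core.le_normalizer_of_normal _ V) ?_ ?_
      · refine (centralizer_le_normalizer _) (mem_centralizer_iff.2 fun z hz => ?_)
        obtain ⟨i, rfl⟩ := mem_zpowers_iff.1 hz
        exact ((hwy'.zpow_right i).eq).symm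
      · rw [Nat.card_zpowers, hwo']
        exact hq.coprime_iff_not_dvd.2 hVq
      · intro t ht v hv
        obtain ⟨i, rfl⟩ := mem_zpowers_iff.1 ht
        set g := (w : G) ^ i * y with hg
        have hgN : g ∉ N := fun h' => hyN (show y ∈ N by
          simpa [hg] using mul_mem (inv_mem (zpow_mem hwN i)) h')
        have hwq : (w : G) ^ q = 1 := hwo' ▸ pow_orderOf_eq_one (w : G)
        have hyq : y ^ q = 1 := hyo' ▸ pow_orderOf_eq_one y
        have hgq : g ^ q = 1 := by
          rw [hg, ((hwy'.symm).zpow_left i).mul_pow, ← zpow_natCast, ← zpow_mul, mul_comm, zpow_mul,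
            zpow_natCast, hwq, one_zpow, one_mul, hyq]
        have hgo : ∃ k, orderOf g = q ^ k := ⟨1, by
          rw [pow_one]
          exact orderOf_eq_prime hgq fun e => hgN (e ▸ one_mem N)⟩
        have hP : (v * g) ^ q ∈ V := by
          refine (QuotientGroup.eq_one_iff _).1 ?_
          show πV ((v * g) ^ q) = 1
          rw [map_pow, map_mul, show πV v = 1 from (QuotientGroup.eq_one_iff v).2 hv, one_mul, ← map_pow, hgq,
            map_one]
        have hgc : Commute g ((v * g) ^ q) := by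
          have h1 : Commute (v * g) ((v * g) ^ q) := (Commute.refl _).pow_right q
          have h2 : Commute v ((v * g) ^ q) :=
            congrArg Subtype.val (hVc.is_comm.comm ⟨v, hv⟩ ⟨_, hP⟩)
          have := h2.inv_left.mul_left h1
          rwa [inv_mul_cancel_left] at this
        exact pp_cent_eq_one hpp hq hgN hgo hVN hVq hP hgc
    have : (w : G) = 1 := hfaith _ hwN w.2 (hcent (mem_zpowers _))
    rw [this, orderOf_one] at hwo'
    exact hq.one_lt.ne hwo'

/-- Under equal orders `N` is nilpotent. -/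
theorem isNilpotent_of_orderOf_eq [Finite G] {N M : Subgroup G} {q : ℕ} (hq : q.Prime)
    (heq : ∀ x : G, x ∉ N → ∀ n ∈ N, orderOf (x * n) = orderOf x) (hset : Setup q N M) :
    Group.IsNilpotent N := by
  haveI := Fact.mk hq
  haveI := hset.1
  haveI := hset.2.1
  have hpp := pp_of_orderOf_eq heq
  have hPN := pn_of_pp _ G rfl N M q hq hpp hset
  set Qs := Cfsg.pCore q G ⊓ N with hQs
  have hQsp : IsPGroup q Qs := (CfsgLib.Core.isPGroup_pCore q G).to_le inf_le_left
  have hQi : ¬ q ∣ Qs.relIndex N := by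
    obtain ⟨R⟩ : Nonempty (Sylow q N) := inferInstance
    intro hd
    refine R.not_dvd_index (hd.trans (index_dvd_of_le fun x hx => ?_))
    rw [mem_subgroupOf]
    refine mem_inf.2 ⟨pn_mem_pCore hPN x.2 ?_, x.2⟩
    rw [Subgroup.orderOf_coe]
    obtain ⟨k, hk⟩ := IsPGroup.iff_orderOf.1 R.2 ⟨x, hx⟩
    exact ⟨k, (Subgroup.orderOf_coe (⟨x, hx⟩ : (R : Subgroup _))).trans hk⟩
  obtain ⟨y, T, hyo, hyN, hTN, hTq, hyT, hQT⟩ := exists_element hpp hq hset.2.2.1 hset.2.2.2.1
    hset.2.2.2.2 inf_le_right hQsp hQi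
  have hTnil := isNilpotent_fpf hpp hq hyo hyN hTN hTq hyT
  -- `T` centralizes the Frattini quotient of `Qs`
  set D := (frattini Qs).map Qs.subtype with hD
  haveI : D.Normal := inferInstance
  set π := QuotientGroup.mk' D
  obtain ⟨a, ha⟩ := hQsp.exists_card_eq
  have hcop : (Nat.card T).Coprime (Nat.card Qs) := by
    rw [ha]
    exact ((hq.coprime_iff_not_dvd.2 hTq).pow_left a).symm
  have hn : ∀ A : Subgroup G, A ≤ normalizer (Qs : Set G) := fun A => CfsgLib.Core.le_normalizer_of_normal A Qs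
  haveI hcm : IsMulCommutative (Qs.map π) := ⟨⟨by
    rintro ⟨_, x, hx, rfl⟩ ⟨_, z, hz, rfl⟩
    refine Subtype.ext ?_
    show π x * π z = π z * π x
    rw [← map_mul, ← map_mul]
    refine (QuotientGroup.eq (s := D)).2 ?_
    have h1 : (⟨z, hz⟩⁻¹ * ⟨x, hx⟩⁻¹ * ⟨z, hz⟩ * ⟨x, hx⟩ : Qs) ∈ frattini Qs := by
      refine CfsgLib.PGroups.commutator_le_frattini' hQsp ?_
      have := commutator_mem_commutator (mem_top ((⟨z, hz⟩ : Qs)⁻¹)) (mem_top ((⟨x, hx⟩ : Qs)⁻¹))
      rw [commutatorElement_def, inv_inv, inv_inv] at this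
      exact this
    refine ⟨_, h1, ?_⟩
    simp [mul_assoc]⟩⟩
  have hTc : T.map π ≤ centralizer ((Qs.map π : Subgroup (G ⧸ D)) : Set (G ⧸ D)) := by
    refine trace_centralizes hq (y := π y) (le_normalizer_map π ⟨y, hyT, rfl⟩)
      (le_normalizer_map π ⟨y, hn ⊤ (mem_top y), rfl⟩) ?_ ?_ ?_
    · exact (map_mono (hn T)).trans (le_normalizer_map π)
    · exact (hcop.coprime_dvd_left (card_map_dvd T π)).coprime_dvd_right (card_map_dvd Qs π)
    · rintro _ ⟨t, ht, rfl⟩ _ ⟨v, hv, rfl⟩
      rw [← map_mul, ← map_mul, ← map_pow]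
      have h1 : orderOf (v * (t * y)) = q := by
        have hn' : y⁻¹ * (v * t) * y ∈ N :=
          Normal.conj_mem' inferInstance _ (mul_mem ((mem_inf.1 hv).2) (hTN ht)) y
        have := heq y hyN _ hn'
        rw [hyo] at this
        rw [← this]
        congr 1
        group
      rw [show (v * (t * y)) ^ q = 1 from h1 ▸ pow_orderOf_eq_one _, map_one]
  have hTQ : T ≤ centralizer (Qs : Set G) := by
    refine CfsgLib.Core.centralizes_of_centralizes_frattini_quotient (hn T)
      (hcop.coprime_dvd_right (card_subgroup_dvd_card _)) fun t ht k hk => ?_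
    refine (QuotientGroup.eq_one_iff _).1 ?_
    show π (t * k * t⁻¹ * k⁻¹) = 1
    have h1 := mem_centralizer_iff.1 (hTc (mem_map_of_mem π ht)) _ (mem_map_of_mem π hk)
    rw [map_mul, map_mul, map_mul, map_inv, map_inv, ← h1, mul_inv_cancel_right, mul_inv_cancel]
  haveI := hQsp.isNilpotent
  haveI := hTnil
  rw [← hQT]
  exact CfsgLib.Core.isNilpotent_sup_of_commute Qs T fun k hk t ht => mem_centralizer_iff.1 (hTQ ht) k hk

end CfsgLib.ClassSizes.CosetOrders
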