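import Mathlib

/-!
# Covering the elements of prime power order by proper subgroups
-/

set_option autoImplicit false
set_option linter.all false

namespace CfsgLib.ClassSizes.CoverPElements

open Subgroup

universe u

/-- The elements of `p`-power order. -/
def pSet (p : ℕ) (G : Type u) [Group G] : Set G := {g | ∃ k : ℕ, orderOf g = p ^ k}

variable {G : Type u} [Group G] [Finite G] {p : ℕ} [Fact p.Prime]

theorem pSet_conj {g : G} (hg : g ∈ pSet p G) (x : G) : x * g * x⁻¹ ∈ pSet p G := by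
  obtain ⟨k, hk⟩ := hg
  exact ⟨k, by rw [← MulAut.conj_apply, MulEquiv.orderOf_eq, hk]⟩

/-- An element moving a family of at most `p - 1` blocks fixes one. -/
theorem orbit_subset {x y : G} (hx : x ∈ pSet p G) (t : Finset (Subgroup G)) (ht : t.card < p)
    (hcov : ∀ g ∈ Set.range (fun i : ℤ => x ^ i * y * (x ^ i)⁻¹), ∃ K ∈ t, g ∈ K)
    (hsub : ∀ K ∈ t, ∀ i : ℤ, ∃ K' ∈ t, ∀ g ∈ Set.range (fun i : ℤ => x ^ i * y * (x ^ i)⁻¹), g ∈ K →
      x ^ i * g * (x ^ i)⁻¹ ∈ K') :
    ∃ K ∈ t, Set.range (fun i : ℤ => x ^ i * y * (x ^ i)⁻¹) ⊆ K := by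
  classical
  set O := Set.range (fun i : ℤ => x ^ i * y * (x ^ i)⁻¹) with hO
  have hOc : ∀ i : ℤ, ∀ g : G, g ∈ O ↔ x ^ i * g * (x ^ i)⁻¹ ∈ O := by
    intro i g
    constructor
    · rintro ⟨j, rfl⟩
      exact ⟨i + j, by simp only [zpow_add]; group⟩
    · rintro ⟨j, hj⟩
      refine ⟨-i + j, ?_⟩
      simp only at hj ⊢
      calc x ^ (-i + j) * y * (x ^ (-i + j))⁻¹ = (x ^ i)⁻¹ * (x ^ j * y * (x ^ j)⁻¹) * x ^ i := by
            rw [zpow_add, zpow_neg]; group
        _ = g := by rw [hj]; group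
  obtain ⟨K0, hK0, hyK⟩ := hcov y ⟨0, by simp⟩
  obtain ⟨K, hK, hmax⟩ := t.exists_max_image (fun K : Subgroup G => Nat.card (O ∩ K : Set G)) ⟨K0, hK0⟩
  have hne : (O ∩ K : Set G).Nonempty := by
    by_contra h
    rw [Set.not_nonempty_iff_eq_empty] at h
    have h1 := hmax K0 hK0
    have h2 : Nat.card (O ∩ K : Set G) = 0 := by rw [h]; simp
    have : 0 < Nat.card (O ∩ K0 : Set G) := by
      haveI : Nonempty (O ∩ K0 : Set G) := ⟨⟨y, ⟨0, by simp⟩, hyK⟩⟩
      exact Nat.card_pos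
    omega
  set B : Set G := O ∩ K with hB
  let c : ℤ → Set G := fun i => (fun g => x ^ i * g * (x ^ i)⁻¹) '' B
  have hc : ∀ i : ℤ, ∃ K' ∈ t, c i = O ∩ K' := by
    intro i
    obtain ⟨K', hK', h⟩ := hsub K hK i
    refine ⟨K', hK', ?_⟩
    have hle : c i ⊆ O ∩ K' := by
      rintro _ ⟨g, hg, rfl⟩
      exact ⟨(hOc i g).1 hg.1, h g hg.1 hg.2⟩
    refine Set.eq_of_subset_of_ncard_le hle ?_ (Set.toFinite _)
    rw [Set.ncard_image_of_injective _ (fun a b h => by simpa using h), ← Nat.card_coe_set_eq, ← Nat.card_coe_set_eq]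
    exact hmax K' hK'
  choose F hF hFc using hc
  obtain ⟨a, ha, b, hb, hab, hFab⟩ := Finset.exists_ne_map_eq_of_card_lt_of_maps_to (s := Finset.range p)
    (t := t) (by rwa [Finset.card_range]) (f := fun i : ℕ => F i) (fun i _ => hF i)
  wlog hlt : a < b generalizing a b
  · exact this b hb a ha hab.symm hFab.symm (by omega)
  have heq : c (a : ℤ) = c (b : ℤ) := by rw [hFc, hFc, hFab]
  have hd : x ^ (b - a) ∈ normalizer B := by
    have h1 : ∀ g, g ∈ B → x ^ (b - a) * g * (x ^ (b - a))⁻¹ ∈ B := by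
      intro g hg
      obtain ⟨g', hg', he⟩ : x ^ (b : ℤ) * g * (x ^ (b : ℤ))⁻¹ ∈ c (a : ℤ) := heq ▸ ⟨g, hg, rfl⟩
      simp only at he
      have : x ^ (b - a) * g * (x ^ (b - a))⁻¹ = g' := by
        rw [← zpow_natCast, Nat.cast_sub hlt.le, zpow_sub,
          show x ^ (b : ℤ) * (x ^ (a : ℤ))⁻¹ = (x ^ (a : ℤ))⁻¹ * x ^ (b : ℤ) from
            ((Commute.refl x).zpow_zpow (b : ℤ) (a : ℤ)).inv_right.eq]
        calc (x ^ (a : ℤ))⁻¹ * x ^ (b : ℤ) * g * ((x ^ (a : ℤ))⁻¹ * x ^ (b : ℤ))⁻¹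
            = (x ^ (a : ℤ))⁻¹ * (x ^ (b : ℤ) * g * (x ^ (b : ℤ))⁻¹) * x ^ (a : ℤ) := by group
          _ = g' := by rw [← he]; group
      rw [this]; exact hg'
    rw [mem_set_normalizer_iff]
    refine fun g => ⟨h1 g, fun hg => ?_⟩
    have hbij : (fun g => x ^ (b - a) * g * (x ^ (b - a))⁻¹) '' B = B :=
      Set.eq_of_subset_of_ncard_le (by rintro _ ⟨g, hg, rfl⟩; exact h1 g hg)
        (by rw [Set.ncard_image_of_injective _ (fun a b h => by simpa using h)]) (Set.toFinite _)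
    obtain ⟨g', hg', he⟩ := hbij.symm ▸ hg
    simp only at he
    have : g' = g := by simpa using he
    exact this ▸ hg'
  obtain ⟨k, hk⟩ := hx
  have hpr := (Fact.out : p.Prime)
  have hcop : (b - a).Coprime (orderOf x) := by
    rw [hk]
    refine Nat.Coprime.pow_right k ((hpr.coprime_iff_not_dvd.2 (Nat.not_dvd_of_pos_of_lt (by omega) ?_)).symm)
    have := Finset.mem_range.1 hb
    omega
  obtain ⟨m, hm⟩ := exists_pow_eq_self_of_coprime hcop
  have hxN : x ∈ normalizer B := hm ▸ pow_mem hd m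
  refine ⟨K, hK, ?_⟩
  obtain ⟨_, ⟨i, rfl⟩, hgK⟩ := hne
  rintro _ ⟨j, rfl⟩
  have h := (mem_set_normalizer_iff.1 (zpow_mem hxN (j - i)) (x ^ i * y * (x ^ i)⁻¹)).1 ⟨⟨i, rfl⟩, hgK⟩
  have e : x ^ (j - i) * (x ^ i * y * (x ^ i)⁻¹) * (x ^ (j - i))⁻¹ = x ^ j * y * (x ^ j)⁻¹ := by
    rw [zpow_sub]; group
  rw [e] at h
  exact h.2

theorem main : ∀ (n : ℕ) (G : Type u) [Group G] [Finite G], Nat.card G = n →
    closure (pSet p G) = ⊤ → ∀ s : Finset (Subgroup G), (∀ K ∈ s, K ≠ ⊤) →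
      (∀ g ∈ pSet p G, ∃ K ∈ s, g ∈ K) → p < s.card := by
  intro n
  induction n using Nat.strong_induction_on with
  | _ n IH =>
  intro G _ _ hn hgen s
  classical
  induction s using Finset.strongInduction with
  | _ s IHs =>
  intro hs hcov
  by_contra hcard
  rw [not_lt] at hcard
  -- proper subgroups generated by elements of p-power order lie in a member
  have hproper : ∀ T : Set G, T ⊆ pSet p G → closure T ≠ ⊤ → ∃ K ∈ s, T ⊆ (K : Set G) := by
    intro T hT hne
    by_contra hnot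
    have hlt : Nat.card (closure T) < n := hn ▸ lt_of_le_of_ne (card_le_card_group _)
      (fun e => hne (eq_top_of_card_eq _ e))
    have h := IH _ hlt (closure T) rfl (by
      rw [eq_top_iff, ← closure_closure_coe_preimage]
      refine (closure_mono fun g hg => ?_)
      obtain ⟨k, hk⟩ := hT hg
      exact ⟨k, by rw [← hk, Subgroup.orderOf_coe]⟩) (s.image fun K => K.subgroupOf (closure T))
      (fun K hK => by
        obtain ⟨K, hKs, rfl⟩ := Finset.mem_image.1 hK
        intro he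
        exact hnot ⟨K, hKs, fun g hg => subgroupOf_eq_top.1 he (subset_closure hg)⟩)
      (fun g hg => by
        obtain ⟨k, hk⟩ := hg
        obtain ⟨K, hK, hgK⟩ := hcov (g : G) ⟨k, by rw [Subgroup.orderOf_coe, hk]⟩
        exact ⟨_, Finset.mem_image_of_mem _ hK, hgK⟩)
    exact absurd (h.trans_le Finset.card_image_le) (not_lt.2 hcard)
  have hpriv : ∀ K ∈ s, ∃ g ∈ pSet p G, g ∈ K ∧ ∀ K' ∈ s, g ∈ K' → K' = K := by
    intro K hK
    by_contra hh
    push Not at hh
    have := IHs (s.erase K) (Finset.erase_ssubset hK) (fun L hL => hs L (Finset.mem_of_mem_erase hL))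
      (fun g hg => by
        obtain ⟨L, hL, hgL⟩ := hcov g hg
        by_cases hLK : L = K
        · subst hLK
          obtain ⟨K', hK', hgK', hne⟩ := hh g hg hgL
          exact ⟨K', Finset.mem_erase.2 ⟨hne, hK'⟩, hgK'⟩
        · exact ⟨L, Finset.mem_erase.2 ⟨hLK, hL⟩, hgL⟩)
    have := Finset.card_erase_le (s := s) (a := K)
    omega
  obtain ⟨K₁, hK₁, -⟩ := hcov 1 ⟨0, by rw [orderOf_one, pow_zero]⟩
  have hother : ∀ K ∈ s, ∃ K' ∈ s, K' ≠ K := by
    intro K hK
    by_contra hh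
    push Not at hh
    refine hs K hK (eq_top_iff.2 (hgen ▸ (closure_le K).2 fun g hg => ?_))
    obtain ⟨L, hL, hgL⟩ := hcov g hg
    exact hh L hL ▸ hgL
  have hder : ∀ K ∈ s, commutator G ≤ K := by
    intro K hK
    obtain ⟨K', hK', hne⟩ := hother K hK
    obtain ⟨x, hxp, hxK', hxu⟩ := hpriv K' hK'
    obtain ⟨y, hyp, hyK, hyu⟩ := hpriv K hK
    set O := Set.range (fun i : ℤ => x ^ i * y * (x ^ i)⁻¹) with hO
    have hgen2 : closure ({x, y} : Set G) = ⊤ := by
      by_contra h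
      obtain ⟨L, hL, hsub⟩ := hproper {x, y} (by rintro g (rfl | rfl) <;> assumption) h
      exact hne ((hxu L hL (hsub (Set.mem_insert _ _))).symm.trans (hyu L hL (hsub (Set.mem_insert_of_mem _ rfl))))
    have hOx : ∀ g ∈ O, g ∉ K' := by
      rintro _ ⟨i, rfl⟩ h
      refine hne (hyu K' hK' ?_)
      have e : y = (x ^ i)⁻¹ * (x ^ i * y * (x ^ i)⁻¹) * x ^ i := by group
      rw [e]
      exact mul_mem (mul_mem (inv_mem (zpow_mem hxK' i)) h) (zpow_mem hxK' i)
    have hOp : O ⊆ pSet p G := by rintro _ ⟨i, rfl⟩; exact pSet_conj hyp _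
    obtain ⟨L, hL, hOL⟩ := orbit_subset (y := y) hxp (s.erase K')
      (by rw [Finset.card_erase_of_mem hK']; have := (Fact.out : p.Prime).pos; omega)
      (fun g hg => by
        obtain ⟨L, hL, hgL⟩ := hcov g (hOp hg)
        exact ⟨L, Finset.mem_erase.2 ⟨fun h => hOx g hg (h ▸ hgL), hL⟩, hgL⟩)
      (fun L hL i => by
        obtain ⟨hLne, hLs⟩ := Finset.mem_erase.1 hL
        set T := (fun g => x ^ i * g * (x ^ i)⁻¹) '' (O ∩ L) with hT
        by_cases hemp : (O ∩ L : Set G).Nonempty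
        · have hTp : T ⊆ pSet p G := by rintro _ ⟨g, hg, rfl⟩; exact pSet_conj (hOp hg.1) _
          have hTne : closure T ≠ ⊤ := by
            intro e
            apply hs L hLs
            have hle : closure T ≤ L.map (MulAut.conj (x ^ i)).toMonoidHom :=
              (closure_le _).2 (by rintro _ ⟨g, hg, rfl⟩; exact ⟨g, hg.2, rfl⟩)
            rw [e, top_le_iff] at hle
            exact map_injective (MulAut.conj (x ^ i)).injective (hle.trans (map_top_of_surjective _ (MulAut.conj (x ^ i)).surjective).symm)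
          obtain ⟨L', hL', hTL'⟩ := hproper T hTp hTne
          refine ⟨L', Finset.mem_erase.2 ⟨fun h => ?_, hL'⟩, fun g hg hgL => hTL' ⟨g, ⟨hg, hgL⟩, rfl⟩⟩
          obtain ⟨g, ⟨j, rfl⟩, hgL⟩ := hemp
          refine hOx _ (⟨i + j, rfl⟩ : x ^ (i + j) * y * (x ^ (i + j))⁻¹ ∈ O) ?_
          rw [show x ^ (i + j) * y * (x ^ (i + j))⁻¹ = x ^ i * (x ^ j * y * (x ^ j)⁻¹) * (x ^ i)⁻¹ by rw [zpow_add]; group]
          exact h ▸ hTL' ⟨_, ⟨⟨j, rfl⟩, hgL⟩, rfl⟩
        · exact ⟨L, hL, fun g hg hgL => absurd ⟨g, hg, hgL⟩ hemp⟩)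
    obtain rfl : L = K := hyu L (Finset.mem_of_mem_erase hL) (hOL ⟨0, by simp⟩)
    set H := closure O with hH
    have hyH : y ∈ H := subset_closure ⟨0, by simp⟩
    have hHn : H.Normal := by
      refine normalizer_eq_top_iff.1 (eq_top_iff.2 (hgen2 ▸ (closure_le _).2 ?_))
      rintro g (rfl | rfl)
      · refine normalizer_le_normalizer_closure O (mem_set_normalizer_iff.2 fun g' => ?_)
        constructor
        · rintro ⟨j, rfl⟩
          exact ⟨1 + j, by simp only [zpow_add, zpow_one]; group⟩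
        · rintro ⟨j, hj⟩
          refine ⟨-1 + j, ?_⟩
          simp only at hj ⊢
          calc g ^ (-1 + j) * y * (g ^ (-1 + j))⁻¹ = g⁻¹ * (g ^ j * y * (g ^ j)⁻¹) * g := by
                rw [zpow_add, zpow_neg_one]; group
            _ = g' := by rw [hj]; group
      · exact le_normalizer hyH
    haveI := hHn
    refine le_trans ?_ ((closure_le L).2 hOL)
    rw [_root_.commutator_def, commutator_le]
    intro a _ b _
    have hcyc : ∀ g : G, (g : G ⧸ H) ∈ zpowers (x : G ⧸ H) := by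
      intro g
      have : g ∈ (zpowers (x : G ⧸ H)).comap (QuotientGroup.mk' H) := by
        refine ((closure_le _).2 ?_) (hgen2.ge (mem_top g))
        rintro z (rfl | rfl)
        · exact mem_zpowers _
        · show (z : G ⧸ H) ∈ zpowers (x : G ⧸ H)
          rw [(QuotientGroup.eq_one_iff z).2 hyH]; exact one_mem _
      exact this
    rw [← QuotientGroup.eq_one_iff, ← QuotientGroup.mk'_apply, map_commutatorElement,
      commutatorElement_eq_one_iff_mul_comm]
    obtain ⟨i, hi⟩ := hcyc a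
    obtain ⟨j, hj⟩ := hcyc b
    show (a : G ⧸ H) * (b : G ⧸ H) = (b : G ⧸ H) * (a : G ⧸ H)
    simp only at hi hj
    rw [← hi, ← hj, zpow_mul_comm]
  -- the abelian quotient
  set π := QuotientGroup.mk' (commutator G) with hπ
  haveI : IsMulCommutative (G ⧸ commutator G) := ⟨⟨fun a b => @mul_comm (Abelianization G) _ a b⟩⟩
  have hQ : IsPGroup p (G ⧸ commutator G) := by
    intro c
    obtain ⟨g, rfl⟩ := QuotientGroup.mk'_surjective _ c
    have : g ∈ closure (pSet p G) := hgen ▸ mem_top g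
    induction this using closure_induction with
    | mem u hu =>
      obtain ⟨k, hk⟩ := hu
      exact ⟨k, by rw [← map_pow, ← hk, pow_orderOf_eq_one, map_one]⟩
    | one => exact ⟨0, by simp⟩
    | mul u v _ _ eu ev =>
      obtain ⟨k, hk⟩ := eu
      obtain ⟨l, hl⟩ := ev
      exact ⟨k + l, by rw [map_mul, (show Commute (π u) (π v) from mul_comm' _ _).mul_pow, pow_add, pow_mul, hk, one_pow, pow_mul', hl, one_pow, one_mul]⟩
    | inv u _ eu =>
      obtain ⟨k, hk⟩ := eu
      exact ⟨k, by rw [map_inv, inv_pow, hk, inv_one]⟩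
  have hcovQ : ∀ c : G ⧸ commutator G, ∃ K ∈ s, c ∈ K.map π := by
    intro c
    obtain ⟨g, rfl⟩ := QuotientGroup.mk'_surjective _ c
    obtain ⟨j, hj⟩ := IsPGroup.iff_orderOf.1 hQ (π g)
    have ho : orderOf (π g) ∣ orderOf g := orderOf_map_dvd π g
    set r := orderOf g / p ^ (orderOf g).factorization p with hr
    have hrcop : r.Coprime (orderOf (π g)) := by
      rw [hj]
      exact Nat.Coprime.pow_right j ((Fact.out : p.Prime).coprime_iff_not_dvd.2
        (Nat.not_dvd_ordCompl Fact.out (orderOf_pos g).ne')).symm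
    obtain ⟨m, hm⟩ := exists_pow_eq_self_of_coprime hrcop
    have hwp : (g ^ r) ^ m ∈ pSet p G := by
      have h1 : orderOf ((g ^ r) ^ m) ∣ p ^ (orderOf g).factorization p := by
        refine orderOf_dvd_of_pow_eq_one ?_
        rw [← pow_mul, ← pow_mul, mul_comm m, ← mul_assoc, hr, Nat.div_mul_cancel (Nat.ordProj_dvd _ _),
          pow_mul, pow_orderOf_eq_one, one_pow]
      obtain ⟨i, -, hi⟩ := (Nat.dvd_prime_pow Fact.out).1 h1
      exact ⟨i, hi⟩
    obtain ⟨K, hK, hwK⟩ := hcov _ hwp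
    exact ⟨K, hK, (g ^ r) ^ m, hwK, by rw [map_pow, map_pow, hm]⟩
  obtain ⟨a, ha⟩ := hQ.exists_card_eq
  have hbound : ∀ K ∈ s, p * Nat.card (K.map π) ≤ Nat.card (G ⧸ commutator G) := by
    intro K hK
    have hne : K.map π ≠ ⊤ := by
      intro e
      apply hs K hK
      have h1 := congrArg (Subgroup.comap π) e
      rw [comap_map_eq, comap_top, hπ, QuotientGroup.ker_mk', sup_of_le_left (hder K hK)] at h1
      exact h1
    obtain ⟨i, hi⟩ := (Nat.dvd_prime_pow Fact.out).1 (ha ▸ (K.map π).index_dvd_card)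
    have h1 := (K.map π).card_mul_index
    rw [hi.2] at h1
    have : p ≤ p ^ i := Nat.le_of_dvd (pow_pos (Fact.out : p.Prime).pos i) (dvd_pow_self p (fun h0 => hne (index_eq_one.1 (by rw [hi.2, h0, pow_zero]))))
    calc p * Nat.card (K.map π) ≤ p ^ i * Nat.card (K.map π) := Nat.mul_le_mul_right _ this
      _ = _ := by rw [mul_comm, h1]
  letI : Fintype (G ⧸ commutator G) := Fintype.ofFinite _
  let M : Subgroup G → Finset (G ⧸ commutator G) := fun K => (Finset.univ.filter fun c => c ∈ K.map π).erase 1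
  have hsub : (Finset.univ : Finset (G ⧸ commutator G)).erase 1 ⊆ s.biUnion M := by
    intro c hc
    obtain ⟨K, hK, hcK⟩ := hcovQ c
    exact Finset.mem_biUnion.2 ⟨K, hK, Finset.mem_erase.2 ⟨(Finset.mem_erase.1 hc).1, Finset.mem_filter.2 ⟨Finset.mem_univ _, hcK⟩⟩⟩
  have hle := (Finset.card_le_card hsub).trans Finset.card_biUnion_le
  rw [Finset.card_erase_of_mem (Finset.mem_univ _), Finset.card_univ, ← Nat.card_eq_fintype_card] at hle
  have hM : ∀ K ∈ s, p * ((M K).card + 1) ≤ Nat.card (G ⧸ commutator G) := by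
    intro K hK
    have h1 : (1 : G ⧸ commutator G) ∈ Finset.univ.filter (fun c => c ∈ K.map π) :=
      Finset.mem_filter.2 ⟨Finset.mem_univ _, one_mem _⟩
    rw [Finset.card_erase_add_one h1]
    refine le_trans (le_of_eq ?_) (hbound K hK)
    rw [← Nat.subtype_card (Finset.univ.filter fun c => c ∈ K.map π) (fun c => Finset.mem_filter.trans (and_iff_right (Finset.mem_univ _)))]
  have hsum := Finset.sum_le_sum hM
  rw [Finset.sum_const, smul_eq_mul, ← Finset.mul_sum, Finset.sum_add_distrib, Finset.sum_const, smul_eq_mul, mul_one] at hsum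
  have hpos : 0 < s.card := Finset.card_pos.2 ⟨K₁, hK₁⟩
  have h2 := (Fact.out : p.Prime).two_le
  have hQ2 : 2 ≤ Nat.card (G ⧸ commutator G) := by
    have := hbound K₁ hK₁
    have := Nat.card_pos (α := K₁.map π)
    nlinarith
  set S := ∑ K ∈ s, (M K).card with hS
  set q := Nat.card (G ⧸ commutator G) with hq
  obtain ⟨q', hq'⟩ : ∃ q', q = q' + 1 := ⟨q - 1, by omega⟩
  rw [hq'] at hsum hle
  simp only [Nat.add_sub_cancel] at hle
  have h3 : p * q' + p * s.card ≤ p * (q' + 1) := by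
    nlinarith [Nat.mul_le_mul_left p hle, Nat.mul_le_mul_right (q' + 1) hcard]
  have h4 : s.card ≤ 1 := by
    have : p * s.card ≤ p * 1 := by linarith
    exact Nat.le_of_mul_le_mul_left this (Fact.out : p.Prime).pos
  obtain h5 : s.card = 1 := by omega
  rw [h5] at hsum
  nlinarith [Nat.mul_le_mul_left p hle]

end CfsgLib.ClassSizes.CoverPElements
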