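import Mathlib

/-!
# Coprime action on cyclic `p`-groups and cyclic extensions of central Sylow subgroups
-/

set_option autoImplicit false

namespace CfsgLib.ClassSizes.CyclicSylow

open Subgroup
open scoped Pointwise

variable {G : Type*} [Group G] [Finite G] {p : ℕ} [hp : Fact p.Prime]

/-- An element of order prime to `p` which normalizes a cyclic `p`-group and fixes its subgroup of order `p`
centralizes it. -/
theorem commute_of_fix_omega {x h : G} {n : ℕ} (hx : orderOf x = p ^ (n + 1)) (hn : h * x * h⁻¹ ∈ zpowers x)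
    (hcop : (orderOf h).Coprime p) (hfix : Commute h (x ^ p ^ n)) : Commute h x := by
  obtain ⟨i, hi⟩ := (mem_powers_iff_mem_zpowers).2 hn
  simp only at hi
  have hiter : ∀ j : ℕ, h ^ j * x * (h ^ j)⁻¹ = x ^ i ^ j := by
    intro j
    induction j with
    | zero => simp
    | succ j ih =>
      rw [pow_succ' h, show h * h ^ j * x * (h * h ^ j)⁻¹ = h * (h ^ j * x * (h ^ j)⁻¹) * h⁻¹ by group, ih,
        ← conj_pow, ← hi, ← pow_mul, pow_succ' i]
  have h1 : i ^ orderOf h ≡ 1 [MOD p ^ (n + 1)] := by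
    have h2 := hiter (orderOf h)
    rw [pow_orderOf_eq_one, one_mul, inv_one, mul_one] at h2
    rw [← hx, ← pow_eq_pow_iff_modEq, pow_one]
    exact h2.symm
  have h3 : i ≡ 1 [MOD p] := by
    have h4 : x ^ (p ^ n * i) = x ^ (p ^ n * 1) := by
      rw [mul_comm, pow_mul, hi, conj_pow, mul_one, hfix.eq, mul_inv_cancel_right]
    rw [pow_eq_pow_iff_modEq, hx, pow_succ] at h4
    exact Nat.ModEq.mul_left_cancel' (pow_ne_zero n hp.out.ne_zero) h4
  have h5 : i ^ p ^ n ≡ 1 [MOD p ^ (n + 1)] := by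
    have h6 := dvd_sub_pow_of_dvd_sub (R := ℤ) (p := p) (a := (i : ℤ)) (b := 1)
      (by simpa using (Nat.modEq_iff_dvd.1 h3.symm)) n
    rw [one_pow] at h6
    exact (Nat.modEq_iff_dvd.2 (by push_cast; exact h6)).symm
  have h7 : i ≡ 1 [MOD p ^ (n + 1)] := by
    rw [← ZMod.natCast_eq_natCast_iff] at h1 h5 ⊢
    push_cast at h1 h5 ⊢
    have := pow_gcd_eq_one.2 ⟨h1, h5⟩
    rwa [Nat.Coprime.gcd_eq_one (hcop.pow_right n), pow_one] at this
  have h8 : x ^ i = x := by
    conv_rhs => rw [← pow_one x]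
    rw [pow_eq_pow_iff_modEq, hx]
    exact h7
  exact mul_inv_eq_iff_eq_mul.1 (hi.symm.trans h8)

/-- An element of order prime to `p` which normalizes a cyclic `p`-subgroup and centralizes its elements of order
`p` centralizes it. -/
theorem commute_of_fix {S : Subgroup G} [IsCyclic S] (hS : IsPGroup p S) {h : G}
    (hn : h ∈ normalizer (S : Set G)) (hcop : (orderOf h).Coprime p)
    (hfix : ∀ w ∈ S, orderOf w = p → Commute h w) : ∀ s ∈ S, Commute h s := by
  obtain ⟨x, hx⟩ := (Subgroup.isCyclic_iff_exists_zpowers_eq_top S).1 inferInstance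
  have hxS : x ∈ S := hx ▸ mem_zpowers x
  obtain ⟨k, hk⟩ := IsPGroup.iff_orderOf.1 hS ⟨x, hxS⟩
  rw [Subgroup.orderOf_mk] at hk
  have hcx : Commute h x := by
    rcases Nat.eq_zero_or_pos k with rfl | hk0
    · rw [pow_zero, orderOf_eq_one_iff] at hk
      rw [hk]
      exact Commute.one_right h
    obtain ⟨n, rfl⟩ := Nat.exists_eq_succ_of_ne_zero hk0.ne'
    refine commute_of_fix_omega hk ?_ hcop (hfix _ (pow_mem hxS _) ?_)
    · rw [hx]
      exact (mem_normalizer_iff.1 hn x).1 hxS
    · rw [orderOf_pow, hk, Nat.gcd_eq_right (pow_dvd_pow p n.le_succ), Nat.pow_succ, Nat.mul_div_cancel_left _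
        (pow_pos hp.out.pos n)]
  intro s hs
  rw [← hx, mem_zpowers_iff] at hs
  obtain ⟨i, rfl⟩ := hs
  exact hcx.zpow_right i

/-- A group with a central cyclic Sylow subgroup and cyclic quotient is cyclic. -/
theorem isCyclic_of_central (S : Sylow p G) [(S : Subgroup G).Normal] [IsCyclic (S : Subgroup G)]
    (hc : (S : Subgroup G) ≤ center G) [hQ : IsCyclic (G ⧸ (S : Subgroup G))] : IsCyclic G := by
  obtain ⟨x, hx⟩ := (Subgroup.isCyclic_iff_exists_zpowers_eq_top (S : Subgroup G)).1 inferInstance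
  obtain ⟨y', hy⟩ := hQ.exists_ofOrder_eq_natCard
  obtain ⟨y, rfl⟩ := QuotientGroup.mk_surjective y'
  set o := (S : Subgroup G).index
  have hcop : (Nat.card (S : Subgroup G)).Coprime o := S.card_coprime_index
  have hy' : orderOf (y ^ Nat.card (S : Subgroup G)) = o := by
    refine Nat.dvd_antisymm (orderOf_dvd_of_pow_eq_one ?_) ?_
    · rw [← pow_mul, card_mul_index, pow_card_eq_one']
    · have h1 : orderOf ((y : G ⧸ (S : Subgroup G)) ^ Nat.card (S : Subgroup G)) = o := by
        rw [Nat.Coprime.orderOf_pow, hy, ← index_eq_card]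
        rw [hy, ← index_eq_card]
        exact hcop.symm
      rw [← h1, ← QuotientGroup.mk_pow]
      exact orderOf_map_dvd (QuotientGroup.mk' (S : Subgroup G)) _
  have hxc : Commute x (y ^ Nat.card (S : Subgroup G)) :=
    (mem_center_iff.1 (hc (hx ▸ mem_zpowers x)) _).symm
  refine isCyclic_of_orderOf_eq_card (x * y ^ Nat.card (S : Subgroup G)) ?_
  have hxo : orderOf x = Nat.card (S : Subgroup G) := by rw [← Nat.card_zpowers, hx]
  rw [hxc.orderOf_mul_eq_mul_orderOf_of_coprime (by rw [hxo, hy']; exact hcop), hxo, hy', card_mul_index]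

/-- A normal `p`-subgroup of index prime to `p` is the only Sylow subgroup. -/
theorem sylow_eq_of_normal {H : Type*} [Group H] [Finite H] (A : Subgroup H) [A.Normal] (hA : IsPGroup p A)
    (hi : ¬ p ∣ A.index) (S : Sylow p H) : (S : Subgroup H) = A := by
  have hA' : ((hA.toSylow hi : Sylow p H) : Subgroup H).Normal := by
    rw [hA.toSylow_coe]; infer_instance
  haveI := Sylow.unique_of_normal (hA.toSylow hi) hA'
  rw [Subsingleton.elim S (hA.toSylow hi), hA.toSylow_coe]

end CfsgLib.ClassSizes.CyclicSylow
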