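import Mathlib
import Cfsg.Agent.Lib.ClassSizes.Basic
import Cfsg.Prelude.Def_Local
import Cfsg.Agent.Lib.Core.Cores
import Cfsg.Agent.Lib.Transfer.PResidual

/-!
A normal subgroup on both sides of a cyclic Sylow subgroup is `p`-nilpotent, and the group is `p`-solvable.
-/

set_option linter.style.haveILetI false

namespace CfsgLib.ClassSizes

open Subgroup
open scoped Pointwise

variable {G : Type*} [Group G] [Finite G] {p : ℕ} [Fact p.Prime]

/-- An element normalising a cyclic Sylow subgroup and fixing it modulo `p` centralises it. -/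
theorem mem_centralizer_of_congr (P : Sylow p G) {x g : G} (hx : Subgroup.zpowers x = (P : Subgroup G))
    (hg : g ∈ normalizer ((P : Subgroup G) : Set G)) {i : ℤ} (hi : g * x * g⁻¹ = x ^ i)
    (hpi : (p : ℤ) ∣ i - 1) : g ∈ centralizer ((P : Subgroup G) : Set G) := by
  have hp := (Fact.out : p.Prime)
  obtain ⟨a, ha⟩ : ∃ a, orderOf x = p ^ a := by
    obtain ⟨a, ha⟩ := IsPGroup.iff_card.1 P.isPGroup'
    exact ⟨a, by rw [← ha, ← hx, Nat.card_zpowers]⟩
  have hpow : ∀ m : ℕ, g ^ m * x * (g ^ m)⁻¹ = x ^ (i ^ m) := by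
    intro m
    induction m with
    | zero => simp
    | succ m ih =>
      calc g ^ (m + 1) * x * (g ^ (m + 1))⁻¹ = g * (g ^ m * x * (g ^ m)⁻¹) * g⁻¹ := by rw [pow_succ']; group
        _ = x ^ (i ^ (m + 1)) := by rw [ih, ← conj_zpow, hi, ← zpow_mul, pow_succ']
  have hmem : ∀ h : G, h * x = x * h → h ∈ centralizer ((P : Subgroup G) : Set G) := by
    intro h hh
    rw [← hx, mem_centralizer_iff]
    rintro y hy
    obtain ⟨n, rfl⟩ := mem_zpowers_iff.1 hy
    exact ((show Commute h x from hh).zpow_right n).eq.symm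
  have h1 : g ^ p ^ a ∈ centralizer ((P : Subgroup G) : Set G) := by
    refine hmem _ (mul_inv_eq_iff_eq_mul.1 ?_)
    rw [hpow]
    have hd : (orderOf x : ℤ) ∣ i ^ p ^ a - 1 := by
      rw [ha]
      have h := dvd_sub_pow_of_dvd_sub (R := ℤ) (a := i) (b := 1) hpi a
      rw [one_pow] at h
      refine dvd_trans ?_ h
      push_cast
      exact pow_dvd_pow _ (Nat.le_succ a)
    conv_rhs => rw [← zpow_one x]
    rw [zpow_eq_zpow_iff_modEq, Int.modEq_comm, Int.modEq_iff_dvd]
    exact hd
  obtain ⟨A, m, hm, hgm⟩ := Nat.exists_eq_pow_mul_and_not_dvd (orderOf_pos g).ne' p hp.one_lt.ne'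
  have h2 : g ^ m ∈ centralizer ((P : Subgroup G) : Set G) := by
    have hm0 : m ≠ 0 := fun h => hm (h ▸ dvd_zero p)
    have hz : IsPGroup p (Subgroup.zpowers (g ^ m)) := IsPGroup.of_card (n := A) (by
      rw [Nat.card_zpowers, orderOf_pow_of_dvd hm0 (hgm ▸ dvd_mul_left _ _), hgm,
        Nat.mul_div_cancel _ (Nat.pos_of_ne_zero hm0)])
    have hle : Subgroup.zpowers (g ^ m) ≤ (P : Subgroup G) := by
      have h : Subgroup.zpowers (g ^ m) ⊓ normalizer ((P : Subgroup G) : Set G) =
          Subgroup.zpowers (g ^ m) ⊓ P := hz.inf_normalizer_sylow P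
      rw [inf_eq_left.2 (zpowers_le.2 (Subgroup.pow_mem _ hg m))] at h
      exact h.le.trans inf_le_right
    refine hmem _ ?_
    have hgx : g ^ m ∈ Subgroup.zpowers x := hx ▸ hle (mem_zpowers _)
    obtain ⟨n, hn⟩ := mem_zpowers_iff.1 hgx
    rw [← hn]
    exact ((Commute.refl x).zpow_left n).eq
  have hco : Nat.Coprime (p ^ a) m := (hp.coprime_iff_not_dvd.2 hm).pow_left a
  obtain ⟨u, v, huv⟩ := Nat.Coprime.isCoprime hco
  have he : g = (g ^ p ^ a) ^ u * (g ^ m) ^ v := by
    rw [← zpow_natCast, ← zpow_natCast, ← zpow_mul, ← zpow_mul, ← zpow_add, mul_comm ((p ^ a : ℕ) : ℤ),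
      mul_comm ((m : ℕ) : ℤ), huv, zpow_one]
  rw [he]
  exact mul_mem (Subgroup.zpow_mem _ h1 u) (Subgroup.zpow_mem _ h2 v)

/-- The normal `p`-complement is the `p'`-core. -/
theorem exists_index_pPrimeCore (h : Cfsg.HasNormalPComplement p G) :
    ∃ k, (Cfsg.pPrimeCore p G).index = p ^ k := by
  obtain ⟨P, N, hN, hc⟩ := h
  obtain ⟨k, hk⟩ := IsPGroup.iff_card.1 P.isPGroup'
  have hle : N ≤ Cfsg.pPrimeCore p G :=
    CfsgLib.Core.le_pPrimeCore (CfsgLib.Transfer.coprime_card_of_isComplement' hc)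
  have hd := Subgroup.index_dvd_of_le hle
  rw [hc.symm.index_eq_card, hk] at hd
  obtain ⟨j, -, hj⟩ := (Nat.dvd_prime_pow (Fact.out : p.Prime)).1 hd
  exact ⟨j, hj⟩

theorem cyclicSylow_main (P : Sylow p G) (hP : IsCyclic (P : Subgroup G)) (H : Subgroup G) [H.Normal]
    (h1 : p ∣ Nat.card H) (h2 : p ∣ H.index) :
    Cfsg.HasNormalPComplement p H ∧ Cfsg.IsPSolvable p G := by
  have hp := (Fact.out : p.Prime)
  obtain ⟨⟨x, hxP⟩, hgen⟩ := hP.exists_generator
  have hx : Subgroup.zpowers x = (P : Subgroup G) := by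
    refine le_antisymm (zpowers_le.2 hxP) fun y hy => ?_
    obtain ⟨n, hn⟩ := mem_zpowers_iff.1 (hgen ⟨y, hy⟩)
    exact ⟨n, congrArg Subtype.val hn⟩
  obtain ⟨a, ha⟩ : ∃ a, orderOf x = p ^ a := by
    obtain ⟨a, ha⟩ := IsPGroup.iff_card.1 P.isPGroup'
    exact ⟨a, by rw [← ha, ← hx, Nat.card_zpowers]⟩
  set P0 := (P : Subgroup G) ⊓ H with hP0
  have hidx : ¬ p ∣ (P : Subgroup G).relIndex H := fun h =>
    P.not_dvd_index (h.trans (relIndex_dvd_index_of_normal_right H _))
  have hP0H : IsPGroup p (P0.subgroupOf H) := (P.isPGroup'.to_le inf_le_left).comap_subtype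
  have hidx0 : ¬ p ∣ (P0.subgroupOf H).index := by
    rw [← Subgroup.relIndex, hP0, inf_relIndex_right]
    exact hidx
  have hne : P0 ≠ ⊥ := by
    intro h
    apply hidx0
    rw [h, bot_subgroupOf, index_bot]
    exact h1
  have hnle : ¬ (P : Subgroup G) ≤ H := fun h => P.not_dvd_index (h2.trans (index_dvd_of_le h))
  have hxH : x ∉ H := fun h => hnle (hx ▸ zpowers_le.2 h)
  -- elements of `P0` are `p`th powers of the generator
  have hP0pow : ∀ j : ℤ, x ^ j ∈ H → (p : ℤ) ∣ j := by
    intro j hj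
    by_contra hnd
    apply hxH
    have hco : IsCoprime ((p : ℤ) ^ a) j :=
      ((Nat.prime_iff_prime_int.1 hp).coprime_iff_not_dvd.2 hnd).pow_left
    obtain ⟨u, v, huv⟩ := hco
    have he : x = (x ^ j) ^ v := by
      conv_lhs => rw [← zpow_one x, ← huv, zpow_add, mul_comm u, zpow_mul,
        show ((p : ℤ) ^ a) = ((p ^ a : ℕ) : ℤ) by push_cast; ring, zpow_natCast, ← ha, pow_orderOf_eq_one,
        one_zpow, one_mul, mul_comm v, zpow_mul]
    rw [he]
    exact H.zpow_mem hj v
  set N := normalizer (P0 : Set G) with hNdef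
  set C := centralizer (P0 : Set G) with hCdef
  have hPC : (P : Subgroup G) ≤ C := by
    intro y hy
    rw [hCdef, mem_centralizer_iff]
    rintro z hz
    have hy' : y ∈ Subgroup.zpowers x := hx ▸ hy
    have hz' : z ∈ Subgroup.zpowers x := hx ▸ (show z ∈ P0 from hz).1
    obtain ⟨m, rfl⟩ := mem_zpowers_iff.1 hy'
    obtain ⟨n, rfl⟩ := mem_zpowers_iff.1 hz'
    rw [← zpow_add, ← zpow_add, add_comm]
  have hCN : C ≤ N := centralizer_le_normalizer _
  haveI hCn : (C.subgroupOf N).Normal := by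
    have h := (inferInstance : (Subgroup.normalizerMonoidHom P0).ker.Normal)
    rwa [Subgroup.normalizerMonoidHom_ker] at h
  -- Burnside in `H`
  let PH : Sylow p H := hP0H.toSylow hidx0
  have hBH : ∀ h ∈ H, h ∈ N → h ∈ C := by
    intro h hhH hhN
    set D := (P : Subgroup G) ⊔ (C ⊓ H) with hD
    have hconjP : MulAut.conj h • (P : Subgroup G) ≤ D := by
      intro y hy
      rw [Subgroup.mem_smul_pointwise_iff_exists] at hy
      obtain ⟨z, hz, rfl⟩ := hy
      rw [← hx] at hz
      obtain ⟨k, rfl⟩ := mem_zpowers_iff.1 hz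
      rw [MulAut.smul_def, map_zpow]
      refine D.zpow_mem ?_ k
      change h * x * h⁻¹ ∈ D
      have hm : h * x * h⁻¹ * x⁻¹ ∈ C ⊓ H := by
        refine mem_inf.2 ⟨mul_mem ?_ (inv_mem (hPC hxP)), ?_⟩
        · exact hCn.conj_mem ⟨x, hCN (hPC hxP)⟩ (hPC hxP) ⟨h, hhN⟩
        · rw [mul_assoc, mul_assoc]
          refine mul_mem hhH ?_
          rw [← mul_assoc]
          exact (inferInstance : H.Normal).conj_mem _ (inv_mem hhH) x
      have : h * x * h⁻¹ = (h * x * h⁻¹ * x⁻¹) * x := by group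
      rw [this]
      exact mul_mem (mem_sup_right hm) (mem_sup_left hxP)
    have hle : ((h • P : Sylow p G) : Subgroup G) ≤ D := hconjP
    obtain ⟨d, hd⟩ := MulAction.exists_smul_eq D ((h • P).subtype hle) (P.subtype (le_sup_left : (P : Subgroup G) ≤ D))
    rw [Sylow.smul_subtype] at hd
    have hd' : (d : G) • (h • P) = P := Sylow.subtype_injective hd
    obtain ⟨y, hy, c, hc, hyc⟩ : ∃ y ∈ (P : Subgroup G), ∃ c ∈ C ⊓ H, y * c = (d : G) := by
      have hPn : (P : Subgroup G) ≤ normalizer ((C ⊓ H : Subgroup G) : Set G) := by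
        intro y hy
        rw [mem_normalizer_iff]
        intro c
        have e : y * c * y⁻¹ ∈ H ↔ c ∈ H := (‹H.Normal›.mem_comm_iff).trans (by rw [inv_mul_cancel_left])
        simp only [mem_inf, e, C.mul_mem_cancel_right (inv_mem (hPC hy)), C.mul_mem_cancel_left (hPC hy)]
      have hd2 : (d : G) ∈ D := d.2
      generalize (d : G) = d' at hd2 ⊢
      rw [hD, ← SetLike.mem_coe, Subgroup.coe_mul_of_left_le_normalizer_right _ _ hPn] at hd2
      exact hd2
    have hn : c * h ∈ normalizer ((P : Subgroup G) : Set G) := by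
      refine Sylow.smul_eq_iff_mem_normalizer.1 ?_
      rw [mul_smul]
      have hy' : y • P = P := Sylow.smul_eq_iff_mem_normalizer.2 (le_normalizer hy)
      rw [← hyc, mul_smul] at hd'
      calc c • h • P = y⁻¹ • (y • c • h • P) := (inv_smul_smul y _).symm
        _ = y⁻¹ • P := by rw [hd']
        _ = P := by conv_lhs => rw [← hy', inv_smul_smul]
    have hnH : c * h ∈ H := mul_mem hc.2 hhH
    have hmem := (mem_normalizer_iff.1 hn x).1 hxP
    rw [← SetLike.mem_coe, ← hx, SetLike.mem_coe] at hmem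
    obtain ⟨i, hi⟩ := mem_zpowers_iff.1 hmem
    have hpi : (p : ℤ) ∣ i - 1 := by
      refine hP0pow _ ?_
      rw [zpow_sub_one, hi, mul_assoc, mul_assoc]
      refine mul_mem hnH ?_
      rw [← mul_assoc]
      exact (inferInstance : H.Normal).conj_mem _ (inv_mem hnH) x
    have hcc := mem_centralizer_of_congr P hx hn hi.symm hpi
    have hch : c * h ∈ C := centralizer_le (fun z hz => (show z ∈ P0 from hz).1) hcc
    exact (C.mul_mem_cancel_left hc.1).1 hch
  have hHcomp : Cfsg.HasNormalPComplement p H := by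
    refine ⟨PH, _, MonoidHom.normal_ker _, MonoidHom.ker_transferSylow_isComplement' PH ?_⟩
    intro h hh
    have hmem : ∀ z : H, z ∈ (PH : Subgroup H) ↔ (z : G) ∈ P0 := fun z => by
      simp only [PH, IsPGroup.toSylow_coe, mem_subgroupOf]
    have hN' : (h : G) ∈ N := by
      rw [hNdef, mem_normalizer_iff]
      intro z
      constructor
      · intro hz
        exact (hmem _).1 ((mem_normalizer_iff.1 hh ⟨z, hz.2⟩).1 ((hmem _).2 hz))
      · intro hz
        have hzH : z ∈ H := by
          have := mul_mem (mul_mem (inv_mem h.2) hz.2) h.2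
          simpa [mul_assoc] using this
        exact (hmem ⟨z, hzH⟩).1 ((mem_normalizer_iff.1 hh ⟨z, hzH⟩).2 ((hmem _).2 hz))
    rw [mem_centralizer_iff]
    intro z hz
    apply Subtype.ext
    exact mem_centralizer_iff.1 (hBH h h.2 hN') z ((hmem z).1 hz)
  refine ⟨hHcomp, ?_⟩
  -- Burnside in `C`
  have hCcomp : Cfsg.HasNormalPComplement p C := by
    refine ⟨P.subtype hPC, _, MonoidHom.normal_ker _, MonoidHom.ker_transferSylow_isComplement' (P.subtype hPC) ?_⟩
    intro g hg
    have hmem : ∀ z : C, z ∈ (P.subtype hPC : Subgroup C) ↔ (z : G) ∈ (P : Subgroup G) := fun z => by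
      rw [Sylow.coe_subtype, mem_subgroupOf]
    have hgN : (g : G) ∈ normalizer ((P : Subgroup G) : Set G) := by
      rw [mem_normalizer_iff]
      intro z
      constructor
      · intro hz
        exact (hmem _).1 ((mem_normalizer_iff.1 hg ⟨z, hPC hz⟩).1 ((hmem _).2 hz))
      · intro hz
        have hzC : z ∈ C := by
          have := mul_mem (mul_mem (inv_mem g.2) (hPC hz)) g.2
          simpa [mul_assoc] using this
        exact (hmem ⟨z, hzC⟩).1 ((mem_normalizer_iff.1 hg ⟨z, hzC⟩).2 ((hmem _).2 hz))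
    have hm' := (mem_normalizer_iff.1 hgN x).1 hxP
    rw [← SetLike.mem_coe, ← hx, SetLike.mem_coe] at hm'
    obtain ⟨i, hi⟩ := mem_zpowers_iff.1 hm'
    obtain ⟨z, hz, hz1⟩ := (bot_or_exists_ne_one P0).resolve_left hne
    obtain ⟨j, rfl⟩ := mem_zpowers_iff.1 (hx ▸ (mem_inf.1 hz).1 : z ∈ Subgroup.zpowers x)
    have hpi : (p : ℤ) ∣ i - 1 := by
      by_contra hnd
      apply hz1
      have hfix : x ^ (i * j) = x ^ j := by
        rw [zpow_mul, hi, conj_zpow]
        exact mul_inv_eq_iff_eq_mul.2 (mem_centralizer_iff.1 g.2 _ hz).symm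
      have hd : (orderOf x : ℤ) ∣ (i - 1) * j := by
        rw [sub_mul, one_mul]
        exact Int.modEq_iff_dvd.1 (zpow_eq_zpow_iff_modEq.1 hfix.symm)
      rw [← orderOf_dvd_iff_zpow_eq_one]
      refine IsCoprime.dvd_of_dvd_mul_left ?_ hd
      rw [ha]
      push_cast
      exact ((Nat.prime_iff_prime_int.1 hp).coprime_iff_not_dvd.2 hnd).pow_left
    have hcc := mem_centralizer_of_congr P hx hgN hi.symm hpi
    rw [mem_centralizer_iff]
    intro y hy
    exact Subtype.ext (mem_centralizer_iff.1 hcc y ((hmem y).1 hy))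
  obtain ⟨k1, hk1⟩ := exists_index_pPrimeCore hHcomp
  obtain ⟨k2, hk2⟩ := exists_index_pPrimeCore hCcomp
  set K := (Cfsg.pPrimeCore p H).map H.subtype with hK
  set Kc := (Cfsg.pPrimeCore p C).map C.subtype with hKc
  haveI hKn : K.Normal := ConjAct.normal_of_characteristic_of_normal
  have hKH : K ≤ H := map_subtype_le _
  have hKcC : Kc ≤ C := map_subtype_le _
  -- Frattini argument
  have hNH : N ⊔ H = ⊤ := by
    have h := Sylow.normalizer_sup_eq_top PH
    have e : (PH : Subgroup H).map H.subtype = P0 := by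
      rw [IsPGroup.toSylow_coe, subgroupOf_map_subtype, inf_eq_left.2 inf_le_right]
    rw [show (PH.map H.subtype) = P0 from e] at h
    exact h
  have normal_sup : ∀ S : Subgroup G, N ≤ normalizer (S : Set G) → (H ⊔ S).Normal := by
    intro S hS
    rw [← normalizer_eq_top_iff, eq_top_iff, ← hNH]
    refine sup_le ?_ (le_trans le_sup_left le_normalizer)
    refine le_trans (le_inf ?_ hS) (normalizer_inf_normalizer_le_normalizer_sup H S)
    rw [normalizer_eq_top_iff.2 (inferInstance : H.Normal)]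
    exact le_top
  have hNC : N ≤ normalizer (C : Set G) := by
    have := hCn
    exact (normal_subgroupOf_iff_le_normalizer hCN).1 this
  have hNKc : N ≤ normalizer (Kc : Set G) := by
    intro n hn
    have hCm : C.map (MulAut.conj n).toMonoidHom = C := by
      have h := mem_normalizer_iff.1 (hNC hn)
      ext y
      rw [mem_map]
      constructor
      · rintro ⟨z, hz, rfl⟩; exact (h z).1 hz
      · intro hy
        refine ⟨n⁻¹ * y * n, (h _).2 ?_, ?_⟩
        · convert hy using 1; group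
        · change n * (n⁻¹ * y * n) * n⁻¹ = y; group
    let e : C ≃* C := ((MulAut.conj n).subgroupMap C).trans (MulEquiv.subgroupCongr hCm)
    have he : ∀ z : C, (e z : G) = n * z * n⁻¹ := fun z => rfl
    have hchar : (Cfsg.pPrimeCore p C).map e.toMonoidHom = Cfsg.pPrimeCore p C :=
      Subgroup.characteristic_iff_map_eq.1 inferInstance e
    rw [mem_normalizer_iff]
    intro y
    constructor
    · rintro ⟨z, hz, rfl⟩
      exact ⟨e z, hchar ▸ mem_map_of_mem _ hz, he z⟩
    · rintro ⟨z, hz, hzy⟩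
      rw [SetLike.mem_coe, ← hchar] at hz
      obtain ⟨w, hw, rfl⟩ := hz
      refine ⟨w, hw, ?_⟩
      change ((e w : C) : G) = _ at hzy
      rw [he] at hzy
      exact mul_left_cancel (mul_right_cancel hzy)
  haveI hLn : (H ⊔ Kc).Normal := normal_sup Kc hNKc
  haveI hMn : (H ⊔ C).Normal := normal_sup C hNC
  have hcop : ∀ (L : Subgroup G), (Nat.card ((Cfsg.pPrimeCore p L).map L.subtype)).Coprime p := fun L => by
    rw [Nat.card_congr (Subgroup.equivMapOfInjective _ _ L.subtype_injective).toEquiv.symm]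
    exact CfsgLib.Core.coprime_card_pPrimeCore p L
  refine ⟨5, ![⊥, K, H, H ⊔ Kc, H ⊔ C, ⊤], rfl, rfl, ?_, ?_, ?_⟩
  · refine Fin.monotone_iff_le_succ.2 fun i => ?_
    fin_cases i
    exacts [bot_le, hKH, le_sup_left, sup_le_sup_left hKcC H, le_top]
  · intro i
    fin_cases i
    exacts [inferInstanceAs (⊥ : Subgroup G).Normal, hKn, ‹H.Normal›, hLn, hMn,
      inferInstanceAs (⊤ : Subgroup G).Normal]
  · intro i
    fin_cases i
    · right
      change ((⊥ : Subgroup G).relIndex K).Coprime p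
      rw [relIndex_bot_left]
      exact hcop H
    · left
      refine ⟨k1, ?_⟩
      change K.relIndex H = _
      rw [hK, Subgroup.relIndex, subgroupOf, comap_map_eq_self_of_injective H.subtype_injective, hk1]
    · right
      change (H.relIndex (H ⊔ Kc)).Coprime p
      rw [sup_comm, relIndex_sup_right]
      exact (hcop C).coprime_dvd_left (H.relIndex_dvd_card Kc)
    · left
      change ∃ m, (H ⊔ Kc).relIndex (H ⊔ C) = p ^ m
      have e : H ⊔ C = C ⊔ (H ⊔ Kc) := by
        apply le_antisymm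
        · exact sup_le (le_trans le_sup_left le_sup_right) le_sup_left
        · exact sup_le le_sup_right (sup_le_sup_left hKcC H)
      rw [e, relIndex_sup_right]
      have hd : (H ⊔ Kc).relIndex C ∣ p ^ k2 := by
        refine (relIndex_dvd_of_le_left C (le_sup_right : Kc ≤ H ⊔ Kc)).trans ?_
        rw [hKc, Subgroup.relIndex, subgroupOf, comap_map_eq_self_of_injective C.subtype_injective, hk2]
      obtain ⟨j, -, hj⟩ := (Nat.dvd_prime_pow hp).1 hd
      exact ⟨j, hj⟩
    · right
      change ((H ⊔ C).relIndex ⊤).Coprime p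
      rw [relIndex_top_right]
      exact ((hp.coprime_iff_not_dvd).2 fun h =>
        P.not_dvd_index (h.trans (index_dvd_of_le (hPC.trans le_sup_right)))).symm

end CfsgLib.ClassSizes
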