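import Mathlib
import Cfsg.Agent.Lib.PGroups.PolyMap

/-!
Linearisation of polynomial sequences and the `(p-1)`-Engel property of groups of exponent `p`
and class at most `p` (`lowerCentralSeries p = ⊥`).
-/

set_option autoImplicit false

namespace CfsgLib.ClassSizes

open Subgroup CfsgLib.PGroups
open scoped commutatorElement

variable {G : Type*} [Group G]

/-- one step of iterated commutation with `s` -/
def stepComm (s c : G) : G := c⁻¹ * (s⁻¹ * c * s)

/-- iterated commutator `[c, s, ..., s]` -/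
def iterComm (s c : G) (j : ℕ) : G := (stepComm s)^[j] c

theorem stepComm_eq (s c : G) : stepComm s c = ⁅c⁻¹, s⁻¹⁆ := by
  simp [stepComm, commutatorElement_def, mul_assoc]

theorem iterComm_succ (s c : G) (j : ℕ) : iterComm s c (j + 1) = stepComm s (iterComm s c j) :=
  Function.iterate_succ_apply' _ _ _

theorem map_stepComm {H : Type*} [Group H] (φ : G →* H) (s c : G) :
    φ (stepComm s c) = stepComm (φ s) (φ c) := by simp [stepComm]

theorem map_iterComm {H : Type*} [Group H] (φ : G →* H) (s c : G) (j : ℕ) :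
    φ (iterComm s c j) = iterComm (φ s) (φ c) j := by
  induction j with
  | zero => rfl
  | succ j ih => rw [iterComm_succ, iterComm_succ, map_stepComm, ih]

theorem stepComm_mem {s c : G} {j : ℕ} (h : c ∈ (⊤ : Subgroup G).lowerCentralSeries j) :
    stepComm s c ∈ (⊤ : Subgroup G).lowerCentralSeries (j + 1) := by
  rw [stepComm_eq, Subgroup.lowerCentralSeries_succ]
  exact Subgroup.commutator_mem_commutator (inv_mem h) (mem_top _)

theorem iterComm_mem {s c : G} {i : ℕ} (h : c ∈ (⊤ : Subgroup G).lowerCentralSeries i) (j : ℕ) :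
    iterComm s c j ∈ (⊤ : Subgroup G).lowerCentralSeries (i + j) := by
  induction j with
  | zero => exact h
  | succ j ih => rw [iterComm_succ]; exact stepComm_mem ih

/-- the sequence of conjugates -/
def conjSeq (s w : G) : ℕ → G := fun k => (s ^ k)⁻¹ * w * s ^ k

theorem seqDiff_conjSeq (s w : G) : seqDiff (conjSeq s w) = conjSeq s (stepComm s w) := by
  funext k
  simp only [seqDiff, conjSeq, stepComm, pow_succ']
  group

theorem iterate_seqDiff_conjSeq (s w : G) (j : ℕ) :
    seqDiff^[j] (conjSeq s w) = conjSeq s (iterComm s w j) := by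
  induction j with
  | zero => rfl
  | succ j ih => rw [Function.iterate_succ_apply', ih, seqDiff_conjSeq, iterComm_succ]

/-- `k ↦ ((s x)^k)⁻¹ s^k` -/
def prodSeq (s x : G) : ℕ → G := fun k => ((s * x) ^ k)⁻¹ * s ^ k

theorem seqDiff_prodSeq (s x : G) : seqDiff (prodSeq s x) = conjSeq s x⁻¹ := by
  funext k
  simp only [seqDiff, prodSeq, conjSeq, pow_succ]
  rw [← pow_succ, pow_succ']
  group

theorem map_seqDiff {H : Type*} [Group H] (φ : G →* H) (f : ℕ → G) :
    seqDiff (fun n => φ (f n)) = fun n => φ (seqDiff f n) := by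
  funext n; simp [seqDiff]

theorem map_seqDiff_iterate {H : Type*} [Group H] (φ : G →* H) (f : ℕ → G) (k : ℕ) :
    seqDiff^[k] (fun n => φ (f n)) = fun n => φ (seqDiff^[k] f n) := by
  induction k with
  | zero => rfl
  | succ k ih => rw [Function.iterate_succ_apply', Function.iterate_succ_apply', ih, map_seqDiff]

theorem seqDiff_iterate_choose (c : G) : ∀ k j : ℕ, j ≤ k →
    seqDiff^[j] (fun n => c ^ n.choose k) = fun n => c ^ n.choose (k - j) := by
  intro k j
  induction j with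
  | zero => intro _; simp
  | succ j ih =>
    intro hj
    rw [Function.iterate_succ_apply', ih (by omega)]
    funext n
    obtain ⟨i, hi⟩ : ∃ i, k - j = i + 1 := ⟨k - j - 1, by omega⟩
    rw [hi, show k - (j + 1) = i by omega]
    simp only [seqDiff]
    rw [Nat.choose_succ_succ', add_comm (n.choose i), pow_add, inv_mul_cancel_left]

theorem seqDiff_iterate_choose_eq_one (c : G) {k j : ℕ} (hj : k < j) :
    seqDiff^[j] (fun n => c ^ n.choose k) = fun _ => 1 := by
  obtain ⟨i, rfl⟩ : ∃ i, j = i + 1 + k := ⟨j - k - 1, by omega⟩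
  rw [Function.iterate_add_apply, seqDiff_iterate_choose c k k le_rfl,
    Function.iterate_succ_apply]
  have : seqDiff (fun n : ℕ => c ^ n.choose (k - k)) = fun _ => 1 := by
    funext n; simp [seqDiff]
  rw [this, Function.iterate_fixed seqDiff_one]

theorem apply_eq_iterate : ∀ (k : ℕ) (f : ℕ → G), (∀ i < k, f i = 1) → f k = seqDiff^[k] f 0 := by
  intro k
  induction k with
  | zero => intro f _; rfl
  | succ k ih =>
    intro f hf
    rw [Function.iterate_succ_apply, ← ih (seqDiff f) (fun i hi => by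
      simp [seqDiff, hf i (by omega), hf (i + 1) (by omega)])]
    simp [seqDiff, hf k (by omega)]

variable [Finite G] {Φ : ℕ → Subgroup G} {N : ℕ}

omit [Finite G] in
theorem isPolySeq_const (_hΦ : IsCommFiltration Φ N) {c : G} {d : ℕ} (hc : c ∈ Φ d) :
    IsPolySeq Φ d (fun _ => c) := by
  refine isPolySeq_of (fun _ => hc) ?_
  have : seqDiff (fun _ : ℕ => c) = fun _ => 1 := by funext n; simp [seqDiff]
  rw [this]
  exact isPolySeq_one Φ _

/-- iterated differences are additive modulo the next layer (degree `≥ 1`) -/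
theorem diff_mul_mod (hΦ : IsCommFiltration Φ N) (hn : ∀ d, (Φ d).Normal) :
    ∀ k d, 1 ≤ d → ∀ f g : ℕ → G, IsPolySeq Φ d f → IsPolySeq Φ d g → ∀ n,
      ((seqDiff^[k] (f * g) n : G) : G ⧸ Φ (d + k + 1)) =
        ((seqDiff^[k] f n * seqDiff^[k] g n : G) : G ⧸ Φ (d + k + 1)) := by
  intro k
  induction k with
  | zero => intros; rfl
  | succ k ih =>
    intro d hd f g hf hg n
    let w : ℕ → G := fun n => ⁅(seqDiff f n)⁻¹, (g n)⁻¹⁆
    have hw' : IsPolySeq Φ (d + 1 + d) w :=
      (polyClosed hΦ (d + 1 + d)).comm (d + 1) d _ _ rfl (hf.diff.inv hΦ) (hg.inv hΦ)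
    have hw : IsPolySeq Φ (d + 1) w := hw'.mono hΦ (by omega)
    have e : seqDiff (f * g) = seqDiff f * (w * seqDiff g) := by
      funext i
      simp only [w, seqDiff, Pi.mul_apply, commutatorElement_def]
      group
    have hidx : d + (k + 1) + 1 = d + 1 + k + 1 := by omega
    simp only [Function.iterate_succ_apply, e]
    rw [hidx]
    have h1 := ih (d + 1) (by omega) _ _ hf.diff (hw.mul hΦ hg.diff) n
    have h2 := ih (d + 1) (by omega) _ _ hw hg.diff n
    have := hn (d + 1 + k + 1)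
    rw [h1, QuotientGroup.mk_mul, h2, QuotientGroup.mk_mul, QuotientGroup.mk_mul]
    have hwz : ((seqDiff^[k] w n : G) : G ⧸ Φ (d + 1 + k + 1)) = 1 :=
      (QuotientGroup.eq_one_iff _).2 (hΦ.anti (by omega) (hw' k n))
    rw [hwz, one_mul]

theorem diff_inv_mod (hΦ : IsCommFiltration Φ N) (hn : ∀ d, (Φ d).Normal) {k d : ℕ} (hd : 1 ≤ d)
    {f : ℕ → G} (hf : IsPolySeq Φ d f) (n : ℕ) :
    ((seqDiff^[k] f⁻¹ n : G) : G ⧸ Φ (d + k + 1)) =
      (((seqDiff^[k] f n)⁻¹ : G) : G ⧸ Φ (d + k + 1)) := by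
  have := hn (d + k + 1)
  have h := diff_mul_mod hΦ hn k d hd f f⁻¹ hf (hf.inv hΦ) n
  have e : f * f⁻¹ = fun _ => 1 := by funext i; simp
  rw [e, Function.iterate_fixed seqDiff_one, QuotientGroup.mk_one, QuotientGroup.mk_mul] at h
  rw [QuotientGroup.mk_inv]
  exact eq_inv_of_mul_eq_one_right h.symm

/-- Evaluation at a prime: only the top difference survives when the intermediate
`p`-th powers are in `T`. -/
theorem eval_prime (hΦ : IsCommFiltration Φ N) (hn : ∀ d, (Φ d).Normal) {p d : ℕ} (hp : p.Prime)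
    (hd : 1 ≤ d) (T : Subgroup G) [T.Normal] (hT : Φ (d + p + 1) ≤ T) {k0 : ℕ} (hk0 : 1 ≤ k0)
    (hk0p : k0 ≤ p) (hc : ∀ k, k0 ≤ k → k < p → ∀ c ∈ Φ (d + k), c ^ p ∈ T) {f : ℕ → G}
    (hf : IsPolySeq Φ d f) (hv : ∀ i < k0, f i = 1) :
    (f p : G ⧸ T) = ((seqDiff^[p] f 0 : G) : G ⧸ T) := by
  have main : ∀ k, k0 ≤ k → k ≤ p → ∃ g : ℕ → G, IsPolySeq Φ d g ∧ (∀ i < k, g i = 1) ∧
      (g p : G ⧸ T) = f p ∧
        ((seqDiff^[p] g 0 : G) : G ⧸ T) = ((seqDiff^[p] f 0 : G) : G ⧸ T) := by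
    intro k hk
    induction k, hk using Nat.le_induction with
    | base => intro _; exact ⟨f, hf, hv, rfl, rfl⟩
    | succ k hk ih =>
      intro hkp
      obtain ⟨g, hg, hg0, hgp, hgd⟩ := ih (by omega)
      have hck : g k ∈ Φ (d + k) := hg.apply_mem_of_vanish hg0
      set b : ℕ → G := fun n => g k ^ n.choose k with hb
      have hbP : IsPolySeq Φ d b := isPolySeq_choose hΦ k d hck
      refine ⟨g * b⁻¹, hg.mul hΦ (hbP.inv hΦ), fun i hi => ?_, ?_, ?_⟩
      · rcases Nat.lt_succ_iff_lt_or_eq.mp hi with h | rfl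
        · simp [hb, hg0 i h, Nat.choose_eq_zero_of_lt h]
        · simp [hb]
      · have : b p ∈ T := by
          obtain ⟨m, hm⟩ := hp.dvd_choose_self (by omega : k ≠ 0) (by omega)
          simp only [hb, hm, pow_mul]
          exact T.pow_mem (hc k hk (by omega) _ hck) m
        rw [Pi.mul_apply, Pi.inv_apply, QuotientGroup.mk_mul, QuotientGroup.mk_inv,
          (QuotientGroup.eq_one_iff _).2 this, inv_one, mul_one, hgp]
      · have h1 := diff_mul_mod hΦ hn p d hd g b⁻¹ hg (hbP.inv hΦ) 0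
        have h2 := diff_inv_mod hΦ hn (k := p) hd hbP 0
        have hb1 : seqDiff^[p] b 0 = 1 := by
          rw [hb, seqDiff_iterate_choose_eq_one _ (by omega : k < p)]
        rw [hb1, inv_one] at h2
        rw [← hgd]
        refine QuotientGroup.eq.2 (hT (QuotientGroup.eq.1 (h1.trans ?_)))
        have := hn (d + p + 1)
        rw [QuotientGroup.mk_mul, h2, QuotientGroup.mk_one, mul_one]
  obtain ⟨g, -, hg0, hgp, hgd⟩ := main p hk0p le_rfl
  rw [← hgp, ← hgd, apply_eq_iterate p g hg0]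

omit [Finite G] in
theorem newton_comm {A : Type*} [CommGroup A] : ∀ (n : ℕ) (f : ℕ → A),
    f n = ∏ k ∈ Finset.range (n + 1), seqDiff^[k] f 0 ^ n.choose k := by
  intro n
  induction n with
  | zero => intro f; simp
  | succ n ih =>
    intro f
    have h : f (n + 1) = f n * seqDiff f n := by simp [seqDiff]
    rw [h, ih f, ih (seqDiff f), Finset.prod_range_succ' _ (n + 1)]
    simp only [Nat.choose_succ_succ', pow_add, Finset.prod_mul_distrib, Nat.choose_zero_right,
      pow_one, Function.iterate_succ_apply]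
    rw [Finset.prod_range_succ' (fun k => seqDiff^[k] f 0 ^ n.choose k) n,
      Finset.prod_range_succ (fun k => seqDiff^[k] (seqDiff f) 0 ^ n.choose (k + 1)) n]
    simp only [Nat.choose_zero_right, pow_one, Function.iterate_succ_apply,
      Nat.choose_eq_zero_of_lt (Nat.lt_succ_self n), pow_zero, mul_one]
    ac_rfl

/-- In an abelian normal subgroup of exponent `p`, `(a b)^p = a^p = 1` forces `[b, a, ..., a] = 1`
(`p - 1` times). -/
theorem iterComm_eq_one_of_normal_comm {W : Type*} [Group W] {p : ℕ} (hp : p.Prime) (A : Subgroup W)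
    [A.Normal] [IsMulCommutative A] (hA : ∀ x ∈ A, x ^ p = 1) {a b : W} (hb : b ∈ A)
    (ha : a ^ p = 1) (hab : (a * b) ^ p = 1) : iterComm a b⁻¹ (p - 1) = 1 := by
  letI : CommGroup A := IsMulCommutative.instCommGroup
  have hval : ∀ k, prodSeq a b k ∈ A := by
    intro k
    induction k with
    | zero => simp [prodSeq, one_mem]
    | succ k ih =>
      have h : prodSeq a b (k + 1) = prodSeq a b k * seqDiff (prodSeq a b) k := by simp [seqDiff]
      rw [h, seqDiff_prodSeq]
      refine mul_mem ih ?_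
      simpa [conjSeq] using Subgroup.Normal.conj_mem (inferInstance : A.Normal) _ (inv_mem hb) (a ^ k)⁻¹
  let P : ℕ → A := fun k => ⟨prodSeq a b k, hval k⟩
  have hcoe : ∀ k n, ((seqDiff^[k] P n : A) : W) = seqDiff^[k] (prodSeq a b) n := fun k n => by
    have := map_seqDiff_iterate A.subtype P k
    exact (congrFun this n).symm
  have hN := newton_comm p P
  have hzero : ∀ k ∈ Finset.range p, seqDiff^[k] P 0 ^ p.choose k = 1 := by
    intro k hk
    rcases Nat.eq_zero_or_pos k with rfl | hk0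
    · apply Subtype.ext
      simp [P, prodSeq]
    · obtain ⟨m, hm⟩ := hp.dvd_choose_self hk0.ne' (Finset.mem_range.1 hk)
      rw [hm, pow_mul, show seqDiff^[k] P 0 ^ p = 1 from Subtype.ext (hA _ (seqDiff^[k] P 0).2),
        one_pow]
  rw [Finset.prod_range_succ, Finset.prod_eq_one hzero, Nat.choose_self, pow_one, one_mul] at hN
  have h1 : ((P p : A) : W) = 1 := by simp [P, prodSeq, ha, hab]
  rw [hN, hcoe] at h1
  obtain ⟨q, hq⟩ : ∃ q, p = q + 1 := ⟨p - 1, by have := hp.pos; omega⟩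
  rw [hq, Function.iterate_succ_apply, seqDiff_prodSeq, iterate_seqDiff_conjSeq] at h1
  simpa [conjSeq, hq] using h1

omit [Finite G] in
theorem seqDiff_zpow (e : G) (h : ℤ → ℤ) :
    seqDiff (fun n : ℕ => e ^ h n) = fun n : ℕ => e ^ fwdDiff 1 h n := by
  funext n
  simp only [seqDiff, fwdDiff, ← zpow_neg, ← zpow_add]
  congr 1
  push_cast
  ring

omit [Finite G] in
theorem iterate_seqDiff_zpow (e : G) (k : ℕ) (h : ℤ → ℤ) :
    seqDiff^[k] (fun n : ℕ => e ^ h n) = fun n : ℕ => e ^ (fwdDiff 1)^[k] h n := by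
  induction k with
  | zero => rfl
  | succ k ih =>
    rw [Function.iterate_succ_apply', Function.iterate_succ_apply', ih, seqDiff_zpow]

omit [Finite G] in
/-- bilinearity of a central commutator -/
theorem commutator_pow_pow_of_central {a b : G} (h : ⁅a, b⁆ ∈ center G) (m k : ℕ) :
    ⁅a ^ m, b ^ k⁆ = ⁅a, b⁆ ^ (m * k) := by
  have hc : ∀ g : G, g * ⁅a, b⁆ = ⁅a, b⁆ * g := Subgroup.mem_center_iff.1 h
  have h1 : ∀ m, ⁅a ^ m, b⁆ = ⁅a, b⁆ ^ m := by
    intro m
    induction m with
    | zero => simp [commutatorElement_def]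
    | succ m ih =>
      have e : ⁅a ^ (m + 1), b⁆ = a * ⁅a ^ m, b⁆ * a⁻¹ * ⁅a, b⁆ := by
        simp only [commutatorElement_def, pow_succ']; group
      rw [e, ih, ((show Commute a ⁅a, b⁆ from hc a).pow_right m).eq, mul_inv_cancel_right, pow_succ]
  induction k with
  | zero => simp [commutatorElement_def]
  | succ k ih =>
    have e : ⁅a ^ m, b ^ (k + 1)⁆ = ⁅a ^ m, b⁆ * b * ⁅a ^ m, b ^ k⁆ * b⁻¹ := by
      simp only [commutatorElement_def, pow_succ']; group
    rw [e, ih, h1, mul_assoc (⁅a, b⁆ ^ m), ((show Commute b ⁅a, b⁆ from hc b).pow_right (m * k)).eq,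
      mul_assoc, mul_assoc, mul_inv_cancel, mul_one, ← pow_add]
    congr 1
    ring

/-- A group of exponent `p` of class at most `p` satisfies the `(p - 1)`-Engel condition. -/
theorem engel_of_exponent_prime {p : ℕ} [Fact p.Prime] (hexp : ∀ g : G, g ^ p = 1)
    (hcl : (⊤ : Subgroup G).lowerCentralSeries p = ⊥) (y s : G) :
    iterComm s y (p - 1) = 1 := by
  have hp : p.Prime := Fact.out
  set Λ : ℕ → Subgroup G := (⊤ : Subgroup G).lowerCentralSeries with hΛ
  set Ψ : ℕ → Subgroup G := fun d => Λ (d - 1) with hΨ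
  have hΦ' : IsCommFiltration Ψ (p + 1) := isCommFiltration_lowerCentralSeries hcl
  let D : ℕ → Subgroup (ℕ → G) := fun d =>
    { carrier := {f | IsPolySeq Ψ d f}
      one_mem' := isPolySeq_one Ψ d
      mul_mem' := fun hf hg => hf.mul hΦ' hg
      inv_mem' := fun hf => hf.inv hΦ' }
  have hDn : ∀ d, ((D d).subgroupOf (D 0)).Normal := by
    intro d
    refine ⟨fun f hf g => ?_⟩
    rw [Subgroup.mem_subgroupOf] at hf ⊢
    have h1 : IsPolySeq Ψ d (fun i => ⁅(g : ℕ → G) i, (f : ℕ → G) i⁆) :=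
      (polyClosed hΦ' d).comm 0 d _ _ (Nat.zero_add d) g.2 hf
    have h2 := h1.mul hΦ' hf
    show IsPolySeq Ψ d _
    convert h2 using 1
    funext i
    simp [commutatorElement_def]
  haveI := hDn 1
  haveI := hDn 2
  set N2 := (D 2).subgroupOf (D 0) with hN2
  set M1 := ((D 1).subgroupOf (D 0)).map (QuotientGroup.mk' N2) with hM1
  haveI : M1.Normal := Subgroup.Normal.map inferInstance _ (QuotientGroup.mk'_surjective _)
  haveI : IsMulCommutative M1 := by
    refine ⟨⟨?_⟩⟩
    rintro ⟨_, f, hf, rfl⟩ ⟨_, g, hg, rfl⟩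
    apply Subtype.ext
    show QuotientGroup.mk' N2 f * QuotientGroup.mk' N2 g = QuotientGroup.mk' N2 g * QuotientGroup.mk' N2 f
    rw [← commutatorElement_eq_one_iff_mul_comm, ← map_commutatorElement]
    refine (QuotientGroup.eq_one_iff _).2 (Subgroup.mem_subgroupOf.2 ?_)
    exact (polyClosed hΦ' 2).comm 1 1 _ _ rfl (Subgroup.mem_subgroupOf.1 hf) (Subgroup.mem_subgroupOf.1 hg)
  have hseq : ∀ f : D 0, f ^ p = 1 := fun f => Subtype.ext (funext fun n => hexp _)
  have hexpM : ∀ x ∈ M1, x ^ p = 1 := by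
    rintro _ ⟨f, -, rfl⟩
    rw [← map_pow, hseq, map_one]
  let a : D 0 := ⟨fun t => s ^ t, isPolySeq_pow hcl s⟩
  let b : D 0 := ⟨fun _ => y⁻¹, isPolySeq_const hΦ' (by show y⁻¹ ∈ Λ (0 - 1); simp [hΛ])⟩
  have hb : QuotientGroup.mk' N2 b ∈ M1 := Subgroup.mem_map_of_mem _ (Subgroup.mem_subgroupOf.2
    (isPolySeq_const hΦ' (by show y⁻¹ ∈ Λ (1 - 1); simp [hΛ])))
  have h := iterComm_eq_one_of_normal_comm hp M1 hexpM hb
    (by rw [← map_pow, hseq, map_one]) (by rw [← map_mul, ← map_pow, hseq, map_one])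
    (a := QuotientGroup.mk' N2 a)
  rw [← map_inv, ← map_iterComm] at h
  have h2 : IsPolySeq Ψ 2 ((iterComm a b⁻¹ (p - 1) : D 0) : ℕ → G) :=
    Subgroup.mem_subgroupOf.1 ((QuotientGroup.eq_one_iff _).1 h)
  let ev : ℕ → (D 0 →* G) := fun t => (Pi.evalMonoidHom (fun _ => G) t).comp (D 0).subtype
  have hval : ∀ t, (iterComm a b⁻¹ (p - 1) : D 0).1 t = iterComm (s ^ t) y (p - 1) := by
    intro t
    have := map_iterComm (ev t) a b⁻¹ (p - 1)
    rw [show ev t b⁻¹ = y by simp [ev, b], show ev t a = s ^ t by simp [ev, a]] at this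
    exact this
  -- multilinearity
  have hlin : ∀ j t, ((iterComm (s ^ t) y j : G) : G ⧸ Λ (j + 1)) =
      ((iterComm s y j ^ t ^ j : G) : G ⧸ Λ (j + 1)) := by
    intro j t
    induction j with
    | zero => simp [iterComm]
    | succ j ih =>
      set c := iterComm s y j with hc
      set l := (c ^ t ^ j)⁻¹ * iterComm (s ^ t) y j with hl
      have hlm : l ∈ Λ (j + 1) := QuotientGroup.eq.1 ih.symm
      have hcm : c ∈ Λ j := by simpa [hΛ] using iterComm_mem (s := s) (c := y) (i := 0) (by simp) j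
      rw [iterComm_succ, iterComm_succ, ← hc,
        show iterComm (s ^ t) y j = c ^ t ^ j * l by rw [hl, mul_inv_cancel_left]]
      set π := QuotientGroup.mk' (Λ (j + 1 + 1)) with hπ
      show π (stepComm (s ^ t) (c ^ t ^ j * l)) = π (stepComm s c ^ t ^ (j + 1))
      have hcen : ∀ z ∈ Λ (j + 1), π z ∈ center (G ⧸ Λ (j + 1 + 1)) := by
        intro z hz
        rw [Subgroup.mem_center_iff]
        intro g
        obtain ⟨g, rfl⟩ := QuotientGroup.mk'_surjective (Λ (j + 1 + 1)) g
        symm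
        rw [← commutatorElement_eq_one_iff_mul_comm, ← map_commutatorElement]
        refine (QuotientGroup.eq_one_iff _).2 ?_
        rw [hΛ, Subgroup.lowerCentralSeries_succ _ (j + 1)]
        exact Subgroup.commutator_mem_commutator hz (mem_top g)
      rw [map_pow, map_stepComm, map_stepComm, stepComm_eq, stepComm_eq]
      have hbl : ⁅(π c)⁻¹ ^ t ^ j, (π s)⁻¹ ^ t⁆ = ⁅(π c)⁻¹, (π s)⁻¹⁆ ^ (t ^ j * t) :=
        commutator_pow_pow_of_central (by
          rw [← map_inv, ← map_inv, ← map_commutatorElement]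
          refine hcen _ ?_
          rw [hΛ, Subgroup.lowerCentralSeries_succ _ j]
          exact Subgroup.commutator_mem_commutator (inv_mem hcm) (mem_top _)) _ _
      rw [pow_succ, ← hbl, inv_pow, inv_pow, map_mul, map_pow, map_pow, mul_inv_rev]
      have hz : ∀ g, g * (π l)⁻¹ = (π l)⁻¹ * g := Subgroup.mem_center_iff.1 (inv_mem (hcen l hlm))
      rw [← hz, commutatorElement_def, commutatorElement_def]
      generalize (π c ^ t ^ j)⁻¹ = A
      generalize (π s ^ t)⁻¹ = B
      calc A * (π l)⁻¹ * B * (A * (π l)⁻¹)⁻¹ * B⁻¹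
          = A * ((π l)⁻¹ * B) * π l * A⁻¹ * B⁻¹ := by group
        _ = A * (B * (π l)⁻¹) * π l * A⁻¹ * B⁻¹ := by rw [hz]
        _ = A * B * A⁻¹ * B⁻¹ := by group
  obtain ⟨q, rfl⟩ : ∃ q, p = q + 1 := ⟨p - 1, by have := hp.pos; omega⟩
  simp only [Nat.add_sub_cancel] at hval h2 ⊢
  set e := iterComm s y q with he
  have hf : ((iterComm a b⁻¹ q : D 0) : ℕ → G) = fun t : ℕ => e ^ ((t : ℤ) ^ q) := by
    funext t
    rw [hval t]
    have h1 := QuotientGroup.eq.1 (hlin q t)
    rw [hcl, Subgroup.mem_bot, inv_mul_eq_one] at h1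

    rw [h1, ← he, ← zpow_natCast]
    push_cast
    rfl
  have h3 : seqDiff^[q] ((iterComm a b⁻¹ q : D 0) : ℕ → G) 0 = 1 := by
    have h4 : seqDiff^[q] ((iterComm a b⁻¹ q : D 0) : ℕ → G) 0 ∈ Ψ (q + 1 + 1) :=
      hΦ'.anti (by omega) (h2 q 0)
    rwa [hΦ'.last, Subgroup.mem_bot] at h4
  rw [hf, iterate_seqDiff_zpow e q (fun r : ℤ => r ^ q), fwdDiff_iter_eq_factorial] at h3
  simp only [Pi.natCast_apply, zpow_natCast] at h3
  have hcop : (Nat.factorial q).Coprime (q + 1) :=
    ((hp.coprime_iff_not_dvd).2 fun hd => by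
      have := (Nat.Prime.dvd_factorial hp).1 hd
      omega).symm
  have hg : e ^ (Nat.gcd (Nat.factorial q) (q + 1)) = 1 := pow_gcd_eq_one.2 ⟨h3, hexp e⟩
  rwa [Nat.Coprime.gcd_eq_one hcop, pow_one] at hg

end CfsgLib.ClassSizes
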