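import Cfsg.Agent.Lib.Core.Coprime
import Cfsg.Agent.Lib.Transfer.Conj
import Mathlib

/-!
# The product of fixed point orders under coprime `p`-group action

If a `p`-group `P` acts on a group `K` of order prime to `p`, then
`(∏ x, |C_K(x)|) ^ p ≤ |K| ^ |P| * |C_K(P)| ^ (|P| * (p - 1))`.
-/

set_option autoImplicit false
set_option linter.all false

namespace CfsgLib.ClassSizes.FixedPointProduct

open Subgroup
open scoped IsMulCommutative commutatorElement

universe u v

section

variable {P : Type v} [Group P] {G : Type u} [Group G]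

/-- The fixed points in `K` of a subgroup. -/
abbrev Fix (K A : Subgroup G) : Subgroup G := K ⊓ centralizer (A : Set G)

/-- The inequality. -/
def Ineq (p : ℕ) [Fintype P] (φ : P →* G) (K : Subgroup G) : Prop :=
  (∏ x : P, Nat.card (Fix K (zpowers (φ x)))) ^ p ≤
    Nat.card K ^ Nat.card P * Nat.card (Fix K φ.range) ^ (Nat.card P * (p - 1))

theorem centralizer_zpowers_eq (g : G) : centralizer (zpowers g : Set G) = centralizer ({g} : Set G) := by
  rw [zpowers_eq_closure, centralizer_closure]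

theorem mem_fix_zpowers {K : Subgroup G} {g k : G} :
    k ∈ Fix K (zpowers g) ↔ k ∈ K ∧ g * k * g⁻¹ = k := by
  rw [mem_inf, centralizer_zpowers_eq, mem_centralizer_singleton_iff, mul_inv_eq_iff_eq_mul]
  exact and_congr_right fun _ => eq_comm

end

variable {P : Type v} [Group P] [Fintype P] {p : ℕ} [Fact p.Prime]

/-- Pushing into a larger ambient group. -/
theorem ineq_of_subgroup {G : Type u} [Group G] (φ : P →* G) (M K : Subgroup G) (hKM : K ≤ M)
    (hφM : ∀ x, φ x ∈ M) (h : Ineq p (φ.codRestrict M hφM) (K.subgroupOf M)) : Ineq p φ K := by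
  have key : ∀ (A : Subgroup M), Nat.card (Fix (K.subgroupOf M) A) = Nat.card (Fix K (A.map M.subtype)) := by
    intro A
    refine Nat.card_congr
      { toFun := fun k => ⟨k.1.1, mem_inf.2 ⟨k.2.1, ?_⟩⟩
        invFun := fun k => ⟨⟨k.1, hKM k.2.1⟩, mem_inf.2 ⟨k.2.1, ?_⟩⟩
        left_inv := fun k => rfl
        right_inv := fun k => rfl }
    · rw [mem_centralizer_iff]
      rintro _ ⟨a, ha, rfl⟩
      exact congrArg Subtype.val (mem_centralizer_iff.1 k.2.2 a ha)
    · rw [mem_centralizer_iff]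
      intro a ha
      exact Subtype.ext (mem_centralizer_iff.1 k.2.2 a (mem_map_of_mem _ ha))
  unfold Ineq at h ⊢
  rw [Nat.card_congr (subgroupOfEquivOfLe hKM).toEquiv] at h
  simp_rw [key, MonoidHom.map_zpowers, MonoidHom.map_range] at h
  exact h

/-- Multiplicativity. -/
theorem ineq_mul {G : Type u} [Group G] {G₂ : Type u} [Group G₂] (φ : P →* G) (K W : Subgroup G)
    (ψ : P →* G₂) (K' : Subgroup G₂)
    (hx : ∀ x : P, Nat.card (Fix K (zpowers (φ x))) =
      Nat.card (Fix W (zpowers (φ x))) * Nat.card (Fix K' (zpowers (ψ x))))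
    (hP : Nat.card (Fix K φ.range) = Nat.card (Fix W φ.range) * Nat.card (Fix K' ψ.range))
    (hK : Nat.card K = Nat.card W * Nat.card K')
    (h1 : Ineq p φ W) (h2 : Ineq p ψ K') : Ineq p φ K := by
  unfold Ineq at h1 h2 ⊢
  simp_rw [hx, hP, hK, Finset.prod_mul_distrib, mul_pow]
  calc _ ≤ (Nat.card W ^ Nat.card P * Nat.card (Fix W φ.range) ^ (Nat.card P * (p - 1))) *
        (Nat.card K' ^ Nat.card P * Nat.card (Fix K' ψ.range) ^ (Nat.card P * (p - 1))) := Nat.mul_le_mul h1 h2
    _ = _ := by ring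

theorem card_fix_split {G : Type u} [Group G] [Finite G] {A K W : Subgroup G} [W.Normal]
    (hA : IsPGroup p A) (hAK : A ≤ normalizer (K : Set G)) (hK : (Nat.card K).Coprime p) (hWK : W ≤ K) :
    Nat.card (Fix K A) =
      Nat.card (Fix W A) * Nat.card (Fix (K.map (QuotientGroup.mk' W)) (A.map (QuotientGroup.mk' W))) := by
  set π := QuotientGroup.mk' W with hπ
  have himage : (Fix K A).map π = Fix (K.map π) (A.map π) := by
    refine le_antisymm ?_ ?_
    · rintro _ ⟨k, hk, rfl⟩
      refine mem_inf.2 ⟨mem_map_of_mem π hk.1, mem_centralizer_iff.2 ?_⟩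
      rintro _ ⟨a, ha, rfl⟩
      rw [← map_mul, ← map_mul, mem_centralizer_iff.1 hk.2 a ha]
    · rintro _ ⟨⟨k, hk, rfl⟩, hc⟩
      obtain ⟨n, hn, hkn⟩ := CfsgLib.Core.exists_centralizing_in_coset (A := A) (N := W) (k := k)
        ((le_top : A ≤ ⊤).trans (normalizer_eq_top_iff.2 inferInstance).ge) (by
          obtain ⟨n, hn⟩ := IsPGroup.iff_card.1 hA
          rw [hn]
          exact (hK.coprime_dvd_left (card_dvd_of_le hWK)).symm.pow_left n)
        (Or.inl (by haveI := hA.isNilpotent; infer_instance)) (fun a ha => by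
          rw [← QuotientGroup.eq_one_iff]
          show π _ = 1
          have h1 : π a * π k = π k * π a := mem_centralizer_iff.1 hc _ (mem_map_of_mem π ha)
          rw [map_mul, map_mul, map_mul, map_inv, map_inv, h1]
          group)
      refine ⟨k * n, mem_inf.2 ⟨mul_mem hk (hWK hn), hkn⟩, ?_⟩
      rw [map_mul, show π n = 1 from (QuotientGroup.eq_one_iff n).2 hn, mul_one]
  rw [← himage, ← Subgroup.relIndex_ker π (K := Fix K A), QuotientGroup.ker_mk',
    ← Subgroup.card_mul_index (W.subgroupOf (Fix K A)), ← relIndex]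
  congr 1
  refine Nat.card_congr
    { toFun := fun w => ⟨w.1.1, mem_inf.2 ⟨w.2, w.1.2.2⟩⟩
      invFun := fun w => ⟨⟨w.1, mem_inf.2 ⟨hWK w.2.1, w.2.2⟩⟩, w.2.1⟩
      left_inv := fun w => rfl
      right_inv := fun w => rfl }

theorem card_map_mk {G : Type u} [Group G] {K W : Subgroup G} [W.Normal] (hWK : W ≤ K) :
    Nat.card K = Nat.card W * Nat.card (K.map (QuotientGroup.mk' W)) := by
  rw [← Subgroup.relIndex_ker, QuotientGroup.ker_mk', ← Subgroup.card_mul_index (W.subgroupOf K),
    Nat.card_congr (subgroupOfEquivOfLe hWK).toEquiv]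
  rfl

/-- The fixed-point-free abelian case. -/
theorem ineq_of_fpf {G : Type u} [Group G] [Finite G] (φ : P →* G) (K : Subgroup G) [IsMulCommutative K]
    (hK : (Nat.card K).Coprime p) (ρ : P →* MulAut K) (hρ : ∀ x (k : K), ((ρ x k : K) : G) = φ x * k * (φ x)⁻¹)
    (z : P) (hz : ρ z ^ p = 1) (hcomm : ∀ x, Commute (ρ x) (ρ z))
    (hfree : ∀ k : K, ρ z k = k → k = 1) : Ineq p φ K := by
  classical
  have hp : p.Prime := Fact.out
  set f := fun x : P => Nat.card (Fix K (zpowers (φ x)))
  have key : ∀ x : P, ∏ i : Fin p, f (x * z ^ (i : ℕ)) ≤ Nat.card K := by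
    intro x
    rw [← Nat.card_pi]
    let F : (∀ i : Fin p, Fix K (zpowers (φ (x * z ^ (i : ℕ))))) →* K :=
      { toFun := fun v => ∏ i, (⟨(v i : G), (v i).2.1⟩ : K)
        map_one' := Finset.prod_eq_one fun i _ => rfl
        map_mul' := fun v w => by rw [← Finset.prod_mul_distrib]; exact Finset.prod_congr rfl fun i _ => rfl }
    refine Nat.card_le_card_of_injective F ((injective_iff_map_eq_one F).2 fun v hv => ?_)
    let w : Fin p → K := fun i => ⟨(v i : G), (v i).2.1⟩
    have hw : ∏ i, w i = 1 := hv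
    have hfix : ∀ i : Fin p, (ρ x * ρ z ^ ((i : ℕ) : ℤ)) (w i) = w i := by
      intro i
      rw [zpow_natCast, ← map_pow, ← map_mul]
      exact Subtype.ext ((hρ _ _).trans (mem_fix_zpowers.1 (v i).2).2)
    funext j
    suffices w j = 1 from Subtype.ext (congrArg Subtype.val this : _)
    set g : MulAut K := ρ x * ρ z ^ ((j : ℕ) : ℤ) with hg
    have hgw : ∀ (k : ℕ) (i : Fin p), (g ^ k) (w i) = (ρ z ^ ((((j : ℕ) : ℤ) - (i : ℕ)) * k)) (w i) := by
      intro k i
      have h1 : g = ρ z ^ (((j : ℕ) : ℤ) - (i : ℕ)) * (ρ x * ρ z ^ ((i : ℕ) : ℤ)) := by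
        rw [hg, ← mul_assoc, ← ((hcomm x).zpow_right _).eq, mul_assoc, ← zpow_add]
        congr 2
        ring
      induction k with
      | zero => simp
      | succ k ih =>
        rw [pow_succ, MulAut.mul_apply, h1, MulAut.mul_apply, hfix, ← h1]
        have hc2 : Commute g (ρ z ^ (((j : ℕ) : ℤ) - (i : ℕ))) :=
          (((hcomm x).mul_left ((Commute.refl (ρ z)).zpow_left _)).zpow_right _)
        rw [← MulAut.mul_apply, (hc2.pow_left k).eq, MulAut.mul_apply, ih, ← MulAut.mul_apply, ← zpow_add]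
        congr 2
        push_cast
        ring
    have hnorm : ∀ (d : ℤ), ¬ (p : ℤ) ∣ d → ∀ a : K, ∏ k ∈ Finset.range p, (ρ z ^ (d * k)) a = 1 := by
      intro d hd a
      refine hfree _ ?_
      set N := ∏ k ∈ Finset.range p, (ρ z ^ (d * k)) a
      have hN : (ρ z ^ d) N = N := by
        rw [map_prod]
        have h1 : ∀ k : ℕ, (ρ z ^ d) ((ρ z ^ (d * k)) a) = (ρ z ^ (d * (k + 1 : ℕ))) a := fun k => by
          rw [← MulAut.mul_apply, ← zpow_add]
          congr 2
          push_cast
          ring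
        simp_rw [h1]
        have h2 : (ρ z ^ (d * (p : ℕ))) a = (ρ z ^ (d * (0 : ℕ))) a := by
          rw [mul_comm d, zpow_mul, zpow_natCast, hz]
          simp
        have h3 := Finset.prod_range_succ (fun k : ℕ => (ρ z ^ (d * k)) a) p
        rw [Finset.prod_range_succ', h2] at h3
        exact mul_right_cancel h3
      obtain ⟨s, t, hst⟩ : IsCoprime d (p : ℤ) :=
        ((Nat.prime_iff_prime_int.1 hp).coprime_iff_not_dvd.2 hd).symm
      have hmem : ρ z ^ d ∈ MulAction.stabilizer (MulAut K) N := hN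
      have h4 := zpow_mem hmem s
      rw [← zpow_mul, show d * s = 1 + (p : ℤ) * (-t) by linarith, zpow_add, zpow_one, zpow_mul,
        zpow_natCast, hz, one_zpow, mul_one] at h4
      exact h4
    have h5 : ∏ k ∈ Finset.range p, (g ^ k) (∏ i, w i) = 1 :=
      Finset.prod_eq_one fun k _ => by rw [hw, map_one]
    simp_rw [map_prod, hgw] at h5
    rw [Finset.prod_comm, Finset.prod_eq_single j] at h5
    · simp at h5
      have h6 := orderOf_dvd_of_pow_eq_one h5
      rw [← orderOf_eq_one_iff]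
      exact Nat.eq_one_of_dvd_coprimes hK (orderOf_dvd_natCard _) h6
    · intro i _ hij
      refine hnorm _ (fun hd => hij ?_) _
      have h7 := Int.eq_zero_of_dvd_of_natAbs_lt_natAbs hd (by omega)
      exact Fin.ext (by omega)
    · exact fun h => absurd (Finset.mem_univ j) h
  have h1 : (∏ x : P, f x) ^ p = ∏ i : Fin p, ∏ x : P, f (x * z ^ (i : ℕ)) := by
    rw [← Fin.prod_const p (∏ x : P, f x)]
    exact Finset.prod_congr rfl fun i _ => (Equiv.prod_comp (Equiv.mulRight (z ^ (i : ℕ))) f).symm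
  unfold Ineq
  rw [h1, Finset.prod_comm]
  calc ∏ x : P, ∏ i : Fin p, f (x * z ^ (i : ℕ)) ≤ ∏ _x : P, Nat.card K :=
        Finset.prod_le_prod' fun x _ => key x
    _ = Nat.card K ^ Nat.card P := by rw [Finset.prod_const, Finset.card_univ, ← Nat.card_eq_fintype_card]
    _ ≤ _ := Nat.le_mul_of_pos_right _ (pow_pos Nat.card_pos _)

/-- The case of a `q`-group. -/
theorem ineq_qGroup_aux (hP : IsPGroup p P) {q : ℕ} [Fact q.Prime] (hpq : q ≠ p) (n : ℕ) :
    ∀ {G : Type u} [Group G] [Finite G] (φ : P →* G) (K : Subgroup G), Nat.card K = n → IsPGroup q K →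
      φ.range ≤ normalizer (K : Set G) → Ineq p φ K := by
  have hp : p.Prime := Fact.out
  induction n using Nat.strong_induction_on with
  | _ n ih => ?_
  intro G _ _ φ K hn hK hφK
  subst hn
  have hcop : (Nat.card K).Coprime p := by
    obtain ⟨k, hk⟩ := IsPGroup.iff_card.1 hK
    rw [hk]
    exact ((Nat.coprime_primes Fact.out hp).2 hpq).pow_left k
  -- splitting along a proper nontrivial invariant subgroup
  have split : ∀ W : Subgroup G, W < K → W ≠ ⊥ → K ≤ normalizer (W : Set G) →
      φ.range ≤ normalizer (W : Set G) → Ineq p φ K := by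
    intro W hlt hne hKW hφW
    set M := normalizer (W : Set G) with hM
    have hφM : ∀ x, φ x ∈ M := fun x => hφW ⟨x, rfl⟩
    refine ineq_of_subgroup φ M K hKW hφM ?_
    set φ' := φ.codRestrict M hφM
    set K' := K.subgroupOf M
    set W' := W.subgroupOf M
    haveI : W'.Normal := normal_subgroupOf_of_le_normalizer le_rfl
    have hW'K' : W' ≤ K' := fun x hx => hlt.le hx
    have hφK' : φ'.range ≤ normalizer (K' : Set M) := by
      rintro _ ⟨x, rfl⟩
      exact le_normalizer_comap M.subtype (hφK ⟨x, rfl⟩)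
    have hcardK : Nat.card K' = Nat.card K := Nat.card_congr (subgroupOfEquivOfLe hKW).toEquiv
    have hcardW : Nat.card W' = Nat.card W :=
      Nat.card_congr (subgroupOfEquivOfLe (le_normalizer : W ≤ M)).toEquiv
    have hAP : ∀ A : Subgroup M, A ≤ φ'.range → IsPGroup p A := fun A hA =>
      (hP.of_surjective φ'.rangeRestrict φ'.rangeRestrict_surjective).to_le hA
    have hsplit : ∀ A : Subgroup M, A ≤ φ'.range → Nat.card (Fix K' A) = Nat.card (Fix W' A) *
        Nat.card (Fix (K'.map (QuotientGroup.mk' W')) (A.map (QuotientGroup.mk' W'))) := fun A hA =>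
      card_fix_split (hAP A hA) (hA.trans hφK') (hcardK ▸ hcop) hW'K'
    refine ineq_mul φ' K' W' ((QuotientGroup.mk' W').comp φ') (K'.map (QuotientGroup.mk' W'))
      (fun x => ?_) ?_ (card_map_mk hW'K') ?_ ?_
    · have h := hsplit (zpowers (φ' x)) (zpowers_le.2 ⟨x, rfl⟩)
      rwa [MonoidHom.map_zpowers] at h
    · have h := hsplit φ'.range le_rfl
      rwa [MonoidHom.map_range] at h
    · exact ih (Nat.card W') (hcardW.trans_lt (CfsgLib.Transfer.card_lt_of_lt hlt)) φ' W' rfl
        ((hK.to_le hlt.le).comap_subtype) (by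
          rw [normalizer_eq_top_iff.2 inferInstance]; exact le_top)
    · refine ih _ ?_ ((QuotientGroup.mk' W').comp φ') _ rfl (hK.comap_subtype.map _) ?_
      · have h1 := card_map_mk hW'K'
        rw [hcardK, hcardW] at h1
        rw [h1]
        exact lt_mul_of_one_lt_left Nat.card_pos (one_lt_card_iff_ne_bot _ |>.2 hne)
      · rw [MonoidHom.range_comp]
        exact (map_mono hφK').trans (le_normalizer_map _)
  by_cases hab : IsMulCommutative K
  swap
  · haveI := hK.isNilpotent
    set W := (commutator K).map K.subtype with hW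
    have hle : W ≤ K := map_subtype_le _
    refine split W (lt_of_le_of_ne hle fun h => ?_) (fun h => hab ?_) ?_ ?_
    · have h1 : commutator K = ⊤ := by
        apply map_injective K.subtype_injective
        rw [← hW, h, ← MonoidHom.range_eq_map, range_subtype]
      haveI : Nontrivial K := by
        by_contra hnt
        rw [not_nontrivial_iff_subsingleton] at hnt
        exact hab ⟨⟨fun a b => Subsingleton.elim _ _⟩⟩
      exact Group.IsSolvable.commutator_lt_top_of_nontrivial K |>.ne h1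
    · rw [hW, map_eq_bot_iff_of_injective _ K.subtype_injective] at h
      refine ⟨⟨fun a b => ?_⟩⟩
      have h1 : ⁅a, b⁆ ∈ commutator K := commutator_mem_commutator (mem_top a) (mem_top b)
      rw [h, mem_bot, commutatorElement_eq_one_iff_commute] at h1
      exact h1
    · rw [hW, map_subtype_commutator]
      exact normalizer_commutator_ge_left K K
    · rw [hW, map_subtype_commutator]
      intro g hg
      rw [← CfsgLib.Transfer.map_conj_eq_self_iff, map_commutator]
      rw [CfsgLib.Transfer.map_conj_eq_self_iff.2 (hφK hg)]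
  haveI := hab
  set ρ : P →* MulAut K := K.normalizerMonoidHom.comp (φ.codRestrict _ fun x => hφK ⟨x, rfl⟩) with hρdef
  have hρ : ∀ x (k : K), ((ρ x k : K) : G) = φ x * k * (φ x)⁻¹ := fun x k => rfl
  by_cases htriv : ∀ x, ρ x = 1
  · have h1 : ∀ A : Subgroup G, A ≤ φ.range → Fix K A = K := fun A hA => by
      refine inf_eq_left.2 fun k hk => mem_centralizer_iff.2 fun a ha => ?_
      obtain ⟨x, rfl⟩ := hA ha
      have h2 := hρ x ⟨k, hk⟩
      rw [htriv x] at h2
      exact mul_inv_eq_iff_eq_mul.1 h2.symm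
    unfold Ineq
    rw [h1 φ.range le_rfl, Finset.prod_congr rfl fun x _ => congrArg (fun S : Subgroup G => Nat.card S)
      (h1 _ (zpowers_le.2 ⟨x, rfl⟩)), Finset.prod_const, Finset.card_univ, ← Nat.card_eq_fintype_card,
      ← pow_add, ← pow_mul]
    refine le_of_eq (congrArg _ ?_)
    obtain ⟨k, rfl⟩ : ∃ k, p = k + 1 := ⟨p - 1, by have := hp.pos; omega⟩
    simp only [Nat.add_sub_cancel]
    ring
  push Not at htriv
  obtain ⟨x₀, hx₀⟩ := htriv
  have hR : IsPGroup p ρ.range := hP.of_surjective ρ.rangeRestrict ρ.rangeRestrict_surjective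
  haveI : Nontrivial ρ.range := ⟨⟨ρ x₀, x₀, rfl⟩, 1, fun h => hx₀ (congrArg Subtype.val h)⟩
  haveI := hR.center_nontrivial
  obtain ⟨⟨⟨w₀, hw₀⟩, hzc⟩, hzo⟩ := exists_prime_orderOf_dvd_card' (G := center ρ.range) p (by
    obtain ⟨k, hk0, hk⟩ := (hR.to_subgroup (center ρ.range)).nontrivial_iff_card.1 inferInstance
    exact hk ▸ dvd_pow_self p hk0.ne')
  rw [Subgroup.orderOf_mk, Subgroup.orderOf_mk] at hzo
  obtain ⟨z, rfl⟩ := hw₀
  have hcomm : ∀ x, Commute (ρ x) (ρ z) := fun x =>
    congrArg Subtype.val (mem_center_iff.1 hzc ⟨ρ x, x, rfl⟩)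
  have hzne : ρ z ≠ 1 := fun h => hp.ne_one (hzo.symm.trans (orderOf_eq_one_iff.2 h))
  set W := Fix K (zpowers (φ z))
  have hWne : W ≠ K := fun h => hzne (MulEquiv.ext fun k => Subtype.ext (by
    have hk : (k : G) ∈ W := h.symm ▸ k.2
    exact (hρ z k).trans (mem_fix_zpowers.1 hk).2))
  by_cases hWbot : W = ⊥
  · refine ineq_of_fpf φ K hcop ρ hρ z (hzo ▸ pow_orderOf_eq_one _) hcomm fun k hk => Subtype.ext ?_
    have hkW : (k : G) ∈ W := mem_fix_zpowers.2 ⟨k.2, (hρ z k).symm.trans (congrArg Subtype.val hk)⟩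
    rwa [hWbot, mem_bot] at hkW
  refine split W (lt_of_le_of_ne inf_le_left hWne) hWbot ?_ ?_
  · intro k hk
    rw [mem_normalizer_iff]
    intro w
    have key : ∀ a ∈ K, ∀ w ∈ W, a * w * a⁻¹ ∈ W := by
      intro a ha w hw
      have h1 : a * w = w * a := congrArg Subtype.val (mul_comm (⟨a, ha⟩ : K) ⟨w, hw.1⟩)
      rwa [h1, mul_inv_cancel_right]
    refine ⟨key k hk w, fun h => ?_⟩
    simpa [mul_assoc] using key k⁻¹ (inv_mem hk) _ h
  · rintro _ ⟨x, rfl⟩
    have key : ∀ y w, w ∈ W → φ y * w * (φ y)⁻¹ ∈ W := by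
      intro y w hw
      refine mem_fix_zpowers.2 ⟨(mem_normalizer_iff.1 (hφK ⟨y, rfl⟩) w).1 hw.1, ?_⟩
      have h1 : ρ z ⟨w, hw.1⟩ = ⟨w, hw.1⟩ := Subtype.ext ((hρ _ _).trans (mem_fix_zpowers.1 hw).2)
      have h2 : ρ z (ρ y ⟨w, hw.1⟩) = ρ y ⟨w, hw.1⟩ := by
        rw [← MulAut.mul_apply, ← (hcomm y).eq, MulAut.mul_apply, h1]
      exact (hρ z _).symm.trans (congrArg Subtype.val h2)
    rw [mem_normalizer_iff]
    intro w
    refine ⟨key x w, fun h => ?_⟩
    have h1 := key x⁻¹ _ h
    simpa [map_inv, mul_assoc] using h1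

theorem factorization_fix {G : Type u} [Group G] [Finite G] {A K : Subgroup G} {q : ℕ} [Fact q.Prime]
    (hA : IsPGroup p A) (hAK : A ≤ normalizer (K : Set G)) (hK : (Nat.card K).Coprime p)
    (Q : Sylow q K) (hQ : A ≤ normalizer ((Q : Subgroup K).map K.subtype : Set G)) :
    Nat.card (Fix ((Q : Subgroup K).map K.subtype) A) = q ^ (Nat.card (Fix K A)).factorization q := by
  have hcop : (Nat.card A).Coprime (Nat.card K) := by
    obtain ⟨n, hn⟩ := IsPGroup.iff_card.1 hA
    rw [hn]; exact hK.symm.pow_left n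
  have hsolv : Group.IsSolvable A := by haveI := hA.isNilpotent; infer_instance
  obtain ⟨U⟩ : Nonempty (Sylow q (Fix K A)) := inferInstance
  have hUle : (U : Subgroup _).map (Fix K A).subtype ≤ Fix K A := map_subtype_le _
  have hUA : A ≤ normalizer ((U : Subgroup _).map (Fix K A).subtype : Set G) := fun a ha => by
    rw [mem_normalizer_iff]
    have key : ∀ x ∈ (U : Subgroup _).map (Fix K A).subtype, a * x * a⁻¹ = x := fun x hx => by
      rw [mem_centralizer_iff.1 (hUle hx).2 a ha, mul_inv_cancel_right]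
    intro x
    refine ⟨fun hx => by rwa [key x hx], fun hx => ?_⟩
    have h1 := key _ hx
    have h2 : a * x * a⁻¹ = x := by
      have h3 : a * (a * x * a⁻¹) * a⁻¹ = a * x * a⁻¹ := h1
      simpa using congrArg (fun y => a⁻¹ * y * a) h3
    rwa [h2] at hx
  obtain ⟨Q₁, hUQ, hQ₁⟩ := CfsgLib.Core.exists_invariant_sylow_ge hAK hcop (Or.inl hsolv)
    (hUle.trans inf_le_left) (U.2.map _) hUA
  obtain ⟨c, hc, rfl⟩ := CfsgLib.Core.invariant_sylow_conj hAK hcop (Or.inl hsolv) Q₁ Q hQ₁ hQ
  refine le_antisymm ?_ ?_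
  · obtain ⟨k, hk⟩ := IsPGroup.iff_card.1 ((c • Q₁ : Sylow q K).2.map K.subtype |>.to_le
      (inf_le_left : Fix ((c • Q₁ : Sylow q K).toSubgroup.map K.subtype) A ≤ _))
    rw [hk]
    refine Nat.pow_le_pow_right (Fact.out : q.Prime).pos
      (((Fact.out : q.Prime).pow_dvd_iff_le_factorization Nat.card_pos.ne').1 (hk ▸ card_dvd_of_le ?_))
    exact inf_le_inf_right _ (map_subtype_le _)
  · rw [← U.card_eq_multiplicity, ← card_map_of_injective (Fix K A).subtype_injective]
    refine Nat.card_le_card_of_injective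
      (fun x => (⟨(c : G) * x.1 * (c : G)⁻¹, mem_inf.2 ⟨?_, ?_⟩⟩ :
        Fix ((c • Q₁ : Sylow q K).toSubgroup.map K.subtype) A))
      fun x y h => Subtype.ext (by simpa using congrArg Subtype.val h)
    · rw [← CfsgLib.Core.sylow_map_conj_smul]
      exact ⟨x.1, hUQ x.2, rfl⟩
    · exact mul_mem (mul_mem hc (hUle x.2).2) (inv_mem hc)

/-- The product inequality. -/
theorem ineq {G : Type u} [Group G] [Finite G] (hP : IsPGroup p P) (φ : P →* G) (K : Subgroup G)
    (hφK : φ.range ≤ normalizer (K : Set G)) (hK : (Nat.card K).Coprime p) : Ineq p φ K := by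
  classical
  have hR : IsPGroup p φ.range := hP.of_surjective φ.rangeRestrict φ.rangeRestrict_surjective
  have hsolv : Group.IsSolvable φ.range := by haveI := hR.isNilpotent; infer_instance
  set s := (Nat.card K).primeFactors with hs
  have hcop : (Nat.card φ.range).Coprime (Nat.card K) := by
    obtain ⟨n, hn⟩ := IsPGroup.iff_card.1 hR
    rw [hn]; exact hK.symm.pow_left n
  have hdecomp : ∀ X : Subgroup G, X ≤ K → Nat.card X = ∏ q ∈ s, q ^ (Nat.card X).factorization q := by
    intro X hX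
    have hsub : (Nat.card X).factorization.support ⊆ s := by
      rw [Nat.support_factorization]
      exact Nat.primeFactors_mono (card_dvd_of_le hX) Nat.card_pos.ne'
    rw [← Finsupp.prod_of_support_subset (Nat.card X).factorization hsub (fun a b => a ^ b) (fun a _ => pow_zero a)]
    exact (Nat.prod_factorization_pow_eq_self Nat.card_pos.ne').symm
  have hper : ∀ q ∈ s,
      (∏ x : P, q ^ (Nat.card (Fix K (zpowers (φ x)))).factorization q) ^ p ≤
        (q ^ (Nat.card K).factorization q) ^ Nat.card P *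
          (q ^ (Nat.card (Fix K φ.range)).factorization q) ^ (Nat.card P * (p - 1)) := by
    intro q hq
    rw [hs, Nat.mem_primeFactors] at hq
    haveI := Fact.mk hq.1
    have hqp : q ≠ p := fun h => (Fact.out : p.Prime).coprime_iff_not_dvd.1 hK.symm (h ▸ hq.2.1)
    obtain ⟨Q, hQ⟩ := CfsgLib.Core.exists_invariant_sylow hφK hcop (Or.inl hsolv) q
    have h := ineq_qGroup_aux hP hqp _ φ ((Q : Subgroup K).map K.subtype) rfl (Q.2.map _) hQ
    unfold Ineq at h
    have hx : ∀ x : P, zpowers (φ x) ≤ φ.range := fun x => zpowers_le.2 ⟨x, rfl⟩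
    rw [card_map_of_injective K.subtype_injective, Q.card_eq_multiplicity, factorization_fix hR hφK hK Q hQ,
      Finset.prod_congr rfl fun x _ => factorization_fix (hR.to_le (hx x)) ((hx x).trans hφK) hK Q
        ((hx x).trans hQ)] at h
    exact h
  unfold Ineq
  rw [Finset.prod_congr rfl fun x _ => hdecomp (Fix K (zpowers (φ x))) inf_le_left,
    hdecomp K le_rfl, hdecomp (Fix K φ.range) inf_le_left, Finset.prod_comm, ← Finset.prod_pow,
    ← Finset.prod_pow, ← Finset.prod_pow, ← Finset.prod_mul_distrib]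
  exact Finset.prod_le_prod' hper

end CfsgLib.ClassSizes.FixedPointProduct
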