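import Mathlib
import Cfsg.Agent.Lib.ClassSizes.TwoSizes

/-!
Elements of order prime to `p` when their classes have only the sizes `1` and `m`: centralizers.
-/

set_option autoImplicit false
set_option linter.style.haveILetI false
set_option linter.unusedSectionVars false

namespace CfsgLib.ClassSizes.RegularTwo

open Subgroup

universe u

/-- covering of `⟨α⟩` by the conjugates of `β`: fixed points appear -/
theorem cover {M : Type*} [CommGroup M] (α β : MulAut M) {q n s : ℕ} (Z₀ : Subgroup M) (hq : 0 < q)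
    (hα : α ^ q = 1) (hn : 0 < n) (hβ : β ^ n = 1) (hrel : α * β = β * α ^ s)
    (hcn : q ∣ ∑ i ∈ Finset.range n, s ^ i)
    (hc : ∀ j, 0 < j → j < n → (∑ i ∈ Finset.range j, s ^ i).Coprime q)
    (hfα : ∀ x, α x = x → x ∈ Z₀) (hfk : ∀ k x, (β * α ^ k) x = x → x ∈ Z₀)
    (hZ : ∀ x ∈ Z₀, β x = x) (a : M) : a ^ q ∈ Z₀ := by
  classical
  have hpowmul : ∀ k, α ^ k * β = β * α ^ (s * k) := by
    intro k
    induction k with
    | zero => simp
    | succ k ih =>
      rw [pow_succ, mul_assoc, hrel, ← mul_assoc, ih, mul_assoc, ← pow_add]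
      congr 2
  have hgamma : ∀ k j, (β * α ^ k) ^ j = β ^ j * α ^ (k * ∑ i ∈ Finset.range j, s ^ i) := by
    intro k j
    induction j with
    | zero => simp
    | succ j ih =>
      calc (β * α ^ k) ^ (j + 1)
          = β ^ j * (α ^ (k * ∑ i ∈ Finset.range j, s ^ i) * β) * α ^ k := by rw [pow_succ, ih]; group
        _ = β ^ j * β * (α ^ (s * (k * ∑ i ∈ Finset.range j, s ^ i)) * α ^ k) := by rw [hpowmul]; group
        _ = β ^ (j + 1) * α ^ (k * ∑ i ∈ Finset.range (j + 1), s ^ i) := by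
            rw [← pow_succ, ← pow_add]
            congr 2
            rw [geom_sum_succ]
            ring
  have hnorm : ∀ (γ : MulAut M) (d : ℕ), γ ^ d = 1 → ∀ x,
      γ (∏ i ∈ Finset.range d, (γ ^ i) x) = ∏ i ∈ Finset.range d, (γ ^ i) x := by
    intro γ d hd x
    rcases Nat.eq_zero_or_pos d with rfl | hd0
    · simp
    obtain ⟨e, rfl⟩ : ∃ e, d = e + 1 := ⟨d - 1, by omega⟩
    rw [map_prod]
    conv_rhs => rw [Finset.prod_range_succ']
    rw [Finset.prod_range_succ]
    congr 1
    · exact Finset.prod_congr rfl fun i _ => by rw [← MulAut.mul_apply, ← pow_succ']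
    · rw [← MulAut.mul_apply, ← pow_succ', hd]
      simp
  let Na := ∏ i ∈ Finset.range q, (α ^ i) a
  have hNa : Na ∈ Z₀ := hfα _ (hnorm α q hα a)
  have hk : ∀ k, ∏ j ∈ Finset.range n, ((β * α ^ k) ^ j) a ∈ Z₀ := fun k =>
    hfk k _ (hnorm _ n (by
      rw [hgamma, hβ, one_mul]
      obtain ⟨c, hc'⟩ := hcn
      rw [hc', show k * (q * c) = q * (k * c) by ring, pow_mul, hα, one_pow]) a)
  have hprod : ∏ k ∈ Finset.range q, ∏ j ∈ Finset.range n, ((β * α ^ k) ^ j) a ∈ Z₀ := prod_mem fun k _ => hk k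
  rw [Finset.prod_comm] at hprod
  obtain ⟨e, rfl⟩ : ∃ e, n = e + 1 := ⟨n - 1, by omega⟩
  rw [Finset.prod_range_succ'] at hprod
  have h0 : ∏ k ∈ Finset.range q, ((β * α ^ k) ^ 0) a = a ^ q := by simp
  have hj : ∀ j ∈ Finset.range e, ∏ k ∈ Finset.range q, ((β * α ^ k) ^ (j + 1)) a = Na := by
    intro j hj
    have hco := hc (j + 1) (by omega) (by have := Finset.mem_range.1 hj; omega)
    set c := ∑ i ∈ Finset.range (j + 1), s ^ i
    have himg : (Finset.range q).image (fun k => k * c % q) = Finset.range q := by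
      refine Finset.eq_of_subset_of_card_le (fun x hx => ?_) ?_
      · obtain ⟨k, _, rfl⟩ := Finset.mem_image.1 hx
        exact Finset.mem_range.2 (Nat.mod_lt _ hq)
      · rw [Finset.card_image_of_injOn]
        intro x hx y hy hxy
        have hxy' : x ≡ y [MOD q] := Nat.ModEq.cancel_right_of_coprime hco.symm hxy
        rw [Finset.coe_range, Set.mem_Iio] at hx hy
        exact hxy'.eq_of_lt_of_lt hx hy
    have hfix : (β ^ (j + 1)) Na = Na := by
      have : ∀ i, (β ^ i) Na = Na := by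
        intro i
        induction i with
        | zero => simp
        | succ i ih => rw [pow_succ, MulAut.mul_apply, hZ _ hNa, ih]
      exact this _
    calc ∏ k ∈ Finset.range q, ((β * α ^ k) ^ (j + 1)) a
        = (β ^ (j + 1)) (∏ k ∈ Finset.range q, (α ^ (k * c % q)) a) := by
          rw [map_prod]
          refine Finset.prod_congr rfl fun k _ => ?_
          rw [hgamma, MulAut.mul_apply, pow_eq_pow_mod (k * c) hα]
      _ = (β ^ (j + 1)) Na := by
          congr 1
          rw [← Finset.prod_image (f := fun i => (α ^ i) a), himg]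
          intro x hx y hy hxy
          have hxy' : x ≡ y [MOD q] := Nat.ModEq.cancel_right_of_coprime hco.symm hxy
          rw [Finset.coe_range, Set.mem_Iio] at hx hy
          exact hxy'.eq_of_lt_of_lt hx hy
      _ = Na := hfix
  rw [h0, Finset.prod_congr rfl hj, Finset.prod_const] at hprod
  exact (Z₀.mul_mem_cancel_left (pow_mem hNa _)).1 hprod

variable {G : Type u} [Group G] [Finite G]

theorem coprime_of_pow {p r k : ℕ} (hp : p.Prime) (hr : r.Prime) (hne : r ≠ p) {y : G}
    (hy : orderOf y = r ^ k) : (orderOf y).Coprime p := by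
  rw [hy]
  exact Nat.Coprime.pow_left k ((Nat.coprime_primes hr hp).2 hne)

/-- a noncentral element of order prime to `p` -/
def NC (p : ℕ) (x : G) : Prop := (orderOf x).Coprime p ∧ x ∉ center G

/-- the prime `r` has noncentral elements -/
def Act (G : Type*) [Group G] (r : ℕ) : Prop := ∃ y : G, y ∉ center G ∧ ∃ k, orderOf y = r ^ k

/-- the hypothesis, with two acting primes -/
structure Two (p m : ℕ) (G : Type*) [Group G] : Prop where
  prime : p.Prime
  sizes : ∀ x : G, (orderOf x).Coprime p →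
    (centralizer ({x} : Set G)).index = 1 ∨ (centralizer ({x} : Set G)).index = m
  not_pow : ¬ ∃ k, m = p ^ k
  two : ∃ r s : ℕ, r.Prime ∧ s.Prime ∧ r ≠ s ∧ r ≠ p ∧ s ≠ p ∧ Act G r ∧ Act G s

/-- the `s`-elements of the centralizer of `x` -/
def spart (x : G) (s : ℕ) : Subgroup G := closure {z | Commute x z ∧ ∃ k, orderOf z = s ^ k}

theorem orderOf_conj' (g x : G) : orderOf (g * x * g⁻¹) = orderOf x := by
  rw [← MulAut.conj_apply]
  exact orderOf_injective (MulAut.conj g).toMonoidHom (MulAut.conj g).injective x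

omit [Finite G] in
theorem map_conj_centralizer (g x : G) :
    (centralizer ({x} : Set G)).map (MulAut.conj g).toMonoidHom = centralizer {g * x * g⁻¹} := by
  ext y
  constructor
  · rintro ⟨w, hw, rfl⟩
    refine mem_centralizer_singleton_iff.2 ?_
    simp only [MulEquiv.coe_toMonoidHom, MulAut.conj_apply]
    calc g * w * g⁻¹ * (g * x * g⁻¹) = g * (w * x) * g⁻¹ := by group
      _ = g * x * g⁻¹ * (g * w * g⁻¹) := by rw [mem_centralizer_singleton_iff.1 hw]; group
  · intro hy
    refine ⟨g⁻¹ * y * g, mem_centralizer_singleton_iff.2 ?_, ?_⟩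
    · have := mem_centralizer_singleton_iff.1 hy
      calc g⁻¹ * y * g * x = g⁻¹ * (y * (g * x * g⁻¹)) * g := by group
        _ = x * (g⁻¹ * y * g) := by rw [this]; group
    · simp only [MulEquiv.coe_toMonoidHom, MulAut.conj_apply]
      group

theorem mem_nrm_iff {g x : G} :
    g ∈ normalizer (centralizer ({x} : Set G) : Set G) ↔
      centralizer ({g * x * g⁻¹} : Set G) = centralizer ({x} : Set G) := by
  rw [mem_normalizer_iff_map_conj_eq, ← map_conj_centralizer]
  rfl

namespace Two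

variable {p m : ℕ} (h : Two p m G)
include h

theorem index_eq {x : G} (hx : NC p x) : (centralizer ({x} : Set G)).index = m :=
  (h.sizes x hx.1).resolve_left fun h1 => hx.2 (TwoSizes.index_one_iff.1 h1)

theorem m_ne_zero : m ≠ 0 := by
  obtain ⟨r, -, hr, -, -, hrp, -, ⟨y, hy, k, hk⟩, -⟩ := h.two
  rw [← h.index_eq ⟨coprime_of_pow h.prime hr hrp hk, hy⟩]
  exact index_ne_zero_of_finite

theorem card_centralizer {x : G} (hx : NC p x) : Nat.card (centralizer ({x} : Set G)) * m = Nat.card G := by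
  rw [← h.index_eq hx]
  exact card_mul_index _

theorem centralizer_eq {x y : G} (hx : NC p x) (hy : NC p y)
    (hle : centralizer ({x} : Set G) ≤ centralizer ({y} : Set G)) :
    centralizer ({x} : Set G) = centralizer ({y} : Set G) := by
  refine eq_of_le_of_card_ge hle (le_of_eq ?_)
  have h1 := h.card_centralizer hx
  rw [← h.card_centralizer hy] at h1
  exact (Nat.eq_of_mul_eq_mul_right (Nat.pos_of_ne_zero h.m_ne_zero) h1).symm

theorem nc_conj {x : G} (g : G) (hx : NC p x) : NC p (g * x * g⁻¹) :=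
  ⟨by rw [orderOf_conj']; exact hx.1, fun hc => hx.2 (by
    have h1 := Subgroup.mem_center_iff.1 hc g
    rw [show x = g * x * g⁻¹ from by
      calc x = g⁻¹ * (g * x * g⁻¹ * g) := by group
        _ = g * x * g⁻¹ := by rw [← h1]; group]
    exact hc)⟩

theorem exists_primary {x : G} (hx : NC p x) :
    ∃ y ∈ zpowers x, NC p y ∧ ∃ s k, s.Prime ∧ s ≠ p ∧ orderOf y = s ^ k := by
  by_contra hcon
  push Not at hcon
  refine hx.2 (TwoSizes.mem_of_primary _ x fun y hy q k hq hk => ?_)
  by_contra hyc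
  have hco : (orderOf y).Coprime p := hx.1.coprime_dvd_left (orderOf_dvd_of_mem_zpowers hy)
  refine hcon y hy ⟨hco, hyc⟩ q k hq ?_ hk
  rintro rfl
  rw [hk] at hco
  rcases Nat.eq_zero_or_pos k with rfl | hk0
  · exact hyc (by rw [orderOf_eq_one_iff.1 (show orderOf y = 1 by simpa using hk)]; exact one_mem _)
  · exact hq.not_dvd_one (by
      have := Nat.Coprime.coprime_dvd_left (dvd_pow_self q hk0.ne') hco
      rw [Nat.coprime_self] at this
      rw [this])

theorem exists_act_commute {x : G} (hx : NC p x) {t : ℕ} (ht : t.Prime) (htp : t ≠ p) (hact : Act G t) :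
    ∃ y, Commute x y ∧ NC p y ∧ ∃ k, orderOf y = t ^ k := by
  haveI := Fact.mk ht
  obtain ⟨y, hy, k, hk⟩ := hact
  have hyNC : NC p y := ⟨coprime_of_pow h.prime ht htp hk, hy⟩
  obtain ⟨S⟩ : Nonempty (Sylow t (centralizer ({x} : Set G))) := inferInstance
  set Sg := (S : Subgroup (centralizer ({x} : Set G))).map (centralizer ({x} : Set G)).subtype
  by_contra hcon
  push Not at hcon
  have hSc : ∀ s ∈ Sg, s ∈ center G := by
    intro s hs
    by_contra hsc
    obtain ⟨j, hj⟩ := IsPGroup.iff_orderOf.1 (S.isPGroup'.map _) ⟨s, hs⟩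
    rw [Subgroup.orderOf_mk] at hj
    obtain ⟨⟨c, hc⟩, -, rfl⟩ := hs
    exact hcon c (mem_centralizer_singleton_iff.1 hc).symm ⟨coprime_of_pow h.prime ht htp hj, hsc⟩ j hj
  have hT : IsPGroup t (Sg ⊔ zpowers y : Subgroup G) := by
    refine IsPGroup.to_sup_of_normal_right' (S.isPGroup'.map _)
      (IsPGroup.of_card (by rw [Nat.card_zpowers, hk])) ?_
    intro s hs
    exact center_le_normalizer _ (hSc s hs)
  have hTle : Sg ⊔ zpowers y ≤ centralizer ({y} : Set G) := sup_le
    (fun s hs => mem_centralizer_singleton_iff.2 (Subgroup.mem_center_iff.1 (hSc s hs) y).symm)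
    (zpowers_le.2 (mem_centralizer_singleton_iff.2 rfl))
  obtain ⟨j, hj⟩ := IsPGroup.iff_card.1 hT
  have hcard : Nat.card (centralizer ({x} : Set G)) = Nat.card (centralizer ({y} : Set G)) := by
    have h1 := h.card_centralizer hx
    rw [← h.card_centralizer hyNC] at h1
    exact Nat.eq_of_mul_eq_mul_right (Nat.pos_of_ne_zero h.m_ne_zero) h1
  have hd : t ^ j ∣ Nat.card (centralizer ({x} : Set G)) := by
    rw [hcard, ← hj]
    exact card_dvd_of_le hTle
  have hle : Nat.card (Sg ⊔ zpowers y : Subgroup G) ≤ Nat.card Sg := by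
    rw [← Nat.card_congr (equivMapOfInjective (S : Subgroup (centralizer ({x} : Set G))) _
      (subtype_injective _)).toEquiv, hj]
    exact Nat.le_of_dvd Nat.card_pos (S.pow_dvd_card_of_pow_dvd_card hd)
  have heq : Sg = Sg ⊔ zpowers y := eq_of_le_of_card_ge le_sup_left hle
  exact hy (hSc y (heq ▸ mem_sup_right (mem_zpowers y)))

theorem step {x z : G} (hx : NC p x) (hz : (orderOf z).Coprime p) (hc : Commute x z)
    (hco : (orderOf x).Coprime (orderOf z)) : centralizer ({x} : Set G) ≤ centralizer ({z} : Set G) := by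
  have hmem : ∀ {s t : G}, Commute s t → (orderOf t).Coprime (orderOf s) → s ∈ zpowers (s * t) := by
    intro s t hst hco'
    obtain ⟨e, he⟩ := exists_pow_eq_self_of_coprime hco'
    have e' : s = (s * t) ^ (orderOf t * e) := by rw [pow_mul, hst.mul_pow, pow_orderOf_eq_one, mul_one, he]
    have := Subgroup.npow_mem_zpowers (s * t) (orderOf t * e)
    rwa [← e'] at this
  have h1 := TwoSizes.centralizer_le_of_mem (hmem hc hco.symm)
  have h2 := TwoSizes.centralizer_le_of_mem (hmem hc.symm hco)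
  rw [← hc.eq] at h2
  have hxz : NC p (x * z) := ⟨(Nat.Coprime.mul_left hx.1 hz).coprime_dvd_left hc.orderOf_mul_dvd_mul_orderOf,
    fun hcen => hx.2 ((zpowers_le.2 hcen) (hmem hc hco.symm))⟩
  rw [← h.centralizer_eq hxz hx h1]
  exact h2

theorem le_centralizer {x z : G} (hx : NC p x) (hz : (orderOf z).Coprime p) (hc : Commute x z) :
    centralizer ({x} : Set G) ≤ centralizer ({z} : Set G) := by
  obtain ⟨x₀, hx₀, hx₀NC, s, k, hs, hsp, hk⟩ := h.exists_primary hx
  have heq := h.centralizer_eq hx hx₀NC (TwoSizes.centralizer_le_of_mem hx₀)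
  rw [heq]
  have hz0 : z ∈ centralizer ({x₀} : Set G) := heq ▸ mem_centralizer_singleton_iff.2 hc.eq.symm
  have hmem : z ∈ centralizer (centralizer ({x₀} : Set G) : Set G) := by
    refine TwoSizes.mem_of_primary _ z fun w hw q e hq he => ?_
    have hwco : (orderOf w).Coprime p := hz.coprime_dvd_left (orderOf_dvd_of_mem_zpowers hw)
    have hwc : w ∈ centralizer ({x₀} : Set G) := zpowers_le.2 hz0 hw
    have key : centralizer ({x₀} : Set G) ≤ centralizer ({w} : Set G) := by
      by_cases hqs : q = s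
      · obtain ⟨r₀, s₀, hr₀, hs₀, hne, hr₀p, hs₀p, ha, hb⟩ := h.two
        obtain ⟨t, ht, htp, hts, hact⟩ : ∃ t, t.Prime ∧ t ≠ p ∧ t ≠ s ∧ Act G t := by
          by_cases e0 : r₀ = s
          · exact ⟨s₀, hs₀, hs₀p, fun e1 => hne (e0.trans e1.symm), hb⟩
          · exact ⟨r₀, hr₀, hr₀p, e0, ha⟩
        obtain ⟨y, hxy, hyNC, j, hj⟩ := h.exists_act_commute hx₀NC ht htp hact
        have hcop : (orderOf x₀).Coprime (orderOf y) := by
          rw [hk, hj]
          exact Nat.Coprime.pow k j ((Nat.coprime_primes hs ht).2 hts.symm)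
        have he' := h.centralizer_eq hx₀NC hyNC (h.step hx₀NC hyNC.1 hxy hcop)
        rw [he'] at hwc ⊢
        refine h.step hyNC hwco (mem_centralizer_singleton_iff.1 hwc).symm ?_
        rw [hj, he]
        exact Nat.Coprime.pow j e ((Nat.coprime_primes ht hq).2 (hqs ▸ hts))
      · refine h.step hx₀NC hwco (mem_centralizer_singleton_iff.1 hwc).symm ?_
        rw [hk, he]
        exact Nat.Coprime.pow k e ((Nat.coprime_primes hs hq).2 (Ne.symm hqs))
    exact mem_centralizer_iff.2 fun g hg => mem_centralizer_singleton_iff.1 (key hg)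
  exact fun g hg => mem_centralizer_singleton_iff.2 (mem_centralizer_iff.1 hmem g hg)

theorem eq_of_commute {x y : G} (hx : NC p x) (hy : NC p y) (hc : Commute x y) :
    centralizer ({x} : Set G) = centralizer ({y} : Set G) :=
  h.centralizer_eq hx hy (h.le_centralizer hx hy.1 hc)

theorem commute_of_commute {x z w : G} (hx : NC p x) (hz : (orderOf z).Coprime p) (hxz : Commute x z)
    (hxw : Commute x w) : Commute w z :=
  mem_centralizer_singleton_iff.1 (h.le_centralizer hx hz hxz (mem_centralizer_singleton_iff.2 hxw.eq.symm))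

theorem mem_spart {x z : G} {s : ℕ} (hx : NC p x) (hs : s.Prime) (hsp : s ≠ p) :
    z ∈ spart x s ↔ Commute x z ∧ ∃ k, orderOf z = s ^ k := by
  refine ⟨fun hz => ?_, fun hz => subset_closure hz⟩
  induction hz using closure_induction with
  | mem z hz => exact hz
  | one => exact ⟨Commute.one_right x, 0, by simp⟩
  | mul a b _ _ iha ihb =>
    obtain ⟨ha, i, hi⟩ := iha
    obtain ⟨hb, j, hj⟩ := ihb
    refine ⟨ha.mul_right hb, ?_⟩
    have hab : Commute a b := h.commute_of_commute hx (coprime_of_pow h.prime hs hsp hj) hb ha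
    have hd := hab.orderOf_mul_dvd_mul_orderOf
    rw [hi, hj, ← pow_add] at hd
    obtain ⟨e, -, he⟩ := (Nat.dvd_prime_pow hs).1 hd
    exact ⟨e, he⟩
  | inv a _ iha => exact ⟨iha.1.inv_right, by rw [orderOf_inv]; exact iha.2⟩

theorem nc_of_mem {x z : G} {s : ℕ} (hx : NC p x) (hs : s.Prime) (hsp : s ≠ p) (hz : z ∈ spart x s)
    (hzc : z ∉ center G) : NC p z := by
  obtain ⟨-, k, hk⟩ := (h.mem_spart hx hs hsp).1 hz
  exact ⟨coprime_of_pow h.prime hs hsp hk, hzc⟩

theorem isPGroup_spart {x : G} {s : ℕ} (hx : NC p x) (hs : s.Prime) (hsp : s ≠ p) : IsPGroup s (spart x s) := by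
  haveI := Fact.mk hs
  refine IsPGroup.iff_orderOf.2 fun z => ?_
  obtain ⟨-, k, hk⟩ := (h.mem_spart hx hs hsp).1 z.2
  exact ⟨k, by rw [← hk, ← Subgroup.orderOf_coe]⟩

theorem spart_le {x : G} {s : ℕ} (hx : NC p x) (hs : s.Prime) (hsp : s ≠ p) :
    spart x s ≤ centralizer ({x} : Set G) := fun _ hz =>
  mem_centralizer_singleton_iff.2 ((h.mem_spart hx hs hsp).1 hz).1.eq.symm

theorem spart_commute {x z w : G} {s : ℕ} (hx : NC p x) (hs : s.Prime) (hsp : s ≠ p) (hz : z ∈ spart x s)
    (hw : w ∈ centralizer ({x} : Set G)) : Commute w z := by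
  obtain ⟨hc, k, hk⟩ := (h.mem_spart hx hs hsp).1 hz
  exact h.commute_of_commute hx (coprime_of_pow h.prime hs hsp hk) hc (mem_centralizer_singleton_iff.1 hw).symm

theorem sylow_le_spart {x : G} {s : ℕ} (hx : NC p x) (hs : s.Prime) (hsp : s ≠ p)
    (S : Sylow s (centralizer ({x} : Set G))) :
    (S : Subgroup (centralizer ({x} : Set G))).map (centralizer ({x} : Set G)).subtype ≤ spart x s := by
  haveI := Fact.mk hs
  rintro _ ⟨⟨c, hc⟩, hcS, rfl⟩
  obtain ⟨k, hk⟩ := IsPGroup.iff_orderOf.1 S.isPGroup' ⟨⟨c, hc⟩, hcS⟩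
  rw [Subgroup.orderOf_mk, Subgroup.orderOf_mk] at hk
  exact subset_closure ⟨(mem_centralizer_singleton_iff.1 hc).symm, k, hk⟩

/-- for `s` prime to `m` the `s`-elements of a centralizer form a Sylow subgroup -/
theorem spart_sylow {x : G} {s : ℕ} (hx : NC p x) (hs : s.Prime) (hsp : s ≠ p) (hsm : ¬ s ∣ m) :
    ∃ R : Sylow s G, (R : Subgroup G) = spart x s := by
  haveI := Fact.mk hs
  obtain ⟨S⟩ : Nonempty (Sylow s (centralizer ({x} : Set G))) := inferInstance
  obtain ⟨R, hR⟩ := (h.isPGroup_spart hx hs hsp).exists_le_sylow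
  refine ⟨R, (eq_of_le_of_card_ge hR ?_).symm⟩
  obtain ⟨j, hj⟩ := R.isPGroup'.exists_card_eq
  have hd : s ^ j ∣ Nat.card (centralizer ({x} : Set G)) := by
    have h1 : s ^ j ∣ Nat.card (centralizer ({x} : Set G)) * m := by
      rw [h.card_centralizer hx, ← hj]
      exact card_subgroup_dvd_card _
    exact (Nat.Coprime.pow_left j ((hs.coprime_iff_not_dvd).2 hsm)).dvd_of_dvd_mul_right h1
  rw [hj]
  refine (Nat.le_of_dvd Nat.card_pos (S.pow_dvd_card_of_pow_dvd_card hd)).trans ?_
  rw [Nat.card_congr (equivMapOfInjective (S : Subgroup (centralizer ({x} : Set G))) _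
    (subtype_injective _)).toEquiv]
  exact Nat.le_of_dvd Nat.card_pos (card_dvd_of_le (h.sylow_le_spart hx hs hsp S))

theorem exists_nc_spart {x : G} {t : ℕ} (hx : NC p x) (ht : t.Prime) (htp : t ≠ p) (hact : Act G t) :
    ∃ y ∈ spart x t, NC p y := by
  obtain ⟨y, hxy, hy, hk⟩ := h.exists_act_commute hx ht htp hact
  exact ⟨y, subset_closure ⟨hxy, hk⟩, hy⟩

theorem spart_conj_mem {x g z : G} {s : ℕ} (hx : NC p x) (hs : s.Prime) (hsp : s ≠ p)
    (hg : g ∈ normalizer (centralizer ({x} : Set G) : Set G)) (hz : z ∈ spart x s) : g * z * g⁻¹ ∈ spart x s := by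
  obtain ⟨hc, k, hk⟩ := (h.mem_spart hx hs hsp).1 hz
  refine subset_closure ⟨?_, k, by rw [orderOf_conj']; exact hk⟩
  exact (mem_centralizer_singleton_iff.1
    ((mem_normalizer_iff.1 hg z).1 (mem_centralizer_singleton_iff.2 hc.eq.symm))).symm

/-- a subgroup of `C(x)` with a noncentral regular element has its normalizer inside `N(C(x))` -/
theorem normalizer_le {x y : G} {T : Subgroup G} (hx : NC p x) (hy : NC p y) (hyT : y ∈ T)
    (hT : T ≤ centralizer ({x} : Set G)) :
    normalizer (T : Set G) ≤ normalizer (centralizer ({x} : Set G) : Set G) := by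
  intro g hg
  have h1 := h.eq_of_commute hx hy (mem_centralizer_singleton_iff.1 (hT hyT)).symm
  have h2 := h.eq_of_commute hx (h.nc_conj g hy)
    (mem_centralizer_singleton_iff.1 (hT ((mem_normalizer_iff.1 hg y).1 hyT))).symm
  rw [h1, mem_nrm_iff, ← h2, h1]

/-- elements normalizing but not centralizing fix only central regular elements -/
theorem fixed_central {x g z : G} (hx : NC p x) (hg : g ∉ centralizer ({x} : Set G))
    (hz : (orderOf z).Coprime p) (hxz : Commute x z) (hgz : Commute g z) : z ∈ center G := by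
  by_contra hzc
  exact hg ((h.eq_of_commute hx ⟨hz, hzc⟩ hxz) ▸ mem_centralizer_singleton_iff.2 hgz.eq)

theorem act_of_dvd {s : ℕ} (hs : s.Prime) (hsm : s ∣ m) : Act G s := by
  haveI := Fact.mk hs
  obtain ⟨r, -, hr, -, -, hrp, -, ⟨y, hy, k, hk⟩, -⟩ := h.two
  have hdvd : s ∣ (centralizer ({y} : Set G)).index := by
    rw [h.index_eq ⟨coprime_of_pow h.prime hr hrp hk, hy⟩]; exact hsm
  obtain ⟨w, hw, hk'⟩ := TwoSizes.prime_of_not_le_center hdvd
  exact ⟨w, hw, hk'⟩

theorem exists_other {q : ℕ} : ∃ t, t.Prime ∧ t ≠ p ∧ t ≠ q ∧ Act G t := by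
  obtain ⟨r₀, s₀, hr₀, hs₀, hne, hr₀p, hs₀p, ha, hb⟩ := h.two
  by_cases e0 : r₀ = q
  · exact ⟨s₀, hs₀, hs₀p, fun e1 => hne (e0.trans e1.symm), hb⟩
  · exact ⟨r₀, hr₀, hr₀p, e0, ha⟩

end Two

end CfsgLib.ClassSizes.RegularTwo
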