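import Mathlib
import Cfsg.Agent.Lib.ClassSizes.RegularTwoBasic

/-!
Two sizes of classes of `p`-regular elements: the automizer of a centralizer.
-/

set_option autoImplicit false
set_option linter.style.haveILetI false
set_option linter.unusedSectionVars false
set_option maxHeartbeats 1000000

namespace CfsgLib.ClassSizes.RegularTwo

open Subgroup

universe u

variable {G : Type u} [Group G] [Finite G]

/-- the normalizer of a centralizer -/
abbrev nrm (x : G) : Subgroup G := normalizer (centralizer ({x} : Set G) : Set G)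

/-- the automizer of a centralizer -/
abbrev Auto (x : G) : Type u := ↥(nrm x) ⧸ (centralizer ({x} : Set G)).subgroupOf (nrm x)

omit [Finite G] in
theorem center_le_cent (x : G) : center G ≤ centralizer ({x} : Set G) := fun g hg =>
  mem_centralizer_singleton_iff.2 (Subgroup.mem_center_iff.1 hg x).symm

omit [Finite G] in
theorem centralizer_mul_central {x z : G} (hz : z ∈ center G) :
    centralizer ({x * z} : Set G) = centralizer ({x} : Set G) := by
  ext g
  simp only [mem_centralizer_singleton_iff]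
  have hgz : g * z = z * g := Subgroup.mem_center_iff.1 hz g
  constructor
  · intro e
    refine mul_right_cancel (b := z) ?_
    rw [mul_assoc, e, mul_assoc, mul_assoc, hgz]
  · intro e
    rw [← mul_assoc, e, mul_assoc, hgz, mul_assoc]

/-- a well-chosen centralizer -/
structure Setup (p m : ℕ) (a u : G) (q : ℕ) : Prop where
  two : Two p m G
  q_prime : q.Prime
  q_ne : q ≠ p
  q_dvd : q ∣ m
  q_min : ∀ s : ℕ, s.Prime → s ≠ p → s ∣ m → q ≤ s
  a_nc : NC p a
  a_q : ∃ k, orderOf a = q ^ k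
  u_mem : u ∈ nrm a
  u_not : u ∉ centralizer ({a} : Set G)
  u_pow : u ^ q ∈ centralizer ({a} : Set G)
  u_q : ∃ k, orderOf u = q ^ k
  comm_mem : u * a * u⁻¹ * a⁻¹ ∈ center G
  comm_pow : (u * a * u⁻¹ * a⁻¹) ^ q = 1
  sq : ¬ q * q ∣ m

theorem Two.spart_le_normalizer {p m : ℕ} (h : Two p m G) {x : G} {s : ℕ} (hx : NC p x) (hs : s.Prime)
    (hsp : s ≠ p) : nrm x ≤ normalizer (spart x s : Set G) := fun g hg => mem_normalizer_iff.2 fun z =>
  ⟨fun hz => h.spart_conj_mem hx hs hsp hg hz, fun hz => by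
    have := h.spart_conj_mem hx hs hsp (inv_mem hg) hz
    rwa [show g⁻¹ * (g * z * g⁻¹) * g⁻¹⁻¹ = z by group] at this⟩

theorem exists_setup {p m : ℕ} (h : Two p m G) : ∃ a u : G, ∃ q, Setup p m a u q := by
  classical
  have hex : ∃ q, q.Prime ∧ q ≠ p ∧ q ∣ m := by
    by_contra hcon
    push Not at hcon
    exact h.not_pow ⟨_, Nat.eq_prime_pow_of_unique_prime_dvd h.m_ne_zero fun {d} hd hdm => by
      by_contra hne; exact hcon d hd hne hdm⟩
  set q := Nat.find hex
  obtain ⟨hq, hqp, hqm⟩ := Nat.find_spec hex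
  haveI := Fact.mk hq
  have hmin : ∀ s : ℕ, s.Prime → s ≠ p → s ∣ m → q ≤ s := fun s h1 h2 h3 => Nat.find_le ⟨h1, h2, h3⟩
  obtain ⟨y, hy, k, hk⟩ := h.act_of_dvd hq hqm
  obtain ⟨Q, hyQ⟩ := (IsPGroup.of_card (show Nat.card (zpowers y) = q ^ k by rw [Nat.card_zpowers, hk])).exists_le_sylow
  -- central elements of the Sylow subgroup are central
  have hZ : ∀ z ∈ (Q : Subgroup G), (∀ v ∈ (Q : Subgroup G), v * z = z * v) → z ∈ center G := by
    intro z hz hcomm
    by_contra hzc
    obtain ⟨j, hj⟩ := IsPGroup.iff_orderOf.1 Q.isPGroup' ⟨z, hz⟩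
    rw [Subgroup.orderOf_mk] at hj
    have hNC : NC p z := ⟨coprime_of_pow h.prime hq hqp hj, hzc⟩
    have hle : (Q : Subgroup G) ≤ centralizer ({z} : Set G) := fun v hv =>
      mem_centralizer_singleton_iff.2 (hcomm v hv)
    refine Q.not_dvd_index (dvd_trans ?_ (index_dvd_of_le hle))
    rw [h.index_eq hNC]
    exact hqm
  -- an element of the second centre
  set ZQ := center (Q : Subgroup G) with hZQ
  have hZQne : ZQ ≠ ⊤ := fun e => hy (hZ y (hyQ (mem_zpowers y)) fun v hv =>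
    congrArg Subtype.val (Subgroup.mem_center_iff.1 (e ▸ mem_top (⟨y, hyQ (mem_zpowers y)⟩ : (Q : Subgroup G))) ⟨v, hv⟩))
  haveI : Nontrivial ((Q : Subgroup G) ⧸ ZQ) := QuotientGroup.nontrivial_iff.2 hZQne
  have hQZ : IsPGroup q ((Q : Subgroup G) ⧸ ZQ) := Q.isPGroup'.to_quotient ZQ
  haveI := hQZ.center_nontrivial
  have hdvd : q ∣ Nat.card (center ((Q : Subgroup G) ⧸ ZQ)) := by
    obtain ⟨n, hn⟩ := IsPGroup.iff_card.1 (hQZ.to_subgroup (center ((Q : Subgroup G) ⧸ ZQ)))
    rcases Nat.eq_zero_or_pos n with rfl | hn0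
    · exact absurd hn (by rw [pow_zero]; exact Finite.one_lt_card.ne')
    · rw [hn]; exact dvd_pow_self q hn0.ne'
  obtain ⟨⟨bq, hbc⟩, hb⟩ := exists_prime_orderOf_dvd_card' q hdvd
  obtain ⟨⟨a, haQ⟩, rfl⟩ := QuotientGroup.mk'_surjective ZQ bq
  rw [Subgroup.orderOf_mk] at hb
  have hmemZ : ∀ {w : (Q : Subgroup G)}, w ∈ ZQ → (w : G) ∈ center G := fun {w} hw =>
    hZ w w.2 fun v hv => congrArg Subtype.val (Subgroup.mem_center_iff.1 hw ⟨v, hv⟩)
  have hac : a ∉ center G := by
    intro hac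
    have e : (QuotientGroup.mk' ZQ ⟨a, haQ⟩) = 1 :=
      (QuotientGroup.eq_one_iff _).2 (Subgroup.mem_center_iff.2 fun v => Subtype.ext (Subgroup.mem_center_iff.1 hac v))
    rw [e, orderOf_one] at hb
    exact hq.one_lt.ne hb
  have haq : a ^ q ∈ center G := by
    have e := pow_orderOf_eq_one (QuotientGroup.mk' ZQ ⟨a, haQ⟩)
    rw [hb] at e
    rw [← map_pow] at e
    exact hmemZ ((QuotientGroup.eq_one_iff _).1 e)
  have hcomm : ∀ v ∈ (Q : Subgroup G), v * a * v⁻¹ * a⁻¹ ∈ center G := fun v hv => by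
    have e := Subgroup.mem_center_iff.1 hbc (QuotientGroup.mk' ZQ ⟨v, hv⟩)
    have e' : QuotientGroup.mk' ZQ (⟨v, hv⟩ * ⟨a, haQ⟩ * ⟨v, hv⟩⁻¹ * ⟨a, haQ⟩⁻¹) = 1 := by
      rw [map_mul, map_mul, map_mul, map_inv, map_inv, e]
      group
    exact hmemZ ((QuotientGroup.eq_one_iff _).1 e')
  obtain ⟨ka, hka⟩ := IsPGroup.iff_orderOf.1 Q.isPGroup' ⟨a, haQ⟩
  rw [Subgroup.orderOf_mk] at hka
  have hNC : NC p a := ⟨coprime_of_pow h.prime hq hqp hka, hac⟩
  have hQN : (Q : Subgroup G) ≤ nrm a := fun v hv => by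
    rw [mem_nrm_iff, show v * a * v⁻¹ = a * (v * a * v⁻¹ * a⁻¹) by
      rw [Subgroup.mem_center_iff.1 (hcomm v hv) a]; group]
    exact centralizer_mul_central (hcomm v hv)
  -- the `q`-part of the centralizer
  have hsQ : spart a q ≤ (Q : Subgroup G) := by
    have hP : IsPGroup q ((Q : Subgroup G) ⊔ spart a q : Subgroup G) :=
      IsPGroup.to_sup_of_normal_right' Q.isPGroup' (h.isPGroup_spart hNC hq hqp)
        (hQN.trans (h.spart_le_normalizer hNC hq hqp))
    exact le_sup_right.trans (le_of_eq (Q.is_maximal' hP le_sup_left))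
  -- commutators with `a`
  have hconj : ∀ v ∈ (Q : Subgroup G), v * a * v⁻¹ = (v * a * v⁻¹ * a⁻¹) * a := fun v _ => by group
  have hcpow : ∀ v ∈ (Q : Subgroup G), (v * a * v⁻¹ * a⁻¹) ^ q = 1 := by
    intro v hv
    have hac' : Commute (v * a * v⁻¹ * a⁻¹) a := (Subgroup.mem_center_iff.1 (hcomm v hv) a).symm
    have e : (v * a * v⁻¹) ^ q = (v * a * v⁻¹ * a⁻¹) ^ q * a ^ q := by
      rw [← hac'.mul_pow, inv_mul_cancel_right]
    have e2 : (v * a * v⁻¹) ^ q = a ^ q := by
      rw [conj_pow, Subgroup.mem_center_iff.1 haq v, mul_inv_cancel_right]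
    rw [e2] at e
    exact mul_eq_right.1 e.symm
  have hvq : ∀ v ∈ (Q : Subgroup G), v ^ q ∈ centralizer ({a} : Set G) := by
    intro v hv
    have e := TwoSizes.comm_pow_left (a := v) (y := a) rfl (hcomm v hv) q
    rw [hcpow v hv, mul_inv_eq_one, mul_inv_eq_iff_eq_mul] at e
    exact mem_centralizer_singleton_iff.2 e
  have hvw : ∀ v ∈ (Q : Subgroup G), ∀ w ∈ (Q : Subgroup G), v * w * v⁻¹ * w⁻¹ ∈ centralizer ({a} : Set G) := by
    intro v hv w hw
    obtain ⟨cv, hcv, ev⟩ : ∃ c ∈ center G, v * a * v⁻¹ = c * a := ⟨_, hcomm v hv, hconj v hv⟩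
    obtain ⟨cw, hcw, ew⟩ : ∃ c ∈ center G, w * a * w⁻¹ = c * a := ⟨_, hcomm w hw, hconj w hw⟩
    have ev' : v⁻¹ * a * v = cv⁻¹ * a := by
      have e1 : a = cv * (v⁻¹ * a * v) := by
        calc a = v⁻¹ * (v * a * v⁻¹) * v := by group
          _ = (v⁻¹ * cv) * (a * v) := by rw [ev]; group
          _ = cv * (v⁻¹ * a * v) := by rw [Subgroup.mem_center_iff.1 hcv v⁻¹]; group
      exact eq_inv_mul_of_mul_eq e1.symm
    have ew' : w⁻¹ * a * w = cw⁻¹ * a := by
      have e1 : a = cw * (w⁻¹ * a * w) := by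
        calc a = w⁻¹ * (w * a * w⁻¹) * w := by group
          _ = (w⁻¹ * cw) * (a * w) := by rw [ew]; group
          _ = cw * (w⁻¹ * a * w) := by rw [Subgroup.mem_center_iff.1 hcw w⁻¹]; group
      exact eq_inv_mul_of_mul_eq e1.symm
    refine mem_centralizer_singleton_iff.2 (mul_inv_eq_iff_eq_mul.1 ?_)
    have hcv' := Subgroup.mem_center_iff.1 (inv_mem hcv)
    have hcw' := Subgroup.mem_center_iff.1 (inv_mem hcw)
    have hcv'' := Subgroup.mem_center_iff.1 hcv
    calc v * w * v⁻¹ * w⁻¹ * a * (v * w * v⁻¹ * w⁻¹)⁻¹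
        = v * (w * (v⁻¹ * (w⁻¹ * a * w) * v) * w⁻¹) * v⁻¹ := by group
      _ = v * (w * ((v⁻¹ * cw⁻¹) * (a * v)) * w⁻¹) * v⁻¹ := by rw [ew']; group
      _ = v * ((w * cw⁻¹) * (v⁻¹ * a * v) * w⁻¹) * v⁻¹ := by rw [hcw' v⁻¹]; group
      _ = (v * cw⁻¹) * ((w * cv⁻¹) * (a * w⁻¹)) * v⁻¹ := by rw [hcw' w, ev']; group
      _ = cw⁻¹ * ((v * cv⁻¹) * (w * a * w⁻¹) * v⁻¹) := by rw [hcw' v, hcv' w]; group
      _ = cw⁻¹ * (cv⁻¹ * ((v * cw) * (a * v⁻¹))) := by rw [hcv' v, ew]; group
      _ = cw⁻¹ * (cv⁻¹ * (cw * (v * a * v⁻¹))) := by rw [Subgroup.mem_center_iff.1 hcw v]; group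
      _ = cw⁻¹ * ((cv⁻¹ * cw) * cv) * a := by rw [ev]; group
      _ = cw⁻¹ * ((cw * cv⁻¹) * cv) * a := by rw [Subgroup.mem_center_iff.1 hcw cv⁻¹]
      _ = a := by group
  -- the quotient by the centralizer has order `q`
  set A := (centralizer ({a} : Set G)).subgroupOf (Q : Subgroup G)
  obtain ⟨u, huQ, hu⟩ : ∃ u ∈ (Q : Subgroup G), u ∉ centralizer ({a} : Set G) := by
    by_contra hcon
    push Not at hcon
    exact hac (hZ a haQ fun v hv => mem_centralizer_singleton_iff.1 (hcon v hv))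
  haveI hAn : A.Normal := by
    have := (Subgroup.normal_in_normalizer (H := centralizer ({a} : Set G)))
    exact Subgroup.normal_subgroupOf_of_le_normalizer hQN
  let π := QuotientGroup.mk' A
  have hpow : ∀ x : (Q : Subgroup G) ⧸ A, x ^ q = 1 := by
    intro x
    obtain ⟨⟨v, hv⟩, rfl⟩ := QuotientGroup.mk'_surjective A x
    rw [← map_pow]
    exact (QuotientGroup.eq_one_iff _).2 (hvq v hv)
  have hcommQ : ∀ x y : (Q : Subgroup G) ⧸ A, x * y = y * x := by
    intro x y
    obtain ⟨⟨v, hv⟩, rfl⟩ := QuotientGroup.mk'_surjective A x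
    obtain ⟨⟨w, hw⟩, rfl⟩ := QuotientGroup.mk'_surjective A y
    have : π (⟨v, hv⟩ * ⟨w, hw⟩ * ⟨v, hv⟩⁻¹ * ⟨w, hw⟩⁻¹) = 1 := (QuotientGroup.eq_one_iff _).2 (hvw v hv w hw)
    rw [map_mul, map_mul, map_mul, map_inv, map_inv, mul_inv_eq_one, mul_inv_eq_iff_eq_mul] at this
    exact this
  have hux : π ⟨u, huQ⟩ ≠ 1 := fun e => hu ((QuotientGroup.eq_one_iff (N := A) (⟨u, huQ⟩ : (Q : Subgroup G))).1 e)
  have hcyc : ∀ x : (Q : Subgroup G) ⧸ A, x ∈ zpowers (π ⟨u, huQ⟩) := by
    by_contra hcon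
    push Not at hcon
    obtain ⟨x, hx⟩ := hcon
    obtain ⟨⟨v, hv⟩, rfl⟩ := QuotientGroup.mk'_surjective A x
    obtain ⟨t, ht, htp, htq, hact⟩ := h.exists_other (q := q)
    haveI : IsMulCommutative (spart a t) := ⟨⟨fun z w => Subtype.ext
      ((h.spart_commute hNC ht htp w.2 (h.spart_le hNC ht htp z.2)).eq)⟩⟩
    letI : CommGroup (spart a t) := { (inferInstance : Group (spart a t)) with mul_comm := mul_comm' }
    let φ : (Q : Subgroup G) →* MulAut (spart a t) := (spart a t).normalizerMonoidHom.comp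
      (Subgroup.inclusion (hQN.trans (h.spart_le_normalizer hNC ht htp)))
    have hφ : ∀ (w : (Q : Subgroup G)) (z : spart a t), ((φ w z : spart a t) : G) = w * z * (w : G)⁻¹ := fun w z => rfl
    have hker : ∀ w : (Q : Subgroup G), (w : G) ∈ centralizer ({a} : Set G) → φ w = 1 := fun w hw => by
      refine MulEquiv.ext fun z => Subtype.ext ?_
      rw [hφ, (h.spart_commute hNC ht htp z.2 hw).eq, mul_inv_cancel_right]
      rfl
    let θ : (Q : Subgroup G) ⧸ A →* MulAut (spart a t) := QuotientGroup.lift A φ fun w hw => hker w hw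
    have hfix : ∀ x : (Q : Subgroup G) ⧸ A, x ≠ 1 → ∀ z : spart a t, θ x z = z → z ∈ (center G).subgroupOf (spart a t) := by
      intro x hx z hz
      obtain ⟨⟨w, hw⟩, rfl⟩ := QuotientGroup.mk'_surjective A x
      obtain ⟨hc, k, hk⟩ := (h.mem_spart hNC ht htp).1 z.2
      refine mem_subgroupOf.2 (h.fixed_central hNC (fun e => hx ((QuotientGroup.eq_one_iff _).2 e))
        (coprime_of_pow h.prime ht htp hk) hc ?_)
      exact mul_inv_eq_iff_eq_mul.1 ((hφ ⟨w, hw⟩ z).symm.trans (congrArg Subtype.val hz))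
    have hcen : ∀ z ∈ (center G).subgroupOf (spart a t), ∀ x, θ x z = z := by
      intro z hz x
      obtain ⟨⟨w, hw⟩, rfl⟩ := QuotientGroup.mk'_surjective A x
      refine Subtype.ext ((hφ ⟨w, hw⟩ z).trans ?_)
      rw [Subgroup.mem_center_iff.1 (mem_subgroupOf.1 hz) w, mul_inv_cancel_right]
    obtain ⟨y, hy', hyNC⟩ := h.exists_nc_spart hNC ht htp hact
    have hkey := cover (θ (π ⟨u, huQ⟩)) (θ (π ⟨v, hv⟩)) (q := q) (n := q) (s := 1)
      ((center G).subgroupOf (spart a t)) hq.pos (by rw [← map_pow, hpow, map_one]) hq.pos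
      (by rw [← map_pow, hpow, map_one]) (by rw [pow_one, ← map_mul, hcommQ, map_mul])
      (by simp) (fun j hj hjq => by
        simp only [one_pow, Finset.sum_const, Finset.card_range, smul_eq_mul, mul_one]
        exact ((hq.coprime_iff_not_dvd).2 fun hd => absurd (Nat.le_of_dvd hj hd) (by omega)).symm)
      (hfix _ hux) (fun k => by
        rw [← map_pow, ← map_mul]
        refine hfix _ fun e => hx ?_
        rw [mul_eq_one_iff_eq_inv.1 e]
        exact inv_mem (npow_mem_zpowers _ k))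
      (fun z hz => hcen z hz _) ⟨y, hy'⟩
    refine hyNC.2 ?_
    obtain ⟨-, k, hk⟩ := (h.mem_spart hNC ht htp).1 hy'
    have hco : q.Coprime (orderOf y) := by rw [hk]; exact Nat.Coprime.pow_right k ((Nat.coprime_primes hq ht).2 htq.symm)
    obtain ⟨e, he⟩ := exists_pow_eq_self_of_coprime hco
    rw [← he]
    exact pow_mem (mem_subgroupOf.1 hkey) e
  have hidx : A.index = q := by
    have : zpowers (π ⟨u, huQ⟩) = ⊤ := (eq_top_iff' _).2 hcyc
    rw [Subgroup.index, ← card_top (G := (Q : Subgroup G) ⧸ A), ← this, Nat.card_zpowers]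
    exact orderOf_eq_prime (hpow _) hux
  -- `m` has `q`-part `q`
  have hsq : ¬ q * q ∣ m := by
    intro hdd
    have hA := A.index_mul_card
    rw [hidx] at hA
    obtain ⟨j, hj⟩ := Q.isPGroup'.exists_card_eq
    have hle : A.map (Q : Subgroup G).subtype ≤ centralizer ({a} : Set G) := by
      rintro _ ⟨w, hw, rfl⟩
      exact hw
    have hd : Nat.card A ∣ Nat.card (centralizer ({a} : Set G)) := by
      rw [← card_map_of_injective (K := A) (Q : Subgroup G).subtype_injective]
      exact card_dvd_of_le hle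
    have h1 : q ^ (j + 1) ∣ Nat.card G := by
      rw [← h.card_centralizer hNC, pow_succ, ← hj, ← hA, show q * Nat.card A * q = Nat.card A * (q * q) by ring]
      exact mul_dvd_mul hd hdd
    have h2 := Nat.le_of_dvd Nat.card_pos (Q.pow_dvd_card_of_pow_dvd_card h1)
    rw [hj] at h2
    exact absurd h2 (by rw [not_le]; exact Nat.pow_lt_pow_right hq.one_lt (Nat.lt_succ_self j))
  obtain ⟨ku, hku⟩ := IsPGroup.iff_orderOf.1 Q.isPGroup' ⟨u, huQ⟩
  rw [Subgroup.orderOf_mk] at hku
  exact ⟨a, u, q, h, hq, hqp, hqm, hmin, hNC, ⟨ka, hka⟩, hQN huQ, hu, hvq u huQ, ⟨ku, hku⟩, hcomm u huQ,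
    hcpow u huQ, hsq⟩

namespace Setup

variable {p m q : ℕ} {a u : G} (S : Setup p m a u q)
include S

/-- the action of the automizer on the `s`-elements -/
theorem exists_theta {s : ℕ} (hs : s.Prime) (hsp : s ≠ p) :
    ∃ θ : Auto a →* MulAut (spart a s), (∀ (g : nrm a) (z : spart a s),
      ((θ (QuotientGroup.mk g) z : spart a s) : G) = g * z * (g : G)⁻¹) ∧
      (∀ x, x ≠ 1 → ∀ z, θ x z = z → (z : G) ∈ center G) ∧
      ∀ z : spart a s, (z : G) ∈ center G → ∀ x, θ x z = z := by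
  have h := S.two
  let φ : nrm a →* MulAut (spart a s) := (spart a s).normalizerMonoidHom.comp
    (Subgroup.inclusion (h.spart_le_normalizer S.a_nc hs hsp))
  have hφ : ∀ (w : nrm a) (z : spart a s), ((φ w z : spart a s) : G) = w * z * (w : G)⁻¹ := fun w z => rfl
  have hker : ∀ w : nrm a, (w : G) ∈ centralizer ({a} : Set G) → φ w = 1 := fun w hw => by
    refine MulEquiv.ext fun z => Subtype.ext ?_
    rw [hφ, (h.spart_commute S.a_nc hs hsp z.2 hw).eq, mul_inv_cancel_right]
    rfl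
  refine ⟨QuotientGroup.lift _ φ fun w hw => hker w hw, hφ, ?_, ?_⟩
  · intro x hx z hz
    obtain ⟨⟨w, hw⟩, rfl⟩ := QuotientGroup.mk'_surjective _ x
    obtain ⟨hc, k, hk⟩ := (h.mem_spart S.a_nc hs hsp).1 z.2
    refine h.fixed_central S.a_nc (fun e => hx ((QuotientGroup.eq_one_iff _).2 e))
      (coprime_of_pow h.prime hs hsp hk) hc ?_
    exact mul_inv_eq_iff_eq_mul.1 ((hφ ⟨w, hw⟩ z).symm.trans (congrArg Subtype.val hz))
  · intro z hz x
    obtain ⟨⟨w, hw⟩, rfl⟩ := QuotientGroup.mk'_surjective _ x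
    refine Subtype.ext ((hφ ⟨w, hw⟩ z).trans ?_)
    rw [Subgroup.mem_center_iff.1 hz w, mul_inv_cancel_right]

theorem ubar_ne : (QuotientGroup.mk (⟨u, S.u_mem⟩ : nrm a) : Auto a) ≠ 1 := fun e =>
  S.u_not ((QuotientGroup.eq_one_iff (N := (centralizer ({a} : Set G)).subgroupOf (nrm a)) (⟨u, S.u_mem⟩ : nrm a)).1 e)

theorem ubar_pow : (QuotientGroup.mk (⟨u, S.u_mem⟩ : nrm a) : Auto a) ^ q = 1 := by
  rw [← QuotientGroup.mk_pow]
  exact (QuotientGroup.eq_one_iff _).2 S.u_pow

theorem orderOf_ubar : orderOf (QuotientGroup.mk (⟨u, S.u_mem⟩ : nrm a) : Auto a) = q := by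
  haveI := Fact.mk S.q_prime
  exact orderOf_eq_prime S.ubar_pow S.ubar_ne

/-- no subgroup of order prime to `q` is normalized by `u` -/
theorem eq_bot_of_normalized (K : Subgroup (Auto a)) (hK : (Nat.card K).Coprime q)
    (hKu : ∀ k ∈ K, (QuotientGroup.mk (⟨u, S.u_mem⟩ : nrm a) : Auto a) * k *
      (QuotientGroup.mk (⟨u, S.u_mem⟩ : nrm a) : Auto a)⁻¹ ∈ K) : K = ⊥ := by
  classical
  by_contra hne
  obtain ⟨k₀, hk₀, hk₀1⟩ : ∃ k ∈ K, k ≠ 1 := by
    by_contra hcon
    push Not at hcon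
    exact hne (eq_bot_iff.2 fun x hx => mem_bot.2 (hcon x hx))
  have h := S.two
  obtain ⟨θ, hθ, hfix, hcen⟩ := S.exists_theta S.q_prime S.q_ne
  haveI : IsMulCommutative (spart a q) := ⟨⟨fun z w => Subtype.ext
    ((h.spart_commute S.a_nc S.q_prime S.q_ne w.2 (h.spart_le S.a_nc S.q_prime S.q_ne z.2)).eq)⟩⟩
  letI : CommGroup (spart a q) := { (inferInstance : Group (spart a q)) with mul_comm := mul_comm' }
  set ū : Auto a := QuotientGroup.mk (⟨u, S.u_mem⟩ : nrm a) with hū
  haveI := Fintype.ofFinite K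
  let η : spart a q → spart a q := fun x => ∏ k : K, θ k x
  have hηfix : ∀ x, (η x : G) ∈ center G := by
    intro x
    refine hfix k₀ hk₀1 (η x) ?_
    simp only [η, map_prod]
    refine Fintype.prod_equiv (Equiv.mulLeft (⟨k₀, hk₀⟩ : K)) _ _ fun k => ?_
    rw [Equiv.coe_mulLeft, Subgroup.coe_mul, map_mul, MulAut.mul_apply]
  have hequ : ∀ x, θ ū (η x) = η (θ ū x) := by
    intro x
    simp only [η, map_prod]
    let e : K → K := fun k => ⟨ū * k * ū⁻¹, hKu k k.2⟩
    have he : Function.Bijective e := Finite.injective_iff_bijective.1 fun k l hkl => by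
      have := congrArg Subtype.val hkl
      simp only [e, mul_left_inj, mul_right_inj] at this
      exact Subtype.ext this
    refine Fintype.prod_bijective e he _ _ fun k => ?_
    rw [← MulAut.mul_apply, ← map_mul, ← MulAut.mul_apply, ← map_mul]
    simp only [e, inv_mul_cancel_right]
  have haA : a ∈ spart a q := subset_closure ⟨Commute.refl a, S.a_q⟩
  have hzA : u * a * u⁻¹ * a⁻¹ ∈ spart a q :=
    mul_mem (h.spart_conj_mem S.a_nc S.q_prime S.q_ne S.u_mem haA) (inv_mem haA)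
  set z₀ : spart a q := ⟨_, hzA⟩ with hz₀
  have hua : θ ū ⟨a, haA⟩ = z₀ * ⟨a, haA⟩ := Subtype.ext (by
    rw [hθ]
    show u * a * u⁻¹ = u * a * u⁻¹ * a⁻¹ * a
    rw [inv_mul_cancel_right])
  have h1 := hequ ⟨a, haA⟩
  rw [hcen _ (hηfix _) ū, hua] at h1
  have h2 : η (z₀ * ⟨a, haA⟩) = z₀ ^ Fintype.card K * η ⟨a, haA⟩ := by
    simp only [η, map_mul, Finset.prod_mul_distrib]
    congr 1
    exact (Fintype.prod_congr _ _ fun k : K => hcen z₀ S.comm_mem (k : Auto a)).trans
      (by rw [Finset.prod_const, Finset.card_univ])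
  rw [h2, eq_comm, mul_eq_right] at h1
  have h3 : z₀ ^ q = 1 := Subtype.ext (by rw [Subgroup.coe_pow]; exact S.comm_pow)
  have hz1 : z₀ = 1 := by
    have := (pow_gcd_eq_one (a := z₀)).2 ⟨h1, h3⟩
    rwa [← Nat.card_eq_fintype_card, hK, pow_one] at this
  refine S.u_not (mem_centralizer_singleton_iff.2 ?_)
  have := congrArg Subtype.val hz1
  rw [hz₀, Subgroup.coe_one, mul_inv_eq_one, mul_inv_eq_iff_eq_mul] at this
  exact this

theorem card_auto_dvd : Nat.card (Auto a) ∣ m := by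
  have h1 := card_eq_card_quotient_mul_card_subgroup ((centralizer ({a} : Set G)).subgroupOf (nrm a))
  rw [Nat.card_congr (subgroupOfEquivOfLe le_normalizer).toEquiv] at h1
  have h2 := card_subgroup_dvd_card (nrm a)
  rw [h1, ← S.two.card_centralizer S.a_nc, mul_comm (Nat.card (centralizer ({a} : Set G))) m] at h2
  exact Nat.dvd_of_mul_dvd_mul_right Nat.card_pos h2

/-- the automizer has order `q` -/
theorem card_auto : Nat.card (Auto a) = q := by
  classical
  haveI := Fact.mk S.q_prime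
  have h := S.two
  set ū : Auto a := QuotientGroup.mk (⟨u, S.u_mem⟩ : nrm a) with hū
  have hord : orderOf ū = q := S.orderOf_ubar
  have hqU : q ∣ Nat.card (Auto a) := hord ▸ orderOf_dvd_natCard ū
  have hq2 : ¬ q * q ∣ Nat.card (Auto a) := fun hd => S.sq (hd.trans S.card_auto_dvd)
  set P₀ := zpowers ū with hP₀
  have hPcard : Nat.card P₀ = q := by rw [Nat.card_zpowers, hord]
  -- the centralizer of `ū`
  have hCeq : centralizer ({ū} : Set (Auto a)) = P₀ := by
    have hle : P₀ ≤ centralizer ({ū} : Set (Auto a)) := zpowers_le.2 (mem_centralizer_singleton_iff.2 rfl)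
    refine (eq_of_le_of_card_ge hle ?_).symm
    obtain ⟨d, hd⟩ := card_dvd_of_le hle
    rw [hPcard] at hd ⊢
    rw [hd]
    suffices d = 1 by rw [this, mul_one]
    by_contra hd1
    obtain ⟨s, hs, hsd⟩ := Nat.exists_prime_and_dvd hd1
    have hsq : s ≠ q := by
      rintro rfl
      exact hq2 (((mul_dvd_mul_left s hsd).trans (dvd_of_eq hd.symm)).trans (card_subgroup_dvd_card _))
    haveI := Fact.mk hs
    obtain ⟨⟨w, hw⟩, hwo⟩ := exists_prime_orderOf_dvd_card' (G := centralizer ({ū} : Set (Auto a))) s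
      (hd ▸ hsd.trans (dvd_mul_left d q))
    rw [Subgroup.orderOf_mk] at hwo
    have hbot := S.eq_bot_of_normalized (zpowers w) (by
      rw [Nat.card_zpowers, hwo]; exact (Nat.coprime_primes hs S.q_prime).2 hsq) (fun k hk => by
        obtain ⟨i, rfl⟩ := mem_zpowers_iff.1 hk
        have hc : Commute ū w := (mem_centralizer_singleton_iff.1 hw).symm
        rw [(hc.zpow_right i).eq, mul_inv_cancel_right]
        exact hk)
    rw [zpowers_eq_bot] at hbot
    rw [hbot, orderOf_one] at hwo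
    exact hs.one_lt.ne hwo
  have hCP : centralizer (P₀ : Set (Auto a)) = P₀ :=
    (show centralizer (zpowers ū : Set (Auto a)) = centralizer ({ū} : Set (Auto a)) by
      rw [zpowers_eq_closure, centralizer_closure]).trans hCeq
  obtain ⟨P, hP⟩ := (IsPGroup.of_card (show Nat.card P₀ = q ^ 1 by rw [hPcard, pow_one])).exists_le_sylow
  have hPeq : (P : Subgroup (Auto a)) = P₀ := by
    refine (eq_of_le_of_card_ge hP ?_).symm
    obtain ⟨j, hj⟩ := P.isPGroup'.exists_card_eq
    rw [hPcard, hj]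
    have hdj : q ^ j ∣ Nat.card (Auto a) := hj ▸ card_subgroup_dvd_card _
    rcases Nat.lt_or_ge j 2 with hj2 | hj2
    · calc q ^ j ≤ q ^ 1 := Nat.pow_le_pow_right S.q_prime.pos (by omega)
        _ = q := pow_one q
    · exact absurd ((pow_two q ▸ pow_dvd_pow q hj2 : q * q ∣ q ^ j).trans hdj) hq2
  have hN : normalizer (P₀ : Set (Auto a)) ≤ centralizer ({ū} : Set (Auto a)) := by
    by_contra hcon
    obtain ⟨w₀, hw₀, hw₀'⟩ := SetLike.not_le_iff_exists.1 hcon
    let φ := P₀.normalizerMonoidHom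
    -- some element of prime order `p` normalizes and does not centralize
    have hker : φ.ker = P₀.subgroupOf (normalizer (P₀ : Set (Auto a))) := by
      rw [normalizerMonoidHom_ker, hCP]
    have hdvd : Nat.card φ.range ∣ q - 1 := by
      haveI : IsCyclic P₀ := isCyclic_of_prime_card hPcard
      have := card_subgroup_dvd_card φ.range
      rwa [IsCyclic.card_mulAut, hPcard, Nat.totient_prime S.q_prime] at this
    have hne : Nat.card φ.range ≠ 1 := by
      intro e
      have hbot : φ.range = ⊥ := card_eq_one.1 e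
      have : φ ⟨w₀, hw₀⟩ = 1 := by
        have hm : φ ⟨w₀, hw₀⟩ ∈ φ.range := ⟨_, rfl⟩
        rwa [hbot, mem_bot] at hm
      have hmem : (⟨w₀, hw₀⟩ : normalizer (P₀ : Set (Auto a))) ∈ φ.ker := this
      rw [hker, mem_subgroupOf] at hmem
      exact hw₀' (hCeq ▸ hmem)
    obtain ⟨s, hs, hsd⟩ := Nat.exists_prime_and_dvd hne
    have hslt : s < q := by
      have hle := Nat.le_of_dvd (by have := S.q_prime.two_le; omega) (hsd.trans hdvd)
      have := S.q_prime.two_le
      omega
    haveI := Fact.mk hs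
    obtain ⟨w, hw⟩ := exists_prime_orderOf_dvd_card' (G := normalizer (P₀ : Set (Auto a))) s
      (hsd.trans (card_range_dvd φ))
    have hwo : orderOf (w : Auto a) = s := by rw [Subgroup.orderOf_coe, hw]
    have hsm : s ∣ m := (hwo ▸ orderOf_dvd_natCard (w : Auto a)).trans S.card_auto_dvd
    have hsp : s = p := by
      by_contra hne'
      exact absurd (S.q_min s hs hne' hsm) (by omega)
    have hwc : ¬ Commute (w : Auto a) ū := fun hc => by
      have hmem : (w : Auto a) ∈ P₀ := (le_of_eq hCeq) (mem_centralizer_singleton_iff.2 hc.eq)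
      have hd := orderOf_dvd_of_mem_zpowers hmem
      rw [hwo, hord] at hd
      exact absurd ((Nat.prime_dvd_prime_iff_eq hs S.q_prime).1 hd) (by omega)
    -- the action on the elements for another prime
    obtain ⟨t, ht, htp, htq, hact⟩ := h.exists_other (q := q)
    obtain ⟨θ, hθ, hfix, hcen⟩ := S.exists_theta ht htp
    haveI : IsMulCommutative (spart a t) := ⟨⟨fun z z' => Subtype.ext
      ((h.spart_commute S.a_nc ht htp z'.2 (h.spart_le S.a_nc ht htp z.2)).eq)⟩⟩
    letI : CommGroup (spart a t) := { (inferInstance : Group (spart a t)) with mul_comm := mul_comm' }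
    obtain ⟨e, he⟩ : ∃ e : ℕ, (w : Auto a)⁻¹ * ū * w = ū ^ e := by
      have hm : (w : Auto a)⁻¹ * ū * w ∈ P₀ := (mem_normalizer_iff''.1 w.2 ū).1 (mem_zpowers ū)
      obtain ⟨e, he⟩ := mem_powers_iff_mem_zpowers.2 hm
      exact ⟨e, he.symm⟩
    have hrel : ū * (w : Auto a) = w * ū ^ e := by rw [← he]; group
    have hiter : ∀ j, ū * (w : Auto a) ^ j = (w : Auto a) ^ j * ū ^ (e ^ j) := by
      intro j
      induction j with
      | zero => simp
      | succ j ih =>
        have hpm : ∀ k, ū ^ k * (w : Auto a) = w * ū ^ (e * k) := by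
          intro k
          induction k with
          | zero => simp
          | succ k ihk =>
            rw [pow_succ, mul_assoc, hrel, ← mul_assoc, ihk, mul_assoc, ← pow_add]
            congr 2
        rw [pow_succ (w : Auto a), ← mul_assoc, ih, mul_assoc, hpm, mul_assoc, ← pow_succ']
    have he1 : ¬ e ≡ 1 [MOD q] := fun hm => hwc (by
      have e1 : ū ^ e = ū := by
        conv_rhs => rw [← pow_one ū]
        rw [pow_eq_pow_iff_modEq, hord]
        exact hm
      rw [e1] at hrel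
      exact hrel.symm)
    have hep : e ^ s ≡ 1 [MOD q] := by
      have := hiter s
      rw [← hwo, pow_orderOf_eq_one, mul_one, one_mul, eq_comm] at this
      rw [← hord, ← pow_eq_pow_iff_modEq, pow_one]
      rw [hwo] at this
      exact this
    have hgeom : ∀ j, ((∑ i ∈ Finset.range j, e ^ i : ℕ) : ℤ) * ((e : ℤ) - 1) = (e : ℤ) ^ j - 1 := fun j => by
      push_cast
      exact geom_sum_mul (e : ℤ) j
    have hqint : Prime (q : ℤ) := Nat.prime_iff_prime_int.1 S.q_prime
    have he1' : ¬ (q : ℤ) ∣ (e : ℤ) - 1 := fun hd => he1 (Nat.modEq_iff_dvd.2 (by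
      rw [← dvd_neg]; simpa using hd)).symm.symm
    have hcn : q ∣ ∑ i ∈ Finset.range s, e ^ i := by
      have hd : (q : ℤ) ∣ (e : ℤ) ^ s - 1 := by
        have := Nat.modEq_iff_dvd.1 hep.symm
        push_cast at this
        exact this
      rw [← hgeom] at hd
      exact Int.natCast_dvd_natCast.1 ((hqint.dvd_or_dvd hd).resolve_right he1')
    have hc : ∀ j, 0 < j → j < s → (∑ i ∈ Finset.range j, e ^ i).Coprime q := by
      intro j hj hjs
      refine ((S.q_prime.coprime_iff_not_dvd).2 fun hd => he1 ?_).symm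
      have hd' : (q : ℤ) ∣ (e : ℤ) ^ j - 1 := by
        rw [← hgeom]
        exact (Int.natCast_dvd_natCast.2 hd).mul_right _
      have hj1 : e ^ j ≡ 1 [MOD q] := (Nat.modEq_iff_dvd.2 (by push_cast; exact hd')).symm
      have hz : ∀ {k}, e ^ k ≡ 1 [MOD q] → ((e : ZMod q)) ^ k = 1 := fun {k} hk => by
        have := (ZMod.natCast_eq_natCast_iff _ _ q).2 hk
        push_cast at this
        exact this
      have hgcd : Nat.gcd j s = 1 := (Nat.coprime_comm.1 ((hs.coprime_iff_not_dvd).2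
        fun hd2 => absurd (Nat.le_of_dvd hj hd2) (by omega)))
      have he' : (e : ZMod q) = 1 := by
        have := (pow_gcd_eq_one (a := (e : ZMod q))).2 ⟨hz hj1, hz hep⟩
        rwa [hgcd, pow_one] at this
      exact (ZMod.natCast_eq_natCast_iff _ _ q).1 (by rw [he', Nat.cast_one])
    obtain ⟨y, hy, hyNC⟩ := h.exists_nc_spart S.a_nc ht htp hact
    have hkey := cover (θ ū) (θ w) (q := q) (n := s) (s := e) ((center G).subgroupOf (spart a t)) S.q_prime.pos
      (by rw [← map_pow, S.ubar_pow, map_one]) hs.pos (by rw [← map_pow, ← hwo, pow_orderOf_eq_one, map_one])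
      (by rw [← map_pow, ← map_mul, hrel, map_mul]) hcn hc
      (fun z hz => mem_subgroupOf.2 (hfix ū S.ubar_ne z hz))
      (fun k z hz => mem_subgroupOf.2 (hfix ((w : Auto a) * ū ^ k) (fun e1 => hwc (by
          rw [mul_eq_one_iff_eq_inv.1 e1]
          exact ((Commute.refl ū).pow_left k).inv_left)) z (by rw [map_mul, map_pow]; exact hz)))
      (fun z hz => hcen z (mem_subgroupOf.1 hz) _) ⟨y, hy⟩
    refine hyNC.2 ?_
    obtain ⟨-, k, hk⟩ := (h.mem_spart S.a_nc ht htp).1 hy
    have hco : q.Coprime (orderOf y) := by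
      rw [hk]; exact Nat.Coprime.pow_right k ((Nat.coprime_primes S.q_prime ht).2 htq.symm)
    obtain ⟨e', he'⟩ := exists_pow_eq_self_of_coprime hco
    rw [← he']
    exact pow_mem (mem_subgroupOf.1 hkey) e'
  have hPN : normalizer ((P : Subgroup (Auto a)) : Set (Auto a)) ≤
      centralizer ((P : Subgroup (Auto a)) : Set (Auto a)) := by
    rw [hPeq]
    refine hN.trans ?_
    rw [hP₀, zpowers_eq_closure, centralizer_closure]
  have hcompl := MonoidHom.ker_transferSylow_isComplement' P hPN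
  set K := (MonoidHom.transferSylow P hPN).ker
  have hcard := hcompl.card_mul
  rw [hPeq, hPcard] at hcard
  have hKq : (Nat.card K).Coprime q := ((S.q_prime.coprime_iff_not_dvd).2 fun hd => hq2 (by
    rw [← hcard]; exact mul_dvd_mul_right hd q)).symm
  have hK : K = ⊥ := S.eq_bot_of_normalized K hKq fun k hk =>
    (inferInstance : K.Normal).conj_mem k hk ū
  rw [← hcard, hK, card_bot, one_mul]

end Setup

end CfsgLib.ClassSizes.RegularTwo
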