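import Mathlib
import Cfsg.Prelude.Def_Solvable
import Cfsg.Agent.Lib.ClassSizes.RegularTwoSetup
import Cfsg.Agent.Lib.Blocks.PrimePowerClass
import Cfsg.Agent.Lib.Char.Burnside
import Cfsg.Agent.Lib.Core.MinNormal

/-!
Two sizes of classes of `p`-regular elements: at most one prime has noncentral elements unless the sizes
are powers of `p`.
-/

set_option autoImplicit false
set_option linter.style.haveILetI false
set_option linter.unusedSectionVars false

namespace CfsgLib.ClassSizes.RegularTwo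

open Subgroup

universe u

variable {G : Type u} [Group G] [Finite G]

/-- a group with all prime divisors among two primes is solvable -/
theorem solvable_of_two {H : Type*} [Group H] [Finite H] {p q : ℕ} (hp : p.Prime) (hq : q.Prime)
    (h : ∀ s : ℕ, s.Prime → s ∣ Nat.card H → s = p ∨ s = q) : Group.IsSolvable H := by
  obtain ⟨e, n', hn', hn⟩ := Nat.exists_eq_pow_mul_and_not_dvd (Nat.card_pos (α := H)).ne' p hp.ne_one
  have hn0 : n' ≠ 0 := fun e' => hn' (e' ▸ dvd_zero p)
  refine CfsgLib.Burnside.isSolvable_of_card_eq (a := e) (b := n'.primeFactorsList.length) hp hq ?_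
  rw [hn]
  congr 1
  refine Nat.eq_prime_pow_of_unique_prime_dvd hn0 fun {d} hd hdn => ?_
  exact (h d hd (hn ▸ hdn.trans (dvd_mul_left n' _))).resolve_left fun e' => hn' (e' ▸ hdn)

/-- coprime powers land in a subgroup -/
theorem mem_of_pow_mem {K : Subgroup G} {y : G} {n : ℕ} (hco : n.Coprime (orderOf y)) (hy : y ^ n ∈ K) : y ∈ K := by
  obtain ⟨e, he⟩ := exists_pow_eq_self_of_coprime hco
  rw [← he]
  exact pow_mem hy e

namespace Setup

variable {p m q : ℕ} {a u : G} (S : Setup p m a u q)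
include S

theorem card_nrm : Nat.card (nrm a) = q * Nat.card (centralizer ({a} : Set G)) := by
  rw [card_eq_card_quotient_mul_card_subgroup ((centralizer ({a} : Set G)).subgroupOf (nrm a)),
    Nat.card_congr (subgroupOfEquivOfLe le_normalizer).toEquiv]
  exact congrArg (· * _) S.card_auto

/-- elements of the normalizer act as powers of `u` -/
theorem pow_mem_centralizer {g : G} (hg : g ∈ nrm a) : g ^ q ∈ centralizer ({a} : Set G) := by
  have h1 : (QuotientGroup.mk (⟨g, hg⟩ : nrm a) : Auto a) ^ q = 1 := by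
    rw [← S.card_auto]; exact pow_card_eq_one'
  rw [← QuotientGroup.mk_pow] at h1
  exact (QuotientGroup.eq_one_iff (N := (centralizer ({a} : Set G)).subgroupOf (nrm a)) _).1 h1

/-- prime divisors of `m` -/
theorem prime_dvd_m {r : ℕ} (hr : r.Prime) (hrm : r ∣ m) : r = p ∨ r = q := by
  by_contra hcon
  push Not at hcon
  obtain ⟨hrp, hrq⟩ := hcon
  haveI := Fact.mk hr
  have h := S.two
  obtain ⟨y, hy, hyNC⟩ := h.exists_nc_spart S.a_nc hr hrp (h.act_of_dvd hr hrm)
  obtain ⟨R, hR⟩ := (h.isPGroup_spart S.a_nc hr hrp).exists_le_sylow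
  have hle := h.spart_le S.a_nc hr hrp
  have hne : spart a r ≠ (R : Subgroup G) := by
    intro e
    refine R.not_dvd_index (dvd_trans ?_ (index_dvd_of_le (e ▸ hle)))
    rw [h.index_eq S.a_nc]
    exact hrm
  haveI : Group.IsNilpotent (R : Subgroup G) := R.isPGroup'.isNilpotent
  have hlt : (spart a r).subgroupOf (R : Subgroup G) < ⊤ :=
    lt_top_iff_ne_top.2 fun e => hne (le_antisymm hR (subgroupOf_eq_top.1 e))
  obtain ⟨⟨g, hgR⟩, hg, hg'⟩ := SetLike.exists_of_lt (Group.normalizerCondition_of_isNilpotent (G := (R : Subgroup G)) _ hlt)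
  have hgn : g ∈ normalizer (spart a r : Set G) := mem_normalizer_iff.2 fun z => by
    constructor
    · intro hz
      exact (mem_normalizer_iff.1 hg ⟨z, hR hz⟩).1 hz
    · intro hz
      have hzR : z ∈ (R : Subgroup G) := by
        have h1 := mul_mem (mul_mem ((R : Subgroup G).inv_mem hgR) (hR hz)) hgR
        rwa [show g⁻¹ * (g * z * g⁻¹) * g = z by group] at h1
      exact (mem_normalizer_iff.1 hg ⟨z, hzR⟩).2 hz
  have hgN : g ∈ nrm a := h.normalizer_le S.a_nc hyNC hy hle hgn
  obtain ⟨j, hj⟩ := IsPGroup.iff_orderOf.1 R.isPGroup' ⟨g, hgR⟩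
  rw [Subgroup.orderOf_mk] at hj
  have hgC : g ∈ centralizer ({a} : Set G) := mem_of_pow_mem
    (hj ▸ Nat.Coprime.pow_right j ((Nat.coprime_primes S.q_prime hr).2 (Ne.symm hrq))) (S.pow_mem_centralizer hgN)
  exact hg' (subset_closure ⟨(mem_centralizer_singleton_iff.1 hgC).symm, j, hj⟩)

theorem not_dvd_m {r : ℕ} (hr : r.Prime) (hrp : r ≠ p) (hrq : r ≠ q) : ¬ r ∣ m := fun hd =>
  (S.prime_dvd_m hr hd).elim hrp hrq

theorem index_nrm : ∃ c, (nrm a).index = p ^ c := by
  have h := S.two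
  have h1 := (nrm a).index_mul_card
  rw [S.card_nrm, ← h.card_centralizer S.a_nc] at h1
  have h2 : (nrm a).index * q = m := Nat.eq_of_mul_eq_mul_right (Nat.card_pos (α := centralizer ({a} : Set G)))
    (by rw [mul_assoc, h1, mul_comm])
  refine ⟨_, Nat.eq_prime_pow_of_unique_prime_dvd index_ne_zero_of_finite fun {d} hd hdm => ?_⟩
  rcases S.prime_dvd_m hd (hdm.trans (Dvd.intro q h2)) with e | e
  · exact e
  · exact absurd ((mul_dvd_mul_right (e ▸ hdm) q).trans h2.dvd) S.sq

/-- every centralizer is conjugate to the chosen one -/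
theorem exists_conj {x : G} (hx : NC p x) :
    ∃ g : G, centralizer ({x} : Set G) = centralizer {g * a * g⁻¹} := by
  have h := S.two
  obtain ⟨t, ht, htp, htq, hact⟩ := h.exists_other (q := q)
  haveI := Fact.mk ht
  obtain ⟨R, hR⟩ := h.spart_sylow S.a_nc ht htp (S.not_dvd_m ht htp htq)
  obtain ⟨R', hR'⟩ := h.spart_sylow hx ht htp (S.not_dvd_m ht htp htq)
  obtain ⟨g, hg⟩ := MulAction.exists_smul_eq G R R'
  obtain ⟨y, hy, hyNC⟩ := h.exists_nc_spart S.a_nc ht htp hact
  have hy' : g * y * g⁻¹ ∈ spart x t := by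
    rw [← hR', ← hg, Sylow.coe_subgroup_smul]
    exact smul_mem_pointwise_smul y (MulAut.conj g) _ (hR.symm ▸ hy)
  refine ⟨g, ?_⟩
  have e1 := h.eq_of_commute hx (h.nc_conj g hyNC) ((h.mem_spart hx ht htp).1 hy').1
  have e2 := h.eq_of_commute S.a_nc hyNC ((h.mem_spart S.a_nc ht htp).1 hy).1
  rw [e1, ← map_conj_centralizer, ← e2, map_conj_centralizer]

/-- an element acting on the centralizer pulls its elements into a normal subgroup -/
theorem spart_le_of_mem {M : Subgroup G} [M.Normal] (hZ : center G ≤ M) {v : G} (hv : v ∈ M) (hvN : v ∈ nrm a)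
    (hvC : v ∉ centralizer ({a} : Set G)) {t : ℕ} (ht : t.Prime) (htp : t ≠ p) (htq : t ≠ q) : spart a t ≤ M := by
  intro y hy
  have h := S.two
  obtain ⟨θ, hθ, hfix, -⟩ := S.exists_theta ht htp
  haveI : IsMulCommutative (spart a t) := ⟨⟨fun z w => Subtype.ext
    ((h.spart_commute S.a_nc ht htp w.2 (h.spart_le S.a_nc ht htp z.2)).eq)⟩⟩
  letI : CommGroup (spart a t) := { (inferInstance : Group (spart a t)) with mul_comm := mul_comm' }
  set v' : Auto a := QuotientGroup.mk (⟨v, hvN⟩ : nrm a) with hv'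
  have hv1 : v' ≠ 1 := fun e => hvC
    ((QuotientGroup.eq_one_iff (N := (centralizer ({a} : Set G)).subgroupOf (nrm a)) (⟨v, hvN⟩ : nrm a)).1 e)
  set α := θ v'
  set y' : spart a t := ⟨y, hy⟩
  have hαq : α ^ q = 1 := by
    rw [← map_pow, ← S.card_auto, pow_card_eq_one', map_one]
  have hfixN : α (∏ i ∈ Finset.range q, (α ^ i) y') = ∏ i ∈ Finset.range q, (α ^ i) y' := by
    obtain ⟨e, he⟩ : ∃ e, q = e + 1 := ⟨q - 1, by have := S.q_prime.pos; omega⟩
    rw [map_prod, he]
    conv_rhs => rw [Finset.prod_range_succ']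
    rw [Finset.prod_range_succ]
    congr 1
    · exact Finset.prod_congr rfl fun i _ => by rw [← MulAut.mul_apply, ← pow_succ']
    · rw [← MulAut.mul_apply, ← pow_succ', ← he, hαq, pow_zero]
  have hNc := hfix v' hv1 _ hfixN
  let ψ : spart a t →* G ⧸ M := (QuotientGroup.mk' M).comp (spart a t).subtype
  have hψα : ∀ z, ψ (α z) = ψ z := by
    intro z
    show QuotientGroup.mk' M ((θ v' z : spart a t) : G) = QuotientGroup.mk' M z
    rw [hθ, map_mul, map_mul, map_inv,
      show QuotientGroup.mk' M v = 1 from (QuotientGroup.eq_one_iff v).2 hv]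
    simp
  have hψ : ∀ n, ψ (∏ i ∈ Finset.range n, (α ^ i) y') = ψ y' ^ n := by
    have hi : ∀ i, ψ ((α ^ i) y') = ψ y' := by
      intro i
      induction i with
      | zero => simp
      | succ i ih => rw [pow_succ', MulAut.mul_apply, hψα, ih]
    intro n
    induction n with
    | zero => simp
    | succ n ih => rw [Finset.prod_range_succ, map_mul, ih, hi, pow_succ]
  have h1 : ψ y' ^ q = 1 := by
    rw [← hψ]
    exact (QuotientGroup.eq_one_iff _).2 (hZ hNc)
  obtain ⟨-, k, hk⟩ := (h.mem_spart S.a_nc ht htp).1 hy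
  refine mem_of_pow_mem (n := q) (hk ▸ Nat.Coprime.pow_right k ((Nat.coprime_primes S.q_prime ht).2 htq.symm)) ?_
  refine (QuotientGroup.eq_one_iff (y ^ q)).1 ?_
  rw [QuotientGroup.mk_pow]
  exact h1

/-- the centralizer is solvable -/
theorem solvable_centralizer : Group.IsSolvable (centralizer ({a} : Set G)) := by
  have h := S.two
  haveI := Fact.mk h.prime
  set C := centralizer ({a} : Set G)
  have hP : IsPGroup p (↥C ⧸ center C) := by
    intro x
    obtain ⟨⟨z, hz⟩, rfl⟩ := QuotientGroup.mk'_surjective (center C) x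
    obtain ⟨e, n', hn', hn⟩ := Nat.exists_eq_pow_mul_and_not_dvd (orderOf_pos z).ne' p h.prime.ne_one
    refine ⟨e, ?_⟩
    rw [← map_pow]
    refine (QuotientGroup.eq_one_iff _).2 (Subgroup.mem_center_iff.2 fun w => Subtype.ext ?_)
    have hco : (orderOf (z ^ p ^ e)).Coprime p := by
      have hd : orderOf (z ^ p ^ e) ∣ n' := orderOf_dvd_of_pow_eq_one (by rw [← pow_mul, ← hn, pow_orderOf_eq_one])
      exact (((h.prime.coprime_iff_not_dvd).2 hn').symm).coprime_dvd_left hd
    simp only [Subgroup.coe_mul, Subgroup.coe_pow]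
    exact (h.commute_of_commute S.a_nc hco ((show Commute a z from (mem_centralizer_singleton_iff.1 hz).symm).pow_right _)
      ((mem_centralizer_singleton_iff.1 w.2).symm)).eq
  haveI := hP.isNilpotent
  haveI : Group.IsSolvable (↥C ⧸ center C) := inferInstance
  haveI : IsMulCommutative (center C) := inferInstance
  haveI : Group.IsSolvable (center C) := Group.isSolvable_of_comm fun a b => mul_comm' a b
  exact (Group.isSolvable_iff_subgroup_quotient (center C)).2 ⟨inferInstance, inferInstance⟩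

theorem solvable_nrm : Group.IsSolvable (nrm a) := by
  haveI := S.solvable_centralizer
  haveI := Fact.mk S.q_prime
  have h1 : Group.IsSolvable ↥((centralizer ({a} : Set G)).subgroupOf (nrm a)) :=
    Group.isSolvable_of_isSolvable_injective (f := (subgroupOfEquivOfLe le_normalizer).toMonoidHom)
      (MulEquiv.injective _)
  have h2 : Group.IsSolvable (Auto a) := by
    haveI := (IsPGroup.of_card (show Nat.card (Auto a) = q ^ 1 by rw [S.card_auto, pow_one])).isNilpotent
    infer_instance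
  exact (Group.isSolvable_iff_subgroup_quotient ((centralizer ({a} : Set G)).subgroupOf (nrm a))).2 ⟨h1, h2⟩

/-- a noncentral `q`-element of the normalizer inside a `q`-subgroup not contained in the centralizer -/
theorem exists_acting {T : Subgroup G} (hT : IsPGroup q T) {x : G} (hxT : x ∈ T) (hx : NC p x)
    (hxC : centralizer ({x} : Set G) = centralizer {a}) (hnle : ¬ T ≤ centralizer ({a} : Set G)) :
    ∃ v ∈ T, v ∈ nrm a ∧ v ∉ centralizer ({a} : Set G) := by
  haveI := Fact.mk S.q_prime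
  haveI : Group.IsNilpotent T := hT.isNilpotent
  set C := centralizer ({a} : Set G)
  have hlt : C.subgroupOf T < ⊤ := lt_top_iff_ne_top.2 fun e => hnle (subgroupOf_eq_top.1 e)
  obtain ⟨⟨g, hgT⟩, hg, hg'⟩ := SetLike.exists_of_lt (Group.normalizerCondition_of_isNilpotent (G := T) _ hlt)
  refine ⟨g, hgT, ?_, hg'⟩
  have hgn : g ∈ normalizer ((T ⊓ C : Subgroup G) : Set G) := mem_normalizer_iff.2 fun z => by
    constructor
    · intro hz
      exact mem_inf.2 ⟨T.mul_mem (T.mul_mem hgT hz.1) (T.inv_mem hgT), (mem_normalizer_iff.1 hg ⟨z, hz.1⟩).1 hz.2⟩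
    · intro hz
      have hzT : z ∈ T := by
        have h1 := mul_mem (mul_mem (inv_mem hgT) hz.1) hgT
        rwa [show g⁻¹ * (g * z * g⁻¹) * g = z by group] at h1
      exact mem_inf.2 ⟨hzT, (mem_normalizer_iff.1 hg ⟨z, hzT⟩).2 hz.2⟩
  have hxC' : x ∈ C := (le_of_eq hxC) (mem_centralizer_singleton_iff.2 rfl)
  exact S.two.normalizer_le S.a_nc hx (mem_inf.2 ⟨hxT, hxC'⟩) inf_le_right hgn

/-- Kazarin's theorem makes the whole group solvable -/
theorem solvable : Group.IsSolvable G := by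
  classical
  have h := S.two
  haveI := Fact.mk S.q_prime
  obtain ⟨c, hc⟩ := S.index_nrm
  let π := QuotientGroup.mk' (center G)
  have hle : nrm a ≤ (centralizer ({π a} : Set (G ⧸ center G))).comap π := by
    intro g hg
    haveI := isCyclic_of_prime_card (p := q) S.card_auto
    have hgen : (QuotientGroup.mk (⟨g, hg⟩ : nrm a) : Auto a) ∈
        zpowers (QuotientGroup.mk (⟨u, S.u_mem⟩ : nrm a) : Auto a) := by
      have htop : zpowers (QuotientGroup.mk (⟨u, S.u_mem⟩ : nrm a) : Auto a) = ⊤ := eq_top_of_card_eq _ (by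
        rw [Nat.card_zpowers, S.orderOf_ubar, S.card_auto])
      rw [htop]; exact mem_top _
    obtain ⟨i, hi⟩ := mem_zpowers_iff.1 hgen
    rw [← QuotientGroup.mk_zpow, QuotientGroup.eq] at hi
    set D := (centralizer ({π a} : Set (G ⧸ center G))).comap π
    have huD : u ∈ D := by
      refine mem_comap.2 (mem_centralizer_singleton_iff.2 ?_)
      have := (QuotientGroup.eq_one_iff (N := center G) _).2 S.comm_mem
      rw [QuotientGroup.mk_mul, QuotientGroup.mk_mul, QuotientGroup.mk_mul, QuotientGroup.mk_inv,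
        QuotientGroup.mk_inv, mul_inv_eq_one, mul_inv_eq_iff_eq_mul] at this
      exact this
    have hCD : ∀ w ∈ centralizer ({a} : Set G), w ∈ D := fun w hw =>
      mem_comap.2 (mem_centralizer_singleton_iff.2 (by
        rw [← map_mul, ← map_mul, mem_centralizer_singleton_iff.1 hw]))
    have hr := hCD _ (mem_subgroupOf.1 hi)
    simp only [Subgroup.coe_mul, Subgroup.coe_inv, Subgroup.coe_zpow] at hr
    have := mul_mem (zpow_mem huD i) hr
    rwa [mul_inv_cancel_left] at this
  have hidx : (centralizer ({π a} : Set (G ⧸ center G))).index ∣ p ^ c := by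
    rw [← hc, ← index_comap_of_surjective (H := centralizer ({π a} : Set (G ⧸ center G)))
      (QuotientGroup.mk'_surjective (center G))]
    exact index_dvd_of_le hle
  obtain ⟨c', -, hc'⟩ := (Nat.dvd_prime_pow h.prime).1 hidx
  have hsol := CfsgLib.PrimePowerClass.isSolvable_normalClosure _ rfl h.prime hc'
  set L := (normalClosure ({π a} : Set (G ⧸ center G))).comap π
  haveI : L.Normal := inferInstance
  have hZL : center G ≤ L := fun z hz => by
    refine mem_comap.2 ?_
    rw [show π z = 1 from (QuotientGroup.eq_one_iff z).2 hz]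
    exact one_mem _
  haveI hLsol : Group.IsSolvable L := by
    haveI := hsol
    let f : L →* normalClosure ({π a} : Set (G ⧸ center G)) :=
      (π.comp L.subtype).codRestrict _ fun x => x.2
    haveI : Group.IsSolvable (center G) := Group.isSolvable_of_comm fun a b => mul_comm' a b
    refine Group.isSolvable_of_ker_le_range (Subgroup.inclusion hZL) f ?_
    intro x hx
    have : π (x : G) = 1 := congrArg Subtype.val (MonoidHom.mem_ker.1 hx)
    exact ⟨⟨x, (QuotientGroup.eq_one_iff _).1 this⟩, rfl⟩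
  have haL : a ∈ L := subset_normalClosure (Set.mem_singleton _)
  obtain ⟨ka, hka⟩ := S.a_q
  obtain ⟨T, hT⟩ := ((IsPGroup.of_card (show Nat.card (zpowers a) = q ^ ka by
    rw [Nat.card_zpowers, hka])).comap_subtype (K := L)).exists_le_sylow
  set Tg := (T : Subgroup L).map L.subtype
  have haT : a ∈ Tg := ⟨⟨a, haL⟩, hT (mem_zpowers a), rfl⟩
  suffices hquot : Group.IsSolvable (G ⧸ L) from (Group.isSolvable_iff_subgroup_quotient L).2 ⟨hLsol, hquot⟩
  by_cases hTC : Tg ≤ centralizer ({a} : Set G)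
  · haveI := S.solvable_nrm
    have hN : normalizer (Tg : Set G) ≤ nrm a := h.normalizer_le S.a_nc S.a_nc haT hTC
    refine Group.isSolvable_of_surjective (f := (QuotientGroup.mk' L).comp (nrm a).subtype) ?_
    intro x
    obtain ⟨g, rfl⟩ := QuotientGroup.mk'_surjective L x
    have hg : g ∈ normalizer (Tg : Set G) ⊔ L := by
      rw [Sylow.normalizer_sup_eq_top T]; exact mem_top g
    obtain ⟨b, hb, l, hl, rfl⟩ := mem_sup_of_normal_right.1 hg
    refine ⟨⟨b, hN hb⟩, ?_⟩
    simp only [MonoidHom.comp_apply, Subgroup.coe_subtype, map_mul]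
    rw [show QuotientGroup.mk' L l = 1 from (QuotientGroup.eq_one_iff l).2 hl, mul_one]
  · obtain ⟨v, hvT, hvN, hvC⟩ := S.exists_acting (T.isPGroup'.map _) haT S.a_nc rfl hTC
    have hvL : v ∈ L := by
      obtain ⟨w, -, rfl⟩ := hvT
      exact w.2
    refine solvable_of_two h.prime S.q_prime fun s hs hsd => ?_
    rw [← Subgroup.index_eq_card] at hsd
    by_contra hcon
    push Not at hcon
    haveI := Fact.mk hs
    by_cases hact : Act G s
    · obtain ⟨R, hR⟩ := h.spart_sylow S.a_nc hs hcon.1 (S.not_dvd_m hs hcon.1 hcon.2)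
      exact R.not_dvd_index (hsd.trans (index_dvd_of_le (hR ▸ S.spart_le_of_mem hZL hvL hvN hvC hs hcon.1 hcon.2)))
    · obtain ⟨R⟩ : Nonempty (Sylow s G) := inferInstance
      refine R.not_dvd_index (hsd.trans (index_dvd_of_le fun z hz => hZL ?_))
      by_contra hzc
      obtain ⟨k, hk⟩ := IsPGroup.iff_orderOf.1 R.isPGroup' ⟨z, hz⟩
      rw [Subgroup.orderOf_mk] at hk
      exact hact ⟨z, hzc, k, hk⟩

theorem absurd' : False := by
  classical
  have h := S.two
  haveI := Fact.mk h.prime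
  haveI := S.solvable
  let π := QuotientGroup.mk' (center G)
  set K := (Cfsg.pCore p (G ⧸ center G)).comap π
  haveI : K.Normal := inferInstance
  have hKp : ∀ k ∈ K, ∃ i, k ^ p ^ i ∈ center G := fun k hk => by
    obtain ⟨i, hi⟩ := CfsgLib.Core.isPGroup_pCore p (G ⧸ center G) ⟨π k, hk⟩
    refine ⟨i, (QuotientGroup.eq_one_iff (k ^ p ^ i)).1 ?_⟩
    rw [QuotientGroup.mk_pow]
    exact congrArg Subtype.val hi
  have hregK : ∀ y ∈ K, (orderOf y).Coprime p → y ∈ center G := fun y hy hco => by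
    obtain ⟨i, hi⟩ := hKp y hy
    exact mem_of_pow_mem (Nat.Coprime.pow_left i hco.symm) hi
  have hZK : center G ≤ K := fun z hz => by
    refine mem_comap.2 ?_
    rw [show π z = 1 from (QuotientGroup.eq_one_iff z).2 hz]
    exact one_mem _
  have hKt : K ≠ ⊤ := fun e => S.a_nc.2 (hregK a (e ▸ mem_top a) S.a_nc.1)
  haveI : Nontrivial (G ⧸ K) := QuotientGroup.nontrivial_iff.2 hKt
  obtain ⟨s, hs, hsK⟩ := CfsgLib.Core.exists_pCore_ne_bot (G := G ⧸ K)
  set E := (Cfsg.pCore s (G ⧸ K)).comap (QuotientGroup.mk' K)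
  haveI : E.Normal := inferInstance
  have hKE : K ≤ E := fun k hk => by
    refine mem_comap.2 ?_
    rw [show QuotientGroup.mk' K k = 1 from (QuotientGroup.eq_one_iff k).2 hk]
    exact one_mem _
  have hEs : ∀ g ∈ E, ∃ i, g ^ s ^ i ∈ K := fun g hg => by
    obtain ⟨i, hi⟩ := CfsgLib.Core.isPGroup_pCore s (G ⧸ K) ⟨_, hg⟩
    refine ⟨i, (QuotientGroup.eq_one_iff (g ^ s ^ i)).1 ?_⟩
    rw [QuotientGroup.mk_pow]
    exact congrArg Subtype.val hi
  have hEK : ¬ E ≤ K := fun hle => hsK ((eq_bot_iff).2 fun x hx => by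
    obtain ⟨g, rfl⟩ := QuotientGroup.mk'_surjective K x
    exact mem_bot.2 ((QuotientGroup.eq_one_iff g).2 (hle hx)))
  have hsp : s ≠ p := by
    rintro rfl
    refine hEK fun g hg => ?_
    haveI : (E.map π).Normal := Subgroup.Normal.map inferInstance π (QuotientGroup.mk'_surjective _)
    have hpg : IsPGroup s (E.map π) := by
      rintro ⟨_, w, hw, rfl⟩
      obtain ⟨i, hi⟩ := hEs w hw
      obtain ⟨j, hj⟩ := hKp _ hi
      refine ⟨i + j, Subtype.ext ?_⟩
      rw [Subgroup.coe_pow, Subgroup.coe_one]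
      show π w ^ s ^ (i + j) = 1
      rw [← map_pow]
      refine (QuotientGroup.eq_one_iff _).2 ?_
      rw [pow_add, pow_mul]
      exact hj
    exact CfsgLib.Core.le_pCore hpg (mem_map_of_mem π hg)
  haveI := Fact.mk hs
  obtain ⟨T₀⟩ : Nonempty (Sylow s E) := inferInstance
  -- a Sylow subgroup with a noncentral element
  have hnc : ∃ x ∈ (T₀ : Subgroup E).map E.subtype, x ∉ center G := by
    by_contra hcon
    push Not at hcon
    refine hEK ?_
    have hTK : (T₀ : Subgroup E) ≤ K.subgroupOf E := fun w hw =>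
      mem_subgroupOf.2 (hZK (hcon _ (mem_map_of_mem E.subtype hw)))
    have hpg : IsPGroup s (↥E ⧸ K.subgroupOf E) := by
      intro x
      obtain ⟨⟨w, hw⟩, rfl⟩ := QuotientGroup.mk'_surjective (K.subgroupOf E) x
      obtain ⟨i, hi⟩ := hEs w hw
      exact ⟨i, by rw [← map_pow]; exact (QuotientGroup.eq_one_iff _).2 hi⟩
    obtain ⟨n, hn⟩ := IsPGroup.iff_card.1 hpg
    rw [← Subgroup.index_eq_card] at hn
    have h1 : ¬ s ∣ (K.subgroupOf E).index := fun hd => T₀.not_dvd_index (hd.trans (index_dvd_of_le hTK))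
    rw [hn] at h1
    rcases Nat.eq_zero_or_pos n with rfl | hn0
    · rw [pow_zero, index_eq_one, subgroupOf_eq_top] at hn
      exact hn
    · exact absurd (dvd_pow_self s hn0.ne') h1
  obtain ⟨x₀, hx₀T, hx₀c⟩ := hnc
  have hx₀NC : NC p x₀ := by
    obtain ⟨k, hk⟩ := IsPGroup.iff_orderOf.1 (T₀.isPGroup'.map E.subtype) ⟨x₀, hx₀T⟩
    rw [Subgroup.orderOf_mk] at hk
    exact ⟨coprime_of_pow h.prime hs hsp hk, hx₀c⟩
  obtain ⟨g₀, hg₀⟩ := S.exists_conj hx₀NC
  -- move it into the chosen centralizer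
  let σ : E ≃* E := (MulAut.conjNormal g₀⁻¹ : MulAut E)
  set T : Sylow s E := (T₀.mapSurjective (f := σ.toMonoidHom) σ.surjective)
  set Tg := (T : Subgroup E).map E.subtype
  set x := g₀⁻¹ * x₀ * g₀
  have hxT : x ∈ Tg := by
    obtain ⟨w, hw, rfl⟩ := hx₀T
    refine ⟨σ w, ⟨w, hw, rfl⟩, ?_⟩
    simp [σ, x]
  have hxNC : NC p x := by
    have := h.nc_conj g₀⁻¹ hx₀NC
    rwa [inv_inv] at this
  have hxC : centralizer ({x} : Set G) = centralizer {a} := by
    have e := map_conj_centralizer g₀⁻¹ x₀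
    rw [inv_inv, hg₀, map_conj_centralizer, show g₀⁻¹ * (g₀ * a * g₀⁻¹) * g₀⁻¹⁻¹ = a by group] at e
    exact e.symm
  have hTg : IsPGroup s Tg := T.isPGroup'.map _
  have hTC : Tg ≤ centralizer ({a} : Set G) := by
    by_contra hnle
    by_cases hsq : s = q
    · subst hsq
      obtain ⟨v, hvT, hvN, hvC⟩ := S.exists_acting hTg hxT hxNC hxC hnle
      have hvE : v ∈ E := by
        obtain ⟨w, -, rfl⟩ := hvT
        exact w.2
      obtain ⟨t, ht, htp, hts, hact⟩ := h.exists_other (q := s)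
      obtain ⟨y, hy, hyNC⟩ := h.exists_nc_spart S.a_nc ht htp hact
      have hZE : center G ≤ E := hZK.trans hKE
      obtain ⟨i, hi⟩ := hEs y (S.spart_le_of_mem hZE hvE hvN hvC ht htp hts hy)
      obtain ⟨j, hj⟩ := hKp _ hi
      rw [← pow_mul] at hj
      obtain ⟨-, k, hk⟩ := (h.mem_spart S.a_nc ht htp).1 hy
      exact hyNC.2 (mem_of_pow_mem (hk ▸ Nat.Coprime.pow_right k (Nat.Coprime.mul_left
        (Nat.Coprime.pow_left i ((Nat.coprime_primes hs ht).2 hts.symm))
        (Nat.Coprime.pow_left j ((Nat.coprime_primes h.prime ht).2 htp.symm)))) hj)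
    · obtain ⟨R, hR⟩ := h.spart_sylow hxNC hs hsp (S.not_dvd_m hs hsp hsq)
      obtain ⟨R', hR'⟩ := hTg.exists_le_sylow
      obtain ⟨g, hg⟩ := MulAction.exists_smul_eq G R R'
      refine hnle fun w hw => ?_
      rw [← hxC]
      have hmem : ∀ {z}, z ∈ Tg → g⁻¹ * z * g ∈ spart x s := fun {z} hz => by
        have hz' := hR' hz
        rw [← hg, Sylow.coe_subgroup_smul, mem_pointwise_smul_iff_inv_smul_mem, hR] at hz'
        simpa using hz'
      have hc := h.spart_commute hxNC hs hsp (hmem hw) (h.spart_le hxNC hs hsp (hmem hxT))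
      refine mem_centralizer_singleton_iff.2 ?_
      calc w * x = g * ((g⁻¹ * w * g) * (g⁻¹ * x * g)) * g⁻¹ := by group
        _ = g * ((g⁻¹ * x * g) * (g⁻¹ * w * g)) * g⁻¹ := by rw [hc.symm.eq]
        _ = x * w := by group
  -- Frattini
  have hEsup : E ≤ nrm a ⊔ K := by
    intro e he
    have hsub : (T : Subgroup E) ≤ ((nrm a ⊔ K).subgroupOf E) := fun w hw =>
      mem_subgroupOf.2 (mem_sup_left (le_normalizer (hTC (mem_map_of_mem _ hw))))
    have hpg : IsPGroup s (↥E ⧸ K.subgroupOf E) := by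
      intro x
      obtain ⟨⟨w, hw⟩, rfl⟩ := QuotientGroup.mk'_surjective (K.subgroupOf E) x
      obtain ⟨i, hi⟩ := hEs w hw
      exact ⟨i, by rw [← map_pow]; exact (QuotientGroup.eq_one_iff _).2 hi⟩
    obtain ⟨n, hn⟩ := IsPGroup.iff_card.1 hpg
    rw [← Subgroup.index_eq_card] at hn
    have h1 : ((nrm a ⊔ K).subgroupOf E).index ∣ s ^ n := hn ▸ index_dvd_of_le fun w hw =>
      mem_subgroupOf.2 (mem_sup_right (mem_subgroupOf.1 hw))
    obtain ⟨j, -, hj⟩ := (Nat.dvd_prime_pow hs).1 h1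
    rcases Nat.eq_zero_or_pos j with rfl | hj0
    · rw [pow_zero, index_eq_one, subgroupOf_eq_top] at hj
      exact hj he
    · exact absurd ((hj ▸ dvd_pow_self s hj0.ne').trans (index_dvd_of_le hsub)) T.not_dvd_index
  have htop : nrm a ⊔ K = ⊤ := by
    have h1 : normalizer (Tg : Set G) ≤ nrm a := h.normalizer_le S.a_nc hxNC hxT hTC
    rw [eq_top_iff, ← Sylow.normalizer_sup_eq_top T]
    exact sup_le (h1.trans le_sup_left) hEsup
  obtain ⟨ku, hku⟩ := S.u_q
  have huNC : NC p u := ⟨coprime_of_pow h.prime S.q_prime S.q_ne hku, fun hc => S.u_not (center_le_cent a hc)⟩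
  obtain ⟨g, hg⟩ := S.exists_conj huNC
  have hgm : g ∈ K ⊔ nrm a := by rw [sup_comm, htop]; exact mem_top g
  obtain ⟨k, hk, n, hn, rfl⟩ := mem_sup_of_normal_left.1 hgm
  have hu : k⁻¹ * u * k ∈ centralizer ({a} : Set G) := by
    have h1 : u ∈ centralizer ({u} : Set G) := mem_centralizer_singleton_iff.2 rfl
    rw [hg, show k * n * a * (k * n)⁻¹ = k * (n * a * n⁻¹) * k⁻¹ by group, ← map_conj_centralizer,
      mem_nrm_iff.1 hn] at h1
    obtain ⟨w, hw, hwu⟩ := h1
    simp only [MulEquiv.coe_toMonoidHom, MulAut.conj_apply] at hwu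
    rw [← hwu, show k⁻¹ * (k * w * k⁻¹) * k = w by group]
    exact hw
  have hd : u⁻¹ * (k⁻¹ * u * k) ∈ K := by
    rw [show u⁻¹ * (k⁻¹ * u * k) = (u⁻¹ * k⁻¹ * u) * k by group]
    exact mul_mem (by simpa using (inferInstance : K.Normal).conj_mem k⁻¹ (inv_mem hk) u⁻¹) hk
  have hdN : u⁻¹ * (k⁻¹ * u * k) ∈ nrm a := mul_mem (inv_mem S.u_mem) (le_normalizer hu)
  obtain ⟨i, hi⟩ := hKp _ hd
  obtain ⟨c₁, c₂, hcomb⟩ : ∃ c₁ c₂ : ℤ, c₁ * (p ^ i : ℕ) + c₂ * q = 1 := by
    refine ⟨Nat.gcdA (p ^ i) q, Nat.gcdB (p ^ i) q, ?_⟩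
    have := Nat.gcd_eq_gcd_ab (p ^ i) q
    rw [(Nat.Coprime.pow_left i ((Nat.coprime_primes h.prime S.q_prime).2 (Ne.symm S.q_ne)))] at this
    rw [Nat.cast_one] at this
    rw [this]; ring
  have hdC : u⁻¹ * (k⁻¹ * u * k) ∈ centralizer ({a} : Set G) := by
    have : u⁻¹ * (k⁻¹ * u * k) = ((u⁻¹ * (k⁻¹ * u * k)) ^ p ^ i) ^ c₁ * ((u⁻¹ * (k⁻¹ * u * k)) ^ q) ^ c₂ := by
      rw [← zpow_natCast, ← zpow_natCast, ← zpow_mul, ← zpow_mul, ← zpow_add, mul_comm ((p ^ i : ℕ) : ℤ),
        mul_comm (q : ℤ), hcomb, zpow_one]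
    rw [this]
    exact mul_mem (zpow_mem (center_le_cent a hi) _) (zpow_mem (S.pow_mem_centralizer hdN) _)
  refine S.u_not ?_
  have := mul_mem hu (inv_mem hdC)
  rwa [show k⁻¹ * u * k * (u⁻¹ * (k⁻¹ * u * k))⁻¹ = u by group] at this

end Setup

/-- at most one prime other than `p` has noncentral elements unless the class size is a power of `p` -/
theorem subsingleton_act {p m : ℕ} (hp : p.Prime)
    (hsz : ∀ x : G, (orderOf x).Coprime p →
      (centralizer ({x} : Set G)).index = 1 ∨ (centralizer ({x} : Set G)).index = m)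
    (hm : ¬ ∃ k, m = p ^ k) {r s : ℕ} (hr : r.Prime) (hs : s.Prime) (hrp : r ≠ p) (hsp : s ≠ p)
    (har : Act G r) (has : Act G s) : r = s := by
  by_contra hne
  obtain ⟨a, u, q, S⟩ := exists_setup ⟨hp, hsz, hm, r, s, hr, hs, hne, hrp, hsp, har, has⟩
  exact S.absurd'

end CfsgLib.ClassSizes.RegularTwo
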