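import Mathlib
import Cfsg.Agent.Lib.Core.Coprime
import Cfsg.Agent.Lib.Core.Nilpotent
import Cfsg.Agent.Lib.Transfer.Fusion

/-!
Elements with conjugacy classes of prime power size and normal complements.
-/

set_option linter.style.haveILetI false

namespace CfsgLib.ClassSizes.PPower

open Subgroup

universe u

variable {G : Type u} [Group G] [Finite G] {p : ℕ} [Fact p.Prime]

theorem exists_smul_of_index {x : G} {a : ℕ}
    (hidx : (centralizer ({x} : Set G)).index = p ^ a) (P : Sylow p G) (hx : x ∈ (P : Subgroup G)) (g : G) :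
    ∃ u ∈ (P : Subgroup G), u⁻¹ * g ∈ centralizer ({x} : Set G) := by
  classical
  have hp := (Fact.out : p.Prime)
  set C := centralizer ({x} : Set G) with hC
  have hge : p ^ a ≤ C.relIndex (P : Subgroup G) := by
    obtain ⟨t, ht⟩ := IsPGroup.iff_card.1 (P.isPGroup'.to_le inf_le_right : IsPGroup p (C ⊓ (P : Subgroup G) : Subgroup G))
    have h1 : p ^ t ∣ Nat.card C := ht ▸ card_dvd_of_le inf_le_left
    have h2 : t ≤ (Nat.card C).factorization p := (hp.pow_dvd_iff_le_factorization Nat.card_pos.ne').1 h1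
    have h3 : C.relIndex (P : Subgroup G) * p ^ t = Nat.card (P : Subgroup G) := by
      rw [← ht, ← inf_relIndex_right, ← Subgroup.card_mul_index ((C ⊓ (P : Subgroup G)).subgroupOf P),
        Nat.card_congr (subgroupOfEquivOfLe (inf_le_right : C ⊓ (P : Subgroup G) ≤ P)).toEquiv,
        mul_comm]
      rfl
    have h4 : (Nat.card G).factorization p = a + (Nat.card C).factorization p := by
      rw [← C.index_mul_card, hidx, Nat.factorization_mul (pow_ne_zero _ hp.ne_zero) Nat.card_pos.ne',
        Finsupp.add_apply, hp.factorization_pow, Finsupp.single_eq_same]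
    refine Nat.le_of_mul_le_mul_right ?_ (pow_pos hp.pos t)
    rw [h3, P.card_eq_multiplicity, h4, ← pow_add]
    exact Nat.pow_le_pow_right hp.pos (by omega)
  let f : (P : Subgroup G) ⧸ C.subgroupOf P → G ⧸ C := Quotient.map' Subtype.val fun u v huv => by
    rw [QuotientGroup.leftRel_apply] at huv ⊢
    exact huv
  have hf : Function.Injective f := by
    intro u v
    induction u using QuotientGroup.induction_on with
    | _ u =>
      induction v using QuotientGroup.induction_on with
      | _ v =>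
        intro h
        have h' : (u : G)⁻¹ * v ∈ C := QuotientGroup.eq.1 h
        exact QuotientGroup.eq.2 h'
  haveI := Fintype.ofFinite ((P : Subgroup G) ⧸ C.subgroupOf P)
  haveI := Fintype.ofFinite (G ⧸ C)
  have hbij : Function.Bijective f := by
    refine (Fintype.bijective_iff_injective_and_card f).2 ⟨hf, ?_⟩
    refine le_antisymm (Fintype.card_le_of_injective f hf) ?_
    rw [← Nat.card_eq_fintype_card, ← Nat.card_eq_fintype_card, ← index_eq_card, ← index_eq_card, hidx]
    exact hge
  obtain ⟨u, hu⟩ := hbij.2 (g : G ⧸ C)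
  induction u using QuotientGroup.induction_on with
  | _ u => exact ⟨u, u.2, QuotientGroup.eq.1 hu⟩

theorem conj_mem_of_index {x : G} {a : ℕ}
    (hidx : (centralizer ({x} : Set G)).index = p ^ a) (P : Sylow p G) (hx : x ∈ (P : Subgroup G)) (g : G) :
    g * x * g⁻¹ ∈ (P : Subgroup G) := by
  obtain ⟨u, hu, hc⟩ := exists_smul_of_index hidx P hx g
  have h := mem_centralizer_singleton_iff.1 hc
  have e : g * x * g⁻¹ = u * x * u⁻¹ := by
    calc g * x * g⁻¹ = u * ((u⁻¹ * g) * x) * (u⁻¹ * g)⁻¹ * u⁻¹ := by group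
      _ = u * (x * (u⁻¹ * g)) * (u⁻¹ * g)⁻¹ * u⁻¹ := by rw [h]
      _ = u * x * u⁻¹ := by group
  rw [e]
  exact mul_mem (mul_mem hu hx) (inv_mem hu)

omit [Finite G] [Fact p.Prime] in
theorem commute_of_stab {y w : G} (hy : (orderOf y).Coprime p)
    (hc : Commute y (w⁻¹ * (y * w * y⁻¹))) (hp : ∃ k, orderOf (w⁻¹ * (y * w * y⁻¹)) = p ^ k) : Commute y w := by
  set c := w⁻¹ * (y * w * y⁻¹) with hcdef
  have hconj : ∀ i : ℕ, y ^ i * w * (y ^ i)⁻¹ = w * c ^ i := by
    intro i
    induction i with
    | zero => simp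
    | succ i ih =>
      calc y ^ (i + 1) * w * (y ^ (i + 1))⁻¹ = y * (y ^ i * w * (y ^ i)⁻¹) * y⁻¹ := by rw [pow_succ']; group
        _ = (y * w * y⁻¹) * (y * c ^ i) * y⁻¹ := by rw [ih]; group
        _ = (y * w * y⁻¹) * (c ^ i * y) * y⁻¹ := by rw [(hc.pow_right i).eq]
        _ = w * c * c ^ i := by rw [hcdef]; group
        _ = w * c ^ (i + 1) := by rw [pow_succ', mul_assoc]
  have h1 := hconj (orderOf y)
  rw [pow_orderOf_eq_one, one_mul, inv_one, mul_one] at h1
  have hc1 : c ^ orderOf y = 1 := by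
    have := congrArg (fun t => w⁻¹ * t) h1
    simpa using this.symm
  obtain ⟨k, hk⟩ := hp
  have hone : c = 1 := orderOf_eq_one_iff.1 (Nat.eq_one_of_dvd_coprimes (hy.pow_right k)
    (orderOf_dvd_of_pow_eq_one hc1) (dvd_of_eq hk))
  rw [hcdef, inv_mul_eq_one] at hone
  show y * w = w * y
  calc y * w = (y * w * y⁻¹) * y := by group
    _ = w * y := by rw [← hone]

omit [Finite G] in
theorem orderOf_pow_of_isPGroup {R : Subgroup G} (hR : IsPGroup p R) {c : G} (hc : c ∈ R) :
    ∃ k, orderOf c = p ^ k := by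
  obtain ⟨k, hk⟩ := IsPGroup.iff_orderOf.1 hR ⟨c, hc⟩
  exact ⟨k, by rwa [Subgroup.orderOf_mk] at hk⟩

/-- A normal `p`-subgroup all of whose elements have classes of `p`-power size is centralized by
the `p'`-elements. -/
theorem centralized_of_class_pow : ∀ m : ℕ, ∀ (G : Type u) [Group G] [Finite G] (W : Subgroup G),
    Nat.card G = m → W.Normal → IsPGroup p W →
    (∀ w ∈ W, ∃ a : ℕ, (centralizer ({w} : Set G)).index = p ^ a) →
    ∀ y : G, (orderOf y).Coprime p → y ∈ centralizer (W : Set G) := by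
  intro m
  induction m using Nat.strong_induction_on with
  | _ m ih =>
    intro G _ _ W hm hWn hW hcl y hy
    subst hm
    haveI := hWn
    have hp := (Fact.out : p.Prime)
    rcases eq_or_ne W ⊥ with rfl | hWb
    · rw [mem_centralizer_iff]
      intro w hw
      rw [Subgroup.mem_bot.1 hw, one_mul, mul_one]
    obtain ⟨P⟩ : Nonempty (Sylow p G) := inferInstance
    have hWP : W ≤ (P : Subgroup G) :=
      le_sup_left.trans (P.is_maximal' (IsPGroup.to_sup_of_normal_left hW P.isPGroup') le_sup_right).le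
    haveI := P.isPGroup'.isNilpotent
    obtain ⟨⟨z0, hz0W, hz0c⟩, hz0⟩ := Subgroup.ne_bot_iff_exists_ne_one.1
      (CfsgLib.Core.inf_center_ne_bot_of_isNilpotent (W.subgroupOf (P : Subgroup G)) (by
        rw [Ne, subgroupOf_eq_bot, disjoint_iff, inf_eq_left.2 hWP]; exact hWb))
    set z : G := (z0 : G) with hz
    have hz1 : z ≠ 1 := fun h => hz0 (Subtype.ext (Subtype.ext h))
    have hzcen : z ∈ center G := by
      obtain ⟨a, ha⟩ := hcl z hz0W
      have hP : (P : Subgroup G) ≤ centralizer ({z} : Set G) := fun u hu =>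
        mem_centralizer_singleton_iff.2 (congrArg Subtype.val (Subgroup.mem_center_iff.1 hz0c ⟨u, hu⟩))
      have hd := index_dvd_of_le hP
      rw [ha] at hd
      have ha0 : a = 0 := by
        by_contra h
        exact P.not_dvd_index ((dvd_pow_self p h).trans hd)
      rw [ha0, pow_zero, index_eq_one] at ha
      rw [Subgroup.mem_center_iff]
      intro g
      exact mem_centralizer_singleton_iff.1 (ha ▸ mem_top g : g ∈ centralizer ({z} : Set G))
    set Z := zpowers z
    haveI : Z.Normal := ⟨fun c hc g => by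
      rw [(Subgroup.mem_center_iff.1 ((zpowers_le.2 hzcen) hc) g), mul_inv_cancel_right]
      exact hc⟩
    have hlt : Nat.card (G ⧸ Z) < Nat.card G := by
      rw [Z.card_eq_card_quotient_mul_card_subgroup]
      refine lt_mul_of_one_lt_right Nat.card_pos ((one_lt_card_iff_ne_bot _).2 ?_)
      exact zpowers_ne_bot.2 hz1
    have hih := ih _ hlt (G ⧸ Z) (W.map (QuotientGroup.mk' Z)) rfl
      (hWn.map _ (QuotientGroup.mk'_surjective Z)) (hW.map _) (by
        rintro _ ⟨w, hw, rfl⟩
        obtain ⟨a, ha⟩ := hcl w hw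
        have h1 : (centralizer ({QuotientGroup.mk' Z w} : Set (G ⧸ Z))).index ∣ p ^ a := by
          rw [← ha]
          refine dvd_trans (index_dvd_of_le ?_)
            (index_map_dvd (centralizer ({w} : Set G)) (QuotientGroup.mk'_surjective Z))
          rintro _ ⟨c, hc, rfl⟩
          rw [mem_centralizer_singleton_iff, ← map_mul, ← map_mul, mem_centralizer_singleton_iff.1 hc]
        obtain ⟨b, -, hb⟩ := (Nat.dvd_prime_pow hp).1 h1
        exact ⟨b, hb⟩)
      (QuotientGroup.mk' Z y) (hy.coprime_dvd_left (orderOf_map_dvd _ y))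
    rw [mem_centralizer_iff]
    intro w hw
    set c := w⁻¹ * (y * w * y⁻¹) with hc
    have hcZ : c ∈ Z := by
      rw [← QuotientGroup.eq_one_iff]
      have h1 := mem_centralizer_iff.1 hih _ (mem_map_of_mem (QuotientGroup.mk' Z) hw)
      change QuotientGroup.mk' Z c = 1
      rw [hc, map_mul, map_inv, map_mul, map_mul, map_inv, ← h1]
      group
    exact (commute_of_stab hy (show Commute y c from Subgroup.mem_center_iff.1 ((zpowers_le.2 hzcen) hcZ) y)
      (orderOf_pow_of_isPGroup hW (mul_mem (inv_mem hw) (hWn.conj_mem w hw y)))).eq.symm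

omit [Finite G] in
theorem mul_pow_of_central {s t : G} (hcs : Commute (t * s * t⁻¹ * s⁻¹) s)
    (hct : Commute (t * s * t⁻¹ * s⁻¹) t) :
    ∀ n : ℕ, (s * t) ^ n = s ^ n * t ^ n * (t * s * t⁻¹ * s⁻¹) ^ (n.choose 2) ∧
      t ^ n * s = (t * s * t⁻¹ * s⁻¹) ^ n * (s * t ^ n) := by
  set c := t * s * t⁻¹ * s⁻¹ with hc
  have hts : t * s = c * (s * t) := by rw [hc]; group
  have h2 : ∀ n : ℕ, t ^ n * s = c ^ n * (s * t ^ n) := by
    intro n
    induction n with
    | zero => simp
    | succ n ih =>
      calc t ^ (n + 1) * s = t * (t ^ n * s) := by rw [pow_succ']; group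
        _ = (t * c ^ n) * (s * t ^ n) := by rw [ih]; group
        _ = c ^ n * (t * s) * t ^ n := by rw [(hct.symm.pow_right n).eq]; group
        _ = c ^ n * (c * (s * t)) * t ^ n := by rw [hts]
        _ = c ^ (n + 1) * (s * t ^ (n + 1)) := by rw [pow_succ, pow_succ']; group
  intro n
  refine ⟨?_, h2 n⟩
  induction n with
  | zero => simp
  | succ n ih =>
    calc (s * t) ^ (n + 1) = s ^ n * t ^ n * c ^ (n.choose 2) * (s * t) := by rw [pow_succ, ih]
      _ = s ^ n * t ^ n * ((c ^ (n.choose 2)) * s) * t := by group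
      _ = s ^ n * (t ^ n * s) * (c ^ (n.choose 2) * t) := by rw [(hcs.pow_left _).eq]; group
      _ = s ^ n * (c ^ n * s) * t ^ n * (t * c ^ (n.choose 2)) := by rw [h2, (hct.pow_left _).eq]; group
      _ = s ^ n * (s * c ^ n) * t ^ n * (t * c ^ (n.choose 2)) := by rw [(hcs.pow_left n).eq]
      _ = s ^ (n + 1) * (c ^ n * (t ^ n * t)) * c ^ (n.choose 2) := by rw [pow_succ]; group
      _ = s ^ (n + 1) * (c ^ n * t ^ (n + 1)) * c ^ (n.choose 2) := by rw [← pow_succ]
      _ = s ^ (n + 1) * (t ^ (n + 1) * c ^ n) * c ^ (n.choose 2) := by rw [(hct.pow_pow n (n + 1)).eq]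
      _ = s ^ (n + 1) * t ^ (n + 1) * (c ^ n * c ^ (n.choose 2)) := by group
      _ = s ^ (n + 1) * t ^ (n + 1) * c ^ ((n + 1).choose 2) := by
          rw [← pow_add, Nat.choose_succ_succ n 1, Nat.choose_one_right]

variable (p) in
/-- The exponent detected: `p`, or `4` for `p = 2`. -/
def detExp : ℕ := if p = 2 then 4 else p

theorem detExp_spec {s t : G} (hs : s ^ detExp p = 1) (ht : t ^ detExp p = 1)
    (hcs : Commute (t * s * t⁻¹ * s⁻¹) s) (hct : Commute (t * s * t⁻¹ * s⁻¹) t)
    (hts : Commute s (t ^ p)) : (s * t) ^ detExp p = 1 := by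
  have hp := (Fact.out : p.Prime)
  obtain ⟨-, h2⟩ := mul_pow_of_central hcs hct p
  have hcp : (t * s * t⁻¹ * s⁻¹) ^ p = 1 := by
    rw [hts.eq] at h2
    exact mul_eq_right.1 h2.symm
  rw [(mul_pow_of_central hcs hct (detExp p)).1, hs, ht, one_mul, one_mul]
  obtain ⟨k, hk⟩ : p ∣ (detExp p).choose 2 := by
    unfold detExp
    split_ifs with h
    · subst h; decide
    · exact hp.dvd_choose_self (by norm_num) (lt_of_le_of_ne hp.two_le (Ne.symm h))
  rw [hk, pow_mul, hcp, one_pow]

/-- A normal `p`-subgroup is centralized by the `p'`-elements as soon as its normal subgroups of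
exponent `p` (or `4`) are. -/
theorem centralized_of_small {R : Subgroup G} (hR : IsPGroup p R)
    (hfix : ∀ W : Subgroup G, W.Normal → W ≤ R → (∀ w ∈ W, w ^ detExp p = 1) →
      ∀ y : G, (orderOf y).Coprime p → y ∈ centralizer (W : Set G)) :
    ∀ W : Subgroup G, W.Normal → W ≤ R → ∀ y : G, (orderOf y).Coprime p → y ∈ centralizer (W : Set G) := by
  classical
  have hp := (Fact.out : p.Prime)
  intro W
  induction W using (wellFounded_lt (α := Subgroup G)).induction with
  | _ W ih =>
    intro hWn hWR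
    haveI := hWn
    rcases eq_or_ne W ⊥ with rfl | hWb
    · intro y _
      rw [mem_centralizer_iff]
      intro w hw
      rw [Subgroup.mem_bot.1 hw, one_mul, mul_one]
    have hWp : IsPGroup p W := hR.to_le hWR
    -- a proper normal subgroup with elementary abelian quotient
    set L := closure ({g : G | ∃ w ∈ W, w ^ p = g} ∪ {g : G | ∃ a ∈ W, ∃ b ∈ W, b * a * b⁻¹ * a⁻¹ = g}) with hL
    haveI hLn : L.Normal := by
      refine ⟨fun c hc g => ?_⟩
      induction hc using Subgroup.closure_induction with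
      | mem c hc =>
        refine subset_closure ?_
        rcases hc with ⟨w, hw, rfl⟩ | ⟨a, ha, b, hb, rfl⟩
        · exact Or.inl ⟨_, hWn.conj_mem w hw g, conj_pow⟩
        · exact Or.inr ⟨_, hWn.conj_mem a ha g, _, hWn.conj_mem b hb g, by group⟩
      | one => simp
      | mul a b _ _ ha hb => rw [show g * (a * b) * g⁻¹ = (g * a * g⁻¹) * (g * b * g⁻¹) by group]; exact mul_mem ha hb
      | inv a _ ha => rw [show g * a⁻¹ * g⁻¹ = (g * a * g⁻¹)⁻¹ by group]; exact inv_mem ha
    have hLW : L ≤ W := by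
      refine (closure_le _).2 ?_
      rintro g (⟨w, hw, rfl⟩ | ⟨a, ha, b, hb, rfl⟩)
      · exact pow_mem hw p
      · exact mul_mem (mul_mem (mul_mem hb ha) (inv_mem hb)) (inv_mem ha)
    have hLlt : L < W := by
      refine lt_of_le_of_ne hLW fun heq => ?_
      haveI := hWp.isNilpotent
      haveI : Nontrivial W := (nontrivial_iff_ne_bot W).2 hWb
      have hcomm : commutator W ≠ ⊤ := fun h => by
        have h1 := Group.IsSolvable.commutator_lt_top_of_nontrivial W
        rw [h] at h1
        exact lt_irrefl _ h1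
      let A := Abelianization W
      haveI : Nontrivial A := QuotientGroup.nontrivial_iff.2 hcomm
      have hA : IsPGroup p A := hWp.of_surjective (Abelianization.of) QuotientGroup.mk_surjective
      let f : A →* A := powMonoidHom p
      have hsurj : Function.Surjective f := by
        intro a
        obtain ⟨w, rfl⟩ := QuotientGroup.mk_surjective a
        have hmem : (w : G) ∈ (f.range.comap (Abelianization.of : W →* A)).map W.subtype := by
          have hle : L ≤ (f.range.comap (Abelianization.of : W →* A)).map W.subtype := by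
            refine (closure_le _).2 ?_
            rintro g (⟨v, hv, rfl⟩ | ⟨a, ha, b, hb, rfl⟩)
            · exact ⟨⟨v, hv⟩ ^ p, ⟨Abelianization.of ⟨v, hv⟩, (map_pow _ _ _).symm⟩, rfl⟩
            · refine ⟨⟨b, hb⟩ * ⟨a, ha⟩ * ⟨b, hb⟩⁻¹ * ⟨a, ha⟩⁻¹, ⟨1, ?_⟩, rfl⟩
              rw [map_one, map_mul, map_mul, map_mul, map_inv, map_inv, mul_inv_cancel_comm, mul_inv_cancel]
          exact hle (heq.symm.le w.2)
        obtain ⟨v, hv, hvw⟩ := hmem
        obtain rfl := Subtype.ext hvw
        exact hv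
      have hinj := Finite.injective_iff_surjective.2 hsurj
      obtain ⟨k, hk0, hk⟩ := hA.nontrivial_iff_card.1 inferInstance
      obtain ⟨a, ha⟩ := exists_prime_orderOf_dvd_card' p (hk ▸ dvd_pow_self p hk0.ne')
      have : a = 1 := hinj (show f a = f 1 by
        show a ^ p = 1 ^ p
        rw [one_pow, ← ha, pow_orderOf_eq_one])
      rw [this, orderOf_one] at ha
      exact hp.ne_one ha.symm
    have hLfix := ih L hLlt hLn (hLW.trans hWR)
    set S := {g : G | ∃ a ∈ W, ∃ y : G, (orderOf y).Coprime p ∧ a⁻¹ * (y * a * y⁻¹) = g} with hS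
    set D := closure S with hD
    have hSW : ∀ g ∈ S, g ∈ W := by
      rintro g ⟨a, ha, y, -, rfl⟩
      exact mul_mem (inv_mem ha) (hWn.conj_mem a ha y)
    haveI hDn : D.Normal := by
      refine ⟨fun c hc g => ?_⟩
      induction hc using Subgroup.closure_induction with
      | mem c hc =>
        refine subset_closure ?_
        obtain ⟨a, ha, y, hy, rfl⟩ := hc
        refine ⟨_, hWn.conj_mem a ha g, g * y * g⁻¹, ?_, by group⟩
        rwa [← MulAut.conj_apply, MulEquiv.orderOf_eq]
      | one => simp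
      | mul a b _ _ ha hb => rw [show g * (a * b) * g⁻¹ = (g * a * g⁻¹) * (g * b * g⁻¹) by group]; exact mul_mem ha hb
      | inv a _ ha => rw [show g * a⁻¹ * g⁻¹ = (g * a * g⁻¹)⁻¹ by group]; exact inv_mem ha
    rcases ((closure_le _).2 hSW : D ≤ W).eq_or_lt with hDW | hDlt
    swap
    · intro y hy
      rw [mem_centralizer_iff]
      intro w hw
      have hd : w⁻¹ * (y * w * y⁻¹) ∈ D := subset_closure ⟨w, hw, y, hy, rfl⟩
      exact (commute_of_stab hy
        (show Commute y _ from (mem_centralizer_iff.1 (ih D hDlt hDn (hDlt.le.trans hWR) y hy) _ hd).symm)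
        (orderOf_pow_of_isPGroup hWp (mul_mem (inv_mem hw) (hWn.conj_mem w hw y)))).eq.symm
    -- `L` is central in `W`
    have hLc : ∀ l ∈ L, ∀ w ∈ W, Commute w l := by
      intro l hl w hw
      rw [← hDW] at hw
      induction hw using Subgroup.closure_induction with
      | mem c hc =>
        obtain ⟨a, ha, y, hy, rfl⟩ := hc
        have hyl : y * l * y⁻¹ = l := by
          rw [(mem_centralizer_iff.1 (hLfix y hy) l hl).symm, mul_inv_cancel_right]
        have hl' : a * l * a⁻¹ ∈ L := hLn.conj_mem l hl a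
        have hyl' : y * (a * l * a⁻¹) * y⁻¹ = a * l * a⁻¹ := by
          rw [(mem_centralizer_iff.1 (hLfix y hy) _ hl').symm, mul_inv_cancel_right]
        show a⁻¹ * (y * a * y⁻¹) * l = l * (a⁻¹ * (y * a * y⁻¹))
        calc a⁻¹ * (y * a * y⁻¹) * l = a⁻¹ * (y * a * y⁻¹) * (y * l * y⁻¹) := by rw [hyl]
          _ = a⁻¹ * (y * (a * l * a⁻¹) * y⁻¹) * (y * a * y⁻¹) := by group
          _ = a⁻¹ * (a * l * a⁻¹) * (y * a * y⁻¹) := by rw [hyl']
          _ = l * (a⁻¹ * (y * a * y⁻¹)) := by group
      | one => exact Commute.one_left _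
      | mul a b _ _ ha hb => exact ha.mul_left hb
      | inv a _ ha => exact ha.inv_left
    have hcW : ∀ s ∈ W, ∀ t ∈ W, t * s * t⁻¹ * s⁻¹ ∈ L := fun s hs t ht =>
      subset_closure (Or.inr ⟨s, hs, t, ht, rfl⟩)
    have hexp : ∀ w ∈ W, w ^ detExp p = 1 := by
      intro w hw
      rw [← hDW] at hw
      have hw' : w ∈ W ∧ w ^ detExp p = 1 := by
        induction hw using Subgroup.closure_induction with
        | mem c hc =>
          refine ⟨hSW c hc, ?_⟩
          obtain ⟨a, ha, y, hy, rfl⟩ := hc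
          set b := y * a * y⁻¹ with hb
          have hbW : b ∈ W := hWn.conj_mem a ha y
          have hap : a ^ p ∈ L := subset_closure (Or.inl ⟨a, ha, rfl⟩)
          have hbp : b ^ p = a ^ p := by
            rw [hb, conj_pow, ← mem_centralizer_iff.1 (hLfix y hy) _ hap, mul_inv_cancel_right]
          have hc := hcW a⁻¹ (inv_mem ha) b hbW
          have hcs : Commute (b * a⁻¹ * b⁻¹ * a⁻¹⁻¹) a⁻¹ := (hLc _ hc _ (inv_mem ha)).symm
          have hct : Commute (b * a⁻¹ * b⁻¹ * a⁻¹⁻¹) b := (hLc _ hc _ hbW).symm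
          obtain ⟨-, h2⟩ := mul_pow_of_central hcs hct p
          have hcp : (b * a⁻¹ * b⁻¹ * a⁻¹⁻¹) ^ p = 1 := by
            rw [hbp, show Commute a⁻¹ (a ^ p) from ((Commute.refl a).pow_right p).inv_left] at h2
            exact mul_eq_right.1 h2.symm
          have hdp : (a⁻¹ * b) ^ p = (b * a⁻¹ * b⁻¹ * a⁻¹⁻¹) ^ (p.choose 2) := by
            rw [(mul_pow_of_central hcs hct p).1, hbp, inv_pow, inv_mul_cancel, one_mul]
          unfold detExp
          split_ifs with h2'
          · subst h2'
            rw [show 4 = 2 * 2 from rfl, pow_mul, hdp, ← pow_mul, mul_comm, pow_mul, hcp, one_pow]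
          · obtain ⟨k, hk⟩ : p ∣ p.choose 2 :=
              hp.dvd_choose_self (by norm_num) (lt_of_le_of_ne hp.two_le (Ne.symm h2'))
            rw [hdp, hk, pow_mul, hcp, one_pow]
        | one => exact ⟨one_mem W, one_pow _⟩
        | mul a b _ _ ha hb =>
          refine ⟨mul_mem ha.1 hb.1, detExp_spec ha.2 hb.2 ?_ ?_ ?_⟩
          · exact (hLc _ (hcW a ha.1 b hb.1) _ ha.1).symm
          · exact (hLc _ (hcW a ha.1 b hb.1) _ hb.1).symm
          · exact hLc _ (subset_closure (Or.inl ⟨b, hb.1, rfl⟩)) _ ha.1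
        | inv a _ ha => exact ⟨inv_mem ha.1, by rw [inv_pow, ha.2, inv_one]⟩
      exact hw'.2
    exact hfix W hWn hWR hexp

theorem orderOf_det {w : G} (h : w ^ detExp p = 1) :
    w = 1 ∨ orderOf w = p ∨ (p = 2 ∧ orderOf w = 4) := by
  have hp := (Fact.out : p.Prime)
  have hd := orderOf_dvd_of_pow_eq_one h
  unfold detExp at hd
  split_ifs at hd with h2
  · subst h2
    obtain ⟨i, hi, hi'⟩ := (Nat.dvd_prime_pow Nat.prime_two).1 (show orderOf w ∣ 2 ^ 2 from hd)
    interval_cases i
    · left; exact orderOf_eq_one_iff.1 (by simpa using hi')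
    · right; left; simpa using hi'
    · right; right; exact ⟨rfl, by simpa using hi'⟩
  · rcases (Nat.dvd_prime hp).1 hd with h1 | h1
    · exact Or.inl (orderOf_eq_one_iff.1 h1)
    · exact Or.inr (Or.inl h1)

theorem hasNormalPComplement_of_small_classes
    (h : ∀ x : G, (orderOf x = p ∨ (p = 2 ∧ orderOf x = 4)) → ∃ a : ℕ, (centralizer ({x} : Set G)).index = p ^ a) :
    Cfsg.HasNormalPComplement p G := by
  obtain ⟨P⟩ : Nonempty (Sylow p G) := inferInstance
  set R := (P : Subgroup G).normalCore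
  have hR : IsPGroup p R := P.isPGroup'.to_le (normalCore_le _)
  have hcl : ∀ w : G, w ^ detExp p = 1 → ∃ a : ℕ, (centralizer ({w} : Set G)).index = p ^ a := by
    intro w hw
    rcases orderOf_det hw with rfl | hw'
    · exact ⟨0, by rw [pow_zero, index_eq_one, eq_top_iff]; intro g _; simp [mem_centralizer_singleton_iff]⟩
    · exact h w hw'
  have hmemR : ∀ w : G, w ^ detExp p = 1 → w ∈ R := by
    intro w hw g
    obtain ⟨a, ha⟩ := hcl w hw
    have hwp : IsPGroup p (zpowers w) := by
      have hd := orderOf_dvd_of_pow_eq_one hw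
      have hpow : ∃ e, detExp p = p ^ e := by
        unfold detExp
        split_ifs with h2
        · exact ⟨2, by rw [h2]; rfl⟩
        · exact ⟨1, (pow_one p).symm⟩
      obtain ⟨e, he⟩ := hpow
      obtain ⟨i, -, hi⟩ := (Nat.dvd_prime_pow (Fact.out : p.Prime)).1 (he ▸ hd)
      exact IsPGroup.of_card (by rw [Nat.card_zpowers, hi])
    obtain ⟨Q, hQ⟩ := hwp.exists_le_sylow
    obtain ⟨u, hu⟩ := MulAction.exists_smul_eq G Q P
    have hwQ := conj_mem_of_index ha Q (hQ (mem_zpowers w)) (u⁻¹ * g)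
    show g * w * g⁻¹ ∈ (P : Subgroup G)
    rw [← hu, Sylow.coe_subgroup_smul]
    refine ⟨_, hwQ, ?_⟩
    simp [mul_assoc]
  have hRfix : ∀ y : G, (orderOf y).Coprime p → y ∈ centralizer (R : Set G) :=
    centralized_of_small hR (fun W hWn hWR hexp y hy =>
      centralized_of_class_pow _ G W rfl hWn (hR.to_le hWR) (fun w hw => hcl w (hexp w hw)) y hy)
      R inferInstance le_rfl
  refine CfsgLib.Transfer.hasNormalPComplement_of_centralizes P fun U hUP x hx hxp => ?_
  have hU : IsPGroup p U := P.isPGroup'.to_le hUP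
  set N := U ⊔ zpowers x
  have hUN : U ≤ N := le_sup_left
  haveI : (U.subgroupOf N).Normal :=
    (normal_subgroupOf_iff_le_normalizer hUN).2 (sup_le le_normalizer (zpowers_le.2 hx))
  have hfix := centralized_of_small (G := N) (R := U.subgroupOf N) (hU.comap_of_injective _ (subtype_injective _))
    (fun W _ hWU hexp y hy => mem_centralizer_iff.2 fun w hw => Subtype.ext
      (mem_centralizer_iff.1 (hRfix (y : G) (by rwa [Subgroup.orderOf_coe]))
        (w : G) (hmemR _ (by rw [← SubmonoidClass.coe_pow, hexp w hw]; rfl))))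
    (U.subgroupOf N) inferInstance le_rfl ⟨x, mem_sup_right (mem_zpowers x)⟩ (by rwa [Subgroup.orderOf_mk])
  rw [mem_centralizer_iff] at hfix ⊢
  intro u hu
  exact congrArg Subtype.val (hfix ⟨u, hUN hu⟩ (mem_subgroupOf.2 hu))

theorem hasNormalPComplement_of_max_class (a : ℕ)
    (hmax : ∀ y : G, ¬ p ^ (a + 1) ∣ (centralizer ({y} : Set G)).index) {x : G} {k : ℕ}
    (hxk : orderOf x = p ^ k) (hidx : (centralizer ({x} : Set G)).index = p ^ a) :
    Cfsg.HasNormalPComplement p G := by
  classical
  have hp := (Fact.out : p.Prime)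
  set C := centralizer ({x} : Set G) with hC
  -- every `p'`-element of `C` centralizes a Sylow subgroup of `C`
  have hcent : ∀ z : C, (orderOf z).Coprime p → ∃ S : Sylow p C, (S : Subgroup C) ≤ centralizer ({z} : Set C) := by
    intro z hz
    have hco : (orderOf x).Coprime (orderOf (z : G)) := by
      rw [hxk, Subgroup.orderOf_coe]; exact hz.symm.pow_left k
    have hxz : Commute x (z : G) := (mem_centralizer_singleton_iff.1 z.2).symm
    have hle : centralizer ({x * (z : G)} : Set G) ≤ C ⊓ centralizer ({(z : G)} : Set G) := by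
      intro g hg
      have hg' : Commute g (x * (z : G)) := mem_centralizer_singleton_iff.1 hg
      have hpow : ∀ {s t : G}, Commute s t → Commute g (s * t) → (orderOf t).Coprime (orderOf s) → Commute g s := by
        intro s t hst hgst hco
        have h1 : (s * t) ^ orderOf t = s ^ orderOf t := by rw [hst.mul_pow, pow_orderOf_eq_one, mul_one]
        obtain ⟨m, hm⟩ := exists_pow_eq_self_of_coprime hco
        have h2 := (hgst.pow_right (orderOf t)).pow_right m
        rwa [h1, hm] at h2
      refine ⟨mem_centralizer_singleton_iff.2 ?_, mem_centralizer_singleton_iff.2 ?_⟩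
      · exact (hpow hxz hg' hco.symm).eq
      · exact (hpow hxz.symm (hxz.eq ▸ hg') hco).eq
    have hnd : ¬ p ∣ (centralizer ({z} : Set C)).index := by
      intro hd
      refine hmax (x * (z : G)) ?_
      refine dvd_trans ?_ (index_dvd_of_le hle)
      rw [← relIndex_mul_index (inf_le_left : C ⊓ centralizer ({(z : G)} : Set G) ≤ C), hidx, pow_succ']
      refine mul_dvd_mul ?_ dvd_rfl
      have e : (centralizer ({(z : G)} : Set G)).subgroupOf C = centralizer ({z} : Set C) := by
        ext g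
        simp [mem_subgroupOf, mem_centralizer_singleton_iff, Subtype.ext_iff]
      rw [inf_relIndex_left, relIndex, e]
      exact hd
    obtain ⟨S⟩ : Nonempty (Sylow p (centralizer ({z} : Set C))) := inferInstance
    obtain ⟨T, hT⟩ := (S.isPGroup'.map (centralizer ({z} : Set C)).subtype).exists_le_sylow
    refine ⟨T, (eq_of_le_of_card_ge hT ?_).ge.trans (map_subtype_le _)⟩
    rw [← Nat.card_congr (equivMapOfInjective (S : Subgroup (centralizer ({z} : Set C))) _ (subtype_injective _)).toEquiv,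
      T.card_eq_multiplicity]
    refine Nat.le_of_dvd Nat.card_pos (S.pow_dvd_card_of_pow_dvd_card ?_)
    have hd2 := Nat.ordProj_dvd (Nat.card C) p
    rw [← (centralizer ({z} : Set C)).index_mul_card] at hd2 ⊢
    exact (((hp.coprime_iff_not_dvd).2 hnd).pow_left _).dvd_of_dvd_mul_left hd2
  obtain ⟨S⟩ : Nonempty (Sylow p C) := inferInstance
  -- every element of `C` fixes a Sylow subgroup
  have hsub : Subsingleton (Sylow p C) := by
    by_contra hns
    haveI : Nontrivial (Sylow p C) := not_subsingleton_iff_nontrivial.1 hns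
    haveI := Fintype.ofFinite C
    haveI := Fintype.ofFinite (Sylow p C)
    have hfx : ∀ w : C, ∃ T : Sylow p C, w • T = T := by
      intro w
      obtain ⟨i, v, hv, hiv⟩ := Nat.exists_eq_pow_mul_and_not_dvd (orderOf_pos w).ne' p hp.one_lt.ne'
      obtain ⟨r, s, hrs⟩ := Nat.Coprime.isCoprime (((hp.coprime_iff_not_dvd).2 hv).pow_left i)
      set w1 := (w ^ v) ^ s with hw1
      set w2 := (w ^ p ^ i) ^ r with hw2
      have hw : w1 * w2 = w := by
        rw [hw1, hw2, ← zpow_natCast, ← zpow_natCast w (p ^ i), ← zpow_mul, ← zpow_mul, ← zpow_add,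
          mul_comm (v : ℤ), mul_comm ((p ^ i : ℕ) : ℤ), add_comm, hrs, zpow_one]
      have h2p : w2 ^ v = 1 := by
        rw [hw2, ← zpow_natCast ((w ^ p ^ i) ^ r), ← zpow_mul, mul_comm, zpow_mul, zpow_natCast, ← pow_mul,
          ← hiv, pow_orderOf_eq_one, one_zpow]
      have h1p : w1 ^ p ^ i = 1 := by
        rw [hw1, ← zpow_natCast ((w ^ v) ^ s), ← zpow_mul, mul_comm, zpow_mul, zpow_natCast, ← pow_mul,
          mul_comm v, ← hiv, pow_orderOf_eq_one, one_zpow]
      have hcomm : Commute w1 w2 := (((Commute.refl w).pow_left _).pow_right _).zpow_zpow s r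
      obtain ⟨T0, hT0⟩ := hcent w2
        (((hp.coprime_iff_not_dvd).2 hv).symm.coprime_dvd_left (orderOf_dvd_of_pow_eq_one h2p))
      -- a Sylow subgroup inside the centralizer containing `w1`
      have hw1C : w1 ∈ centralizer ({w2} : Set C) := mem_centralizer_singleton_iff.2 hcomm.eq
      obtain ⟨j, -, hj⟩ := (Nat.dvd_prime_pow hp).1 (orderOf_dvd_of_pow_eq_one h1p)
      obtain ⟨T1, hT1⟩ := (IsPGroup.of_card (p := p) (G := zpowers (⟨w1, hw1C⟩ : centralizer ({w2} : Set C)))
        (n := j) (by rw [Nat.card_zpowers, Subgroup.orderOf_mk, hj])).exists_le_sylow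
      obtain ⟨T, hT⟩ := (T1.isPGroup'.map (centralizer ({w2} : Set C)).subtype).exists_le_sylow
      have hTle : (T : Subgroup C) ≤ centralizer ({w2} : Set C) := by
        refine (eq_of_le_of_card_ge hT ?_).ge.trans (map_subtype_le _)
        rw [← Nat.card_congr (equivMapOfInjective (T1 : Subgroup (centralizer ({w2} : Set C))) _ (subtype_injective _)).toEquiv,
          T.card_eq_multiplicity, ← T0.card_eq_multiplicity]
        refine Nat.le_of_dvd Nat.card_pos ?_
        rw [T0.card_eq_multiplicity]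
        refine T1.pow_dvd_card_of_pow_dvd_card ?_
        rw [← T0.card_eq_multiplicity]
        exact card_dvd_of_le hT0
      refine ⟨T, Sylow.smul_eq_iff_mem_normalizer.2 ?_⟩
      rw [← hw]
      refine mul_mem (le_normalizer (hT (mem_map_of_mem _ (hT1 (mem_zpowers _))))) ?_
      refine centralizer_le_normalizer _ (mem_centralizer_iff.2 fun t ht => ?_)
      exact mem_centralizer_singleton_iff.1 (hTle ht)
    have hB := MulAction.sum_card_fixedBy_eq_card_orbits_mul_card_group C (Sylow p C)
    haveI : Subsingleton (Quotient (MulAction.orbitRel C (Sylow p C))) :=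
      ⟨fun A B => Quotient.inductionOn₂ A B fun S T => Quotient.sound (MulAction.exists_smul_eq C T S)⟩
    rw [Fintype.card_eq_one_iff.2 ⟨Quotient.mk'' S, fun t => Subsingleton.elim t _⟩, one_mul] at hB
    have hlt : ∑ _w : C, 1 < ∑ w : C, Fintype.card (MulAction.fixedBy (Sylow p C) w) := by
      refine Finset.sum_lt_sum (fun w _ => ?_) ⟨1, Finset.mem_univ _, ?_⟩
      · obtain ⟨T, hT⟩ := hfx w
        exact Fintype.card_pos_iff.2 ⟨⟨T, hT⟩⟩
      · obtain ⟨T1, T2, hne⟩ := exists_pair_ne (Sylow p C)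
        exact Fintype.one_lt_card_iff.2 ⟨⟨T1, one_smul _ _⟩, ⟨T2, one_smul _ _⟩, fun h => hne (congrArg Subtype.val h)⟩
    rw [hB, Finset.sum_const, Finset.card_univ, smul_eq_mul, mul_one] at hlt
    exact lt_irrefl _ hlt
  have hScent : ∀ z : C, (orderOf z).Coprime p → (S : Subgroup C) ≤ centralizer ({z} : Set C) := fun z hz => by
    obtain ⟨T, hT⟩ := hcent z hz
    rwa [Subsingleton.elim S T]
  obtain ⟨K, hKn, hKc, hKp⟩ := CfsgLib.Transfer.hasNormalPComplement_iff_exists.1
    (CfsgLib.Transfer.hasNormalPComplement_of_centralizes S fun Q hQ g _ hg =>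
      mem_centralizer_iff.2 fun q hq => mem_centralizer_singleton_iff.1 (hScent g hg (hQ hq)))
  haveI := hKn
  -- a normal `p`-subgroup
  set Sg := (S : Subgroup C).map C.subtype
  obtain ⟨P, hSP⟩ := (S.isPGroup'.map C.subtype).exists_le_sylow
  have hxC : x ∈ C := mem_centralizer_singleton_iff.2 rfl
  have hxS : (⟨x, hxC⟩ : C) ∈ (S : Subgroup C) := by
    have hxp : IsPGroup p (zpowers (⟨x, hxC⟩ : C)) :=
      IsPGroup.of_card (by rw [Nat.card_zpowers, Subgroup.orderOf_mk, hxk])
    obtain ⟨T, hT⟩ := hxp.exists_le_sylow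
    rw [Subsingleton.elim S T]
    exact hT (mem_zpowers _)
  set M := (P : Subgroup G).normalCore
  have hSn : (S : Subgroup C).Normal := by
    haveI := hsub
    exact Sylow.normal_of_subsingleton S
  have hSM : Sg ≤ M := by
    intro s hs g
    obtain ⟨u, hu, hc⟩ := exists_smul_of_index hidx P (hSP (mem_map_of_mem C.subtype hxS)) g
    obtain ⟨s', hs', rfl⟩ := hs
    have hconj := hSP (mem_map_of_mem C.subtype (hSn.conj_mem s' hs' ⟨u⁻¹ * g, hc⟩))
    have e : g * (s' : G) * g⁻¹ = u * ((u⁻¹ * g) * (s' : G) * (u⁻¹ * g)⁻¹) * u⁻¹ := by group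
    show g * (s' : G) * g⁻¹ ∈ (P : Subgroup G)
    rw [e]
    exact mul_mem (mul_mem hu hconj) (inv_mem hu)
  have hMp : IsPGroup p M := P.isPGroup'.to_le (normalCore_le _)
  have hMC : M ⊓ C ≤ Sg := by
    intro w hw
    have hp' : IsPGroup p ((M ⊓ C).subgroupOf C) :=
      (hMp.to_le inf_le_left).comap_of_injective C.subtype C.subtype_injective
    obtain ⟨T, hT⟩ := hp'.exists_le_sylow
    refine ⟨⟨w, hw.2⟩, ?_, rfl⟩
    rw [Subsingleton.elim S T]
    exact hT (mem_subgroupOf.2 hw)
  have hKcent : ∀ y : C, y ∈ K → (y : G) ∈ centralizer (M : Set G) := by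
    intro y hy
    have hyp : (orderOf y).Coprime p := hKc.coprime_dvd_left (Subgroup.orderOf_dvd_natCard K hy)
    refine CfsgLib.Core.pq_lemma (P := zpowers x) (Q := zpowers (y : G)) (U := M) (p := p) ?_ ?_ hMp ?_ ?_ ?_ ?_
      (mem_zpowers _)
    · exact IsPGroup.of_card (by rw [Nat.card_zpowers, hxk])
    · rw [Nat.card_zpowers, Subgroup.orderOf_coe]; exact hyp
    · rw [zpowers_le, mem_centralizer_iff]
      intro t ht
      obtain ⟨i, rfl⟩ := mem_zpowers_iff.1 ht
      exact ((show Commute (y : G) x from mem_centralizer_singleton_iff.1 y.2).zpow_left i).eq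
    · rw [normalizer_eq_top_iff.2 inferInstance]; exact le_top
    · rw [normalizer_eq_top_iff.2 inferInstance]; exact le_top
    · intro w hw
      have hwC : w ∈ C := mem_centralizer_singleton_iff.2
        (mem_centralizer_iff.1 hw.2 x (mem_zpowers x)).symm
      obtain ⟨s, hs, rfl⟩ := hMC ⟨hw.1, hwC⟩
      refine mem_centralizer_iff.2 fun t ht => ?_
      obtain ⟨i, rfl⟩ := mem_zpowers_iff.1 ht
      exact ((show Commute (y : G) (s : G) from
        (congrArg Subtype.val (mem_centralizer_singleton_iff.1 (hScent y hyp hs))).symm).zpow_left i).eq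
  have hMCle : centralizer (M : Set G) ≤ C := fun g hg =>
    mem_centralizer_singleton_iff.2 (mem_centralizer_iff.1 hg x (hSM (mem_map_of_mem _ hxS))).symm
  have hKn' : (K.map C.subtype).Normal := by
    refine ⟨fun t ht g => ?_⟩
    obtain ⟨y, hy, rfl⟩ := ht
    have h1 : g * (y : G) * g⁻¹ ∈ centralizer (M : Set G) := Normal.conj_mem inferInstance _ (hKcent y hy) g
    refine ⟨⟨_, hMCle h1⟩, ?_, rfl⟩
    have ho : orderOf (⟨_, hMCle h1⟩ : C) = orderOf y := by
      rw [Subgroup.orderOf_mk, ← MulAut.conj_apply, MulEquiv.orderOf_eq, Subgroup.orderOf_coe]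
    obtain ⟨j, hj⟩ := hKp (QuotientGroup.mk' K ⟨_, hMCle h1⟩)
    refine (QuotientGroup.eq_one_iff _).1 (orderOf_eq_one_iff.1 (Nat.eq_one_of_dvd_coprimes
      (((hKc.coprime_dvd_left (Subgroup.orderOf_dvd_natCard K hy))).pow_right j) ?_ (orderOf_dvd_of_pow_eq_one hj)))
    rw [← ho]
    exact orderOf_map_dvd (QuotientGroup.mk' K) _
  haveI := hKn'
  refine CfsgLib.Transfer.hasNormalPComplement_iff_exists.2 ⟨K.map C.subtype, hKn', ?_, ?_⟩
  · rw [← Nat.card_congr (equivMapOfInjective K C.subtype C.subtype_injective).toEquiv]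
    exact hKc
  · obtain ⟨j, hj⟩ := IsPGroup.iff_card.1 hKp
    refine IsPGroup.of_card (n := j + a) ?_
    rw [← index_eq_card, index_map_subtype, index_eq_card, hj, hidx, ← pow_add]

end CfsgLib.ClassSizes.PPower
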