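import Mathlib
import Cfsg.Agent.Lib.ClassSizes.BurnsideAut
import Cfsg.Agent.Lib.Core.MinNormal

/-!
Frobenius: the number of solutions of `x ^ n ∈ K` for a union of classes `K`.
-/

set_option linter.style.haveILetI false

namespace CfsgLib.ClassSizes

open Subgroup

variable {G : Type*} [Group G] [Finite G]

/-- The number of `n`th roots. -/
noncomputable def numRoots (n : ℕ) (c : G) : ℕ := Nat.card {x : G // x ^ n = c}

theorem orderOf_dvd_of_pow_coprime {k : ℕ} (hk : (Nat.card G).Coprime k) {x y : G} (h : x ^ k = y ^ k) : x = y :=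
  (powCoprime hk).injective h

theorem numRoots_mul_central {c r : G} (n : ℕ) (hr : ∀ g, Commute r g) :
    numRoots n (c * r ^ n) = numRoots n c := by
  refine Nat.card_congr
    { toFun := fun x => ⟨x.1 * r⁻¹, ?_⟩
      invFun := fun x => ⟨x.1 * r, ?_⟩
      left_inv := fun x => Subtype.ext (inv_mul_cancel_right _ _)
      right_inv := fun x => Subtype.ext (mul_inv_cancel_right _ _) }
  · rw [((hr x.1).inv_left.symm).mul_pow, x.2, inv_pow, mul_inv_cancel_right]
  · rw [((hr x.1).symm).mul_pow, x.2]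

theorem numRoots_pow_coprime {k : ℕ} (hk : (Nat.card G).Coprime k) (n : ℕ) (c : G) :
    numRoots n (c ^ k) = numRoots n c := by
  refine (Nat.card_congr ((powCoprime hk).subtypeEquiv fun x => ?_)).symm
  change x ^ n = c ↔ (x ^ k) ^ n = c ^ k
  rw [← pow_mul, mul_comm, pow_mul]
  exact ⟨fun h => by rw [h], fun h => orderOf_dvd_of_pow_coprime hk h⟩

theorem not_dvd_orderOf_pow {p a : ℕ} (hp : p.Prime) (ha : (Nat.card G).factorization p ≤ a) (x : G) :
    ¬ p ∣ orderOf (x ^ p ^ a) := by
  intro h
  have h1 := orderOf_dvd_natCard (G := G) x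
  have hd : orderOf (x ^ p ^ a) * Nat.gcd (orderOf x) (p ^ a) = orderOf x := by
    rw [orderOf_pow, Nat.div_mul_cancel (Nat.gcd_dvd_left _ _)]
  obtain ⟨i, hi, hgi⟩ := (Nat.dvd_prime_pow hp).1 (Nat.gcd_dvd_right (orderOf x) (p ^ a))
  rw [hgi] at hd
  have h2 : p ^ (i + 1) ∣ orderOf x := by
    rw [pow_succ', ← hd]; exact mul_dvd_mul_right h _
  have h3 : i + 1 ≤ (Nat.card G).factorization p :=
    (hp.pow_dvd_iff_le_factorization Nat.card_pos.ne').1 (h2.trans h1)
  have h4 : p ^ (i + 1) ∣ Nat.gcd (orderOf x) (p ^ a) := Nat.dvd_gcd h2 (pow_dvd_pow p (by omega))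
  rw [hgi, Nat.pow_dvd_pow_iff_le_right hp.one_lt] at h4
  omega

theorem exists_pow_eq_of_coprime {p e : ℕ} (hp : p.Prime) {c : G} (hc : ¬ p ∣ orderOf c) :
    ∃ r ∈ Subgroup.zpowers c, r ^ p ^ e = c := by
  obtain ⟨i, j, hij⟩ := Nat.Coprime.isCoprime (((hp.coprime_iff_not_dvd).2 hc).pow_left e)
  refine ⟨c ^ i, zpow_mem (mem_zpowers c) i, ?_⟩
  rw [← zpow_natCast, ← zpow_mul]
  have e1 : i * ((p ^ e : ℕ) : ℤ) = -j * (orderOf c : ℤ) + 1 := by linarith
  rw [e1, zpow_add, zpow_mul', zpow_natCast, pow_orderOf_eq_one, one_zpow, one_mul, zpow_one]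

/-- The number of `x` with `x ^ n` conjugate to `c`. -/
theorem card_roots_class (n : ℕ) (c : G) :
    Nat.card {x : G // IsConj c (x ^ n)} = Nat.card {y : G // IsConj c y} *
      numRoots n (⟨c, mem_centralizer_singleton_iff.2 rfl⟩ : centralizer ({c} : Set G)) := by
  classical
  haveI := Fintype.ofFinite {y : G // IsConj c y}
  have e : {x : G // IsConj c (x ^ n)} ≃ Σ y : {y : G // IsConj c y}, {x : G // x ^ n = y.1} :=
    { toFun := fun x => ⟨⟨x.1 ^ n, x.2⟩, x.1, rfl⟩
      invFun := fun z => ⟨z.2.1, z.2.2.symm ▸ z.1.2⟩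
      left_inv := fun x => rfl
      right_inv := fun z => Sigma.subtype_ext (Subtype.ext z.2.2) rfl }
  rw [Nat.card_congr e, Nat.card_sigma, Nat.card_eq_fintype_card (α := {y : G // IsConj c y}), ← smul_eq_mul,
    ← Finset.card_univ, ← Finset.sum_const]
  refine Finset.sum_congr rfl fun y _ => ?_
  obtain ⟨u, hu⟩ := isConj_iff.1 y.2
  refine Nat.card_congr
    { toFun := fun x => ⟨⟨u⁻¹ * x.1 * u, ?_⟩, Subtype.ext ?_⟩
      invFun := fun x => ⟨u * x.1.1 * u⁻¹, ?_⟩
      left_inv := fun x => Subtype.ext (show u * (u⁻¹ * x.1 * u) * u⁻¹ = x.1 by group)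
      right_inv := fun x => Subtype.ext (Subtype.ext (show u⁻¹ * (u * x.1.1 * u⁻¹) * u = x.1.1 by group)) }
  · have h : (u⁻¹ * x.1 * u) ^ n = c := by
      rw [show u⁻¹ * x.1 * u = u⁻¹ * x.1 * u⁻¹⁻¹ by group, conj_pow, x.2, ← hu]; group
    have h' := ((Commute.refl (u⁻¹ * x.1 * u)).pow_right n).eq
    rw [h] at h'
    exact mem_centralizer_singleton_iff.2 h'
  · change (u⁻¹ * x.1 * u) ^ n = c
    rw [show u⁻¹ * x.1 * u = u⁻¹ * x.1 * u⁻¹⁻¹ by group, conj_pow, x.2, ← hu]; group
  · have h : (x.1.1 : G) ^ n = c := congrArg Subtype.val x.2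
    rw [conj_pow, h, hu]

theorem card_class_mul_card_centralizer (c : G) :
    Nat.card {y : G // IsConj c y} * Nat.card (centralizer ({c} : Set G)) = Nat.card G := by
  have h1 := (MulAction.stabilizer (ConjAct G) c).index_mul_card
  rw [MulAction.index_stabilizer, ← Subgroup.nat_card_centralizer_nat_card_stabilizer, ← Nat.card_coe_set_eq] at h1
  rw [show Nat.card G = Nat.card (ConjAct G) from rfl, ← h1]
  congr 1
  exact Nat.card_congr (Equiv.subtypeEquivRight fun y => by rw [ConjAct.mem_orbit_conjAct]; exact isConj_comm)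

/-- `|G|_p` divides the number of `p`-elements. -/
theorem dvd_numRoots_one_top.{u} (p : ℕ) [Fact p.Prime] : ∀ m : ℕ, ∀ (H : Type u) [Group H] [Finite H],
    Nat.card H = m → p ^ (Nat.card H).factorization p ∣ numRoots (p ^ (Nat.card H).factorization p) (1 : H) := by
  intro m
  induction m using Nat.strong_induction_on with
  | _ m ih =>
    intro H _ _ hm
    subst hm
    classical
    have hp := (Fact.out : p.Prime)
    set a := (Nat.card H).factorization p with ha
    haveI := Fintype.ofFinite H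
    have htot : Nat.card H = ∑ y : H, numRoots (p ^ a) y := by
      simp only [numRoots]
      rw [← Nat.card_sigma]
      exact Nat.card_congr (Equiv.sigmaFiberEquiv fun x : H => x ^ p ^ a).symm
    rw [← Finset.sum_filter_add_sum_filter_not Finset.univ (fun y : H => y ∈ Subgroup.center H)] at htot
    set S := Finset.univ.filter fun y : H => y ∈ Subgroup.center H
    have hnc : p ^ a ∣ ∑ y ∈ Finset.univ.filter (fun y : H => ¬ y ∈ Subgroup.center H), numRoots (p ^ a) y := by
      rw [← Finset.sum_fiberwise_of_maps_to (t := Finset.univ) (g := fun y : H => ConjClasses.mk y)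
        (fun _ _ => Finset.mem_univ _)]
      refine Finset.dvd_sum fun K _ => ?_
      rcases Finset.eq_empty_or_nonempty ((Finset.univ.filter (fun y : H => ¬ y ∈ Subgroup.center H)).filter
        (fun y => ConjClasses.mk y = K)) with he | ⟨c, hc⟩
      · rw [he, Finset.sum_empty]; exact dvd_zero _
      simp only [Finset.mem_filter, Finset.mem_univ, true_and] at hc
      have hfil : (Finset.univ.filter (fun y : H => ¬ y ∈ Subgroup.center H)).filter
          (fun y => ConjClasses.mk y = K) = Finset.univ.filter (fun y => IsConj c y) := by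
        ext y
        simp only [Finset.mem_filter, Finset.mem_univ, true_and, ← hc.2, ConjClasses.mk_eq_mk_iff_isConj]
        refine ⟨fun h => h.2.symm, fun h => ⟨fun hy => ?_, h.symm⟩⟩
        obtain ⟨g, hg⟩ := isConj_iff.1 h
        apply hc.1
        have : c = g⁻¹ * y * g := by rw [← hg]; group
        rw [this, show g⁻¹ * y * g = g⁻¹ * (y * g) by group, ← Subgroup.mem_center_iff.1 hy g, inv_mul_cancel_left]
        exact hy
      rw [hfil]
      have hsum : ∑ y ∈ Finset.univ.filter (fun y => IsConj c y), numRoots (p ^ a) y =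
          Nat.card {x : H // IsConj c (x ^ p ^ a)} := by
        rw [Finset.sum_subtype (p := fun y => IsConj c y) _ (by simp)]
        simp only [numRoots]
        rw [← Nat.card_sigma]
        exact Nat.card_congr
          { toFun := fun z => ⟨z.2.1, z.2.2.symm ▸ z.1.2⟩
            invFun := fun x => ⟨⟨x.1 ^ p ^ a, x.2⟩, x.1, rfl⟩
            left_inv := fun z => Sigma.subtype_ext (Subtype.ext z.2.2) rfl
            right_inv := fun x => rfl }
      rw [hsum, card_roots_class]
      set C := centralizer ({c} : Set H) with hC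
      set c' : C := ⟨c, mem_centralizer_singleton_iff.2 rfl⟩
      have hmul := card_class_mul_card_centralizer c
      set a' := (Nat.card C).factorization p
      have hh : Nat.card {y : H // IsConj c y} ≠ 0 := fun h => by
        rw [h, zero_mul] at hmul; exact Nat.card_pos.ne hmul
      have ha'a : a = (Nat.card {y : H // IsConj c y}).factorization p + a' := by
        rw [ha, ← hmul, Nat.factorization_mul hh Nat.card_pos.ne']
        rfl
      rw [ha'a, pow_add]
      refine mul_dvd_mul ((hp.pow_dvd_iff_le_factorization hh).2 le_rfl) ?_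
      by_cases hcp : p ∣ orderOf c'
      · have : numRoots (p ^ ((Nat.card {y : H // IsConj c y}).factorization p + a')) c' = 0 := by
          haveI : IsEmpty {x : C // x ^ p ^ ((Nat.card {y : H // IsConj c y}).factorization p + a') = c'} :=
            ⟨fun x => not_dvd_orderOf_pow hp (Nat.le_add_left _ _) x.1 (x.2 ▸ hcp)⟩
          exact Nat.card_of_isEmpty
        rw [← pow_add, this]; exact dvd_zero _
      rw [← pow_add]
      set A := (Nat.card {y : H // IsConj c y}).factorization p + a'
      obtain ⟨r, hr, hrc⟩ := exists_pow_eq_of_coprime (e := A) hp hcp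
      have hrcen : ∀ g : C, Commute r g := by
        obtain ⟨i, rfl⟩ := Subgroup.mem_zpowers_iff.1 hr
        intro g
        exact Commute.zpow_left (show Commute c' g from Subtype.ext (mem_centralizer_singleton_iff.1 g.2).symm) i
      have hcc : numRoots (p ^ A) c' = numRoots (p ^ A) (1 : C) := by
        rw [← numRoots_mul_central (c := (1 : C)) (p ^ A) hrcen, one_mul, hrc]
      have hA : numRoots (p ^ A) (1 : C) = numRoots (p ^ a') (1 : C) := by
        refine Nat.card_congr (Equiv.subtypeEquivRight fun x => ⟨fun h => ?_, fun h => ?_⟩)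
        · obtain ⟨i, -, hi⟩ := (Nat.dvd_prime_pow hp).1 (orderOf_dvd_of_pow_eq_one h)
          rw [← orderOf_dvd_iff_pow_eq_one, hi]
          exact pow_dvd_pow p ((hp.pow_dvd_iff_le_factorization Nat.card_pos.ne').1 (hi ▸ orderOf_dvd_natCard x))
        · rw [← Nat.sub_add_cancel (show a' ≤ A from Nat.le_add_left _ _), pow_add, mul_comm, pow_mul, h, one_pow]
      rw [hcc, hA]
      refine ih _ ?_ C rfl
      refine lt_of_le_of_ne (Nat.le_of_dvd Nat.card_pos (Subgroup.card_subgroup_dvd_card C)) fun h => hc.1 ?_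
      have htop : C = ⊤ := Subgroup.eq_top_of_card_eq C h
      rw [Subgroup.mem_center_iff]
      intro g
      have hg : g ∈ C := by rw [htop]; exact Subgroup.mem_top g
      exact mem_centralizer_singleton_iff.1 hg
    -- central part
    let Z' : Subgroup H :=
      { carrier := {y | y ∈ Subgroup.center H ∧ ¬ p ∣ orderOf y}
        one_mem' := ⟨one_mem _, by rw [orderOf_one]; exact hp.not_dvd_one⟩
        mul_mem' := fun {x y} hx hy => ⟨mul_mem hx.1 hy.1, fun h => by
          have hcomm : Commute x y := (Subgroup.mem_center_iff.1 hx.1 y).symm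
          rcases hp.dvd_mul.1 (h.trans hcomm.orderOf_mul_dvd_mul_orderOf) with h' | h'
          exacts [hx.2 h', hy.2 h']⟩
        inv_mem' := fun {x} hx => ⟨inv_mem hx.1, by rw [orderOf_inv]; exact hx.2⟩ }
    have hcen : ∑ y ∈ S, numRoots (p ^ a) y = Nat.card Z' * numRoots (p ^ a) (1 : H) := by
      rw [← Finset.sum_filter_add_sum_filter_not S (fun y : H => p ∣ orderOf y)]
      have h0 : ∀ y ∈ S.filter (fun y : H => p ∣ orderOf y), numRoots (p ^ a) y = 0 := fun y hy => by
        haveI : IsEmpty {x : H // x ^ p ^ a = y} :=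
          ⟨fun x => not_dvd_orderOf_pow hp le_rfl x.1 (by rw [x.2]; exact (Finset.mem_filter.1 hy).2)⟩
        exact Nat.card_of_isEmpty
      rw [Finset.sum_eq_zero h0, zero_add]
      have h1 : ∀ y ∈ S.filter (fun y : H => ¬ p ∣ orderOf y), numRoots (p ^ a) y = numRoots (p ^ a) (1 : H) := by
        intro y hy
        simp only [S, Finset.mem_filter, Finset.mem_univ, true_and] at hy
        obtain ⟨r, hr, hry⟩ := exists_pow_eq_of_coprime (e := a) hp hy.2
        have hrc : ∀ g, Commute r g := fun g =>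
          (Subgroup.mem_center_iff.1 (Subgroup.zpowers_le.2 hy.1 hr) g).symm
        rw [← numRoots_mul_central (c := (1 : H)) (p ^ a) hrc, one_mul, hry]
      rw [Finset.sum_congr rfl h1, Finset.sum_const, smul_eq_mul]
      congr 1
      rw [Nat.card_eq_fintype_card, ← Fintype.card_coe]
      exact Fintype.card_congr (Equiv.subtypeEquivRight fun y => by simp [S, Z'])
    have hd : p ^ a ∣ Nat.card Z' * numRoots (p ^ a) (1 : H) := by
      rw [← hcen]
      have h1 : p ^ a ∣ Nat.card H := Nat.ordProj_dvd _ _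
      rw [htot] at h1
      exact (Nat.dvd_add_left hnc).1 h1
    refine (Nat.Coprime.pow_left a ((hp.coprime_iff_not_dvd).2 fun h => ?_)).dvd_of_dvd_mul_left hd
    obtain ⟨x, hx⟩ := exists_prime_orderOf_dvd_card' p h
    exact x.2.2 (by rw [Subgroup.orderOf_coe, hx])

theorem totient_dvd_card_orderOf (d : ℕ) (hd : 0 < d) : Nat.totient d ∣ Nat.card {x : G // orderOf x = d} := by
  classical
  haveI : NeZero d := ⟨hd.ne'⟩
  let sm : (ZMod d)ˣ → {x : G // orderOf x = d} → {x : G // orderOf x = d} := fun u x =>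
    ⟨x.1 ^ (u : ZMod d).val, by
      rw [Nat.Coprime.orderOf_pow (by rw [x.2]; exact (ZMod.val_coe_unit_coprime u).symm), x.2]⟩
  letI : MulAction (ZMod d)ˣ {x : G // orderOf x = d} :=
    { smul := sm
      one_smul := fun x => Subtype.ext (show x.1 ^ ((1 : (ZMod d)ˣ) : ZMod d).val = x.1 by
        have h := pow_mod_orderOf x.1 1
        rw [x.2, pow_one] at h
        rw [Units.val_one, ZMod.val_one_eq_one_mod]
        exact h)
      mul_smul := fun u v x => Subtype.ext (show x.1 ^ ((u * v : (ZMod d)ˣ) : ZMod d).val =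
          (x.1 ^ (v : ZMod d).val) ^ (u : ZMod d).val by
        rw [Units.val_mul, ZMod.val_mul, ← pow_mul, mul_comm (v : ZMod d).val]
        conv_rhs => rw [← pow_mod_orderOf, x.2]) }
  have h := card_dvd_card_of_free (A := (ZMod d)ˣ) (X := {x : G // orderOf x = d}) fun x => by
    rw [Subgroup.eq_bot_iff_forall]
    intro u hu
    have h1 : x.1 ^ (u : ZMod d).val = x.1 ^ 1 := by
      rw [pow_one]; exact congrArg Subtype.val (MulAction.mem_stabilizer_iff.1 hu)
    rw [pow_eq_pow_iff_modEq, x.2] at h1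
    apply Units.ext
    rw [Units.val_one, ← ZMod.natCast_zmod_val (u : ZMod d), ← Nat.cast_one]
    exact (ZMod.natCast_eq_natCast_iff _ _ _).2 h1
  rwa [Nat.card_eq_fintype_card, ZMod.card_units_eq_totient] at h

theorem dvd_numRoots_one (p : ℕ) [Fact p.Prime] (e : ℕ) :
    Nat.gcd (p ^ e) (Nat.card G) ∣ numRoots (p ^ e) (1 : G) := by
  classical
  have hp := (Fact.out : p.Prime)
  set a := (Nat.card G).factorization p with ha
  have hgcd : ∀ e, Nat.gcd (p ^ e) (Nat.card G) = p ^ min e a := fun e => by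
    apply Nat.dvd_antisymm
    · obtain ⟨i, hi, hgi⟩ := (Nat.dvd_prime_pow hp).1 (Nat.gcd_dvd_left (p ^ e) (Nat.card G))
      rw [hgi]
      exact pow_dvd_pow p (le_min hi ((hp.pow_dvd_iff_le_factorization Nat.card_pos.ne').1
        (hgi ▸ Nat.gcd_dvd_right _ _)))
    · exact Nat.dvd_gcd (pow_dvd_pow p (min_le_left _ _))
        ((pow_dvd_pow p (min_le_right _ _)).trans (Nat.ordProj_dvd _ _))
  have htop : ∀ e, a ≤ e → numRoots (p ^ e) (1 : G) = numRoots (p ^ a) (1 : G) := fun e he =>
    Nat.card_congr (Equiv.subtypeEquivRight fun x => ⟨fun h => by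
      obtain ⟨i, -, hi⟩ := (Nat.dvd_prime_pow hp).1 (orderOf_dvd_of_pow_eq_one h)
      rw [← orderOf_dvd_iff_pow_eq_one, hi]
      exact pow_dvd_pow p ((hp.pow_dvd_iff_le_factorization Nat.card_pos.ne').1 (hi ▸ orderOf_dvd_natCard x)),
      fun h => by rw [← Nat.sub_add_cancel he, pow_add, mul_comm, pow_mul, h, one_pow]⟩)
  suffices hmain : ∀ j, ∀ e, e + j = a → p ^ e ∣ numRoots (p ^ e) (1 : G) by
    rw [hgcd]
    rcases le_total a e with he | he
    · rw [min_eq_right he, htop e he]
      exact dvd_numRoots_one_top p _ G rfl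
    · rw [min_eq_left he]
      exact hmain (a - e) e (by omega)
  intro j
  induction j with
  | zero => intro e he; rw [show e = a by omega]; exact dvd_numRoots_one_top p _ G rfl
  | succ j ih =>
    intro e he
    have h1 : p ^ e ∣ numRoots (p ^ (e + 1)) (1 : G) :=
      (pow_dvd_pow p (Nat.le_succ e)).trans (ih (e + 1) (by omega))
    have hsplit : numRoots (p ^ (e + 1)) (1 : G) =
        numRoots (p ^ e) (1 : G) + Nat.card {x : G // orderOf x = p ^ (e + 1)} := by
      haveI := Fintype.ofFinite G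
      simp only [numRoots, Nat.card_eq_fintype_card]
      rw [← Fintype.card_subtype_or_disjoint (fun x : G => x ^ p ^ e = 1) (fun x : G => orderOf x = p ^ (e + 1))]
      · refine Fintype.card_congr (Equiv.subtypeEquivRight fun x => ⟨fun h => ?_, ?_⟩)
        · obtain ⟨i, hi, hxi⟩ := (Nat.dvd_prime_pow hp).1 (orderOf_dvd_of_pow_eq_one h)
          rcases hi.eq_or_lt with rfl | hlt
          · exact Or.inr hxi
          · left
            rw [← orderOf_dvd_iff_pow_eq_one, hxi]
            exact pow_dvd_pow p (by omega)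
        · rintro (h | h)
          · rw [pow_succ, pow_mul, h, one_pow]
          · rw [← h, pow_orderOf_eq_one]
      · rw [Pi.disjoint_iff]
        intro x
        rw [Prop.disjoint_iff, not_and_or]
        by_cases h : x ^ p ^ e = 1
        · right
          intro h'
          have := Nat.le_of_dvd (pow_pos hp.pos e) (orderOf_dvd_of_pow_eq_one h)
          rw [h'] at this
          exact absurd this (not_le.2 (Nat.pow_lt_pow_right hp.one_lt (Nat.lt_succ_self e)))
        · exact Or.inl h
    have h2 : p ^ e ∣ Nat.card {x : G // orderOf x = p ^ (e + 1)} := by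
      refine dvd_trans ?_ (totient_dvd_card_orderOf (p ^ (e + 1)) (pow_pos hp.pos _))
      rw [Nat.totient_prime_pow hp (Nat.succ_pos e)]
      exact dvd_mul_of_dvd_left (by simp) _
    rw [hsplit] at h1
    exact (Nat.dvd_add_left h2).1 h1

theorem dvd_numRoots_central_pElement.{u} (p : ℕ) [Fact p.Prime] (e : ℕ) : ∀ m : ℕ, ∀ (H : Type u) [Group H] [Finite H],
    Nat.card H = m → ∀ c : H, (∀ g, Commute c g) → ∀ s, orderOf c = p ^ s →
      Nat.gcd (p ^ e) (Nat.card H) ∣ numRoots (p ^ e) c := by
  intro m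
  induction m using Nat.strong_induction_on with
  | _ m ih =>
    intro H _ _ hm c hc s hs
    subst hm
    classical
    have hp := (Fact.out : p.Prime)
    rcases s with _ | s
    · rw [pow_zero, orderOf_eq_one_iff] at hs
      subst hs
      exact dvd_numRoots_one p e
    set a := (Nat.card H).factorization p with ha
    have hpc : p ∣ orderOf c := hs ▸ dvd_pow_self p (Nat.succ_ne_zero s)
    rcases le_or_gt a e with he | he
    · haveI : IsEmpty {x : H // x ^ p ^ e = c} := ⟨fun x => not_dvd_orderOf_pow hp he x.1 (by rw [x.2]; exact hpc)⟩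
      rw [show numRoots (p ^ e) c = 0 from Nat.card_of_isEmpty]
      exact dvd_zero _
    set z := c ^ p ^ s with hz
    have hzo : orderOf z = p := by
      rw [hz, orderOf_pow_of_dvd (pow_ne_zero _ hp.ne_zero) (hs ▸ pow_dvd_pow p (Nat.le_succ s)), hs, pow_succ,
        Nat.mul_div_cancel_left _ (pow_pos hp.pos s)]
    set Z := Subgroup.zpowers z with hZ
    have hZcen : Z ≤ Subgroup.center H := Subgroup.zpowers_le.2 (Subgroup.mem_center_iff.2
      fun g => ((hc g).pow_left _).eq.symm)
    haveI : Z.Normal := ⟨fun y hy g => by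
      rw [Subgroup.mem_center_iff.1 (hZcen hy) g, mul_inv_cancel_right]; exact hy⟩
    have hZc : Nat.card Z = p := by rw [hZ, Nat.card_zpowers, hzo]
    have hmul := Z.card_eq_card_quotient_mul_card_subgroup
    rw [hZc] at hmul
    have hpe : Nat.gcd (p ^ e) (Nat.card H) = p ^ e :=
      Nat.gcd_eq_left ((pow_dvd_pow p he.le).trans (Nat.ordProj_dvd _ _))
    have hpe' : Nat.gcd (p ^ e) (Nat.card (H ⧸ Z)) = p ^ e := by
      refine Nat.gcd_eq_left (Nat.dvd_of_mul_dvd_mul_right hp.pos ?_)
      rw [← pow_succ, ← hmul]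
      exact (pow_dvd_pow p he).trans (Nat.ordProj_dvd _ _)
    rw [hpe]
    -- the sum over the coset of `Z`
    have hsum : ∑ i : Fin p, numRoots (p ^ e) (c * z ^ (i : ℕ)) = p * numRoots (p ^ e) (c : H ⧸ Z) := by
      have h1 : Nat.card {x : H // ((x ^ p ^ e : H) : H ⧸ Z) = (c : H ⧸ Z)} = Nat.card Z * numRoots (p ^ e) (c : H ⧸ Z) := by
        rw [numRoots, ← Nat.card_prod]
        exact Nat.card_congr (QuotientGroup.preimageMkEquivSubgroupProdSet Z {X | X ^ p ^ e = (c : H ⧸ Z)})
      rw [hZc] at h1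
      rw [← h1]
      simp only [numRoots]
      rw [← Nat.card_sigma]
      refine Nat.card_eq_of_bijective (fun w => ⟨w.2.1, ?_⟩) ⟨?_, ?_⟩
      · rw [w.2.2, eq_comm, QuotientGroup.eq, inv_mul_cancel_left]
        exact pow_mem (mem_zpowers z) _
      · rintro ⟨i, x, hx⟩ ⟨j, y, hy⟩ h
        obtain rfl : x = y := congrArg Subtype.val h
        have h2 : z ^ (i : ℕ) = z ^ (j : ℕ) := mul_left_cancel (hx.symm.trans hy)
        rw [pow_eq_pow_iff_modEq, hzo] at h2
        obtain rfl : i = j := Fin.ext (Nat.ModEq.eq_of_lt_of_lt h2 i.2 j.2)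
        rfl
      · rintro ⟨x, hx⟩
        rw [eq_comm, QuotientGroup.eq] at hx
        obtain ⟨n, hn⟩ := mem_powers_iff_mem_zpowers.2 hx
        simp only at hn
        exact ⟨⟨⟨n % p, Nat.mod_lt _ hp.pos⟩, x, by
          rw [show z ^ (n % p) = z ^ n from by rw [← hzo, pow_mod_orderOf], hn, mul_inv_cancel_left]⟩, rfl⟩
    have hcq : ∀ g, Commute (c : H ⧸ Z) g := by
      intro g
      induction g using QuotientGroup.induction_on with
      | _ y =>
        show (c : H ⧸ Z) * y = y * c
        rw [← QuotientGroup.mk_mul, ← QuotientGroup.mk_mul, (hc y).eq]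
    have hlt : Nat.card (H ⧸ Z) < Nat.card H := by
      rw [hmul]
      exact lt_mul_of_one_lt_right Nat.card_pos hp.one_lt
    obtain ⟨s', -, hs'⟩ := (Nat.dvd_prime_pow hp).1 (hs ▸ orderOf_map_dvd (QuotientGroup.mk' Z) c)
    have hquot : p ^ e ∣ numRoots (p ^ e) (c : H ⧸ Z) := by
      have h := ih _ hlt (H ⧸ Z) rfl _ hcq s' hs'
      rwa [hpe'] at h
    haveI : NeZero (Nat.card H) := ⟨Nat.card_pos.ne'⟩
    have hinv : ∀ k : ℕ, ¬ p ∣ k → numRoots (p ^ e) (c ^ k) = numRoots (p ^ e) c := by
      intro k hk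
      have hco : Nat.Coprime k (orderOf c) := by
        rw [hs]; exact ((hp.coprime_iff_not_dvd.2 hk).pow_left _).symm
      obtain ⟨u, hu⟩ := ZMod.unitsMap_surjective (orderOf_dvd_natCard c) (ZMod.unitOfCoprime k hco)
      have he2 : c ^ k = c ^ (u : ZMod (Nat.card H)).val := by
        rw [pow_eq_pow_iff_modEq, ← ZMod.natCast_eq_natCast_iff]
        have := congrArg Units.val hu
        rw [ZMod.unitsMap_val, ZMod.coe_unitOfCoprime] at this
        rw [← this, ZMod.cast_eq_val]
      rw [he2, numRoots_pow_coprime (ZMod.val_coe_unit_coprime u).symm]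
    rcases s with _ | s
    · -- order `p`
      rw [pow_zero, pow_one] at hz
      rw [hz] at hsum
      have hval : ∀ i : Fin p, numRoots (p ^ e) (c * c ^ (i : ℕ)) =
          if (i : ℕ) + 1 = p then numRoots (p ^ e) (1 : H) else numRoots (p ^ e) c := by
        intro i
        rw [← pow_succ']
        split_ifs with h
        · rw [h, ← hzo, hz, pow_orderOf_eq_one]
        · refine hinv _ fun hd => h ?_
          have := Nat.le_of_dvd (Nat.succ_pos _) hd
          omega
      rw [Finset.sum_congr rfl fun i _ => hval i] at hsum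
      obtain ⟨q, hq⟩ : ∃ q, p = q + 1 := ⟨p - 1, by have := hp.pos; omega⟩
      have hsum2 : numRoots (p ^ e) (1 : H) + (p - 1) * numRoots (p ^ e) c = p * numRoots (p ^ e) (c : H ⧸ Z) := by
        rw [← hsum]
        have hlast : (⟨q, by omega⟩ : Fin p) ∈ (Finset.univ : Finset (Fin p)) := Finset.mem_univ _
        rw [← Finset.add_sum_erase _ _ hlast, if_pos (by simp only; omega)]
        congr 1
        rw [Finset.sum_congr rfl (g := fun _ => numRoots (p ^ e) c) fun i hi => if_neg fun h =>
          (Finset.mem_erase.1 hi).1 (Fin.ext (by simp only; omega)), Finset.sum_const,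
          Finset.card_erase_of_mem hlast, Finset.card_univ, Fintype.card_fin, smul_eq_mul]
      have h1 : p ^ e ∣ numRoots (p ^ e) (1 : H) := by
        have h := dvd_numRoots_one (G := H) p e
        rwa [hpe] at h
      have h2 : p ^ e ∣ (p - 1) * numRoots (p ^ e) c :=
        (Nat.dvd_add_right h1).1 (hsum2 ▸ dvd_mul_of_dvd_right hquot p)
      refine (Nat.Coprime.pow_left e ((hp.coprime_iff_not_dvd).2 fun h => ?_)).dvd_of_dvd_mul_left h2
      have := Nat.le_of_dvd (by have := hp.two_le; omega) h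
      have := hp.two_le
      omega
    · have hval : ∀ i : Fin p, numRoots (p ^ e) (c * z ^ (i : ℕ)) = numRoots (p ^ e) c := by
        intro i
        rw [hz, ← pow_mul, ← pow_succ', hinv]
        intro h
        have hdvd : p ∣ p ^ (s + 1) * (i : ℕ) := Dvd.dvd.mul_right (dvd_pow_self p (Nat.succ_ne_zero s)) _
        exact hp.not_dvd_one ((Nat.dvd_add_right hdvd).1 h)
      rw [Finset.sum_congr rfl fun i _ => hval i, Finset.sum_const, Finset.card_univ, Fintype.card_fin,
        smul_eq_mul] at hsum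
      rw [Nat.eq_of_mul_eq_mul_left hp.pos hsum]
      exact hquot

theorem dvd_numRoots_central_primePow (p : ℕ) [Fact p.Prime] (e : ℕ) (c : G) (hc : ∀ g, Commute c g) :
    Nat.gcd (p ^ e) (Nat.card G) ∣ numRoots (p ^ e) c := by
  have hp := (Fact.out : p.Prime)
  obtain ⟨s, v, hv, hcv⟩ := Nat.exists_eq_pow_mul_and_not_dvd (orderOf_pos c).ne' p hp.one_lt.ne'
  have hv0 : v ≠ 0 := fun h => hv (h ▸ dvd_zero p)
  obtain ⟨i, j, hij⟩ := Nat.Coprime.isCoprime (((hp.coprime_iff_not_dvd).2 hv).pow_left s)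
  set c1 := (c ^ v) ^ j with hc1
  set c2 := (c ^ p ^ s) ^ i with hc2
  have hce : c = c1 * c2 := by
    rw [hc1, hc2, ← zpow_natCast, ← zpow_natCast c (p ^ s), ← zpow_mul, ← zpow_mul, ← zpow_add,
      mul_comm (v : ℤ), mul_comm ((p ^ s : ℕ) : ℤ), add_comm, hij, zpow_one]
  have h2 : ¬ p ∣ orderOf c2 := fun h => hv (h.trans ((orderOf_dvd_of_mem_zpowers ⟨i, rfl⟩).trans (by
    rw [orderOf_pow_of_dvd (pow_ne_zero _ hp.ne_zero) (hcv ▸ dvd_mul_right _ _), hcv,
      Nat.mul_div_cancel_left _ (pow_pos hp.pos s)])))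
  have h1 : ∃ s', orderOf c1 = p ^ s' := by
    obtain ⟨s', -, hs'⟩ := (Nat.dvd_prime_pow hp).1 ((orderOf_dvd_of_mem_zpowers
      (⟨j, rfl⟩ : c1 ∈ Subgroup.zpowers (c ^ v))).trans (by
        rw [orderOf_pow_of_dvd hv0 (hcv ▸ dvd_mul_left _ _), hcv, Nat.mul_div_cancel _ (Nat.pos_of_ne_zero hv0)]))
    exact ⟨s', hs'⟩
  obtain ⟨s', hs'⟩ := h1
  obtain ⟨r, hr, hrc⟩ := exists_pow_eq_of_coprime (e := e) hp h2
  have hc2c : ∀ g, Commute c2 g := fun g => ((hc g).pow_left _).zpow_left i
  have hrcen : ∀ g, Commute r g := by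
    obtain ⟨k, rfl⟩ := Subgroup.mem_zpowers_iff.1 hr
    exact fun g => (hc2c g).zpow_left k
  rw [hce, ← hrc, numRoots_mul_central _ hrcen]
  exact dvd_numRoots_central_pElement p e _ G rfl c1 (fun g => ((hc g).pow_left _).zpow_left j) s' hs'

theorem dvd_card_roots_normalSet.{u} : ∀ n : ℕ, ∀ (H : Type u) [Group H] [Finite H] (K : Set H),
    (∀ x ∈ K, ∀ g : H, g * x * g⁻¹ ∈ K) → Nat.gcd n (Nat.card H) ∣ Nat.card {x : H // x ^ n ∈ K} := by
  intro n
  induction n using Nat.strong_induction_on with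
  | _ n ih =>
    intro H _ _ K hK
    classical
    rcases eq_or_ne n 0 with rfl | hn0
    · simp only [pow_zero, Nat.gcd_zero_left]
      by_cases h : (1 : H) ∈ K
      · rw [Nat.card_congr (Equiv.subtypeUnivEquiv fun _ => h)]
      · haveI : IsEmpty {x : H // (1 : H) ∈ K} := ⟨fun x => h x.2⟩
        rw [Nat.card_of_isEmpty (α := {x : H // (1 : H) ∈ K})]; exact dvd_zero _
    rcases eq_or_ne n 1 with rfl | hn1
    · rw [Nat.gcd_one_left]; exact one_dvd _
    obtain ⟨p, hp, hpn⟩ := Nat.exists_prime_and_dvd hn1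
    obtain ⟨e, v, hv, hnv⟩ := Nat.exists_eq_pow_mul_and_not_dvd hn0 p hp.one_lt.ne'
    haveI := Fact.mk hp
    haveI := Fintype.ofFinite H
    rcases eq_or_ne v 1 with rfl | hv1
    · rw [mul_one] at hnv
      subst hnv
      have e1 : Nat.card {x : H // x ^ p ^ e ∈ K} = ∑ C ∈ Finset.univ.filter (fun C : ConjClasses H => ∃ y ∈ K, ConjClasses.mk y = C),
          Nat.card {x : H // ConjClasses.mk (x ^ p ^ e) = C} := by
        rw [Finset.sum_subtype (p := fun C : ConjClasses H => ∃ y ∈ K, ConjClasses.mk y = C) _ (by simp), ← Nat.card_sigma]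
        refine Nat.card_congr
          { toFun := fun x => ⟨⟨ConjClasses.mk (x.1 ^ p ^ e), x.1 ^ p ^ e, x.2, rfl⟩, x.1, rfl⟩
            invFun := fun z => ⟨z.2.1, ?_⟩
            left_inv := fun x => rfl
            right_inv := fun z => Sigma.subtype_ext (Subtype.ext z.2.2) rfl }
        obtain ⟨y, hy, hyC⟩ := z.1.2
        obtain ⟨g, hg⟩ := isConj_iff.1 (ConjClasses.mk_eq_mk_iff_isConj.1 (hyC.trans z.2.2.symm))
        exact hg ▸ hK y hy g
      rw [e1]
      refine Finset.dvd_sum fun C _ => ?_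
      obtain ⟨c, rfl⟩ := ConjClasses.mk_surjective C
      rw [Nat.card_congr (Equiv.subtypeEquivRight fun x => ConjClasses.mk_eq_mk_iff_isConj.trans isConj_comm),
        card_roots_class]
      have hmul := card_class_mul_card_centralizer c
      refine dvd_trans ?_ (mul_dvd_mul_left _ (dvd_numRoots_central_primePow p e _ fun g =>
        Subtype.ext (mem_centralizer_singleton_iff.1 g.2).symm))
      rw [← Nat.gcd_mul_left, hmul]
      exact Nat.dvd_gcd ((Nat.gcd_dvd_left _ _).trans (dvd_mul_left _ _)) (Nat.gcd_dvd_right _ _)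
    · have hv0 : v ≠ 0 := fun h => hv (h ▸ dvd_zero p)
      have he0 : e ≠ 0 := by
        rintro rfl
        rw [pow_zero, one_mul] at hnv
        exact hv (hnv ▸ hpn)
      have hpe : 1 < p ^ e := Nat.one_lt_pow he0 hp.one_lt
      have hco : Nat.Coprime (p ^ e) v := ((hp.coprime_iff_not_dvd).2 hv).pow_left e
      have key : ∀ u w : ℕ, n = u * w → w < n → Nat.gcd w (Nat.card H) ∣ Nat.card {x : H // x ^ n ∈ K} := by
        intro u w huw hw
        have h := ih w hw H {y | y ^ u ∈ K} fun y hy g => by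
          change (g * y * g⁻¹) ^ u ∈ K
          rw [conj_pow]
          exact hK _ hy g
        refine h.trans (dvd_of_eq (Nat.card_congr (Equiv.subtypeEquivRight fun x => ?_)))
        change (x ^ w) ^ u ∈ K ↔ _
        rw [← pow_mul, mul_comm, ← huw]
      have h1 := key v (p ^ e) (by rw [hnv, mul_comm]) (by rw [hnv]; exact lt_mul_of_one_lt_right (by omega) (by omega))
      have h2 := key (p ^ e) v hnv (by rw [hnv]; exact lt_mul_of_one_lt_left (by omega) hpe)
      have hdvd : Nat.gcd n (Nat.card H) ∣ Nat.gcd (p ^ e) (Nat.card H) * Nat.gcd v (Nat.card H) := by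
        rw [hnv, Nat.gcd_comm, Nat.gcd_comm (p ^ e), Nat.gcd_comm v]
        exact Nat.gcd_mul_right_dvd_mul_gcd _ _ _
      refine hdvd.trans (Nat.Coprime.mul_dvd_of_dvd_of_dvd ?_ h1 h2)
      exact Nat.Coprime.coprime_dvd_left (Nat.gcd_dvd_left _ _) (Nat.Coprime.coprime_dvd_right (Nat.gcd_dvd_left _ _) hco)

theorem dvd_numRoots_central (n : ℕ) (c : G) (hc : ∀ g, Commute c g) :
    Nat.gcd n (Nat.card G) ∣ numRoots n c := by
  refine dvd_card_roots_normalSet n G {c} fun x hx g => ?_
  rw [Set.mem_singleton_iff] at hx ⊢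
  rw [hx, ← (hc g).eq, mul_inv_cancel_right]

theorem dvd_card_roots_into_class (c : G) (n : ℕ) :
    Nat.gcd (Nat.card {y : G // IsConj c y} * n) (Nat.card G) ∣ Nat.card {x : G // IsConj c (x ^ n)} := by
  rw [card_roots_class, ← card_class_mul_card_centralizer c, Nat.gcd_mul_left]
  exact mul_dvd_mul_left _ (dvd_numRoots_central n _ fun g =>
    Subtype.ext (mem_centralizer_singleton_iff.1 g.2).symm)

/-- In a solvable group exactly `n` solutions of `x ^ n = 1` form a subgroup. -/
theorem exists_subgroup_of_numRoots.{u} : ∀ m : ℕ, ∀ (H : Type u) [Group H] [Finite H] [Group.IsSolvable H],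
    Nat.card H = m → ∀ n, n ∣ Nat.card H → numRoots n (1 : H) = n →
      ∃ S : Subgroup H, (S : Set H) = {x : H | x ^ n = 1} := by
  intro m
  induction m using Nat.strong_induction_on with
  | _ m ih =>
    intro H _ _ _ hm n hn hcount
    subst hm
    classical
    rcases subsingleton_or_nontrivial H with h | h
    · exact ⟨⊤, by ext x; simp [Subsingleton.elim x 1]⟩
    obtain ⟨M, hMn, hMb, -, hmin⟩ := CfsgLib.Core.exists_minimal_normal_le' (⊤ : Subgroup H) top_ne_bot
    haveI := hMn
    obtain ⟨p, hp, hMp, -, hexp⟩ := CfsgLib.Core.isPGroup_of_minimal_normal M inferInstance hMb hmin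
    haveI := Fact.mk hp
    obtain ⟨i, hi⟩ := IsPGroup.iff_card.1 hMp
    have hmul := M.card_eq_card_quotient_mul_card_subgroup
    rw [hi] at hmul
    have hlt : Nat.card (H ⧸ M) < Nat.card H := by
      rw [hmul]
      refine lt_mul_of_one_lt_right Nat.card_pos (Nat.one_lt_pow ?_ hp.one_lt)
      rintro rfl
      exact hMb (Subgroup.eq_bot_of_card_eq _ (by simpa using hi))
    set π := QuotientGroup.mk' M with hπ
    have hn0 : n ≠ 0 := fun h => Nat.card_pos.ne' (Nat.eq_zero_of_zero_dvd (h ▸ hn))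
    by_cases hpn : p ∣ n
    · obtain ⟨j, hji, hj⟩ := (Nat.dvd_prime_pow hp).1 (Nat.gcd_dvd_right n (p ^ i))
      obtain ⟨n', hn'⟩ : p ^ j ∣ n := hj ▸ Nat.gcd_dvd_left _ _
      have hj0 : j ≠ 0 := by
        rintro rfl
        have hi0 : i ≠ 0 := by
          rintro rfl
          exact hMb (Subgroup.eq_bot_of_card_eq _ (by simpa using hi))
        have h1 := Nat.dvd_gcd hpn (dvd_pow_self p hi0)
        rw [hj, pow_zero] at h1
        exact hp.not_dvd_one h1
      have hn'q : n' ∣ Nat.card (H ⧸ M) := by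
        have hh : p ^ j * n' ∣ p ^ j * (p ^ (i - j) * Nat.card (H ⧸ M)) := by
          rw [← mul_assoc, ← pow_add, Nat.add_sub_cancel' hji, ← hn', mul_comm, ← hmul]
          exact hn
        have h1 : n' ∣ p ^ (i - j) * Nat.card (H ⧸ M) := Nat.dvd_of_mul_dvd_mul_left (pow_pos hp.pos j) hh
        rcases hji.eq_or_lt with rfl | hlt'
        · simpa using h1
        · refine Nat.Coprime.dvd_of_dvd_mul_left (Nat.Coprime.symm (Nat.Coprime.pow_left _ ?_)) h1
          rw [hp.coprime_iff_not_dvd]
          intro hd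
          have h2 : p ^ (j + 1) ∣ Nat.gcd n (p ^ i) :=
            Nat.dvd_gcd (by rw [pow_succ, hn']; exact mul_dvd_mul_left _ hd) (pow_dvd_pow p hlt')
          rw [hj, Nat.pow_dvd_pow_iff_le_right hp.one_lt] at h2
          omega
      have hsol : ∀ x : H, π x ^ n' = 1 → x ^ n = 1 := by
        intro x hx
        rw [← map_pow, hπ, QuotientGroup.mk'_apply, QuotientGroup.eq_one_iff] at hx
        rw [hn', ← Nat.sub_add_cancel (Nat.one_le_iff_ne_zero.2 hj0), pow_succ', mul_assoc, mul_comm, pow_mul,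
          mul_comm, pow_mul, hexp _ (pow_mem hx _)]
      have hpre : Nat.card {x : H // π x ^ n' = 1} = p ^ i * numRoots n' (1 : H ⧸ M) := by
        rw [← hi, numRoots, ← Nat.card_prod]
        exact Nat.card_congr (QuotientGroup.preimageMkEquivSubgroupProdSet M {X | X ^ n' = 1})
      obtain ⟨r, hr⟩ : n' ∣ numRoots n' (1 : H ⧸ M) := by
        have h := dvd_numRoots_central n' (1 : H ⧸ M) (fun g => Commute.one_left g)
        rwa [Nat.gcd_eq_left hn'q] at h
      have hn'0 : n' ≠ 0 := fun h => hn0 (by rw [hn', h, mul_zero])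
      have hr0 : r ≠ 0 := fun h => by
        haveI : Nonempty {X : H ⧸ M // X ^ n' = 1} := ⟨⟨1, one_pow _⟩⟩
        have := (Nat.card_pos (α := {X : H ⧸ M // X ^ n' = 1}))
        rw [show Nat.card {X : H ⧸ M // X ^ n' = 1} = n' * r from hr, h, mul_zero] at this
        exact lt_irrefl _ this
      have hle : Nat.card {x : H // π x ^ n' = 1} ≤ n := by
        conv_rhs => rw [← hcount]
        exact Nat.card_le_card_of_injective (fun x => ⟨x.1, hsol x.1 x.2⟩) fun x y h =>
          Subtype.ext (congrArg (fun w : {x : H // x ^ n = 1} => w.1) h)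
      rw [hpre, hr, hn'] at hle
      have hpj : p ^ j ≤ p ^ i := Nat.pow_le_pow_right hp.pos hji
      have hij : p ^ i * r ≤ p ^ j := by
        refine Nat.le_of_mul_le_mul_right ?_ (Nat.pos_of_ne_zero hn'0)
        calc p ^ i * r * n' = p ^ i * (n' * r) := by ring
          _ ≤ p ^ j * n' := hle
      have hr1 : r = 1 := by
        by_contra h
        have : 2 * p ^ i ≤ p ^ i * r := by rw [mul_comm]; exact Nat.mul_le_mul_left _ (by omega)
        have := pow_pos hp.pos i
        omega
      have hpij : p ^ i = p ^ j := by rw [hr1, mul_one] at hij; omega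
      obtain ⟨S, hS⟩ := ih _ hlt (H ⧸ M) rfl n' hn'q (by rw [hr, hr1, mul_one])
      refine ⟨S.comap π, ?_⟩
      have hsub : ((S.comap π : Subgroup H) : Set H) ⊆ {x | x ^ n = 1} := fun x hx => hsol x (by
        have : π x ∈ (S : Set (H ⧸ M)) := hx
        rwa [hS] at this)
      refine Set.eq_of_subset_of_ncard_le hsub ?_ (Set.toFinite _)
      rw [← Nat.card_coe_set_eq, ← Nat.card_coe_set_eq]
      have e1 : Nat.card ((S.comap π : Subgroup H) : Set H) = n := by
        refine (Nat.card_congr (Equiv.subtypeEquivRight fun x : H => show x ∈ (S.comap π : Subgroup H) ↔ π x ^ n' = 1 by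
          rw [Subgroup.mem_comap, ← SetLike.mem_coe, hS]; rfl)).trans ?_
        rw [hpre, hr, hr1, mul_one, hn', hpij]
      rw [e1]
      exact hcount.le
    · have hcop : Nat.Coprime n (p ^ i) := ((hp.coprime_iff_not_dvd.2 hpn).pow_left i).symm
      have hnq : n ∣ Nat.card (H ⧸ M) := hcop.dvd_of_dvd_mul_right (hmul ▸ hn)
      have hlift : ∀ X : H ⧸ M, X ^ n = 1 → ∃ x : H, x ^ n = 1 ∧ π x = X := by
        intro X hX
        obtain ⟨y, rfl⟩ := QuotientGroup.mk'_surjective M X
        rw [← map_pow, QuotientGroup.mk'_apply, QuotientGroup.eq_one_iff] at hX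
        obtain ⟨u, v, huv⟩ := Nat.Coprime.isCoprime ((hp.coprime_iff_not_dvd.2 hpn).symm : Nat.Coprime n p)
        refine ⟨y * (y ^ n) ^ (-u), ?_, ?_⟩
        · have hm := hexp _ hX
          have hc : Commute y ((y ^ n) ^ (-u)) := ((Commute.refl y).pow_right n).zpow_right _
          rw [hc.mul_pow, ← zpow_natCast ((y ^ n) ^ (-u)), ← zpow_mul]
          conv_lhs => rw [← zpow_one (y ^ n), ← zpow_mul, ← zpow_add]
          rw [show (1 : ℤ) + 1 * (-u * n) = (p : ℤ) * v by linarith, zpow_mul, zpow_natCast, hm, one_zpow]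
        · rw [map_mul, mul_eq_left, map_zpow, hπ, QuotientGroup.mk'_apply,
            (QuotientGroup.eq_one_iff _).2 hX, one_zpow]
      let f : {X : H ⧸ M // X ^ n = 1} → {x : H // x ^ n = 1} := fun X =>
        ⟨(hlift X.1 X.2).choose, (hlift X.1 X.2).choose_spec.1⟩
      have hf : Function.Injective f := fun X Y h => Subtype.ext (by
        rw [← (hlift X.1 X.2).choose_spec.2, ← (hlift Y.1 Y.2).choose_spec.2]
        exact congrArg (fun z => π z.1) h)
      obtain ⟨r, hr⟩ : n ∣ numRoots n (1 : H ⧸ M) := by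
        have h := dvd_numRoots_central n (1 : H ⧸ M) (fun g => Commute.one_left g)
        rwa [Nat.gcd_eq_left hnq] at h
      have hle : numRoots n (1 : H ⧸ M) ≤ n := (Nat.card_le_card_of_injective f hf).trans hcount.le
      have hr1 : numRoots n (1 : H ⧸ M) = n := by
        haveI : Nonempty {X : H ⧸ M // X ^ n = 1} := ⟨⟨1, one_pow _⟩⟩
        have hpos : 0 < numRoots n (1 : H ⧸ M) := Nat.card_pos
        exact le_antisymm hle (Nat.le_of_dvd hpos ⟨r, hr⟩)
      obtain ⟨S, hS⟩ := ih _ hlt (H ⧸ M) rfl n hnq hr1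
      have hScard : Nat.card S = n := by
        conv_rhs => rw [← hr1]
        exact Nat.card_congr (Equiv.subtypeEquivRight fun x : H ⧸ M => by rw [← SetLike.mem_coe, hS]; rfl)
      set T := S.comap π
      have hMT : M ≤ T := fun x hx => by
        change π x ∈ S
        rw [hπ, QuotientGroup.mk'_apply, (QuotientGroup.eq_one_iff x).2 hx]
        exact one_mem S
      have hTM : Nat.card (M.subgroupOf T) = p ^ i := by
        rw [Nat.card_congr (Subgroup.subgroupOfEquivOfLe hMT).toEquiv, hi]
      have hTidx : (M.subgroupOf T).index = n := by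
        have h1 := (M.subgroupOf T).index_mul_card
        have h2 : Nat.card T = p ^ i * Nat.card S := by
          rw [← hi, ← Nat.card_prod]
          exact Nat.card_congr (QuotientGroup.preimageMkEquivSubgroupProdSet M (S : Set (H ⧸ M)))
        rw [hTM, h2, hScard, mul_comm] at h1
        exact Nat.eq_of_mul_eq_mul_left (pow_pos hp.pos i) h1
      obtain ⟨L, hL⟩ := Subgroup.exists_right_complement'_of_coprime (N := M.subgroupOf T)
        (by rw [hTM, hTidx]; exact hcop.symm)
      refine ⟨L.map T.subtype, ?_⟩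
      have hLc : Nat.card (L.map T.subtype) = n := by
        rw [← Nat.card_congr (Subgroup.equivMapOfInjective L T.subtype T.subtype_injective).toEquiv,
          ← hTidx, ← hL.symm.index_eq_card]
      have hsub : ((L.map T.subtype : Subgroup H) : Set H) ⊆ {x | x ^ n = 1} := fun x hx => by
        rw [Set.mem_ofPred_eq, ← hLc]
        exact congrArg Subtype.val (pow_card_eq_one' (x := (⟨x, hx⟩ : L.map T.subtype)))
      refine Set.eq_of_subset_of_ncard_le hsub ?_ (Set.toFinite _)
      rw [← Nat.card_coe_set_eq, ← Nat.card_coe_set_eq]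
      exact (hcount.le).trans (le_of_eq hLc.symm)

end CfsgLib.ClassSizes
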