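import Cfsg.Agent.Lib.Transfer.Tate
import Cfsg.Prelude.Def_BaumannBlocks
import Cfsg.Agent.Lib.PGroups.Basic
import Mathlib

/-!
# The Hall–Wielandt theorem

If `Q` is weakly closed in a Sylow `p`-subgroup `P` and `[u, z, …, z] = 1` (`p - 1` copies of `z`)
for `u ∈ P`, `z ∈ Q`, then `N(Q)` controls transfer.
-/

set_option autoImplicit false
set_option linter.all false

namespace CfsgLib.ClassSizes.HallWielandt

open Subgroup MulAction
open scoped fwdDiff commutatorElement

universe u

theorem choose_pred_prime {p : ℕ} [Fact p.Prime] {i : ℕ} (hi : i < p) :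
    ((p - 1).choose i : ZMod p) = (-1) ^ i := by
  induction i with
  | zero => simp
  | succ i ih =>
    have h := ih (Nat.lt_of_succ_lt hi)
    have hp : p - 1 + 1 = p := Nat.sub_add_cancel (Fact.out : p.Prime).one_le
    have h1 : ((p.choose (i + 1) : ℕ) : ZMod p) = 0 :=
      (CharP.cast_eq_zero_iff (ZMod p) p _).2 ((Fact.out : p.Prime).dvd_choose_self (Nat.succ_ne_zero i) hi)
    have h2 := Nat.choose_succ_succ (p - 1) i
    rw [Nat.succ_eq_add_one, Nat.succ_eq_add_one, hp] at h2
    rw [h2] at h1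
    push_cast at h1
    rw [h] at h1
    rw [pow_succ]
    linear_combination h1

/-- In characteristic `p` the `(p-1)`-st difference is the sum of `p` consecutive values. -/
theorem iter_fwdDiff_eq_sum {p : ℕ} [Fact p.Prime] (f : ℕ → ZMod p) :
    ∑ i ∈ Finset.range p, f i = ((fwdDiff (1 : ℕ))^[p - 1]) f 0 := by
  have hp : p - 1 + 1 = p := Nat.sub_add_cancel (Fact.out : p.Prime).one_le
  rw [fwdDiff_iter_eq_sum_shift, hp]
  refine Finset.sum_congr rfl fun k hk => ?_
  rw [Finset.mem_range] at hk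
  have h1 : (((-1 : ℤ) ^ (p - 1 - k) * ((p - 1).choose k : ℤ) : ℤ) : ZMod p) = 1 := by
    push_cast
    rw [choose_pred_prime hk, ← pow_add, Nat.sub_add_cancel (by omega : k ≤ p - 1)]
    exact ZMod.pow_card_sub_one_eq_one (neg_ne_zero.2 one_ne_zero)
  rw [zsmul_eq_mul, h1, one_mul, zero_add, smul_eq_mul, mul_one]

variable {G : Type u} [Group G] [Finite G] {p : ℕ} [Fact p.Prime]

/-- Iterated commutator with a fixed entry, in the convention `x⁻¹z⁻¹xz`. -/
def iterComm (z : G) (n : ℕ) (u : G) : G := (fun y : G => y⁻¹ * z⁻¹ * y * z)^[n] u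

/-- Sum over a conjugation cycle of a character of `T`. -/
theorem prod_conj_eq_one {T : Subgroup G} (χ : T →* Multiplicative (ZMod p)) {z u : G}
    (hz : z ∈ Subgroup.normalizer (T : Set G)) (hu : u ∈ T) (h : iterComm z (p - 1) u = 1) :
    ∏ i ∈ Finset.range p, χ ⟨(z ^ i)⁻¹ * u * z ^ i, (mem_normalizer_iff''.1 (pow_mem hz i) u).1 hu⟩ = 1 := by
  have hw : ∀ j, iterComm z j u ∈ T := by
    intro j
    induction j with
    | zero => exact hu
    | succ j ih =>
      rw [iterComm, Function.iterate_succ_apply']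
      have h1 := (mem_normalizer_iff''.1 hz _).1 ih
      have h2 := mul_mem (inv_mem ih) h1
      convert h2 using 1
      simp only [iterComm]
      group
  have hc : ∀ j i, (z ^ i)⁻¹ * iterComm z j u * z ^ i ∈ T := fun j i =>
    (mem_normalizer_iff''.1 (pow_mem hz i) _).1 (hw j)
  let d : ℕ → ℕ → ZMod p := fun j i => Multiplicative.toAdd (χ ⟨(z ^ i)⁻¹ * iterComm z j u * z ^ i, hc j i⟩)
  have hd : ∀ j, ((fwdDiff (1 : ℕ))^[j]) (d 0) = d j := by
    intro j
    induction j with
    | zero => rfl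
    | succ j ih =>
      rw [Function.iterate_succ_apply', ih]
      funext i
      show d j (i + 1) - d j i = d (j + 1) i
      have e : (⟨(z ^ i)⁻¹ * iterComm z (j + 1) u * z ^ i, hc (j + 1) i⟩ : T) =
          ⟨(z ^ i)⁻¹ * iterComm z j u * z ^ i, hc j i⟩⁻¹ *
            ⟨(z ^ (i + 1))⁻¹ * iterComm z j u * z ^ (i + 1), hc j (i + 1)⟩ := by
        refine Subtype.ext ?_
        show (z ^ i)⁻¹ * iterComm z (j + 1) u * z ^ i = ((z ^ i)⁻¹ * iterComm z j u * z ^ i)⁻¹ *
          ((z ^ (i + 1))⁻¹ * iterComm z j u * z ^ (i + 1))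
        rw [iterComm, Function.iterate_succ_apply', pow_succ']
        simp only [iterComm]
        group
      simp only [d, e, map_mul, map_inv, toAdd_mul, toAdd_inv]
      abel
  have h1 : ∑ i ∈ Finset.range p, d 0 i = 0 := by
    rw [iter_fwdDiff_eq_sum, hd]
    have e : (⟨(z ^ 0)⁻¹ * iterComm z (p - 1) u * z ^ 0, hc (p - 1) 0⟩ : T) = 1 :=
      Subtype.ext (by simp [h])
    simp only [d, e, map_one, toAdd_one]
  apply Multiplicative.toAdd.injective
  rw [toAdd_prod, toAdd_one, ← h1]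
  rfl

variable (P : Sylow p G) (Q : Subgroup G)

theorem le_normalizer_of_weaklyClosed (hQ : Cfsg.IsWeaklyClosed Q (P : Subgroup G)) :
    (P : Subgroup G) ≤ Subgroup.normalizer (Q : Set G) := by
  intro x hx
  rw [← CfsgLib.Transfer.map_conj_eq_self_iff]
  refine hQ.2 x ?_
  rintro _ ⟨q, hq, rfl⟩
  exact mul_mem (mul_mem hx (hQ.1 hq)) (inv_mem hx)

theorem not_dvd_relIndex {H : Subgroup G} (hPH : (P : Subgroup G) ≤ H) :
    ¬ p ∣ (P : Subgroup G).relIndex H := fun h => P.not_dvd_index (h.trans (relIndex_dvd_index_of_le hPH))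

open Classical in
/-- The transfer of a character of order `p` of `N(Q)` is nontrivial on `P`. -/
theorem transfer_ne_one (hQ : Cfsg.IsWeaklyClosed Q (P : Subgroup G))
    (h : ∀ u ∈ (P : Subgroup G), ∀ z ∈ Q, iterComm z (p - 1) u = 1)
    {H : Subgroup G} (hH : H = Subgroup.normalizer (Q : Set G))
    (ψ : H →* Multiplicative (ZMod p))
    (hψ : ∃ u : H, (u : G) ∈ (P : Subgroup G) ∧ ψ u ≠ 1) :
    ∃ u ∈ (P : Subgroup G), MonoidHom.transfer ψ u ≠ 1 := by
  have hp : p.Prime := Fact.out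
  have hPH : (P : Subgroup G) ≤ H := hH ▸ le_normalizer_of_weaklyClosed P Q hQ
  set f : G → Multiplicative (ZMod p) := fun g => if hg : g ∈ H then ψ ⟨g, hg⟩ else 1 with hf
  have hfH : ∀ x (hx : x ∈ H), f x = ψ ⟨x, hx⟩ := fun x hx => dif_pos hx
  have hfconj : ∀ x ∈ H, ∀ k ∈ H, f (k⁻¹ * x * k) = f x := by
    intro x hx k hk
    rw [hfH x hx, hfH _ (mul_mem (mul_mem (inv_mem hk) hx) hk)]
    rw [show (⟨k⁻¹ * x * k, mul_mem (mul_mem (inv_mem hk) hx) hk⟩ : H) = ⟨k, hk⟩⁻¹ * ⟨x, hx⟩ * ⟨k, hk⟩ from rfl,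
      map_mul, map_mul, map_inv, mul_comm _ (ψ ⟨x, hx⟩), inv_mul_cancel_right]
  -- an element of least order outside the kernel
  obtain ⟨u, ⟨hu, huψ⟩, humin⟩ : ∃ u, (u ∈ (P : Subgroup G) ∧ f u ≠ 1) ∧
      ∀ v, v ∈ (P : Subgroup G) → f v ≠ 1 → orderOf u ≤ orderOf v := by
    obtain ⟨⟨u, hu⟩, huP, hu1⟩ := hψ
    have hne : {v : G | v ∈ (P : Subgroup G) ∧ f v ≠ 1}.Nonempty := ⟨u, huP, by rwa [hfH u hu]⟩
    obtain ⟨v, hv, hmin⟩ := Set.exists_min_image _ orderOf (Set.toFinite _) hne
    exact ⟨v, hv, fun w hw hw1 => hmin w ⟨hw, hw1⟩⟩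
  have hsmall : ∀ x ∈ H, (∃ k, orderOf x = p ^ k) → orderOf x < orderOf u → f x = 1 := by
    rintro x hx ⟨k, hk⟩ hlt
    have hS : IsPGroup p (zpowers x) := IsPGroup.of_card (n := k) (by rw [Nat.card_zpowers, hk])
    obtain ⟨n, hn, hnP⟩ := CfsgLib.Transfer.exists_conj_le P.2 (not_dvd_relIndex P hPH) (zpowers_le.2 hx) hS
    rw [← hfconj x hx n hn]
    by_contra hne
    have h1 := humin _ (hnP x (mem_zpowers x)) hne
    rw [show orderOf (n⁻¹ * x * n) = orderOf x by
      have := (MulAut.conj n⁻¹).orderOf_eq x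
      simpa using this] at h1
    omega
  refine ⟨u, hu, ?_⟩
  letI := Fintype.ofFinite (G ⧸ H)
  letI := Fintype.ofFinite (Quotient (orbitRel (zpowers u) (G ⧸ H)))
  -- the transfer only sees fixed cosets
  set F : G ⧸ H → Multiplicative (ZMod p) := fun y => f (y.out⁻¹ * u * y.out) with hF
  set s : Finset (G ⧸ H) := Finset.univ.filter (fun y => u • y = y) with hs
  have htr : MonoidHom.transfer ψ u = ∏ y ∈ s, F y := by
    rw [MonoidHom.transfer_eq_prod_quotient_orbitRel_zpowers_quot]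
    symm
    have hmk : ∀ y : G ⧸ H, u • y = y →
        (Quotient.mk'' y : Quotient (orbitRel (zpowers u) (G ⧸ H))).out = y := by
      intro y hy
      have h1 : (Quotient.mk'' y : Quotient (orbitRel (zpowers u) (G ⧸ H))).out ∈ orbit (zpowers u) y :=
        orbitRel_apply.1 (Quotient.mk_out (s := orbitRel (zpowers u) (G ⧸ H)) y)
      obtain ⟨⟨w, hw⟩, hwy⟩ := h1
      have hst : w ∈ stabilizer G y := zpowers_le.2 (show u ∈ stabilizer G y from hy) hw
      rw [← hwy]
      exact hst
    refine Finset.prod_bij_ne_one (fun y _ _ => (Quotient.mk'' y : Quotient (orbitRel (zpowers u) (G ⧸ H))))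
      (fun _ _ _ => Finset.mem_univ _) (fun y hy _ y' hy' _ he => ?_) (fun q _ hq => ?_) (fun y hy _ => ?_)
    · rw [Finset.mem_filter] at hy hy'
      rw [← hmk y hy.2, he, hmk y' hy'.2]
    · have hfix : u • q.out = q.out := by
        by_contra hne
        set m := Function.minimalPeriod (u • ·) q.out
        have hm1 : 1 < m := by
          have h1 : 0 < m := by
            rw [show m = _ from minimalPeriod_eq_card u q.out]
            exact Fintype.card_pos_iff.2 ⟨⟨q.out, mem_orbit_self _⟩⟩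
          rcases Nat.lt_or_ge 1 m with h | h
          · exact h
          · exact absurd (Function.minimalPeriod_eq_one_iff_isFixedPt.1 (by omega : m = 1)) hne
        apply hq
        have hmem := QuotientGroup.out_conj_pow_minimalPeriod_mem H u q.out
        rw [← hfH _ hmem]
        obtain ⟨k, hk⟩ := IsPGroup.iff_orderOf.1 P.2 ⟨u, hu⟩
        rw [Subgroup.orderOf_mk] at hk
        have ho : orderOf (q.out.out⁻¹ * u ^ m * q.out.out) = orderOf (u ^ m) := by
          have := (MulAut.conj q.out.out⁻¹).orderOf_eq (u ^ m)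
          simpa using this
        obtain ⟨l, -, hl⟩ := (Nat.dvd_prime_pow hp).1 (hk ▸ orderOf_pow_dvd m : orderOf (u ^ m) ∣ p ^ k)
        refine hsmall _ hmem ⟨l, ho.trans hl⟩ ?_
        have hm0 : 1 < orderOf u := by
          by_contra hle
          have : orderOf u = 1 := by have := orderOf_pos u; omega
          rw [orderOf_eq_one_iff] at this
          exact huψ (by rw [this, hfH 1 (one_mem H)]; exact map_one ψ)
        have hdvd : m ∣ orderOf u := Function.IsPeriodicPt.minimalPeriod_dvd (by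
          show (u • ·)^[orderOf u] q.out = q.out
          rw [smul_iterate, pow_orderOf_eq_one]
          exact one_smul _ _)
        rw [ho, orderOf_pow, Nat.gcd_eq_right hdvd]
        exact Nat.div_lt_self (by omega) hm1
      refine ⟨q.out, Finset.mem_filter.2 ⟨Finset.mem_univ _, hfix⟩, ?_, Quotient.out_eq' q⟩
      intro h1
      apply hq
      have hper : Function.minimalPeriod (u • ·) q.out = 1 :=
        Function.minimalPeriod_eq_one_iff_isFixedPt.2 hfix
      simp only [hF] at h1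
      rw [← hfH]
      rw [hper, pow_one]
      exact h1
    · rw [Finset.mem_filter] at hy
      have hper : Function.minimalPeriod (u • ·) y = 1 := Function.minimalPeriod_eq_one_iff_isFixedPt.2 hy.2
      rw [← hfH]
      simp only [hmk y hy.2, hper, pow_one]
      rfl
  have hy1 : ((1 : G) : G ⧸ H) ∈ s := by
    rw [hs, Finset.mem_filter]
    refine ⟨Finset.mem_univ _, QuotientGroup.eq.2 ?_⟩
    simpa using hPH hu
  have hF1 : F ((1 : G) : G ⧸ H) = f u := by
    obtain ⟨k, hk⟩ := QuotientGroup.mk_out_eq_mul H (1 : G)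
    simp only [hF, hk, one_mul]
    exact hfconj u (hPH hu) k k.2
  rw [htr, ← Finset.prod_erase_mul s F hy1, hF1]
  suffices hrest : ∏ y ∈ s.erase ((1 : G) : G ⧸ H), F y = 1 by rw [hrest, one_mul]; exact huψ
  rw [← Finset.prod_fiberwise_of_maps_to (g := fun y => (P : Subgroup G) ⊓ stabilizer G y)
    (t := (s.erase ((1 : G) : G ⧸ H)).image fun y => (P : Subgroup G) ⊓ stabilizer G y)
    (fun y hy => Finset.mem_image_of_mem _ hy)]
  refine Finset.prod_eq_one fun T hT => ?_
  obtain ⟨y₀, hy₀, hTy₀⟩ := Finset.mem_image.1 hT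
  rw [Finset.mem_erase, hs, Finset.mem_filter] at hy₀
  have huT : u ∈ T := hTy₀ ▸ ⟨hu, hy₀.2.2⟩
  have hTP : T ≤ (P : Subgroup G) := hTy₀ ▸ inf_le_left
  -- an element of `Q` normalizing `T`
  obtain ⟨z, hzQ, hzN, hzT, hzpT⟩ : ∃ z ∈ Q, z ∈ Subgroup.normalizer (T : Set G) ∧ z ∉ T ∧ z ^ p ∈ T := by
    have hQT : ¬ Q ≤ T := by
      intro hle
      obtain ⟨g, rfl⟩ := QuotientGroup.mk_surjective y₀
      apply hy₀.1
      have hS : ∀ a ∈ Q.map (MulAut.conj g⁻¹).toMonoidHom, a ∈ H := by
        rintro _ ⟨q, hq, rfl⟩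
        have h1 : q • (g : G ⧸ H) = (g : G ⧸ H) := by
          have := hle hq
          rw [← hTy₀] at this
          exact this.2
        have h2 := QuotientGroup.eq.1 (show ((q * g : G) : G ⧸ H) = (g : G ⧸ H) from h1)
        have h3 := inv_mem h2
        simpa [mul_assoc] using h3
      obtain ⟨k, hk, hkP⟩ := CfsgLib.Transfer.exists_conj_le P.2 (not_dvd_relIndex P hPH) hS
        ((P.2.to_le hQ.1).map _)
      have hfix : Q.map (MulAut.conj (g * k)⁻¹).toMonoidHom ≤ (P : Subgroup G) := by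
        rintro _ ⟨q, hq, rfl⟩
        have h4 := hkP _ (mem_map_of_mem _ hq)
        simpa [mul_assoc] using h4
      have h5 : (g * k)⁻¹ ∈ H := hH ▸ CfsgLib.Transfer.map_conj_eq_self_iff.1 (hQ.2 _ hfix)
      have h6 : g ∈ H := by
        have h7 := mul_mem (inv_mem h5) (inv_mem hk)
        simpa using h7
      exact QuotientGroup.eq.2 (by simpa using inv_mem h6)
    have hTQ : T < T ⊔ Q := lt_of_le_of_ne le_sup_left fun he => hQT (he ▸ le_sup_right)
    have hTQp : IsPGroup p (T ⊔ Q : Subgroup G) := P.2.to_le (sup_le hTP hQ.1)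
    obtain ⟨w, hw, hwT⟩ := SetLike.exists_of_lt (CfsgLib.Transfer.lt_inf_normalizer hTQp hTQ)
    have hTN : T ≤ Subgroup.normalizer (Q : Set G) := hTP.trans (le_normalizer_of_weaklyClosed P Q hQ)
    obtain ⟨hwsup, hwN⟩ := mem_inf.1 hw
    rw [← SetLike.mem_coe, coe_mul_of_left_le_normalizer_right T Q hTN, Set.mem_mul] at hwsup
    obtain ⟨t, ht, q, hq, rfl⟩ := hwsup
    have hqN : q ∈ Subgroup.normalizer (T : Set G) := by
      have := mul_mem (inv_mem (le_normalizer ht)) hwN
      rwa [inv_mul_cancel_left] at this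
    have hqT : q ∉ T := fun h => hwT (mul_mem ht h)
    obtain ⟨k, hk⟩ := IsPGroup.iff_orderOf.1 P.2 ⟨q, hQ.1 hq⟩
    rw [Subgroup.orderOf_mk] at hk
    have hex : ∃ j, q ^ p ^ j ∈ T := ⟨k, by rw [← hk, pow_orderOf_eq_one]; exact one_mem T⟩
    obtain ⟨j, hj⟩ : ∃ j, Nat.find hex = j + 1 := by
      refine ⟨Nat.find hex - 1, ?_⟩
      have : Nat.find hex ≠ 0 := fun h0 => hqT (by
        have := Nat.find_spec hex
        rwa [h0, pow_zero, pow_one] at this)
      omega
    refine ⟨q ^ p ^ j, pow_mem hq _, pow_mem hqN _, Nat.find_min hex (by omega), ?_⟩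
    rw [← pow_mul, ← pow_succ, ← hj]
    exact Nat.find_spec hex
  have hzP : z ∈ (P : Subgroup G) := hQ.1 hzQ
  -- cancellation along the cycles of `z`
  refine Finset.prod_cancels_of_partition_cancels (MulAction.orbitRel (zpowers z) (G ⧸ H)) fun y hy => ?_
  rw [Finset.mem_filter] at hy
  obtain ⟨hy, hyT⟩ := hy
  rw [Finset.mem_erase, hs, Finset.mem_filter] at hy
  have hTfix : ∀ t ∈ T, t • y = y := fun t ht => by rw [← hyT] at ht; exact ht.2
  have hzy : ∀ i : ℕ, z ^ i ∈ Subgroup.normalizer (T : Set G) := fun i => pow_mem hzN i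
  have hstab : ∀ i : ℕ, (P : Subgroup G) ⊓ stabilizer G (z ^ i • y) = T := by
    intro i
    ext t
    rw [mem_inf, mem_stabilizer_iff, mem_normalizer_iff''.1 (hzy i) t, ← hyT, mem_inf, mem_stabilizer_iff,
      show ((z ^ i)⁻¹ * t * z ^ i) • y = (z ^ i)⁻¹ • t • z ^ i • y by rw [mul_smul, mul_smul],
      inv_smul_eq_iff]
    refine and_congr ⟨fun ht => mul_mem (mul_mem (inv_mem (pow_mem hzP i)) ht) (pow_mem hzP i), fun ht => ?_⟩ Iff.rfl
    have := mul_mem (mul_mem (pow_mem hzP i) ht) (inv_mem (pow_mem hzP i))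
    simpa [mul_assoc] using this
  have hfilter : ((s.erase ((1 : G) : G ⧸ H)).filter fun a => (P : Subgroup G) ⊓ stabilizer G a = T).filter
      (fun a => MulAction.orbitRel (zpowers z) (G ⧸ H) a y) = (Finset.range p).image fun i : ℕ => z ^ i • y := by
    ext a
    simp only [Finset.mem_filter, Finset.mem_image, Finset.mem_range, Finset.mem_erase, hs]
    constructor
    · rintro ⟨-, ⟨⟨w, hw⟩, hwy⟩⟩
      obtain ⟨i, rfl⟩ := (IsOfFinOrder.mem_powers_iff_mem_zpowers (isOfFinOrder_of_finite z)).2 hw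
      refine ⟨i % p, Nat.mod_lt _ hp.pos, ?_⟩
      rw [← hwy]
      show z ^ (i % p) • y = z ^ i • y
      conv_rhs => rw [← Nat.mod_add_div i p, pow_add, mul_smul, hTfix _ (pow_mul z p _ ▸ pow_mem hzpT _)]
    · rintro ⟨i, hi, rfl⟩
      refine ⟨⟨⟨?_, Finset.mem_univ _, ?_⟩, hstab i⟩, ⟨⟨z ^ i, pow_mem (mem_zpowers z) i⟩, rfl⟩⟩
      · intro he
        apply hy.1
        have hz1 : (z ^ i)⁻¹ • ((1 : G) : G ⧸ H) = ((1 : G) : G ⧸ H) := QuotientGroup.eq.2 (by
          simpa using pow_mem (hPH hzP) i)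
        rw [← hz1, ← he, inv_smul_smul]
      · exact (mem_stabilizer_iff.1 (show u ∈ stabilizer G (z ^ i • y) from by
          have := huT; rw [← hstab i] at this; exact this.2))
  rw [hfilter, Finset.prod_image]
  · obtain ⟨g, rfl⟩ := QuotientGroup.mk_surjective y
    have hgT : ∀ t : T, g⁻¹ * (t : G) * g ∈ H := fun t => by
      have h2 := QuotientGroup.eq.1 (show (((t : G) * g : G) : G ⧸ H) = (g : G ⧸ H) from hTfix t t.2)
      have h3 := inv_mem h2
      simpa [mul_assoc] using h3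
    let χ : T →* Multiplicative (ZMod p) :=
      { toFun := fun t => ψ ⟨g⁻¹ * (t : G) * g, hgT t⟩
        map_one' := by
          rw [← map_one ψ]; congr 1; exact Subtype.ext (by simp)
        map_mul' := fun a b => by
          rw [← map_mul ψ]; congr 1; exact Subtype.ext (by simp [mul_assoc]) }
    refine Eq.trans (Finset.prod_congr rfl fun i _ => ?_) (prod_conj_eq_one χ hzN huT (h u hu z hzQ))
    obtain ⟨k, hk⟩ := QuotientGroup.mk_out_eq_mul H (z ^ i * g)
    have e : ((z ^ i) • (g : G ⧸ H)).out = z ^ i * g * k := hk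
    simp only [hF, e]
    show _ = ψ ⟨g⁻¹ * ((z ^ i)⁻¹ * u * z ^ i) * g, _⟩
    rw [← hfH, ← hfconj (g⁻¹ * ((z ^ i)⁻¹ * u * z ^ i) * g)
      (hgT ⟨_, (mem_normalizer_iff''.1 (hzy i) u).1 huT⟩) k k.2]
    congr 1
    group
  · intro i hi j hj hij
    rw [Finset.mem_coe, Finset.mem_range] at hi hj
    simp only at hij
    by_contra hne
    have key : ∀ a b : ℕ, a < b → b < p → z ^ a • y = z ^ b • y → False := by
      intro a b hab hb he
      obtain ⟨d, rfl⟩ : ∃ d, b = a + d := ⟨b - a, by omega⟩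
      rw [pow_add, mul_smul] at he
      have hd : z ^ d ∈ T := by
        rw [← hyT]
        exact ⟨pow_mem hzP d, (MulAction.injective (z ^ a) he).symm⟩
      have hcop : Nat.Coprime d p := ((hp.coprime_iff_not_dvd).2 fun hd' => by
        have := Nat.le_of_dvd (by omega) hd'; omega).symm
      apply hzT
      obtain ⟨r, t, hrt⟩ : IsCoprime (d : ℤ) (p : ℤ) := (Int.isCoprime_iff_nat_coprime.2 (by simpa using hcop))
      rw [← zpow_one z, ← hrt, zpow_add, mul_comm r, mul_comm t, zpow_mul, zpow_mul, zpow_natCast, zpow_natCast]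
      exact mul_mem (zpow_mem hd r) (zpow_mem hzpT t)
    rcases lt_or_gt_of_ne hne with hlt | hlt
    · exact key i j hlt hj hij
    · exact key j i hlt hi hij.symm

/-- **Hall–Wielandt**, focal form. -/
theorem commutator_inf_le (hQ : Cfsg.IsWeaklyClosed Q (P : Subgroup G))
    (h : ∀ u ∈ (P : Subgroup G), ∀ z ∈ Q, iterComm z (p - 1) u = 1) :
    _root_.commutator G ⊓ (P : Subgroup G) ≤
      ⁅Subgroup.normalizer (Q : Set G), Subgroup.normalizer (Q : Set G)⁆ := by
  classical
  have hp : p.Prime := Fact.out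
  set H := Subgroup.normalizer (Q : Set G) with hH
  have hPH : (P : Subgroup G) ≤ H := le_normalizer_of_weaklyClosed P Q hQ
  set A := Abelianization H
  set m := Nat.card A / p ^ (Nat.card A).factorization p with hm
  set φ : H →* A := (powMonoidHom m).comp Abelianization.of with hφ
  set PH := (P : Subgroup G).subgroupOf H
  set C : Subgroup A := PH.map φ with hC
  have hCp : IsPGroup p C := P.2.comap_subtype.map φ
  have hm0 : m.Coprime p := (Nat.coprime_ordCompl hp Nat.card_pos.ne').symm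
  have hφp : ∀ x : H, (x : G) ∈ (P : Subgroup G) → φ x = 1 → x ∈ _root_.commutator H := by
    intro x hx hx1
    rw [← Abelianization.ker_of, MonoidHom.mem_ker, ← orderOf_eq_one_iff]
    obtain ⟨k, hk⟩ := IsPGroup.iff_orderOf.1 P.2 ⟨(x : G), hx⟩
    have h1 : orderOf (Abelianization.of x) ∣ p ^ k := (orderOf_map_dvd _ x).trans (by
      rw [← Subgroup.orderOf_coe x, ← Subgroup.orderOf_mk (H := (P : Subgroup G)) (x : G) hx, hk])
    exact Nat.eq_one_of_dvd_coprimes (hm0.pow_right k) (orderOf_dvd_of_pow_eq_one hx1) h1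
  have hrange : ∀ x : H, φ x ∈ C := by
    intro x
    have h1 : ¬ p ∣ PH.index := not_dvd_relIndex P hPH
    have h2 : C.relIndex φ.range ∣ PH.index := by
      rw [hC, MonoidHom.range_eq_map, relIndex_map_map, top_sup_eq, relIndex_top_right]
      exact index_dvd_of_le le_sup_left
    obtain ⟨k, hk⟩ : ∃ k, C.relIndex φ.range = p ^ k := by
      have hr : IsPGroup p φ.range := by
        rintro ⟨_, y, rfl⟩
        refine ⟨(Nat.card A).factorization p, Subtype.ext ?_⟩
        show (Abelianization.of y ^ m) ^ p ^ (Nat.card A).factorization p = 1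
        rw [← pow_mul, mul_comm, hm, Nat.ordProj_mul_ordCompl_eq_self]
        exact pow_card_eq_one'
      obtain ⟨l, hl⟩ := IsPGroup.iff_card.1 hr
      obtain ⟨k, -, hk⟩ := (Nat.dvd_prime_pow hp).1 (hl ▸ relIndex_dvd_card C φ.range)
      exact ⟨k, hk⟩
    have h3 : C.relIndex φ.range = 1 := by
      rcases Nat.eq_zero_or_pos k with rfl | hk0
      · rw [hk, pow_zero]
      · exact absurd ((hk ▸ dvd_pow_self p hk0.ne').trans h2) h1
    exact relIndex_eq_one.1 h3 ⟨x, rfl⟩
  set φ' : H →* C := φ.codRestrict C hrange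
  set V : G →* C := MonoidHom.transfer φ'
  have hVsurj : (P : Subgroup G).map V = ⊤ := by
    rcases eq_top_or_exists_le_coatom ((P : Subgroup G).map V) with h1 | ⟨M, hM, hle⟩
    · exact h1
    exfalso
    haveI := hCp.isNilpotent
    haveI : M.Normal := inferInstance
    have hMi : M.index = p := by
      obtain ⟨n, hn⟩ := IsPGroup.iff_card.1 hCp
      exact (CfsgLib.PGroups.index_of_isCoatom hCp hM)
    haveI : Fact (Nat.card (C ⧸ M)).Prime := ⟨by rw [← index_eq_card, hMi]; exact hp⟩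
    have hcard : Nat.card (C ⧸ M) = Nat.card (Multiplicative (ZMod p)) := by
      rw [← index_eq_card, hMi, Nat.card_congr Multiplicative.toAdd, Nat.card_zmod]
    obtain ⟨e⟩ : Nonempty ((C ⧸ M) ≃* Multiplicative (ZMod p)) :=
      ⟨mulEquivOfPrimeCardEq (p := p) (by rw [← index_eq_card, hMi]) (by rw [← hcard, ← index_eq_card, hMi])⟩
    set χ : C →* Multiplicative (ZMod p) := e.toMonoidHom.comp (QuotientGroup.mk' M)
    have hex : ∃ u : H, (u : G) ∈ (P : Subgroup G) ∧ (χ.comp φ') u ≠ 1 := by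
      obtain ⟨c, hc⟩ : ∃ c : C, c ∉ M := by
        by_contra hcon
        push Not at hcon
        exact hM.1 ((eq_top_iff' M).2 hcon)
      obtain ⟨c, hcC⟩ := c
      obtain ⟨u, hu, rfl⟩ := hcC
      refine ⟨u, hu, fun h1 => hc ((QuotientGroup.eq_one_iff _).1 (e.injective (h1.trans (map_one e).symm)))⟩
    obtain ⟨u, hu, hne⟩ := transfer_ne_one P Q hQ h hH (χ.comp φ') hex
    apply hne
    have h1 : MonoidHom.transfer (χ.comp φ') u = χ (V u) := by
      letI := H.fintypeQuotientOfFiniteIndex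
      rw [MonoidHom.transfer_def (χ.comp φ') default u, show V u = _ from MonoidHom.transfer_def φ' default u]
      simp only [Subgroup.leftTransversals.diff, map_prod]
      rfl
    rw [h1]
    show e (QuotientGroup.mk' M (V u)) = 1
    rw [show QuotientGroup.mk' M (V u) = 1 from (QuotientGroup.eq_one_iff _).2 (hle (mem_map_of_mem V hu)), map_one]
  -- compare the two quotients of `P`
  set V' : (P : Subgroup G) →* C := V.comp (P : Subgroup G).subtype
  set φP : (P : Subgroup G) →* C := φ'.comp (inclusion hPH)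
  have hker : φP.ker ≤ V'.ker := by
    intro x hx
    rw [MonoidHom.mem_ker] at hx ⊢
    have h1 := hφp (inclusion hPH x) x.2 (congrArg Subtype.val hx)
    exact Abelianization.commutator_subset_ker V (map_subtype_commutator H ▸ mem_map_of_mem H.subtype h1 |>
      (commutator_mono (le_top : H ≤ ⊤) le_top ·))
  have hVs : Function.Surjective V' := by
    intro c
    obtain ⟨x, hx, rfl⟩ := (hVsurj ▸ mem_top c : c ∈ (P : Subgroup G).map V)
    exact ⟨⟨x, hx⟩, rfl⟩
  have hindex : φP.ker.index ≤ V'.ker.index := by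
    rw [index_ker, index_ker, MonoidHom.range_eq_top.2 hVs, card_top]
    exact card_le_card_group _
  have heq : φP.ker = V'.ker := eq_of_le_of_card_ge hker (by
    have h1 := φP.ker.card_mul_index
    have h2 := V'.ker.card_mul_index
    have h3 : 0 < V'.ker.index := Nat.pos_of_ne_zero index_ne_zero_of_finite
    exact Nat.le_of_mul_le_mul_right (h2.le.trans (h1.symm.le.trans (Nat.mul_le_mul_left _ hindex))) h3)
  rintro x ⟨hxG, hxP⟩
  have h1 : (⟨x, hxP⟩ : (P : Subgroup G)) ∈ V'.ker :=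
    MonoidHom.mem_ker.2 (Abelianization.commutator_subset_ker V hxG)
  rw [← heq, MonoidHom.mem_ker] at h1
  have h2 := hφp (inclusion hPH ⟨x, hxP⟩) hxP (congrArg Subtype.val h1)
  rw [← map_subtype_commutator]
  exact ⟨_, h2, rfl⟩

/-- **Hall–Wielandt**, `p`-residual form. -/
theorem pResidualOf_eq (hQ : Cfsg.IsWeaklyClosed Q (P : Subgroup G))
    (h : ∀ u ∈ (P : Subgroup G), ∀ z ∈ Q, iterComm z (p - 1) u = 1) :
    Cfsg.pResidualOf p (Subgroup.normalizer (Q : Set G)) = Cfsg.pResidual p G ⊓ Subgroup.normalizer (Q : Set G) := by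
  set H := Subgroup.normalizer (Q : Set G) with hH
  have hPH : (P : Subgroup G) ≤ H := le_normalizer_of_weaklyClosed P Q hQ
  have hT := CfsgLib.Transfer.inf_pResidual_eq_of_commutator_le P hPH (commutator_inf_le P Q hQ h)
  refine le_antisymm (le_inf (CfsgLib.Transfer.map_subtype_pResidual_le H) (map_subtype_le _)) ?_
  rintro x ⟨hxG, hxH⟩
  obtain ⟨a, ha, k, hk, hak⟩ := CfsgLib.Transfer.exists_mul_mem_pResidual (p := p) (P.subtype hPH) (⟨x, hxH⟩ : H)
  have hk' : (k : G) ∈ Cfsg.pResidualOf p H := ⟨k, hk, rfl⟩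
  have hakG : x = (a : G) * (k : G) := congrArg Subtype.val hak
  have haG : (a : G) ∈ (P : Subgroup G) ⊓ Cfsg.pResidual p G := mem_inf.2 ⟨ha, by
    rw [show (a : G) = x * (k : G)⁻¹ by rw [hakG, mul_inv_cancel_right]]
    exact mul_mem hxG (inv_mem (CfsgLib.Transfer.map_subtype_pResidual_le H hk'))⟩
  rw [hT] at haG
  rw [hakG]
  exact mul_mem haG.2 hk'

end CfsgLib.ClassSizes.HallWielandt
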