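import Mathlib
import Cfsg.Prelude.Def_Transfer

/-!
Finite groups in which every subgroup is normal (Dedekind).
-/

set_option linter.style.haveILetI false

namespace CfsgLib.ClassSizes

open Subgroup

variable {G : Type*} [Group G]

theorem mul_pow_of_comm_central {a b c : G} (hc : a * b = c * (b * a)) (ha : Commute c a) (hb : Commute c b) :
    ∀ n : ℕ, a ^ n * b = c ^ n * (b * a ^ n) ∧ (b * a) ^ n = b ^ n * a ^ n * c ^ (n.choose 2) := by
  have h1 : ∀ n : ℕ, a ^ n * b = c ^ n * (b * a ^ n) := by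
    intro n
    induction n with
    | zero => simp
    | succ n ih =>
      calc a ^ (n + 1) * b = a * (a ^ n * b) := by rw [pow_succ', mul_assoc]
        _ = (a * c ^ n) * (b * a ^ n) := by rw [ih, mul_assoc]
        _ = c ^ n * (a * b) * a ^ n := by rw [← (ha.pow_left n).eq]; group
        _ = c ^ (n + 1) * (b * a ^ (n + 1)) := by rw [hc, pow_succ, pow_succ']; group
  intro n
  refine ⟨h1 n, ?_⟩
  induction n with
  | zero => simp
  | succ n ih =>
    have hcb : Commute (c ^ n.choose 2) (b * a) := (hb.pow_left _).mul_right (ha.pow_left _)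
    have hcn : Commute (c ^ n) (b * a ^ n) := (hb.pow_left _).mul_right (ha.pow_pow _ _)
    calc (b * a) ^ (n + 1) = b ^ n * a ^ n * (c ^ n.choose 2 * (b * a)) := by rw [pow_succ, ih]; group
      _ = b ^ n * (a ^ n * b) * a * c ^ n.choose 2 := by rw [hcb.eq]; group
      _ = b ^ n * (b * a ^ n * c ^ n) * a * c ^ n.choose 2 := by rw [h1 n, hcn.eq]
      _ = b ^ (n + 1) * a ^ n * (c ^ n * a) * c ^ n.choose 2 := by rw [pow_succ b]; group
      _ = b ^ (n + 1) * a ^ (n + 1) * (c ^ n * c ^ n.choose 2) := by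
          rw [(ha.pow_left n).eq, pow_succ a]; group
      _ = b ^ (n + 1) * a ^ (n + 1) * c ^ ((n + 1).choose 2) := by
          rw [← pow_add, Nat.choose_succ_succ', Nat.choose_one_right]

/-- A noncommuting pair in a Dedekind group gives a quaternion pair. -/
theorem exists_quaternion_pair [Finite G] (hn : ∀ a g : G, g * a * g⁻¹ ∈ Subgroup.zpowers a) (S : Subgroup G)
    {a₀ b₀ : G} (ha₀ : a₀ ∈ S) (hb₀ : b₀ ∈ S) (hab₀ : a₀ * b₀ ≠ b₀ * a₀) :
    ∃ a b : G, a ∈ S ∧ b ∈ S ∧ orderOf a = 4 ∧ orderOf b = 4 ∧ b ^ 2 = a ^ 2 ∧ b * a * b⁻¹ = a⁻¹ := by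
  classical
  have hex : ∃ k : ℕ, ∃ a b : G, a ∈ S ∧ b ∈ S ∧ a * b ≠ b * a ∧ orderOf a + orderOf b = k :=
    ⟨_, a₀, b₀, ha₀, hb₀, hab₀, rfl⟩
  have hspec := Nat.find_spec hex
  obtain ⟨a, b, haS, hbS, hab, hk⟩ := hspec
  have hmin : ∀ x y : G, x ∈ S → y ∈ S → orderOf x + orderOf y < orderOf a + orderOf b → x * y = y * x :=
    fun x y hx hy hlt => by
      by_contra h
      exact Nat.find_min hex (hk ▸ hlt) ⟨x, y, hx, hy, h, rfl⟩
  -- the order of `a` is a prime power, symmetrically for `b`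
  have hpp : ∀ x y : G, x ∈ S → y ∈ S → x * y ≠ y * x → orderOf x + orderOf y ≤ orderOf a + orderOf b →
      ∃ p m : ℕ, p.Prime ∧ orderOf x = p ^ (m + 1) := by
    intro x y hx hy hxy hle
    have hx1 : orderOf x ≠ 1 := fun h => hxy (by rw [orderOf_eq_one_iff.1 h, one_mul, mul_one])
    obtain ⟨p, hp, hpd⟩ := Nat.exists_prime_and_dvd hx1
    obtain ⟨m, v, hv, hxm⟩ := Nat.exists_eq_pow_mul_and_not_dvd (orderOf_pos x).ne' p hp.one_lt.ne'
    rcases m with _ | m
    · exact absurd (by rw [hxm, pow_zero, one_mul] at hpd; exact hpd) hv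
    refine ⟨p, m, hp, ?_⟩
    by_contra hne
    have hv1 : v ≠ 1 := fun h => hne (by rw [hxm, h, mul_one])
    have hv0 : v ≠ 0 := fun h => hv (h ▸ dvd_zero p)
    have hpm : p ^ (m + 1) ≠ 0 := pow_ne_zero _ hp.ne_zero
    have h1 : orderOf (x ^ v) < orderOf x := by
      rw [orderOf_pow_of_dvd hv0 (hxm ▸ dvd_mul_left _ _)]
      exact Nat.div_lt_self (orderOf_pos x) (by omega)
    have h2 : orderOf (x ^ p ^ (m + 1)) < orderOf x := by
      rw [orderOf_pow_of_dvd hpm (hxm ▸ dvd_mul_right _ _)]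
      exact Nat.div_lt_self (orderOf_pos x) (Nat.one_lt_pow (by omega) hp.one_lt)
    have hc1 : Commute (x ^ v) y := hmin _ y (S.pow_mem hx v) hy (by omega)
    have hc2 : Commute (x ^ p ^ (m + 1)) y := hmin _ y (S.pow_mem hx _) hy (by omega)
    obtain ⟨i, j, hij⟩ := Nat.Coprime.isCoprime ((hp.coprime_iff_not_dvd.2 hv).pow_left (m + 1))
    have he : x = (x ^ p ^ (m + 1)) ^ i * (x ^ v) ^ j := by
      rw [← zpow_natCast, ← zpow_natCast x v, ← zpow_mul, ← zpow_mul, ← zpow_add,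
        mul_comm ((p ^ (m + 1) : ℕ) : ℤ), mul_comm (v : ℤ), hij, zpow_one]
    apply hxy
    have hc := (hc2.zpow_left i).mul_left (hc1.zpow_left j)
    rw [← he] at hc
    exact hc.eq
  obtain ⟨p, m, hp, hoa⟩ := hpp a b haS hbS hab le_rfl
  obtain ⟨r, n, hr, hob⟩ := hpp b a hbS haS (Ne.symm hab) (by omega)
  set c := a * b * a⁻¹ * b⁻¹ with hcdef
  have hca : c ∈ Subgroup.zpowers a := by
    have : c = a * (b * a⁻¹ * b⁻¹) := by rw [hcdef]; group
    rw [this]
    refine mul_mem (mem_zpowers a) ?_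
    have := inv_mem (hn a b)
    convert this using 1
    group
  have hcb : c ∈ Subgroup.zpowers b := mul_mem (hn b a) (inv_mem (mem_zpowers b))
  have hcomma : Commute c a := by
    obtain ⟨i, hi⟩ := mem_zpowers_iff.1 hca
    rw [← hi]; exact (Commute.refl a).zpow_left i
  have hcommb : Commute c b := by
    obtain ⟨i, hi⟩ := mem_zpowers_iff.1 hcb
    rw [← hi]; exact (Commute.refl b).zpow_left i
  have hc : a * b = c * (b * a) := by rw [hcdef]; group
  have hc1 : c ≠ 1 := fun h => hab (by rw [hc, h, one_mul])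
  have hcp : c ^ p = 1 := by
    have h1 : orderOf (a ^ p) < orderOf a := by
      rw [orderOf_pow_of_dvd hp.ne_zero (hoa ▸ dvd_pow_self p (Nat.succ_ne_zero m))]
      exact Nat.div_lt_self (orderOf_pos a) hp.one_lt
    have h2 : a ^ p * b = b * a ^ p := hmin _ b (S.pow_mem haS p) hbS (by omega)
    have h3 := (mul_pow_of_comm_central hc hcomma hcommb p).1
    rw [h2] at h3
    exact mul_eq_right.1 h3.symm
  have hrp : r = p := by
    have h1 : orderOf c ∣ r ^ (n + 1) := by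
      rw [← hob]
      obtain ⟨i, hi⟩ := mem_zpowers_iff.1 hcb
      exact hi ▸ orderOf_dvd_of_mem_zpowers ⟨i, rfl⟩
    rw [orderOf_eq_prime (hp := ⟨hp⟩) hcp hc1] at h1
    exact ((Nat.prime_dvd_prime_iff_eq hp hr).1 (hp.dvd_of_dvd_pow h1)).symm
  subst hrp
  have hsoc : ∀ x : G, ∀ k : ℕ, orderOf x = r ^ (k + 1) → c ∈ Subgroup.zpowers x →
      c ∈ Subgroup.zpowers (x ^ r ^ k) ∧ x ^ r ^ k ∈ Subgroup.zpowers c := by
    intro x k hx hcx
    obtain ⟨i, hi⟩ := mem_zpowers_iff.1 hcx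
    have h1 : c ∈ Subgroup.zpowers (x ^ r ^ k) := by
      have hd : (orderOf x : ℤ) ∣ i * r := by
        rw [orderOf_dvd_iff_zpow_eq_one, zpow_mul, hi, zpow_natCast, hcp]
      rw [hx, pow_succ] at hd
      push_cast at hd
      obtain ⟨s, hs⟩ := Int.dvd_of_mul_dvd_mul_right (by exact_mod_cast hp.ne_zero) hd
      refine mem_zpowers_iff.2 ⟨s, ?_⟩
      rw [← hi, hs, ← zpow_natCast, ← zpow_mul]
      push_cast
      rfl
    refine ⟨h1, ?_⟩
    have ho : orderOf (x ^ r ^ k) = r := by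
      rw [orderOf_pow_of_dvd (pow_ne_zero _ hp.ne_zero) (hx ▸ pow_dvd_pow r (Nat.le_succ k)), hx, pow_succ,
        Nat.mul_div_cancel_left _ (pow_pos hp.pos k)]
    have he : Subgroup.zpowers c = Subgroup.zpowers (x ^ r ^ k) :=
      Subgroup.eq_of_le_of_card_ge (zpowers_le.2 h1)
        (by rw [Nat.card_zpowers, Nat.card_zpowers, ho, orderOf_eq_prime (hp := ⟨hp⟩) hcp hc1])
    rw [he]
    exact mem_zpowers _
  -- reduction of the larger generator into the smaller one
  have hred : ∀ x y : G, x ∈ S → y ∈ S → x * y ≠ y * x → (∀ z, z ∈ S → orderOf z < orderOf y → x * z = z * x) →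
      ∀ k l : ℕ, l ≤ k → orderOf x = r ^ (k + 1) → orderOf y = r ^ (l + 1) →
      c ∈ Subgroup.zpowers x → c ∈ Subgroup.zpowers y → ∀ c' : G, x * y = c' * (y * x) → c' ^ r = 1 →
      Commute c' x → Commute c' y → r = 2 ∧ l = k ∧ l ≤ 1 := by
    intro x y hx hy hxy hminy k l hlk hxo hyo hcx hcy c' hc' hc'p hc'x hc'y
    have hl : l ≠ 0 := by
      rintro rfl
      apply hxy
      have h1 := (hsoc y 0 hyo hcy).2
      rw [pow_zero, pow_one] at h1
      have h2 : y ∈ Subgroup.zpowers x := zpowers_le.2 hcx h1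
      obtain ⟨i, hi⟩ := mem_zpowers_iff.1 h2
      rw [← hi]
      exact ((Commute.refl x).zpow_right i).eq
    have h1 : y ^ r ^ l ∈ Subgroup.zpowers (x ^ r ^ k) :=
      zpowers_le.2 (hsoc x k hxo hcx).1 (hsoc y l hyo hcy).2
    obtain ⟨t, ht : (x ^ r ^ k) ^ t = (y ^ r ^ l)⁻¹⟩ := mem_powers_iff_mem_zpowers.2 (inv_mem h1)
    set e := r ^ (k - l) * t with he
    have hyx : y ^ r ^ l * x ^ (e * r ^ l) = 1 := by
      rw [show e * r ^ l = r ^ k * t by
        rw [he, mul_assoc, mul_comm t, ← mul_assoc, ← pow_add, Nat.sub_add_cancel hlk],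
        pow_mul, ht, mul_inv_cancel]
    have hce : x ^ e * y = c' ^ e * (y * x ^ e) := (mul_pow_of_comm_central hc' hc'x hc'y e).1
    have hpow := (mul_pow_of_comm_central hce (hc'x.pow_pow e e) (hc'y.pow_left e) (r ^ l)).2
    rw [← pow_mul x, hyx, one_mul, ← pow_mul] at hpow
    by_contra hcon
    have hdvd : r ∣ e * (r ^ l).choose 2 := by
      rcases hp.eq_two_or_odd' with h2 | hodd
      · subst h2
        rcases (Nat.lt_or_ge l k) with hlt | hge
        · refine Dvd.dvd.mul_right ?_ _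
          exact Dvd.dvd.mul_right (dvd_pow_self 2 (by omega)) _
        · have hl2 : 2 ≤ l := by
            by_contra h
            exact hcon ⟨rfl, by omega, by omega⟩
          refine Dvd.dvd.mul_left ?_ _
          obtain ⟨d, hd⟩ : ∃ d, l = d + 2 := ⟨l - 2, by omega⟩
          rw [Nat.choose_two_right, show 2 ^ l = 2 * (2 * 2 ^ d) by rw [hd]; ring, mul_assoc,
            Nat.mul_div_cancel_left _ (by norm_num : 0 < 2), mul_assoc]
          exact dvd_mul_right _ _
      · refine Dvd.dvd.mul_left ?_ _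
        have h2 : r ∣ (r ^ l).choose 2 * 2 := by
          rw [Nat.choose_two_right, Nat.div_two_mul_two_of_even (Nat.even_mul_pred_self _)]
          exact (dvd_pow_self r hl).mul_right _
        refine (Nat.Coprime.dvd_of_dvd_mul_right ?_ h2)
        rw [Nat.coprime_primes hp Nat.prime_two]
        rintro rfl
        exact absurd hodd (by decide)
    obtain ⟨d, hd⟩ := hdvd
    rw [hd, pow_mul c', hc'p, one_pow] at hpow
    have hlt : orderOf (y * x ^ e) < orderOf y := by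
      refine lt_of_le_of_lt (Nat.le_of_dvd (pow_pos hp.pos l) (orderOf_dvd_of_pow_eq_one hpow)) ?_
      rw [hyo]
      exact Nat.pow_lt_pow_right hp.one_lt (Nat.lt_succ_self l)
    have h := hminy _ (S.mul_mem hy (S.pow_mem hx e)) hlt
    apply hxy
    rw [← mul_assoc, mul_assoc y, ← ((Commute.refl x).pow_right e).eq, ← mul_assoc] at h
    exact mul_right_cancel h
  have hfinal : r = 2 ∧ m = n ∧ n ≤ 1 := by
    rcases le_total n m with hle | hle
    · obtain ⟨h1, h2, h3⟩ := hred a b haS hbS hab (fun z hz hlt => hmin a z haS hz (by omega)) m n hle hoa hob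
        hca hcb c hc hcp hcomma hcommb
      exact ⟨h1, h2.symm, h3⟩
    · obtain ⟨h1, h2, h3⟩ := hred b a hbS haS (Ne.symm hab)
        (fun z hz hlt => (hmin z b hz hbS (by omega)).symm) n m hle hob hoa hcb hca c⁻¹
        (by rw [hc, inv_mul_cancel_left]) (by rw [inv_pow, hcp, inv_one]) hcommb.inv_left hcomma.inv_left
      exact ⟨h1, h2, by omega⟩
  obtain ⟨rfl, rfl, hn1⟩ := hfinal
  have hm : m = 1 := by
    by_contra h
    obtain rfl : m = 0 := by omega
    have h1 := (hsoc b 0 hob hcb).2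
    rw [pow_zero, pow_one] at h1
    obtain ⟨i, hi⟩ := mem_zpowers_iff.1 (zpowers_le.2 hca h1)
    exact hab (hi ▸ ((Commute.refl a).zpow_right i).eq)
  subst hm
  have e2 : ∀ x : G, orderOf x = 2 ^ (1 + 1) → c ∈ Subgroup.zpowers x → x ^ 2 = c := by
    intro x hx hcx
    have h := (hsoc x 1 hx hcx).2
    rw [pow_one] at h
    obtain ⟨j, hj : c ^ j = x ^ 2⟩ := mem_powers_iff_mem_zpowers.2 h
    have hx2 : x ^ 2 ≠ 1 := fun h => by
      have := Nat.le_of_dvd (by norm_num) (orderOf_dvd_of_pow_eq_one h)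
      omega
    rw [← Nat.mod_add_div j 2, pow_add, pow_mul, hcp, one_pow, mul_one] at hj
    rcases (by omega : j % 2 = 0 ∨ j % 2 = 1) with h0 | h0
    · rw [h0, pow_zero] at hj; exact absurd hj.symm hx2
    · rw [h0, pow_one] at hj; exact hj.symm
  refine ⟨a, b, haS, hbS, hoa, hob, (e2 b hob hcb).trans (e2 a hoa hca).symm, ?_⟩
  have h2 : b * a = c⁻¹ * (a * b) := by rw [hc, inv_mul_cancel_left]
  rw [h2, ← e2 a hoa hca]
  group

theorem quaternionHom_exists {a b : G} (ha : orderOf a = 4) (hb2 : b ^ 2 = a ^ 2) (hba : b * a * b⁻¹ = a⁻¹) :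
    ∃ f : QuaternionGroup 2 →* G, Function.Injective f ∧ a ∈ f.range ∧ b ∈ f.range ∧
      ∀ x ∈ f.range, x * a = a * x → x * b = b * x → x = 1 ∨ x = a ^ 2 := by
  have ha4 : a ^ 4 = 1 := ha ▸ pow_orderOf_eq_one a
  let pw : ZMod (2 * 2) → G := fun i => a ^ i.val
  have hmod : ∀ k : ℕ, a ^ (k % 4) = a ^ k := fun k => by
    conv_rhs => rw [← Nat.mod_add_div k 4, pow_add, pow_mul, ha4, one_pow, mul_one]
  have hadd : ∀ i j, pw (i + j) = pw i * pw j := fun i j => by
    simp only [pw, ← pow_add, ZMod.val_add]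
    exact hmod _
  have hzero : pw 0 = 1 := by simp [pw]
  have hneg : ∀ i, pw (-i) = (pw i)⁻¹ := fun i => eq_inv_of_mul_eq_one_left (by rw [← hadd, neg_add_cancel, hzero])
  have hconj : ∀ i, b * pw i * b⁻¹ = (pw i)⁻¹ := fun i => by
    simp only [pw, ← conj_pow, hba, inv_pow]
  have hconj' : ∀ i, pw i * b = b * (pw i)⁻¹ := fun i => by
    rw [← hneg, ← inv_inv (pw i), ← hneg, ← hconj (-i)]
    group
  have htwo : pw 2 = b * b := by
    rw [← sq b, hb2]; rfl
  let F : QuaternionGroup 2 → G := fun q => match q with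
    | .a i => pw i
    | .xa i => b * pw i
  have hmul : ∀ x y, F (x * y) = F x * F y := by
    rintro (i | i) (j | j)
    · simp only [F, QuaternionGroup.a_mul_a, hadd]
    · simp only [F, QuaternionGroup.a_mul_xa]
      rw [sub_eq_neg_add, hadd, hneg, ← mul_assoc (pw i), hconj', mul_assoc]
    · simp only [F, QuaternionGroup.xa_mul_a, hadd, mul_assoc]
    · simp only [F, QuaternionGroup.xa_mul_xa]
      rw [show ((2 : ℕ) : ZMod (2 * 2)) + j - i = 2 + (-i + j) by push_cast; ring, hadd, hadd, htwo, hneg,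
        ← mul_assoc (b * pw i), mul_assoc b (pw i) b, hconj']
      group
  have hinj : ∀ i : ZMod (2 * 2), pw i = 1 → i = 0 := fun i h => by
    have h1 := orderOf_dvd_of_pow_eq_one h
    rw [ha] at h1
    have h2 : i.val < 4 := ZMod.val_lt i
    exact (ZMod.val_eq_zero i).1 (by omega)
  have hbnot : ∀ i, b * pw i ≠ 1 := fun i h => by
    have hbe : b = (pw i)⁻¹ := eq_inv_of_mul_eq_one_left h
    have h1 : a = a⁻¹ := by
      rw [hbe] at hba
      simp only [pw] at hba
      rw [inv_inv] at hba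
      conv_lhs => rw [show a = (a ^ i.val)⁻¹ * a * a ^ i.val by
        rw [mul_assoc, ← pow_succ', pow_succ]; group]
      exact hba
    have h2 : a ^ 2 = 1 := by rw [sq]; exact mul_eq_one_iff_eq_inv.2 h1
    have := Nat.le_of_dvd (by norm_num) (orderOf_dvd_of_pow_eq_one h2)
    omega
  refine ⟨MonoidHom.mk' F hmul, ?_, ⟨.a 1, ?_⟩, ⟨.xa 0, ?_⟩, ?_⟩
  · rw [injective_iff_map_eq_one]
    rintro (i | i) h
    · change pw i = 1 at h
      rw [hinj i h]; rfl
    · exact absurd h (hbnot i)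
  · change a ^ (1 : ZMod (2 * 2)).val = a
    exact pow_one a
  · change b * pw 0 = b
    rw [hzero, mul_one]
  · rintro _ ⟨q, rfl⟩ hqa hqb
    rcases q with i | i
    · change pw i * b = b * pw i at hqb
      change pw i = 1 ∨ pw i = a ^ 2
      have h2 : pw (i + i) = 1 := by
        rw [hconj'] at hqb
        rw [hadd]
        exact (inv_eq_iff_mul_eq_one.1 (mul_left_cancel hqb))
      have h3 := hinj _ h2
      have key : ∀ j : ZMod (2 * 2), j + j = 0 → j = 0 ∨ j = 2 := by decide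
      rcases key i h3 with rfl | rfl
      · exact Or.inl hzero
      · right; rfl
    · exfalso
      change b * pw i * a = a * (b * pw i) at hqa
      have h1 : b * a * b⁻¹ = a := by
        have hpa : pw i * a = a * pw i := by simp only [pw]; exact ((Commute.refl a).pow_left _).eq
        rw [mul_assoc, hpa, ← mul_assoc, ← mul_assoc] at hqa
        rw [mul_right_cancel hqa]
        group
      rw [hba] at h1
      have h2 : a ^ 2 = 1 := by rw [sq]; exact mul_eq_one_iff_eq_inv.2 h1.symm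
      have := Nat.le_of_dvd (by norm_num) (orderOf_dvd_of_pow_eq_one h2)
      omega

theorem hamiltonian_structure [Finite G] (hna : ¬ IsMulCommutative G) (hN : ∀ H : Subgroup G, H.Normal) :
    ∃ Q E A : Subgroup G, Nonempty (Q ≃* QuaternionGroup 2) ∧ Cfsg.IsElementaryAbelian 2 E ∧
      IsMulCommutative A ∧ Odd (Nat.card A) ∧ E ⊓ A = ⊥ ∧ Q ⊓ (E ⊔ A) = ⊥ ∧ Q ⊔ (E ⊔ A) = ⊤ := by
  classical
  have hn : ∀ a g : G, g * a * g⁻¹ ∈ Subgroup.zpowers a := fun a g => (hN _).conj_mem a (mem_zpowers a) g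
  obtain ⟨a₀, b₀, hab₀⟩ : ∃ a b : G, a * b ≠ b * a := by
    by_contra h
    push Not at h
    exact hna ⟨⟨h⟩⟩
  obtain ⟨a, b, -, -, hao, hbo, hb2, hba⟩ :=
    exists_quaternion_pair hn ⊤ (mem_top a₀) (mem_top b₀) hab₀
  obtain ⟨f, hf, haf, hbf, hfix⟩ := quaternionHom_exists hao hb2 hba
  have haa : a ≠ a⁻¹ := fun h => by
    have := Nat.le_of_dvd (by norm_num) (orderOf_dvd_of_pow_eq_one (x := a) (n := 2) (by rw [sq]; exact mul_eq_one_iff_eq_inv.2 h))
    omega
  have hgen : ∀ x g : G, orderOf x = 4 → g * x * g⁻¹ = x ∨ g * x * g⁻¹ = x⁻¹ := by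
    intro x g hx
    obtain ⟨k, hk : x ^ k = g * x * g⁻¹⟩ := mem_powers_iff_mem_zpowers.2 (hn x g)
    have h4 : x ^ 4 = 1 := hx ▸ pow_orderOf_eq_one x
    rw [← Nat.mod_add_div k 4, pow_add, pow_mul, h4, one_pow, mul_one] at hk
    have hord : orderOf (g * x * g⁻¹) = 4 := by rw [← MulAut.conj_apply, MulEquiv.orderOf_eq, hx]
    have hk4 : k % 4 < 4 := Nat.mod_lt _ (by norm_num)
    rw [← hk] at hord ⊢
    interval_cases hh : k % 4
    · rw [pow_zero, orderOf_one] at hord; omega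
    · exact Or.inl (pow_one x)
    · rw [orderOf_pow_of_dvd (by norm_num) (by rw [hx]; norm_num), hx] at hord; omega
    · exact Or.inr (eq_inv_of_mul_eq_one_left (by rw [← pow_succ]; exact h4))
  set C := centralizer ({a, b} : Set G) with hC
  have hCmem : ∀ {x}, x ∈ C ↔ x * a = a * x ∧ x * b = b * x := fun {x} => by
    rw [hC, mem_centralizer_iff]
    exact ⟨fun h => ⟨(h a (Set.mem_insert _ _)).symm, (h b (Set.mem_insert_of_mem _ rfl)).symm⟩,
      fun h y hy => by rcases hy with rfl | rfl; exacts [h.1.symm, h.2.symm]⟩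
  have hfin : ∀ {y x : G}, y * x * y⁻¹ = x → y * x = x * y := fun {y x} h => mul_inv_eq_iff_eq_mul.1 h
  have hQC : ∀ g : G, ∃ q ∈ f.range, q * g ∈ C := by
    intro g
    have hab' : a * b * a⁻¹ = b⁻¹ := by
      have h1 : a * b * a⁻¹ = b * (b⁻¹ * a * b) * a⁻¹ := by group
      have h2 : b⁻¹ * a * b = a⁻¹ := by
        have := congrArg (fun t => b⁻¹ * t⁻¹ * b) hba
        simpa [mul_assoc] using this.symm
      rw [h1, h2]
      have h4 : b ^ 4 = 1 := hbo ▸ pow_orderOf_eq_one b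
      calc b * a⁻¹ * a⁻¹ = b * (a ^ 2)⁻¹ := by rw [sq]; group
        _ = b⁻¹ := by rw [← hb2, sq]; group
    rcases hgen a g hao with h1 | h1 <;> rcases hgen b g hbo with h2 | h2
    · exact ⟨1, one_mem _, by rw [one_mul]; exact hCmem.2 ⟨hfin h1, hfin h2⟩⟩
    · refine ⟨a, haf, hCmem.2 ⟨hfin ?_, hfin ?_⟩⟩
      · calc a * g * a * (a * g)⁻¹ = a * (g * a * g⁻¹) * a⁻¹ := by group
          _ = a := by rw [h1]; group
      · calc a * g * b * (a * g)⁻¹ = (a * (g * b * g⁻¹)⁻¹ * a⁻¹)⁻¹ := by group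
          _ = b := by rw [h2, inv_inv, hab', inv_inv]
    · refine ⟨b, hbf, hCmem.2 ⟨hfin ?_, hfin ?_⟩⟩
      · calc b * g * a * (b * g)⁻¹ = (b * (g * a * g⁻¹)⁻¹ * b⁻¹)⁻¹ := by group
          _ = a := by rw [h1, inv_inv, hba, inv_inv]
      · calc b * g * b * (b * g)⁻¹ = b * (g * b * g⁻¹) * b⁻¹ := by group
          _ = b := by rw [h2]; group
    · refine ⟨a * b, mul_mem haf hbf, hCmem.2 ⟨hfin ?_, hfin ?_⟩⟩
      · calc a * b * g * a * (a * b * g)⁻¹ = a * (b * (g * a * g⁻¹)⁻¹ * b⁻¹)⁻¹ * a⁻¹ := by group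
          _ = a := by rw [h1, inv_inv, hba, inv_inv]; group
      · calc a * b * g * b * (a * b * g)⁻¹ = a * (b * (g * b * g⁻¹) * b⁻¹) * a⁻¹ := by group
          _ = a * b⁻¹ * a⁻¹ := by rw [h2]; group
          _ = (a * b * a⁻¹)⁻¹ := by group
          _ = b := by rw [hab', inv_inv]
  have hC4 : ∀ x ∈ C, x ^ 4 = 1 → x ^ 2 = 1 := by
    intro x hxC hx4
    by_contra hx2
    obtain ⟨hxa, hxb⟩ := hCmem.1 hxC
    obtain ⟨k, hk : (a * x) ^ k = b * (a * x) * b⁻¹⟩ := mem_powers_iff_mem_zpowers.2 (hn (a * x) b)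
    have hax : Commute a x := hxa.symm
    have hbax : b * (a * x) * b⁻¹ = a⁻¹ * x := by
      have hxb' : b * x * b⁻¹ = x := mul_inv_eq_iff_eq_mul.2 hxb.symm
      calc b * (a * x) * b⁻¹ = (b * a * b⁻¹) * (b * x * b⁻¹) := by group
        _ = a⁻¹ * x := by rw [hba, hxb']
    rw [hbax] at hk
    have ha4 : a ^ 4 = 1 := hao ▸ pow_orderOf_eq_one a
    rw [hax.mul_pow] at hk
    rw [← Nat.mod_add_div k 4, pow_add, pow_add, pow_mul, pow_mul, ha4, hx4] at hk
    simp only [one_pow, mul_one] at hk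
    have hk4 : k % 4 < 4 := Nat.mod_lt _ (by norm_num)
    have hainv : a⁻¹ = a ^ 3 := (eq_inv_of_mul_eq_one_left (by rw [← pow_succ]; exact ha4)).symm
    interval_cases hh : k % 4
    · rw [pow_zero, pow_zero, one_mul] at hk
      have hx : x = a := by rw [← inv_mul_eq_one.1 hk.symm]
      subst hx
      rw [← hxb, mul_inv_cancel_right] at hba
      exact haa hba
    · rw [pow_one, pow_one] at hk
      exact haa (mul_right_cancel hk)
    · have h1 : x = a ^ 3 * (a ^ 2 * x ^ 2)⁻¹ * x ^ 2 := by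
        rw [hk]
        have h3 : a ^ 3 * (a⁻¹ * x)⁻¹ * x ^ 2 = a ^ 4 * x := by
          rw [mul_inv_rev, inv_inv, hax.symm.inv_left.eq, pow_succ a 3, sq]
          group
        rw [h3, ha4, one_mul]
      have h2 : x = a := by
        rw [h1, mul_inv_rev]
        calc a ^ 3 * ((x ^ 2)⁻¹ * (a ^ 2)⁻¹) * x ^ 2 = a ^ 3 * ((a ^ 2)⁻¹ * (x ^ 2)⁻¹) * x ^ 2 := by
              rw [((hax.pow_pow 2 2).inv_inv).eq]
          _ = a := by group
      subst h2
      rw [← hxb, mul_inv_cancel_right] at hba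
      exact haa hba
    · rw [← hainv] at hk
      apply hx2
      calc x ^ 2 = (x ^ 3)⁻¹ * x ^ 3 * x ^ 2 := by group
        _ = (x ^ 3)⁻¹ * x ^ 4 * x := by group
        _ = (x ^ 3)⁻¹ * x := by rw [hx4, mul_one]
        _ = 1 := by rw [mul_left_cancel hk, inv_mul_cancel]
  haveI hCcomm : IsMulCommutative C := by
    refine ⟨⟨fun x y => ?_⟩⟩
    by_contra h
    obtain ⟨u, v, huC, -, huo, -⟩ :=
      exists_quaternion_pair hn C x.2 y.2 (fun e => h (Subtype.ext e))
    have := Nat.le_of_dvd (by norm_num) (orderOf_dvd_of_pow_eq_one (hC4 u huC (huo ▸ pow_orderOf_eq_one u)))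
    omega
  have hcom : ∀ x ∈ C, ∀ y ∈ C, Commute x y := fun x hx y hy =>
    congrArg Subtype.val (hCcomm.is_comm.comm ⟨x, hx⟩ ⟨y, hy⟩)
  let E0 : Subgroup G :=
    { carrier := {x | x ∈ C ∧ x ^ 2 = 1}
      one_mem' := ⟨one_mem _, one_pow _⟩
      mul_mem' := fun {x y} hx hy => ⟨mul_mem hx.1 hy.1, by rw [(hcom x hx.1 y hy.1).mul_pow, hx.2, hy.2, one_mul]⟩
      inv_mem' := fun {x} hx => ⟨inv_mem hx.1, by rw [inv_pow, hx.2, inv_one]⟩ }
  let A : Subgroup G :=
    { carrier := {x | x ∈ C ∧ Odd (orderOf x)}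
      one_mem' := ⟨one_mem _, by rw [orderOf_one]; exact odd_one⟩
      mul_mem' := fun {x y} hx hy => ⟨mul_mem hx.1 hy.1,
        (hx.2.mul hy.2).of_dvd_nat (hcom x hx.1 y hy.1).orderOf_mul_dvd_mul_orderOf⟩
      inv_mem' := fun {x} hx => ⟨inv_mem hx.1, by rw [orderOf_inv]; exact hx.2⟩ }
  have hc2 : a ^ 2 ≠ 1 := fun h => by
    have := Nat.le_of_dvd (by norm_num) (orderOf_dvd_of_pow_eq_one h); omega
  have hcC : a ^ 2 ∈ C := hCmem.2 ⟨((Commute.refl a).pow_left 2).eq, hb2 ▸ ((Commute.refl b).pow_left 2).eq⟩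
  have hc4 : (a ^ 2) ^ 2 = 1 := by
    have h := pow_orderOf_eq_one a
    rw [hao] at h
    rw [← pow_mul]
    exact h
  obtain ⟨E, ⟨hEE0, hcE⟩, hmax⟩ := Set.Finite.exists_maximal
    (Set.toFinite {E : Subgroup G | E ≤ E0 ∧ a ^ 2 ∉ E}) ⟨⊥, bot_le, fun h => hc2 (mem_bot.1 h)⟩
  have hcov : ∀ x ∈ E0, x ∈ E ∨ x * a ^ 2 ∈ E := by
    intro x hx
    by_contra hcon
    push Not at hcon
    haveI := hN E
    have hlt : a ^ 2 ∈ E ⊔ Subgroup.zpowers x := by
      by_contra hnot
      exact hcon.1 (hmax ⟨sup_le hEE0 (zpowers_le.2 hx), hnot⟩ le_sup_left (mem_sup_right (mem_zpowers x)))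
    rw [mem_sup_of_normal_left] at hlt
    obtain ⟨u, hu, v, hv, huv⟩ := hlt
    obtain ⟨j, hj : x ^ j = v⟩ := mem_powers_iff_mem_zpowers.2 hv
    rw [← Nat.mod_add_div j 2, pow_add, pow_mul, hx.2, one_pow, mul_one] at hj
    rcases (by omega : j % 2 = 0 ∨ j % 2 = 1) with h0 | h0
    · rw [h0, pow_zero] at hj
      rw [← hj, mul_one] at huv
      exact hcE (huv ▸ hu)
    · rw [h0, pow_one] at hj
      apply hcon.2
      rw [← huv, ← hj, ← mul_assoc, (hcom x hx.1 u (hEE0 hu).1).eq, mul_assoc, ← sq, hx.2, mul_one]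
      exact hu
  have hEA : E ⊔ A ≤ C := sup_le (fun x hx => (hEE0 hx).1) (fun x hx => hx.1)
  refine ⟨f.range, E, A, ⟨(MonoidHom.ofInjective hf).symm⟩,
    ⟨⟨⟨fun x y => Subtype.ext (hcom x (hEE0 x.2).1 y (hEE0 y.2).1)⟩⟩, fun x hx => (hEE0 hx).2⟩,
    ⟨⟨fun x y => Subtype.ext (hcom x x.2.1 y y.2.1)⟩⟩, ?_, ?_, ?_, ?_⟩
  · rw [← Nat.not_even_iff_odd, even_iff_two_dvd]
    intro h
    haveI := Fact.mk Nat.prime_two
    obtain ⟨x, hx⟩ := exists_prime_orderOf_dvd_card' 2 h
    have := x.2.2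
    rw [Subgroup.orderOf_coe, hx] at this
    exact absurd this (by decide)
  · rw [eq_bot_iff]
    intro x hx
    obtain ⟨hxE, hxA⟩ := mem_inf.1 hx
    rw [mem_bot, ← orderOf_eq_one_iff]
    rcases (Nat.dvd_prime Nat.prime_two).1 (orderOf_dvd_of_pow_eq_one (hEE0 hxE).2) with h | h
    · exact h
    · exact absurd (h ▸ hxA.2) (by decide)
  · rw [eq_bot_iff]
    intro x hx
    obtain ⟨hxQ, hxEA⟩ := mem_inf.1 hx
    obtain ⟨h1, h2⟩ := hCmem.1 (hEA hxEA)
    rcases hfix x hxQ h1 h2 with rfl | rfl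
    · exact one_mem _
    · exfalso
      haveI := hN E
      rw [mem_sup_of_normal_left] at hxEA
      obtain ⟨u, hu, v, hv, huv⟩ := hxEA
      apply hcE
      have hv2 : v ^ 2 = 1 := by
        have := congrArg (· ^ 2) huv
        rw [(hcom u (hEE0 hu).1 v hv.1).mul_pow, (hEE0 hu).2, hc4, one_mul] at this
        exact this
      rcases (Nat.dvd_prime Nat.prime_two).1 (orderOf_dvd_of_pow_eq_one hv2) with h | h
      · rw [orderOf_eq_one_iff.1 h, mul_one] at huv
        exact huv ▸ hu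
      · exact absurd (h ▸ hv.2) (by decide)
  · rw [eq_top_iff]
    intro g _
    obtain ⟨q, hq, hqg⟩ := hQC g
    have hCsub : C ≤ f.range ⊔ (E ⊔ A) := by
      intro y hy
      obtain ⟨k, v, hv, hyo⟩ := Nat.exists_eq_pow_mul_and_not_dvd (orderOf_pos y).ne' 2 (by norm_num)
      have hv0 : v ≠ 0 := fun h => hv (h ▸ dvd_zero 2)
      have hy2 : (y ^ v) ^ 2 ^ k = 1 := by rw [← pow_mul, mul_comm, ← hyo, pow_orderOf_eq_one]
      have hsq : ∀ j : ℕ, (y ^ v) ^ 2 ^ j = 1 → (y ^ v) ^ 2 = 1 := by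
        intro j
        induction j with
        | zero => intro h; rw [pow_zero, pow_one] at h; rw [h, one_pow]
        | succ j ih =>
          intro h
          rcases j with _ | j
          · simpa using h
          · refine ih ?_
            have h4 := hC4 ((y ^ v) ^ 2 ^ j) (pow_mem (pow_mem hy v) _)
              (by rw [← pow_mul]; rw [← h]; congr 1; ring)
            rw [pow_succ 2 j, pow_mul]
            exact h4
      have he0 : y ^ v ∈ E0 := ⟨pow_mem hy v, hsq k hy2⟩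
      have hA2 : y ^ 2 ^ k ∈ A := ⟨pow_mem hy _, by
        rw [orderOf_pow_of_dvd (by positivity) (hyo ▸ dvd_mul_right _ _), hyo, Nat.mul_div_cancel_left _ (by positivity)]
        exact Nat.odd_iff.2 (by omega)⟩
      have hE0sub : ∀ e ∈ E0, e ∈ f.range ⊔ (E ⊔ A) := by
        intro e he
        rcases hcov e he with h | h
        · exact mem_sup_right (mem_sup_left h)
        · have : e = (e * a ^ 2) * (a ^ 2)⁻¹ := by group
          rw [this]
          exact mul_mem (mem_sup_right (mem_sup_left h)) (inv_mem (mem_sup_left (pow_mem haf 2)))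
      obtain ⟨i, j, hij⟩ := Nat.Coprime.isCoprime ((Nat.prime_two.coprime_iff_not_dvd.2 hv).pow_left k)
      have heq : y = (y ^ 2 ^ k) ^ i * (y ^ v) ^ j := by
        rw [← zpow_natCast, ← zpow_natCast y v, ← zpow_mul, ← zpow_mul, ← zpow_add,
          mul_comm ((2 ^ k : ℕ) : ℤ), mul_comm (v : ℤ), hij, zpow_one]
      rw [heq]
      exact mul_mem (Subgroup.zpow_mem _ (mem_sup_right (mem_sup_right hA2)) i)
        (Subgroup.zpow_mem _ (hE0sub _ he0) j)
    have : g = q⁻¹ * (q * g) := by group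
    rw [this]
    exact mul_mem (inv_mem (mem_sup_left hq)) (hCsub hqg)

end CfsgLib.ClassSizes
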