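import Cfsg.Agent.Lib.Core.FPFAutomorphism
import Cfsg.Agent.Lib.Core.MinNormal
import Cfsg.Agent.Lib.PLocal.NormalPComplementThms
import Cfsg.Agent.Lib.Transfer.ZJFull
import Cfsg.Agent.Lib.Transfer.ZJControl
import Cfsg.Agent.S0117

/-!
Kegel's theorem on splitting automorphisms of prime order and the theorem of Hughes and Thompson,
by elementary norm computations on normal abelian sections.
-/

set_option linter.style.haveILetI false

namespace CfsgLib.ClassSizes.Hughes

open Subgroup Cfsg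
open scoped IsMulCommutative

universe u

variable {G : Type u} [Group G] [Finite G]

/-- The action by conjugation. -/
noncomputable def act (W : Subgroup G) [W.Normal] : G →* MulAut W := MulAut.conjNormal

omit [Finite G] in
theorem act_coe {W : Subgroup G} [W.Normal] (g : G) (w : W) : ((act W g w : W) : G) = g * w * g⁻¹ :=
  MulAut.conjNormal_apply g w

omit [Finite G] in
theorem act_mul_apply {W : Subgroup G} [W.Normal] (g h : G) (w : W) :
    act W (g * h) w = act W g (act W h w) := by
  rw [map_mul]; rfl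

omit [Finite G] in
theorem act_eq_one_iff {W : Subgroup G} [W.Normal] (g : G) :
    act W g = 1 ↔ g ∈ centralizer (W : Set G) := by
  rw [mem_centralizer_iff, MulEquiv.ext_iff]
  refine ⟨fun h w hw => ?_, fun h w => Subtype.ext ?_⟩
  · have e := congrArg Subtype.val (h ⟨w, hw⟩)
    rw [act_coe] at e
    exact (mul_inv_eq_iff_eq_mul.1 e).symm
  · rw [act_coe, ← h w w.2, mul_inv_cancel_right]
    rfl

omit [Finite G] in
theorem pow_eq_norm {W : Subgroup G} [W.Normal] [IsMulCommutative W] (g : G) (w : W) (n : ℕ) :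
    ((w : G) * g) ^ n = ((∏ i ∈ Finset.range n, act W (g ^ i) w : W) : G) * g ^ n := by
  induction n with
  | zero => simp
  | succ n ih =>
    rw [pow_succ, ih, Finset.prod_range_succ, Subgroup.coe_mul, act_coe, pow_succ]
    group

variable {H : Subgroup G} {p : ℕ}

omit [Finite G] in
theorem norm_eq_one {W : Subgroup G} [W.Normal] [IsMulCommutative W] (hsp : ∀ g ∉ H, g ^ p = 1)
    (hWH : W ≤ H) {g : G} (hg : g ∉ H) (w : W) : ∏ i ∈ Finset.range p, act W (g ^ i) w = 1 := by
  have h := pow_eq_norm g w p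
  rw [hsp g hg, mul_one, hsp _ fun h' => hg (by simpa using mul_mem (inv_mem (hWH w.2)) h')] at h
  exact Subtype.ext h.symm

theorem eq_one_of_pow_eq_one {K : Type*} [Group K] {n : ℕ} {a : K} (ha : a ^ n = 1)
    (h : (orderOf a).Coprime n) : a = 1 :=
  orderOf_eq_one_iff.1 (Nat.eq_one_of_dvd_coprimes h dvd_rfl (orderOf_dvd_of_pow_eq_one ha))

/-- A subgroup of order coprime to `p` and to `|W|`, normalized by an outside element, centralizes `W`. -/
theorem le_centralizer_of_fpf {W : Subgroup G} [W.Normal] [IsMulCommutative W] (hp : p.Prime)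
    (hsp : ∀ g ∉ H, g ^ p = 1) (hWH : W ≤ H) {Q : Subgroup G} (hQH : Q ≤ H) (hQp : ¬ p ∣ Nat.card Q)
    (hQW : (Nat.card W).Coprime (Nat.card Q)) {x : G} (hx : x ∉ H) (hxQ : x ∈ normalizer (Q : Set G)) :
    Q ≤ centralizer (W : Set G) := by
  classical
  haveI := Fintype.ofFinite Q
  intro b hb
  rw [← act_eq_one_iff]
  refine MulEquiv.ext fun w => ?_
  have hfix : ∀ i : ℕ, 0 < i → i < p → ∀ a ∈ Q, Commute a (x ^ i) → a = 1 := by
    intro i hi hip a ha hc
    have hcop : i.Coprime (orderOf x) := by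
      have hd := orderOf_dvd_of_pow_eq_one (hsp x hx)
      exact Nat.Coprime.coprime_dvd_right hd
        ((hp.coprime_iff_not_dvd.2 (Nat.not_dvd_of_pos_of_lt hi hip)).symm)
    obtain ⟨m, hm⟩ := exists_pow_eq_self_of_coprime hcop
    have hc' : Commute a x := hm ▸ hc.pow_right m
    have h1 := hsp (a * x) fun h => hx (by simpa using mul_mem (inv_mem (hQH ha)) h)
    rw [hc'.mul_pow, hsp x hx, mul_one] at h1
    refine eq_one_of_pow_eq_one h1 ?_
    exact ((hp.coprime_iff_not_dvd.2 hQp).coprime_dvd_right (Subgroup.orderOf_dvd_natCard Q ha)).symm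
  have hxi : ∀ i : ℕ, x ^ i ∈ normalizer (Q : Set G) := fun i => pow_mem hxQ i
  -- the bijection `a ↦ [a, x ^ i]`
  let f : ℕ → Q → Q := fun i a => ⟨a * (x ^ i * (a : G)⁻¹ * (x ^ i)⁻¹),
    mul_mem a.2 ((mem_normalizer_iff.1 (hxi i) _).1 (inv_mem a.2))⟩
  have hf : ∀ i, 0 < i → i < p → Function.Bijective (f i) := by
    intro i hi hip
    refine Finite.injective_iff_bijective.1 fun a c hac => ?_
    have e : (a : G) * (x ^ i * (a : G)⁻¹ * (x ^ i)⁻¹) = c * (x ^ i * (c : G)⁻¹ * (x ^ i)⁻¹) :=
      congrArg Subtype.val hac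
    rw [← mul_assoc, ← mul_assoc, ← mul_assoc, ← mul_assoc, mul_right_cancel_iff] at e
    have hc : Commute ((c : G)⁻¹ * a) (x ^ i) := by
      show (c : G)⁻¹ * a * x ^ i = x ^ i * ((c : G)⁻¹ * a)
      calc (c : G)⁻¹ * a * x ^ i = (c : G)⁻¹ * (a * x ^ i * (a : G)⁻¹) * a := by group
        _ = x ^ i * ((c : G)⁻¹ * a) := by rw [e]; group
    exact Subtype.ext (inv_mul_eq_one.1 (hfix i hi hip _ (mul_mem (inv_mem c.2) a.2) hc)).symm
  set T := ∏ a : Q, act W (a : G) w with hT
  have hsum : ∏ i ∈ Finset.range p, ∏ a : Q, act W ((a : G) * x ^ i) w = 1 := by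
    rw [Finset.prod_comm]
    refine Finset.prod_eq_one fun a _ => ?_
    rw [Finset.prod_congr rfl fun i _ => act_mul_apply (a : G) (x ^ i) w, ← map_prod,
      norm_eq_one hsp hWH hx, map_one]
  have hconj : ∏ i ∈ Finset.range p, ∏ a : Q, act W ((a : G) * x ^ i * (a : G)⁻¹) w = 1 := by
    rw [Finset.prod_comm]
    refine Finset.prod_eq_one fun a _ => ?_
    rw [Finset.prod_congr rfl fun i _ => by rw [← conj_pow], norm_eq_one hsp hWH]
    intro h
    refine hx ?_
    have := mul_mem (mul_mem (inv_mem (hQH a.2)) h) (hQH a.2)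
    simpa [mul_assoc] using this
  obtain ⟨q, rfl⟩ : ∃ q, p = q + 1 := ⟨p - 1, by have := hp.pos; omega⟩
  rw [Finset.prod_range_succ'] at hsum hconj
  have hre : ∀ i ∈ Finset.range q, ∏ a : Q, act W ((a : G) * x ^ (i + 1) * (a : G)⁻¹) w =
      ∏ a : Q, act W ((a : G) * x ^ (i + 1)) w := by
    intro i hi
    rw [Finset.mem_range] at hi
    refine Fintype.prod_bijective (f (i + 1)) (hf _ (Nat.succ_pos i) (by omega)) _ _ fun a => ?_
    congr 2
    change (a : G) * x ^ (i + 1) * (a : G)⁻¹ = (a : G) * (x ^ (i + 1) * (a : G)⁻¹ * (x ^ (i + 1))⁻¹) * x ^ (i + 1)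
    group
  rw [Finset.prod_congr rfl hre] at hconj
  have hTw : T = w ^ Nat.card Q := by
    have h1 : ∏ a : Q, act W ((a : G) * x ^ 0) w = T := by simp [hT]
    have h2 : ∏ a : Q, act W ((a : G) * x ^ 0 * (a : G)⁻¹) w = w ^ Nat.card Q := by
      simp [Nat.card_eq_fintype_card]
    rw [h1] at hsum
    rw [h2] at hconj
    exact mul_left_cancel (hsum.trans hconj.symm)
  have hbT : act W b T = T := by
    rw [hT, map_prod]
    exact Fintype.prod_equiv (Equiv.mulLeft (⟨b, hb⟩ : Q)) _ _ fun a => (act_mul_apply b (a : G) w).symm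
  rw [hTw, map_pow] at hbT
  exact (powCoprime hQW).injective hbT

/-- The norm identity for two elements commuting on `W`. -/
theorem pow_mul_prod_eq_one {W : Subgroup G} [W.Normal] [IsMulCommutative W]
    (hsp : ∀ g ∉ H, g ^ p = 1) (hWH : W ≤ H) {x z : G} (hout : ∀ j, x * z ^ j ∉ H)
    (hc : Commute (act W x) (act W z)) (q : ℕ) (hq : p = q + 1) (w : W) :
    (∏ i ∈ Finset.range q, act W (x ^ (i + 1)) (∏ j ∈ Finset.range p, act W ((z ^ (i + 1)) ^ j) w)) *
      w ^ p = 1 := by
  have h : ∏ j ∈ Finset.range p, ∏ i ∈ Finset.range p, act W ((x * z ^ j) ^ i) w = 1 :=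
    Finset.prod_eq_one fun j _ => norm_eq_one hsp hWH (hout j) w
  rw [Finset.prod_comm] at h
  have e : ∀ i j : ℕ, act W ((x * z ^ j) ^ i) w = act W (x ^ i) (act W ((z ^ i) ^ j) w) := by
    intro i j
    rw [← act_mul_apply]
    congr 1
    rw [map_pow, map_mul, map_pow (act W) z, (hc.pow_right j).mul_pow, map_mul, map_pow, map_pow,
      map_pow, ← pow_mul, ← pow_mul, mul_comm j i]
  simp only [e, ← map_prod] at h
  subst hq
  rw [Finset.prod_range_succ'] at h
  simpa using h

/-- An element of `H` commuting with an outside element on `W` and of order dividing `p` there acts trivially. -/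
theorem act_eq_one_of_commute {W : Subgroup G} [W.Normal] [IsMulCommutative W] (hp : p.Prime)
    (hsp : ∀ g ∉ H, g ^ p = 1) (hWH : W ≤ H) (hWp : (Nat.card W).Coprime p) {x z : G} (hx : x ∉ H)
    (hz : z ∈ H) (hzp : act W z ^ p = 1) (hc : Commute (act W x) (act W z)) : act W z = 1 := by
  obtain ⟨q, hq⟩ : ∃ q, p = q + 1 := ⟨p - 1, by have := hp.pos; omega⟩
  refine MulEquiv.ext fun w => ?_
  have h := pow_mul_prod_eq_one hsp hWH (fun j h => hx (by simpa using mul_mem h (inv_mem (pow_mem hz j)))) hc q hq w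
  have hfix : ∀ i ∈ Finset.range q, act W z (act W (x ^ (i + 1))
      (∏ j ∈ Finset.range p, act W ((z ^ (i + 1)) ^ j) w)) =
      act W (x ^ (i + 1)) (∏ j ∈ Finset.range p, act W ((z ^ (i + 1)) ^ j) w) := by
    intro i hi
    rw [Finset.mem_range] at hi
    have hcop : (i + 1).Coprime (orderOf (act W z)) :=
      Nat.Coprime.coprime_dvd_right (orderOf_dvd_of_pow_eq_one hzp)
        ((hp.coprime_iff_not_dvd.2 (Nat.not_dvd_of_pos_of_lt (Nat.succ_pos i) (by omega))).symm)
    obtain ⟨m, hm⟩ := exists_pow_eq_self_of_coprime hcop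
    rw [← MulAut.mul_apply, map_pow (act W) x, ← (hc.pow_left (i + 1)).eq, MulAut.mul_apply]
    congr 1
    set Y := ∏ j ∈ Finset.range p, act W ((z ^ (i + 1)) ^ j) w with hY
    have h1 : act W (z ^ (i + 1)) Y = Y := by
      rw [hY, map_prod]
      simp only [← act_mul_apply, ← pow_succ']
      have e1 := Finset.prod_range_succ' (fun j => act W ((z ^ (i + 1)) ^ j) w) p
      have e2 := Finset.prod_range_succ (fun j => act W ((z ^ (i + 1)) ^ j) w) p
      have e3 : act W ((z ^ (i + 1)) ^ p) w = act W ((z ^ (i + 1)) ^ 0) w := by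
        rw [← pow_mul, mul_comm, pow_mul, map_pow, map_pow, hzp, one_pow, pow_zero, map_one]
      rw [e2, e3] at e1
      exact mul_right_cancel e1.symm
    have h2 : ∀ k : ℕ, ((act W z ^ (i + 1)) ^ k) Y = Y := by
      intro k
      induction k with
      | zero => rfl
      | succ k ih =>
        rw [pow_succ, MulAut.mul_apply, show (act W z ^ (i + 1)) Y = Y by rw [← map_pow]; exact h1]
        exact ih
    rw [← hm]
    exact h2 m
  have hwp : act W z (w ^ p) = w ^ p := by
    have e : w ^ p = (∏ i ∈ Finset.range q, act W (x ^ (i + 1))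
        (∏ j ∈ Finset.range p, act W ((z ^ (i + 1)) ^ j) w))⁻¹ := eq_inv_of_mul_eq_one_right h
    rw [e, map_inv, map_prod, Finset.prod_congr rfl hfix]
  rw [map_pow] at hwp
  exact (powCoprime hWp).injective hwp

theorem exists_outside_normalizing [H.Normal] (hne : H ≠ ⊤) {r : ℕ} [Fact r.Prime] (R : Sylow r H) :
    ∃ x ∉ H, x ∈ normalizer (((R : Subgroup H).map H.subtype : Subgroup G) : Set G) := by
  by_contra h
  push Not at h
  have h1 := Sylow.normalizer_sup_eq_top R
  exact hne (top_le_iff.1 (h1 ▸ sup_le (fun x hx => by_contra fun hxH => h x hxH hx) le_rfl))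

omit [Finite G] in
theorem pGroup_le_centralizer_of_normalizes [Finite G] {W : Subgroup G} [W.Normal] [IsMulCommutative W]
    (hp : p.Prime) (hsp : ∀ g ∉ H, g ^ p = 1) (hWH : W ≤ H) (hWp : (Nat.card W).Coprime p)
    {P : Subgroup G} (hP : IsPGroup p P) (hPH : P ≤ H) {x : G} (hx : x ∉ H)
    (hxP : x ∈ normalizer (P : Set G)) : P ≤ centralizer (W : Set G) := by
  haveI := Fact.mk hp
  have hA : IsPGroup p (P ⊔ zpowers x : Subgroup G) := by
    rw [sup_comm]
    refine IsPGroup.to_sup_of_normal_right' ?_ hP (zpowers_le.2 hxP)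
    intro y
    refine ⟨1, Subtype.ext ?_⟩
    obtain ⟨i, hi⟩ := mem_zpowers_iff.1 y.2
    rw [pow_one, SubmonoidClass.coe_pow, ← hi, ← zpow_natCast, ← zpow_mul, mul_comm, zpow_mul,
      zpow_natCast, hsp x hx, one_zpow]
    rfl
  set A := P ⊔ zpowers x with hAdef
  set f : A →* MulAut W := (act W).comp A.subtype with hf
  haveI : Group.IsNilpotent A := hA.isNilpotent
  have hPA : P ≤ A := le_sup_left
  have hxA : x ∈ A := (le_sup_right : zpowers x ≤ A) (mem_zpowers x)
  haveI hPn : (P.subgroupOf A).Normal :=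
    Subgroup.normal_subgroupOf_iff_le_normalizer hPA |>.2
      (sup_le le_normalizer (zpowers_le.2 hxP))
  by_contra hcon
  haveI : Group.IsNilpotent f.range := Group.nilpotent_of_surjective f.rangeRestrict f.rangeRestrict_surjective
  haveI : ((P.subgroupOf A).map f.rangeRestrict).Normal := hPn.map _ f.rangeRestrict_surjective
  have hB : (P.subgroupOf A).map f.rangeRestrict ≠ ⊥ := by
    intro h
    apply hcon
    intro y hy
    rw [← act_eq_one_iff]
    have : f.rangeRestrict ⟨y, hPA hy⟩ = 1 := by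
      rw [← Subgroup.mem_bot, ← h]
      exact ⟨⟨y, hPA hy⟩, hy, rfl⟩
    exact congrArg Subtype.val this
  have hBp : IsPGroup p ((P.subgroupOf A).map f.rangeRestrict) :=
    ((hP.comap_of_injective A.subtype A.subtype_injective)).map _
  have hne := CfsgLib.Core.inf_center_ne_bot_of_isNilpotent _ hB
  have hp' : IsPGroup p ((P.subgroupOf A).map f.rangeRestrict ⊓ center f.range : Subgroup f.range) :=
    hBp.to_le inf_le_left
  haveI : Nontrivial ((P.subgroupOf A).map f.rangeRestrict ⊓ center f.range : Subgroup f.range) :=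
    (Subgroup.nontrivial_iff_ne_bot _).2 hne
  obtain ⟨k, hk0, hk⟩ := hp'.nontrivial_iff_card.1 inferInstance
  obtain ⟨Z, hZ⟩ := exists_prime_orderOf_dvd_card'
    (G := ((P.subgroupOf A).map f.rangeRestrict ⊓ center f.range : Subgroup f.range)) p
    (hk ▸ dvd_pow_self p hk0.ne')
  obtain ⟨⟨y, hy, hyZ⟩, hZc⟩ := Z.2
  have hy' : (y : G) ∈ P := hy
  have hzp : act W (y : G) ^ p = 1 := by
    have h1 := pow_orderOf_eq_one Z
    rw [hZ] at h1
    have h2 := congrArg (fun t : ((P.subgroupOf A).map f.rangeRestrict ⊓ center f.range : Subgroup f.range) =>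
      ((t : f.range) : MulAut W)) h1
    simp only [SubmonoidClass.coe_pow, OneMemClass.coe_one] at h2
    rw [← hyZ] at h2
    exact h2
  have hcomm : Commute (act W x) (act W (y : G)) := by
    have h1 := Subgroup.mem_center_iff.1 hZc (f.rangeRestrict ⟨x, hxA⟩)
    rw [← hyZ] at h1
    exact congrArg Subtype.val h1
  have h1 := act_eq_one_of_commute hp hsp hWH hWp hx (hPH hy') hzp hcomm
  have hZ1 : Z = 1 := by
    refine Subtype.ext ?_
    rw [← hyZ]
    exact Subtype.ext h1
  rw [hZ1, orderOf_one] at hZ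
  exact hp.ne_one hZ.symm

theorem isNilpotent_coprime [H.Normal] (hp : p.Prime) (hsp : ∀ g ∉ H, g ^ p = 1) (hne : H ≠ ⊤)
    {K : Subgroup G} [K.Normal] (hK : ¬ p ∣ Nat.card K) (hKH : K ≤ H) : Group.IsNilpotent K := by
  obtain ⟨x, hx⟩ : ∃ x, x ∉ H := by
    by_contra h
    push Not at h
    exact hne (eq_top_iff.2 fun x _ => h x)
  haveI := Fact.mk hp
  refine CfsgLib.Core.FPFAut.isNilpotent_of_fpf
    (fun K _ _ p _ hp P h => CfsgLib.PLocal.hasNormalPComplement_glauberman hp P h)
    (MulAut.conjNormal x : MulAut K) (fun k hk => ?_) hp (by rw [← map_pow, hsp x hx, map_one])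
  have hc : Commute (k : G) x := by
    have h1 := congrArg Subtype.val hk
    rw [MulAut.conjNormal_apply] at h1
    exact (mul_inv_eq_iff_eq_mul.1 h1).symm
  have h1 := hsp ((k : G) * x) fun h => hx (by simpa using mul_mem (inv_mem (hKH k.2)) h)
  rw [hc.mul_pow, hsp x hx, mul_one] at h1
  refine eq_one_of_pow_eq_one (Subtype.ext (by rw [SubmonoidClass.coe_pow, h1]; rfl)) ?_
  exact ((hp.coprime_iff_not_dvd.2 hK).coprime_dvd_right (orderOf_dvd_natCard k)).symm

omit [Finite G] in
theorem commutative_of_two [H.Normal] (hsp : ∀ g ∉ H, g ^ 2 = 1) {x : G} (hx : x ∉ H) {a b : G}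
    (ha : a ∈ H) (hb : b ∈ H) : a * b = b * a := by
  have hxx : x⁻¹ = x := inv_eq_of_mul_eq_one_right (by rw [← pow_two]; exact hsp x hx)
  have key : ∀ h ∈ H, x * h * x⁻¹ = h⁻¹ := by
    intro h hh
    have h1 := hsp (h * x) fun h' => hx (by simpa using mul_mem (inv_mem hh) h')
    rw [pow_two] at h1
    rw [hxx]
    refine eq_inv_of_mul_eq_one_left ?_
    calc x * h * x * h = (h⁻¹) * ((h * x) * (h * x)) * h := by group
      _ = 1 := by rw [h1]; group
  have h1 := key (a * b) (mul_mem ha hb)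
  rw [show x * (a * b) * x⁻¹ = (x * a * x⁻¹) * (x * b * x⁻¹) by group, key a ha, key b hb] at h1
  have h2 := congrArg (·⁻¹) h1
  simp only [mul_inv_rev, inv_inv] at h2
  exact h2.symm

theorem nilpotent_step [H.Normal] (hp : p.Prime) (hsp : ∀ g ∉ H, g ^ p = 1) (hne : H ≠ ⊤)
    (ih : ∀ (K : Type u) [Group K] [Finite K] (L : Subgroup K), L.Normal → Nat.card K < Nat.card G →
      (∀ g ∉ L, g ^ p = 1) → L ≠ ⊤ → Group.IsNilpotent L)
    {W : Subgroup G} [W.Normal] [IsMulCommutative W] (hWb : W ≠ ⊥) (hWH : W ≤ H) :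
    Group.IsNilpotent H := by
  classical
  obtain ⟨r, hr, hrd⟩ := Nat.exists_prime_and_dvd (n := Nat.card W) fun h => hWb (Subgroup.card_eq_one.1 h)
  haveI := Fact.mk hr
  -- elements of order dividing `r`
  let V : Subgroup G :=
    { carrier := {w | w ∈ W ∧ w ^ r = 1}
      one_mem' := ⟨one_mem W, one_pow r⟩
      mul_mem' := fun {a b} ha hb => ⟨mul_mem ha.1 hb.1, by
        have hc : Commute a b := congrArg Subtype.val (mul_comm (⟨a, ha.1⟩ : W) ⟨b, hb.1⟩)
        rw [hc.mul_pow, ha.2, hb.2, mul_one]⟩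
      inv_mem' := fun {a} ha => ⟨inv_mem ha.1, by rw [inv_pow, ha.2, inv_one]⟩ }
  haveI hVn : V.Normal := ⟨fun a ha g => ⟨Subgroup.Normal.conj_mem inferInstance a ha.1 g,
    by rw [conj_pow, ha.2]; group⟩⟩
  haveI : IsMulCommutative V := ⟨⟨fun a b => Subtype.ext
    (show (a : G) * b = b * a from congrArg Subtype.val (mul_comm (⟨a, a.2.1⟩ : W) ⟨b, b.2.1⟩))⟩⟩
  have hVb : V ≠ ⊥ := by
    obtain ⟨w, hw⟩ := exists_prime_orderOf_dvd_card' r hrd
    intro h
    have hm : (w : G) ∈ V := ⟨w.2, by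
      rw [← SubmonoidClass.coe_pow, ← hw, pow_orderOf_eq_one]; rfl⟩
    rw [h, Subgroup.mem_bot, ← OneMemClass.coe_one W] at hm
    exact hr.ne_one (by rw [← hw, Subtype.ext hm, orderOf_one])
  have hVH : V ≤ H := fun a ha => hWH ha.1
  have hVr : IsPGroup r V := fun a => ⟨1, Subtype.ext (by rw [pow_one, SubmonoidClass.coe_pow, a.2.2]; rfl)⟩
  obtain ⟨n, hn⟩ := IsPGroup.iff_card.1 hVr
  -- every Sylow subgroup for another prime centralizes `V`
  have hother : ∀ s : ℕ, s.Prime → s ≠ r → ∀ [Fact s.Prime] (S : Sylow s H),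
      (S : Subgroup H).map H.subtype ≤ centralizer (V : Set G) := by
    intro s hs hsr _ S
    obtain ⟨x, hx, hxS⟩ := exists_outside_normalizing hne S
    obtain ⟨k, hk⟩ := IsPGroup.iff_card.1 (S.isPGroup'.map H.subtype)
    by_cases hsp' : s = p
    · subst hsp'
      refine pGroup_le_centralizer_of_normalizes hp hsp hVH ?_ (S.isPGroup'.map _) (map_subtype_le _) hx hxS
      rw [hn]
      exact ((Nat.coprime_primes hr hp).2 hsr.symm).pow_left n
    · refine le_centralizer_of_fpf hp hsp hVH (map_subtype_le _) ?_ ?_ hx hxS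
      · rw [hk]
        exact fun h => hsp' ((Nat.prime_dvd_prime_iff_eq hp hs).1 (hp.dvd_of_dvd_pow h)).symm
      · rw [hn, hk]
        exact ((Nat.coprime_primes hr hs).2 hsr.symm).pow _ _
  obtain ⟨R⟩ : Nonempty (Sylow r H) := inferInstance
  have hVR : V.subgroupOf H ≤ (R : Subgroup H) := by
    have hVH' : IsPGroup r (V.subgroupOf H) := hVr.comap_of_injective H.subtype H.subtype_injective
    exact le_sup_left.trans (R.is_maximal' (IsPGroup.to_sup_of_normal_left hVH' R.isPGroup') le_sup_right).le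
  haveI : Group.IsNilpotent (R : Subgroup H) := R.isPGroup'.isNilpotent
  have hne' := CfsgLib.Core.inf_center_ne_bot_of_isNilpotent ((V.subgroupOf H).subgroupOf (R : Subgroup H))
    (by
      rw [Ne, Subgroup.subgroupOf_eq_bot, disjoint_iff, inf_eq_left.2 hVR, Subgroup.subgroupOf_eq_bot,
        disjoint_iff, inf_eq_left.2 hVH]
      exact hVb)
  obtain ⟨⟨v, hvV, hvc⟩, hv1'⟩ := Subgroup.ne_bot_iff_exists_ne_one.1 hne'
  have hv1 : v ≠ 1 := fun h => hv1' (Subtype.ext h)
  have hvcenter : (v : H) ∈ center H := by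
    have htop : centralizer ({(v : H)} : Set H) = ⊤ := by
      refine Subgroup.eq_top_of_card_eq _ (Nat.dvd_antisymm (card_subgroup_dvd_card _) ?_)
      refine (Nat.dvd_iff_prime_pow_dvd_dvd _ _).2 fun s k hs hsk => ?_
      haveI := Fact.mk hs
      obtain ⟨S, hS⟩ : ∃ S : Sylow s H, (S : Subgroup H) ≤ centralizer ({(v : H)} : Set H) := by
        rcases eq_or_ne s r with rfl | hsr
        · refine ⟨R, fun a ha => mem_centralizer_singleton_iff.2 ?_⟩
          exact congrArg Subtype.val (Subgroup.mem_center_iff.1 hvc ⟨a, ha⟩)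
        · obtain ⟨S⟩ : Nonempty (Sylow s H) := inferInstance
          refine ⟨S, fun a ha => mem_centralizer_singleton_iff.2 (Subtype.ext ?_)⟩
          exact (mem_centralizer_iff.1 (hother s hs hsr S (mem_map_of_mem _ ha)) _ hvV).symm
      refine dvd_trans ?_ (Subgroup.card_dvd_of_le hS)
      rw [S.card_eq_multiplicity]
      exact pow_dvd_pow s ((hs.pow_dvd_iff_le_factorization Nat.card_pos.ne').1 hsk)
    rw [Subgroup.mem_center_iff]
    intro g
    exact mem_centralizer_singleton_iff.1 (htop ▸ mem_top g : g ∈ centralizer ({(v : H)} : Set H))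
  set Z := (center H).map H.subtype with hZ
  haveI : Z.Normal := inferInstance
  have hlt : Nat.card (G ⧸ Z) < Nat.card G := by
    rw [Z.card_eq_card_quotient_mul_card_subgroup]
    refine lt_mul_of_one_lt_right Nat.card_pos (Subgroup.one_lt_card_iff_ne_bot _ |>.2 ?_)
    intro h
    rw [hZ, Subgroup.map_eq_bot_iff_of_injective _ H.subtype_injective] at h
    rw [h, Subgroup.mem_bot] at hvcenter
    exact hv1 (Subtype.ext hvcenter)
  have hZH : Z ≤ H := map_subtype_le _
  haveI hHn : (H.map (QuotientGroup.mk' Z)).Normal :=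
    Subgroup.Normal.map inferInstance _ (QuotientGroup.mk'_surjective Z)
  haveI := ih (G ⧸ Z) (H.map (QuotientGroup.mk' Z)) hHn hlt (fun g hg => by
    obtain ⟨a, rfl⟩ := QuotientGroup.mk'_surjective Z g
    rw [← map_pow, hsp a fun h => hg (mem_map_of_mem _ h), map_one]) fun h => hne (by
    have h1 := congrArg (Subgroup.comap (QuotientGroup.mk' Z)) h
    rwa [Subgroup.comap_map_eq, QuotientGroup.ker_mk', sup_eq_left.2 hZH, comap_top] at h1)
  refine Subgroup.isNilpotent_of_ker_le_center ((QuotientGroup.mk' Z).subgroupMap H) ?_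
  intro a ha
  have h1 : (QuotientGroup.mk' Z) (a : G) = 1 := congrArg Subtype.val (MonoidHom.mem_ker.1 ha)
  rw [QuotientGroup.mk'_apply, QuotientGroup.eq_one_iff, hZ] at h1
  obtain ⟨b, hb, hba⟩ := h1
  rwa [← Subtype.ext hba]

/-- Kegel: a group with a splitting automorphism of prime order is nilpotent. -/
theorem isNilpotent_of_splitting (hp : p.Prime) : ∀ m : ℕ, ∀ (G : Type u) [Group G] [Finite G]
    (H : Subgroup G), H.Normal → Nat.card G = m → (∀ g ∉ H, g ^ p = 1) → H ≠ ⊤ → Group.IsNilpotent H := by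
  intro m
  induction m using Nat.strong_induction_on with
  | _ m ih =>
    intro G _ _ H hHn hm hsp hne
    subst hm
    haveI := hHn
    haveI := Fact.mk hp
    have ih' : ∀ (K : Type u) [Group K] [Finite K] (L : Subgroup K), L.Normal → Nat.card K < Nat.card G →
        (∀ g ∉ L, g ^ p = 1) → L ≠ ⊤ → Group.IsNilpotent L :=
      fun K _ _ L hL hlt hsp hne => ih _ hlt K L hL rfl hsp hne
    obtain ⟨x, hx⟩ : ∃ x, x ∉ H := by
      by_contra h
      push Not at h
      exact hne (eq_top_iff.2 fun x _ => h x)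
    rcases eq_or_ne p 2 with rfl | hp2
    · haveI : IsMulCommutative H :=
        ⟨⟨fun a b => Subtype.ext (commutative_of_two hsp hx a.2 b.2)⟩⟩
      exact CommGroup.isNilpotent (G := H)
    by_cases hpH : p ∣ Nat.card H
    swap
    · exact isNilpotent_coprime hp hsp hne hpH le_rfl
    obtain ⟨P⟩ : Nonempty (Sylow p H) := inferInstance
    set Pg := (P : Subgroup H).map H.subtype with hPg
    have hPb : (P : Subgroup H) ≠ ⊥ := fun h => by
      have h1 := P.dvd_card_of_dvd_card hpH
      rw [h, Subgroup.card_bot] at h1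
      exact hp.not_dvd_one h1
    have hPgb : Pg ≠ ⊥ := fun h => hPb ((Subgroup.map_eq_bot_iff_of_injective _ H.subtype_injective).1 h)
    set W := centerThompsonOf p Pg with hW
    have hWb : W ≠ ⊥ := CfsgLib.Transfer.centerThompsonOf_ne_bot (P.isPGroup'.map _) hPgb
    have hWH : W ≤ H := (CfsgLib.Transfer.centerThompsonOf_le Pg).trans (map_subtype_le _)
    haveI hWc : IsMulCommutative W := ⟨⟨fun a b => Subtype.ext
      ((mem_centralizer_iff.1 b.2.2) a a.2.1)⟩⟩
    by_cases hN : normalizer (W : Set G) = ⊤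
    · haveI : W.Normal := normalizer_eq_top_iff.1 hN
      exact nilpotent_step hp hsp hne ih' hWb hWH
    obtain ⟨y, hy, hyP⟩ := exists_outside_normalizing hne P
    set N := normalizer (W : Set G)
    have hyN : y ∈ N := CfsgLib.Transfer.normalizer_le_normalizer_centerThompson Pg hyP
    have hlt : Nat.card N < Nat.card G := by
      refine lt_of_le_of_ne (Nat.le_of_dvd Nat.card_pos (card_subgroup_dvd_card N)) fun h => hN ?_
      exact Subgroup.eq_top_of_card_eq N h
    haveI := ih' N (H.subgroupOf N) inferInstance hlt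
      (fun g hg => Subtype.ext (by rw [SubmonoidClass.coe_pow]; exact hsp g hg))
      (fun h => hy ((mem_subgroupOf (h := ⟨y, hyN⟩)).1 (h ▸ mem_top (⟨y, hyN⟩ : N))))
    -- the Glauberman-Thompson criterion inside `H`
    have hmap : (centerThompsonOf p (P : Subgroup H)).map H.subtype = W :=
      CfsgLib.Transfer.centerThompsonOf_map H.subtype _ (by rw [H.ker_subtype]; exact disjoint_bot_right)
    let j : normalizer (centerThompsonOf p (P : Subgroup H) : Set H) →* H.subgroupOf N :=
      { toFun := fun a => ⟨⟨((a : H) : G), by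
          have h1 := Subgroup.le_normalizer_map H.subtype (mem_map_of_mem H.subtype a.2)
          rwa [hmap] at h1⟩, (a : H).2⟩
        map_one' := rfl
        map_mul' := fun _ _ => rfl }
    haveI : Group.IsNilpotent (normalizer (centerThompsonOf p (P : Subgroup H) : Set H)) := by
      refine Subgroup.isNilpotent_of_ker_le_center j ?_
      intro a ha
      have h1 : a = 1 := Subtype.ext (Subtype.ext (congrArg (fun t : H.subgroupOf N => ((t : N) : G))
        (MonoidHom.mem_ker.1 ha)))
      rw [h1]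
      exact one_mem _
    obtain ⟨K, hKn, hKc, hKp⟩ := CfsgLib.Transfer.hasNormalPComplement_iff_exists.1
      ((Cfsg.Agent.S0117.result hp2 P).2 (CfsgLib.Core.FPFAut.hasNormalPComplement_of_isNilpotent p))
    haveI := hKn
    rcases eq_or_ne K ⊥ with rfl | hKb
    · have hH : IsPGroup p H := by
        intro g
        obtain ⟨k, hk⟩ := hKp (g : H ⧸ (⊥ : Subgroup H))
        refine ⟨k, ?_⟩
        rwa [← QuotientGroup.mk_pow, QuotientGroup.eq_one_iff, Subgroup.mem_bot] at hk
      exact hH.isNilpotent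
    -- `K` is characteristic
    haveI hKchar : K.Characteristic := by
      refine Subgroup.characteristic_iff_map_le.2 fun φ a ha => ?_
      obtain ⟨b, hb, rfl⟩ := ha
      obtain ⟨k, hk⟩ := hKp (φ b : H ⧸ K)
      have h1 : orderOf ((φ b : H ⧸ K)) ∣ orderOf b :=
        (orderOf_map_dvd (QuotientGroup.mk' K) (φ b)).trans (dvd_of_eq (φ.orderOf_eq b))
      have h2 : orderOf ((φ b : H ⧸ K)) ∣ p ^ k := orderOf_dvd_of_pow_eq_one hk
      have h3 : (orderOf b).Coprime (p ^ k) :=
        ((Nat.Coprime.coprime_dvd_left (Subgroup.orderOf_dvd_natCard K hb) hKc).pow_right k)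
      exact (QuotientGroup.eq_one_iff _).1 (orderOf_eq_one_iff.1 (Nat.eq_one_of_dvd_coprimes h3 h1 h2))
    have hKg : ¬ p ∣ Nat.card (K.map H.subtype) := by
      rw [← Nat.card_congr (Subgroup.equivMapOfInjective K H.subtype H.subtype_injective).toEquiv]
      exact (hp.coprime_iff_not_dvd).1 hKc.symm
    haveI := isNilpotent_coprime hp hsp hne (K := K.map H.subtype) hKg (map_subtype_le _)
    haveI : Nontrivial (K.map H.subtype) := (nontrivial_iff_ne_bot _).2 fun h =>
      hKb ((Subgroup.map_eq_bot_iff_of_injective _ H.subtype_injective).1 h)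
    set C := (center (K.map H.subtype)).map (K.map H.subtype).subtype
    haveI : C.Normal := inferInstance
    haveI : IsMulCommutative C := ⟨⟨fun a b => Subtype.ext (by
      obtain ⟨a', ha', ha''⟩ := a.2
      obtain ⟨b', hb', hb''⟩ := b.2
      show (a : G) * b = b * a
      rw [← ha'', ← hb'']
      exact congrArg Subtype.val (Subgroup.mem_center_iff.1 hb' a'))⟩⟩
    refine nilpotent_step hp hsp hne ih' (W := C) ?_ ((map_subtype_le _).trans (map_subtype_le _))
    intro h
    have h1 := (Subgroup.map_eq_bot_iff_of_injective _ (K.map H.subtype).subtype_injective).1 h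
    exact CfsgLib.Core.inf_center_ne_bot_of_isNilpotent (⊤ : Subgroup (K.map H.subtype)) top_ne_bot
      (by rw [top_inf_eq]; exact h1)

theorem index_eq_prime (hp : p.Prime) [H.Normal] (hsp : ∀ g ∉ H, g ^ p = 1) (hne : H ≠ ⊤)
    (hnp : ¬ IsPGroup p G) (hnil : Group.IsNilpotent H) : H.index = p := by
  haveI := Fact.mk hp
  obtain ⟨q, hq, hqG, hqp⟩ : ∃ q, q.Prime ∧ q ∣ Nat.card G ∧ q ≠ p := by
    by_contra h
    push Not at h
    exact hnp (IsPGroup.of_card (n := (Nat.card G).primeFactorsList.length)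
      (Nat.eq_prime_pow_of_unique_prime_dvd Nat.card_pos.ne' fun {d} hd hdm => h d hd hdm))
  haveI := Fact.mk hq
  obtain ⟨g, hg⟩ := exists_prime_orderOf_dvd_card' q hqG
  have hgH : g ∈ H := by
    by_contra h
    have := orderOf_dvd_of_pow_eq_one (hsp g h)
    rw [hg] at this
    exact hqp ((Nat.prime_dvd_prime_iff_eq hq hp).1 this)
  -- a central element of order `q`
  obtain ⟨R⟩ : Nonempty (Sylow q H) := inferInstance
  have hqH : q ∣ Nat.card H := hg ▸ Subgroup.orderOf_dvd_natCard H hgH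
  have hRb : (R : Subgroup H) ≠ ⊥ := fun h => by
    have h1 := R.dvd_card_of_dvd_card hqH
    rw [h, Subgroup.card_bot] at h1
    exact hq.not_dvd_one h1
  haveI : (R : Subgroup H).Normal := (Group.isNilpotent_of_finite_tfae.out 0 3 rfl rfl).mp hnil q inferInstance R
  have hne' := CfsgLib.Core.inf_center_ne_bot_of_isNilpotent (R : Subgroup H) hRb
  haveI hRchar : (R : Subgroup H).Characteristic := Sylow.characteristic_of_normal R inferInstance
  set V := ((R : Subgroup H) ⊓ center H).map H.subtype with hV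
  haveI : ((R : Subgroup H) ⊓ center H).Characteristic := by
    rw [Subgroup.characteristic_iff_map_le]
    intro φ
    refine (map_inf_le _ _ _).trans (inf_le_inf ?_ ?_)
    · exact Subgroup.characteristic_iff_map_le.1 hRchar φ
    · exact Subgroup.characteristic_iff_map_le.1 inferInstance φ
  haveI : V.Normal := inferInstance
  haveI : IsMulCommutative V := ⟨⟨fun a b => Subtype.ext (by
      obtain ⟨a', ha', ha''⟩ := a.2
      obtain ⟨b', hb', hb''⟩ := b.2
      show (a : G) * b = b * a
      rw [← ha'', ← hb'']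
      exact congrArg Subtype.val (Subgroup.mem_center_iff.1 hb'.2 a'))⟩⟩
  have hVH : V ≤ H := map_subtype_le _
  have hVb : V ≠ ⊥ := fun h => hne' ((Subgroup.map_eq_bot_iff_of_injective _ H.subtype_injective).1 h)
  have hVp : (Nat.card V).Coprime p := by
    obtain ⟨n, hn⟩ := IsPGroup.iff_card.1 ((R.isPGroup'.to_le inf_le_left).map H.subtype : IsPGroup q V)
    rw [hn]
    exact ((Nat.coprime_primes hq hp).2 hqp).pow_left n
  have hHV : ∀ h ∈ H, act V h = 1 := fun h hh => (act_eq_one_iff h).2 (mem_centralizer_iff.2 fun v hv => by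
    obtain ⟨v', hv', rfl⟩ := hv
    exact (congrArg Subtype.val (Subgroup.mem_center_iff.1 hv'.2 ⟨h, hh⟩)).symm)
  -- the quotient has exponent `p`
  have hQexp : ∀ a : G ⧸ H, a ^ p = 1 := by
    intro a
    obtain ⟨a, rfl⟩ := QuotientGroup.mk'_surjective H a
    rw [← map_pow, QuotientGroup.mk'_apply, QuotientGroup.eq_one_iff]
    by_cases h : a ∈ H
    · exact pow_mem h p
    · rw [hsp a h]; exact one_mem H
  have hQp : IsPGroup p (G ⧸ H) := fun a => ⟨1, by rw [pow_one]; exact hQexp a⟩
  haveI : Nontrivial (G ⧸ H) := QuotientGroup.nontrivial_iff.2 hne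
  haveI : Nontrivial (center (G ⧸ H)) := hQp.center_nontrivial
  obtain ⟨⟨zb, hzc⟩, hz1⟩ := exists_ne (1 : center (G ⧸ H))
  by_contra hidx
  obtain ⟨z, rfl⟩ := QuotientGroup.mk'_surjective H zb
  obtain ⟨xb, hxb⟩ : ∃ xb : G ⧸ H, xb ∉ zpowers (QuotientGroup.mk' H z) := by
    by_contra h
    push Not at h
    apply hidx
    have htop : zpowers (QuotientGroup.mk' H z) = ⊤ := eq_top_iff.2 fun a _ => h a
    rw [Subgroup.index_eq_card, ← Nat.card_congr (Subgroup.topEquiv (G := G ⧸ H)).toEquiv, ← htop,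
      Nat.card_zpowers]
    exact orderOf_eq_prime (hQexp _) fun h0 => hz1 (Subtype.ext h0)
  obtain ⟨x, rfl⟩ := QuotientGroup.mk'_surjective H xb
  have hzH : z ∉ H := fun h => hz1 (Subtype.ext ((QuotientGroup.eq_one_iff z).2 h))
  have hout : ∀ j, x * z ^ j ∉ H := fun j h => hxb (by
    have h1 : QuotientGroup.mk' H x * QuotientGroup.mk' H z ^ j = 1 := by
      rw [← map_pow, ← map_mul]
      exact (QuotientGroup.eq_one_iff _).2 h
    rw [eq_inv_of_mul_eq_one_left h1]
    exact inv_mem (npow_mem_zpowers _ j))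
  have hc : Commute (act V x) (act V z) := by
    have h1 := Subgroup.mem_center_iff.1 hzc (QuotientGroup.mk' H x)
    rw [← map_mul, ← map_mul, QuotientGroup.mk'_apply, QuotientGroup.mk'_apply, QuotientGroup.eq] at h1
    have h2 := hHV _ h1
    rw [map_mul, map_inv, inv_mul_eq_one, map_mul, map_mul] at h2
    exact h2
  obtain ⟨k, hk⟩ : ∃ k, p = k + 1 := ⟨p - 1, by have := hp.pos; omega⟩
  refine hVb (Subgroup.eq_bot_iff_forall _ |>.2 fun v hv => ?_)
  have h := pow_mul_prod_eq_one hsp hVH hout hc k hk (⟨v, hv⟩ : V)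
  rw [Finset.prod_eq_one fun i hi => ?_, one_mul] at h
  · have h' : (⟨v, hv⟩ : V) = 1 := (powCoprime hVp).injective (by
      simp only [powCoprime_apply]; rw [h, one_pow])
    exact congrArg Subtype.val h'
  · rw [Finset.mem_range] at hi
    rw [norm_eq_one hsp hVH (fun hzi => hzH ?_), map_one]
    have hcop : (i + 1).Coprime (orderOf z) :=
      Nat.Coprime.coprime_dvd_right (orderOf_dvd_of_pow_eq_one (hsp z hzH))
        ((hp.coprime_iff_not_dvd.2 (Nat.not_dvd_of_pos_of_lt (Nat.succ_pos i) (by omega))).symm)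
    obtain ⟨m, hm⟩ := exists_pow_eq_self_of_coprime hcop
    rw [← hm]
    exact pow_mem hzi m

theorem hughes {G : Type u} [Group G] [Finite G] (p : ℕ) (hp : p.Prime) (hG : ¬ IsPGroup p G)
    (hH : closure {g : G | g ^ p ≠ 1} ≠ ⊤) :
    Group.IsNilpotent (closure {g : G | g ^ p ≠ 1}) ∧ (closure {g : G | g ^ p ≠ 1}).index = p := by
  have hsp : ∀ g ∉ closure {g : G | g ^ p ≠ 1}, g ^ p = 1 := fun g hg => by
    by_contra h
    exact hg (subset_closure h)
  haveI hn : (closure {g : G | g ^ p ≠ 1}).Normal := by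
    rw [← Subgroup.normalizer_eq_top_iff, eq_top_iff]
    intro g _
    refine (Subgroup.mem_normalizer_iff_map_conj_eq).2 ?_
    rw [MonoidHom.map_closure]
    congr 1
    ext a
    constructor
    · rintro ⟨b, hb, rfl⟩
      intro h
      apply hb
      simpa using h
    · intro ha
      refine ⟨g⁻¹ * a * g, fun h => ha ?_, by simp [mul_assoc]⟩
      have e : a = g * (g⁻¹ * a * g) * g⁻¹ := by group
      rw [e, conj_pow, show (g⁻¹ * a * g) ^ p = 1 from h]
      group
  have hnil := isNilpotent_of_splitting hp _ G _ hn rfl hsp hH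
  exact ⟨hnil, index_eq_prime hp hsp hH hG hnil⟩

end CfsgLib.ClassSizes.Hughes
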