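import Mathlib

/-!
Jordan: a primitive group containing a cycle of prime length `p ≤ n - 3` contains the alternating group.
-/

namespace CfsgLib.ClassSizes

open Equiv MulAction

variable {α : Type*} [Fintype α] [DecidableEq α]

theorem isMultiplyPretransitive_of_primeCycle (G : Subgroup (Perm α)) (hG : IsPreprimitive G α)
    {p : ℕ} (hp : p.Prime) (hpn : p + 3 ≤ Fintype.card α) {g : Perm α} (hgc : g.IsCycle)
    (hgp : g.support.card = p) (hg : g ∈ G) :
    IsMultiplyPretransitive G α (Fintype.card α - p) := by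
  set s : Set α := ((g.support : Set α))ᶜ
  have hs : s.ncard = Fintype.card α - p := by
    rw [Set.ncard_compl, Set.ncard_coe_finset, hgp, Nat.card_eq_fintype_card]
  obtain ⟨k, hk⟩ : ∃ k, Fintype.card α - p = k + 1 := ⟨Fintype.card α - p - 1, by omega⟩
  classical
  have hprim : IsPreprimitive (fixingSubgroup G s) (SubMulAction.ofFixingSubgroup G s) := by
    have := Equiv.Perm.isPretransitive_of_isCycle_mem hgc hg
    apply IsPreprimitive.of_prime_card
    convert! hp
    rw [Nat.card_eq_fintype_card, Fintype.card_subtype, ← hgp]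
    apply congr_arg
    ext x
    simp [SubMulAction.mem_ofFixingSubgroup_iff, s]
  have hp2 := hp.two_le
  have := hG.isMultiplyPreprimitive (s := s) (n := k) (hs.trans hk)
    (by rw [Nat.card_eq_fintype_card]; omega) hprim
  have h2 : IsMultiplyPretransitive G α (k + 2) := this.isMultiplyPretransitive
  rw [hk]
  exact MulAction.isMultiplyPretransitive_of_le (n := k + 2) (by omega)
    (by rw [Nat.card_eq_fintype_card]; omega)

/-- Every permutation of the fixed points of a prime cycle is induced by its normalizer. -/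
theorem exists_normalizing_agree (G : Subgroup (Perm α)) {p : ℕ} [Fact p.Prime] {g : Perm α}
    (hgc : g.IsCycle) (hgp : g.support.card = p) (hg : g ∈ G)
    (htr : IsMultiplyPretransitive G α (Fintype.card α - p)) (σ : Perm α)
    (hσ : ∀ x ∈ g.support, σ x = x) :
    ∃ x ∈ G, x * g * x⁻¹ ∈ Subgroup.zpowers g ∧ ∀ a, a ∉ g.support → x a = σ a := by
  classical
  have hp := (Fact.out : p.Prime)
  let F := {a : α // a ∉ g.support}
  have hF : Fintype.card F = Fintype.card α - p := by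
    rw [Fintype.card_subtype_compl, Fintype.card_coe, hgp]
  let e : Fin (Fintype.card α - p) ↪ α := (Fintype.equivFinOfCardEq hF).symm.toEmbedding.trans (Function.Embedding.subtype _)
  obtain ⟨⟨y, hy⟩, hye⟩ := htr.exists_smul_eq e (e.trans σ.toEmbedding)
  have hyσ : ∀ a, a ∉ g.support → y a = σ a := by
    intro a ha
    have h := congrArg (fun f : Fin (Fintype.card α - p) ↪ α => f (Fintype.equivFinOfCardEq hF ⟨a, ha⟩)) hye
    simpa [e] using! h
  have hfixσ : ∀ a, a ∉ g.support → σ a ∉ g.support := fun a ha h => by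
    have := hσ _ h
    exact ha (σ.injective this ▸ h)
  -- the pointwise stabilizer of the fixed points
  let H : Subgroup (Perm α) :=
    { carrier := {z | z ∈ G ∧ ∀ a, a ∉ g.support → z a = a}
      one_mem' := ⟨one_mem _, fun _ _ => rfl⟩
      mul_mem' := fun {u v} hu hv => ⟨mul_mem hu.1 hv.1, fun a ha => by
        rw [Perm.mul_apply, hv.2 a ha, hu.2 a ha]⟩
      inv_mem' := fun {u} hu => ⟨inv_mem hu.1, fun a ha => Perm.inv_eq_iff_eq.2 (hu.2 a ha).symm⟩ }
  have hgH : g ∈ H := ⟨hg, fun a ha => Perm.notMem_support.1 ha⟩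
  have hyg : y * g * y⁻¹ ∈ H := by
    refine ⟨mul_mem (mul_mem hy hg) (inv_mem hy), fun a ha => ?_⟩
    have hback : y⁻¹ a ∉ g.support := by
      -- `σ` permutes the fixed points of `g`
      let τ : F → F := fun b => ⟨σ b.1, hfixσ b.1 b.2⟩
      have hτ : Function.Injective τ := fun b c h => Subtype.ext (σ.injective (congrArg Subtype.val h))
      obtain ⟨b, hb⟩ := Finite.injective_iff_surjective.1 hτ ⟨a, ha⟩
      have : σ b.1 = a := congrArg Subtype.val hb
      rw [← this, ← hyσ b.1 b.2]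
      simpa using b.2
    simp only [Perm.mul_apply, Perm.notMem_support.1 hback]
    simp
  -- zpowers g is a Sylow subgroup of H
  have hgo : orderOf g = p := by rw [hgc.orderOf, hgp]
  have hHdvd : Nat.card H ∣ p.factorial := by
    let S : Set α := (g.support : Set α)
    let f : H →* Perm {a // a ∈ g.support} :=
      { toFun := fun z => (z : Perm α).subtypePerm (fun a => by
          constructor
          · intro h; by_contra h'; exact h' (by rwa [z.2.2 a h'] at h)
          · intro h; by_contra h'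
            exact h' (by have := z.2.2 _ h'; rw [(z : Perm α).injective this]; exact h))
        map_one' := rfl
        map_mul' := fun _ _ => rfl }
    have hf : Function.Injective f := by
      intro u v huv
      apply Subtype.ext
      ext a
      by_cases ha : a ∈ g.support
      · exact congrArg Subtype.val (Perm.ext_iff.1 huv ⟨a, ha⟩)
      · rw [u.2.2 a ha, v.2.2 a ha]
    have := Subgroup.card_dvd_of_injective f hf
    rwa [Nat.card_perm, Nat.card_eq_fintype_card (α := g.support), Fintype.card_coe, hgp] at this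
  have hcardg : Nat.card (Subgroup.zpowers (⟨g, hgH⟩ : H)) = p := by
    rw [Nat.card_zpowers, Subgroup.orderOf_mk, hgo]
  have hsyl : ¬ p ∣ (Subgroup.zpowers (⟨g, hgH⟩ : H)).index := by
    intro h
    have h1 : p * p ∣ Nat.card H := by
      rw [← (Subgroup.zpowers (⟨g, hgH⟩ : H)).card_mul_index, hcardg]
      exact Nat.mul_dvd_mul_left p h
    have h2 := h1.trans hHdvd
    rw [← Nat.mul_factorial_pred hp.ne_zero] at h2
    have h3 := Nat.dvd_of_mul_dvd_mul_left hp.pos h2
    have := (Nat.Prime.dvd_factorial hp).1 h3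
    have := hp.two_le
    omega
  let P : Sylow p H := (IsPGroup.of_card (n := 1) (by rw [hcardg, pow_one]) : IsPGroup p (Subgroup.zpowers (⟨g, hgH⟩ : H))).toSylow hsyl
  have hqo : orderOf (y * g * y⁻¹) = p := by
    rw [← hgo]; exact orderOf_injective (MulAut.conj y).toMonoidHom (MulEquiv.injective _) g
  obtain ⟨R, hR⟩ := (IsPGroup.of_card (n := 1) (by rw [Nat.card_zpowers, pow_one, Subgroup.orderOf_mk, hqo]) : IsPGroup p (Subgroup.zpowers (⟨_, hyg⟩ : H))).exists_le_sylow
  obtain ⟨⟨h, hh⟩, hhR⟩ := MulAction.exists_smul_eq H R P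
  have hmem : (⟨h, hh⟩ : H) * ⟨_, hyg⟩ * (⟨h, hh⟩ : H)⁻¹ ∈ (P : Subgroup H) := by
    rw [← hhR, Sylow.smul_def, Sylow.pointwise_smul_def]
    exact Subgroup.smul_mem_pointwise_smul _ (MulAut.conj (⟨h, hh⟩ : H)) _ (hR (Subgroup.mem_zpowers _))
  refine ⟨h * y, mul_mem hh.1 hy, ?_, fun a ha => ?_⟩
  · obtain ⟨i, hi⟩ : (⟨h, hh⟩ : H) * ⟨_, hyg⟩ * (⟨h, hh⟩ : H)⁻¹ ∈ Subgroup.zpowers (⟨g, hgH⟩ : H) := hmem
    refine ⟨i, ?_⟩
    have := congrArg Subtype.val hi
    simp only [SubgroupClass.coe_zpow, Subgroup.coe_mul, InvMemClass.coe_inv] at this ⊢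
    rw [this]; group
  · rw [Perm.mul_apply, hyσ a ha, hh.2 _ (hfixσ a ha)]

theorem alternatingGroup_le_of_primeCycle (G : Subgroup (Perm α)) (hG : IsPreprimitive G α) {p : ℕ}
    (hp : p.Prime) (hpn : p + 3 ≤ Fintype.card α) {g : Perm α} (hgc : g.IsCycle)
    (hgp : g.support.card = p) (hg : g ∈ G) : alternatingGroup α ≤ G := by
  classical
  have := Fact.mk hp
  by_cases hp3 : p = 3
  · refine Equiv.Perm.alternatingGroup_le_of_isPreprimitive_of_isThreeCycle_mem hG ?_ hg
    rw [← card_support_eq_three_iff, hgp, hp3]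
  have htr := isMultiplyPretransitive_of_primeCycle G hG hp hpn hgc hgp hg
  -- three fixed points
  obtain ⟨a, b, c, ha, hb, hc, hab, hac, hbc⟩ := Finset.two_lt_card_iff.1 (show 2 < (g.supportᶜ).card by
    rw [Finset.card_compl, hgp]; omega)
  rw [Finset.mem_compl] at ha hb hc
  have hσ : ∀ u v : α, u ∉ g.support → v ∉ g.support → ∀ x ∈ g.support, swap u v x = x := fun u v hu hv x hx =>
    swap_apply_of_ne_of_ne (fun h => hu (h ▸ hx)) (fun h => hv (h ▸ hx))
  obtain ⟨x₁, hx₁G, hx₁g, hx₁⟩ := exists_normalizing_agree G hgc hgp hg htr _ (hσ a b ha hb)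
  obtain ⟨x₂, hx₂G, hx₂g, hx₂⟩ := exists_normalizing_agree G hgc hgp hg htr _ (hσ a c ha hc)
  obtain ⟨k₁, hk₁⟩ := hx₁g
  obtain ⟨k₂, hk₂⟩ := hx₂g
  simp only at hk₁ hk₂
  obtain ⟨y, hy⟩ : ∃ y, y = x₁ * x₂ * (x₂ * x₁)⁻¹ := ⟨_, rfl⟩
  have hc1 : ∀ (x : Perm α) (k : ℤ), g ^ k = x * g * x⁻¹ → ∀ i : ℤ, x * g ^ i * x⁻¹ = g ^ (k * i) := by
    intro x k h i
    rw [zpow_mul, h, conj_zpow]
  -- y commutes with g
  have hcomm : Commute y g := by
    have hA : ∀ i : ℤ, (x₁ * x₂) * g ^ i * (x₁ * x₂)⁻¹ = g ^ (k₁ * (k₂ * i)) := fun i => by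
      rw [← hc1 x₁ k₁ hk₁, ← hc1 x₂ k₂ hk₂]; group
    have hB : ∀ i : ℤ, (x₂ * x₁) * g ^ i * (x₂ * x₁)⁻¹ = g ^ (k₂ * (k₁ * i)) := fun i => by
      rw [← hc1 x₂ k₂ hk₂, ← hc1 x₁ k₁ hk₁]; group
    let f : Subgroup.zpowers g → Subgroup.zpowers g := fun z => ⟨(x₂ * x₁) * z * (x₂ * x₁)⁻¹, by
      obtain ⟨i, hi⟩ := z.2
      exact ⟨k₂ * (k₁ * i), (hB i).symm.trans (by rw [show g ^ i = (z : Perm α) from hi])⟩⟩
    have hf : Function.Injective f := fun u v h => Subtype.ext (by
      have h' : (x₂ * x₁) * (u : Perm α) * (x₂ * x₁)⁻¹ = (x₂ * x₁) * v * (x₂ * x₁)⁻¹ :=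
        congrArg (fun w : Subgroup.zpowers g => (w : Perm α)) h
      simpa using h')
    obtain ⟨⟨z, i, hi⟩, hz⟩ := Finite.injective_iff_surjective.1 hf ⟨g, Subgroup.mem_zpowers g⟩
    simp only at hi
    have hz' : (x₂ * x₁) * z * (x₂ * x₁)⁻¹ = g := congrArg (fun w : Subgroup.zpowers g => (w : Perm α)) hz
    have h : y * g * y⁻¹ = g := by
      conv_lhs => rw [← hz']
      rw [hy, show x₁ * x₂ * (x₂ * x₁)⁻¹ * (x₂ * x₁ * z * (x₂ * x₁)⁻¹) * (x₁ * x₂ * (x₂ * x₁)⁻¹)⁻¹
        = (x₁ * x₂) * z * (x₁ * x₂)⁻¹ by group]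
      conv_rhs => rw [← hz']
      rw [← hi, hA, hB, mul_left_comm]
    exact mul_inv_eq_iff_eq_mul.1 h
  -- on the support y is a power of g
  obtain ⟨a₀, ha₀⟩ := Finset.card_pos.1 (hgp ▸ hp.pos : 0 < g.support.card)
  have hya : y a₀ ∈ g.support := by
    rw [Perm.mem_support] at ha₀ ⊢
    rw [← Perm.mul_apply, ← hcomm.eq, Perm.mul_apply]
    exact fun h => ha₀ (y.injective h)
  obtain ⟨i, hi⟩ := hgc.sameCycle (Perm.mem_support.1 ha₀) (Perm.mem_support.1 hya)
  have honsupp : ∀ z ∈ g.support, y z = (g ^ i) z := by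
    intro z hz
    obtain ⟨j, rfl⟩ := hgc.sameCycle (Perm.mem_support.1 ha₀) (Perm.mem_support.1 hz)
    rw [← Perm.mul_apply, (hcomm.zpow_right j).eq, Perm.mul_apply, ← hi, ← Perm.mul_apply, ← zpow_add,
      add_comm, zpow_add, Perm.mul_apply]
  have hgo : orderOf g = p := by rw [hgc.orderOf, hgp]
  have hsupp : ∀ z ∈ g.support, (y ^ p) z = z := by
    have hstep : ∀ t : ℕ, ∀ z ∈ g.support, (y ^ t) z = ((g ^ i) ^ t) z := by
      intro t
      induction t with
      | zero => simp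
      | succ t ih =>
        intro z hz
        have hmem : (g ^ i) z ∈ g.support := Perm.zpow_apply_mem_support.2 hz
        rw [pow_succ, pow_succ, Perm.mul_apply, Perm.mul_apply, honsupp z hz, ih _ hmem]
    intro z hz
    rw [hstep p z hz, ← zpow_natCast, ← zpow_mul, mul_comm, zpow_mul, zpow_natCast, ← hgo,
      pow_orderOf_eq_one, one_zpow, Perm.one_apply]
  -- on the fixed points y agrees with a three-cycle
  set ρ := swap a b * swap a c with hρ
  have hρ3 : Perm.IsThreeCycle ρ := Perm.isThreeCycle_swap_mul_swap_same hab hac hbc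
  have hρsupp : ∀ z ∈ g.support, ρ z = z := fun z hz => by
    rw [hρ, Perm.mul_apply, hσ a c ha hc z hz, hσ a b ha hb z hz]
  have hoff : ∀ z, z ∉ g.support → y z = (ρ * ρ) z ∧ y z ∉ g.support := by
    intro z hz
    have st : ∀ (u v : α), u ∉ g.support → v ∉ g.support → ∀ w, w ∉ g.support → swap u v w ∉ g.support := by
      intro u v hu hv w hw
      rw [swap_apply_def]; split_ifs <;> assumption
    have inv : ∀ (x : Perm α) (u v : α), u ∉ g.support → v ∉ g.support → (∀ w, w ∉ g.support → x w = swap u v w) →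
        ∀ w, w ∉ g.support → x⁻¹ w = swap u v w := by
      intro x u v hu hv hx w hw
      rw [Perm.inv_eq_iff_eq, hx _ (st u v hu hv w hw), swap_apply_self]
    have hyz : y z = swap a b (swap a c (swap a b (swap a c z))) := by
      rw [hy, mul_inv_rev]
      simp only [Perm.mul_apply]
      rw [inv x₂ a c ha hc hx₂ z hz, inv x₁ a b ha hb hx₁ _ (st a c ha hc z hz),
        hx₂ _ (st a b ha hb _ (st a c ha hc z hz)), hx₁ _ (st a c ha hc _ (st a b ha hb _ (st a c ha hc z hz)))]
    refine ⟨by rw [hyz, hρ]; simp [Perm.mul_apply], ?_⟩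
    rw [hyz]
    exact st a b ha hb _ (st a c ha hc _ (st a b ha hb _ (st a c ha hc z hz)))
  have hpow : y ^ p = (ρ * ρ) ^ p := by
    have hstep : ∀ t : ℕ, ∀ z, z ∉ g.support → (y ^ t) z = ((ρ * ρ) ^ t) z := by
      intro t
      induction t with
      | zero => simp
      | succ t ih =>
        intro z hz
        rw [pow_succ, pow_succ, Perm.mul_apply, Perm.mul_apply, (hoff z hz).1, ih _ ((hoff z hz).1 ▸ (hoff z hz).2)]
    ext z
    by_cases hz : z ∈ g.support
    · rw [hsupp z hz, Perm.pow_apply_eq_self_of_apply_eq_self (by rw [Perm.mul_apply, hρsupp z hz, hρsupp z hz])]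
    · exact hstep p z hz
  have hmemG : (ρ * ρ) ^ p ∈ G := by
    rw [← hpow, hy]
    exact pow_mem (mul_mem (mul_mem hx₁G hx₂G) (inv_mem (mul_mem hx₂G hx₁G))) p
  refine Equiv.Perm.alternatingGroup_le_of_isPreprimitive_of_isThreeCycle_mem hG ?_ hmemG
  have h3 : Perm.IsThreeCycle (ρ * ρ) := Perm.IsThreeCycle.isThreeCycle_sq hρ3
  have hmod : p % 3 = 1 ∨ p % 3 = 2 := by
    have : p % 3 ≠ 0 := fun h => hp3 ((Nat.prime_dvd_prime_iff_eq Nat.prime_three hp).1 (Nat.dvd_of_mod_eq_zero h)).symm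
    omega
  rcases hmod with h | h
  · rw [pow_eq_pow_mod p (show (ρ * ρ) ^ 3 = 1 by rw [← h3.orderOf, pow_orderOf_eq_one]), h, pow_one]; exact h3
  · rw [pow_eq_pow_mod p (show (ρ * ρ) ^ 3 = 1 by rw [← h3.orderOf, pow_orderOf_eq_one]), h, pow_two]
    exact Perm.IsThreeCycle.isThreeCycle_sq h3

end CfsgLib.ClassSizes
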