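import Mathlib

/-!
# Krull–Schmidt for finite groups

Normal endomorphisms of finite directly indecomposable groups, and the exchange step.
-/

set_option autoImplicit false

namespace CfsgLib.ClassSizes.KrullSchmidt

/-- Directly indecomposable. -/
def Indec (A : Type*) [Group A] : Prop :=
  ∀ H K : Subgroup A, H.Normal → K.Normal → H ⊓ K = ⊥ → H ⊔ K = ⊤ → H = ⊥ ∨ K = ⊥

variable {A : Type*} [Group A]

/-- An endomorphism commuting with inner automorphisms. -/
def IsNormalEnd (f : A →* A) : Prop := ∀ x a : A, f (x * a * x⁻¹) = x * f a * x⁻¹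

theorem IsNormalEnd.iterate {f : A →* A} (hf : IsNormalEnd f) (k : ℕ) (x a : A) :
    f^[k] (x * a * x⁻¹) = x * f^[k] a * x⁻¹ := by
  induction k generalizing a with
  | zero => rfl
  | succ k ih => rw [Function.iterate_succ_apply, hf, ih, Function.iterate_succ_apply]

theorem exists_idempotent_iterate [Finite A] (f : A → A) : ∃ k, 0 < k ∧ f^[k + k] = f^[k] := by
  obtain ⟨i, j, hne, he⟩ := Finite.exists_ne_map_eq_of_infinite (fun n : ℕ => f^[n])
  wlog hij : i < j generalizing i j
  · exact this j i hne.symm he.symm (by omega)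
  obtain ⟨d, rfl⟩ := Nat.exists_eq_add_of_lt hij
  have h1 : ∀ c m, i ≤ m → f^[m + c * (d + 1)] = f^[m] := by
    intro c
    induction c with
    | zero => intro m _; simp
    | succ c ih =>
      intro m hm
      obtain ⟨t, rfl⟩ := Nat.exists_eq_add_of_le hm
      have h2 : f^[i + t + (d + 1)] = f^[i + t] := by
        rw [show i + t + (d + 1) = t + (i + d + 1) by omega, Function.iterate_add, ← he,
          ← Function.iterate_add, add_comm]
      rw [add_one_mul, ← add_assoc, ← ih (i + t) hm]
      rw [show i + t + c * (d + 1) + (d + 1) = c * (d + 1) + (i + t + (d + 1)) by omega,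
        Function.iterate_add, h2, ← Function.iterate_add, add_comm]
  refine ⟨(i + 1) * (d + 1), by positivity, h1 _ _ ?_⟩
  calc i ≤ (i + 1) * 1 := by omega
    _ ≤ (i + 1) * (d + 1) := Nat.mul_le_mul_left _ (by omega)

/-- Fitting's lemma for finite indecomposable groups. -/
theorem bijective_or_nilpotent [Finite A] (hA : Indec A) {f : A →* A} (hf : IsNormalEnd f) :
    Function.Bijective f ∨ ∃ k, ∀ a, f^[k] a = 1 := by
  obtain ⟨k, hk, hid⟩ := exists_idempotent_iterate (f : A → A)
  let ψ : A →* A :=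
    { toFun := f^[k], map_one' := iterate_map_one f k, map_mul' := iterate_map_mul f k }
  have hψ : ∀ a, ψ (ψ a) = ψ a := fun a => by
    show f^[k] (f^[k] a) = f^[k] a
    rw [← Function.iterate_add_apply, hid]
  have hn : ψ.range.Normal := ⟨by
    rintro _ ⟨a, rfl⟩ x
    exact ⟨x * a * x⁻¹, hf.iterate k x a⟩⟩
  have hinf : ψ.ker ⊓ ψ.range = ⊥ := by
    rw [eq_bot_iff]
    rintro _ ⟨hk', a, rfl⟩
    have hk2 : ψ (ψ a) = 1 := hk'
    rwa [hψ] at hk2
  have hsup : ψ.ker ⊔ ψ.range = ⊤ := by
    refine eq_top_iff.2 fun a _ => ?_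
    have h1 : a * (ψ a)⁻¹ ∈ ψ.ker := by
      rw [MonoidHom.mem_ker, map_mul, map_inv, hψ, mul_inv_cancel]
    simpa using Subgroup.mul_mem_sup h1 (show ψ a ∈ ψ.range from ⟨a, rfl⟩)
  rcases hA _ _ inferInstance hn hinf hsup with h | h
  · left
    have hinj : Function.Injective f^[k] := (MonoidHom.ker_eq_bot_iff ψ).1 h
    have : Function.Injective f := fun a b hab => hinj (by
      rw [show k = k - 1 + 1 by omega, Function.iterate_succ_apply, Function.iterate_succ_apply, hab])
    exact ⟨this, Finite.surjective_of_injective this⟩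
  · right
    exact ⟨k, fun a => (Subgroup.mem_bot.1 (h ▸ (⟨a, rfl⟩ : ψ a ∈ ψ.range)) : ψ a = 1)⟩

/-- If a sum of two normal endomorphisms is bijective then one of them is. -/
theorem bijective_of_mul [Finite A] (hA : Indec A) {f g s : A →* A} (hf : IsNormalEnd f)
    (hs : IsNormalEnd s) (he : ∀ a, f a * g a = s a) (hb : Function.Bijective s) :
    Function.Bijective f ∨ Function.Bijective g := by
  by_cases hg : Function.Injective g
  · exact Or.inr ⟨hg, Finite.surjective_of_injective hg⟩
  left
  let se : A ≃* A := MulEquiv.ofBijective s hb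
  let f' : A →* A := se.symm.toMonoidHom.comp f
  have hf' : IsNormalEnd f' := fun x a => by
    apply se.injective
    show s (f' (x * a * x⁻¹)) = s (x * f' a * x⁻¹)
    rw [hs]
    show se (se.symm (f (x * a * x⁻¹))) = x * se (se.symm (f a)) * x⁻¹
    rw [se.apply_symm_apply, se.apply_symm_apply, hf]
  obtain ⟨a, ha, ha1⟩ : ∃ a, g a = 1 ∧ a ≠ 1 := by
    rw [injective_iff_map_eq_one] at hg
    push Not at hg
    exact hg
  have hfix : f' a = a := by
    apply se.injective
    show se (se.symm (f a)) = s a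
    rw [se.apply_symm_apply, ← he, ha, mul_one]
  rcases bijective_or_nilpotent hA hf' with h | ⟨k, hk⟩
  · have : (f : A → A) = se ∘ f' := funext fun x => (se.apply_symm_apply (f x)).symm
    rw [this]
    exact se.bijective.comp h
  · exact absurd ((Function.iterate_fixed hfix k).symm.trans (hk a)) ha1

variable {m n : ℕ} {F : Fin m → Type*} {B : Fin n → Type*} [∀ i, Group (F i)] [∀ j, Group (B j)]

/-- Keep the coordinates in `s`. -/
def trunc (s : Finset (Fin n)) : ((j : Fin n) → B j) →* ((j : Fin n) → B j) where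
  toFun x j := if j ∈ s then x j else 1
  map_one' := funext fun j => by simp
  map_mul' x y := funext fun j => by
    simp only [Pi.mul_apply]
    split_ifs <;> simp

theorem trunc_apply (s : Finset (Fin n)) (x : (j : Fin n) → B j) (j : Fin n) :
    trunc s x j = if j ∈ s then x j else 1 := rfl

/-- The exchange step. -/
theorem exists_exchange [∀ i, Finite (F i)] [∀ j, Finite (B j)] (i : Fin m)
    (hF : Nontrivial (F i) ∧ Indec (F i)) (hB : ∀ j, Indec (B j))
    (e : ((i : Fin m) → F i) ≃* ((j : Fin n) → B j)) :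
    ∃ j, Function.Bijective fun a => e (Pi.mulSingle i a) j := by
  classical
  haveI := hF.1
  let Ψ : Finset (Fin n) → F i →* F i := fun s =>
    ((Pi.evalMonoidHom F i).comp e.symm.toMonoidHom).comp
      ((trunc s).comp (e.toMonoidHom.comp (MonoidHom.mulSingle F i)))
  have hconj : ∀ (x a : F i), (Pi.mulSingle i (x * a * x⁻¹) : (k : Fin m) → F k) =
      Pi.mulSingle i x * Pi.mulSingle i a * (Pi.mulSingle i x)⁻¹ := fun x a => by
    rw [← Pi.mulSingle_inv, ← Pi.mulSingle_mul, ← Pi.mulSingle_mul]
  have htr : ∀ (s : Finset (Fin n)) (g y : (j : Fin n) → B j), trunc s (g * y * g⁻¹) = g * trunc s y * g⁻¹ := by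
    intro s g y
    funext j
    simp only [trunc_apply, Pi.mul_apply, Pi.inv_apply]
    split_ifs <;> simp
  have hΨ : ∀ s, IsNormalEnd (Ψ s) := fun s x a => by
    show e.symm (trunc s (e (Pi.mulSingle i (x * a * x⁻¹)))) i = x * e.symm (trunc s (e (Pi.mulSingle i a))) i * x⁻¹
    rw [hconj, map_mul e, map_mul e, map_inv e, htr, map_mul, map_mul, map_inv, e.symm_apply_apply]
    simp
  have hone : ∀ a, Ψ Finset.univ a = a := fun a => by
    show e.symm (trunc Finset.univ (e (Pi.mulSingle i a))) i = a
    rw [show trunc Finset.univ (e (Pi.mulSingle i a)) = e (Pi.mulSingle i a) from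
      funext fun j => by simp [trunc_apply], e.symm_apply_apply, Pi.mulSingle_eq_same]
  have hex : ∀ s, Function.Bijective (Ψ s) → ∃ j, Function.Bijective (Ψ {j}) := by
    intro s
    induction s using Finset.induction_on with
    | empty =>
      intro h
      obtain ⟨a, ha⟩ := exists_ne (1 : F i)
      refine absurd (h.1 (?_ : Ψ ∅ a = Ψ ∅ 1)) ha
      rw [map_one]
      show e.symm (trunc ∅ (e (Pi.mulSingle i a))) i = 1
      rw [show trunc ∅ (e (Pi.mulSingle i a)) = 1 from funext fun j => by simp [trunc_apply], map_one]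
      rfl
    | insert j s hj ih =>
      intro h
      have hadd : ∀ a, Ψ {j} a * Ψ s a = Ψ (insert j s) a := fun a => by
        show e.symm (trunc {j} (e (Pi.mulSingle i a))) i * e.symm (trunc s (e (Pi.mulSingle i a))) i =
          e.symm (trunc (insert j s) (e (Pi.mulSingle i a))) i
        rw [← Pi.mul_apply, ← map_mul]
        refine congrFun (congrArg e.symm (funext fun k => ?_)) i
        simp only [Pi.mul_apply, trunc_apply, Finset.mem_singleton, Finset.mem_insert]
        by_cases hk : k = j
        · subst hk; simp [hj]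
        · simp [hk]
      exact (bijective_of_mul hF.2 (hΨ {j}) (hΨ _) hadd h).elim (fun h' => ⟨j, h'⟩) ih
  obtain ⟨j, hj⟩ := hex Finset.univ ⟨fun a b h => by rwa [hone, hone] at h, fun a => ⟨a, hone a⟩⟩
  refine ⟨j, ?_⟩
  let f : F i →* B j := (Pi.evalMonoidHom B j).comp (e.toMonoidHom.comp (MonoidHom.mulSingle F i))
  let h : B j →* F i := (Pi.evalMonoidHom F i).comp (e.symm.toMonoidHom.comp (MonoidHom.mulSingle B j))
  have hfac : ∀ a, h (f a) = Ψ {j} a := fun a => by
    show e.symm (Pi.mulSingle j (e (Pi.mulSingle i a) j)) i = e.symm (trunc {j} (e (Pi.mulSingle i a))) i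
    refine congrFun (congrArg e.symm (funext fun k => ?_)) i
    by_cases hk : k = j
    · subst hk; simp [trunc_apply]
    · simp [trunc_apply, hk]
  have hinj : Function.Injective f := fun a b hab => hj.1 (by rw [← hfac, ← hfac, hab])
  have hn : f.range.Normal := ⟨by
    rintro _ ⟨a, rfl⟩ b
    refine ⟨e.symm (Pi.mulSingle j b) i * a * (e.symm (Pi.mulSingle j b) i)⁻¹, ?_⟩
    have hz : (Pi.mulSingle i (e.symm (Pi.mulSingle j b) i * a * (e.symm (Pi.mulSingle j b) i)⁻¹) :
        (k : Fin m) → F k) = e.symm (Pi.mulSingle j b) * Pi.mulSingle i a * (e.symm (Pi.mulSingle j b))⁻¹ := by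
      funext k
      by_cases hk : k = i
      · subst hk; simp
      · simp [hk]
    show e (Pi.mulSingle i _) j = b * e (Pi.mulSingle i a) j * b⁻¹
    rw [hz, map_mul, map_mul, map_inv, e.apply_symm_apply]
    simp⟩
  have hinf : f.range ⊓ h.ker = ⊥ := by
    rw [eq_bot_iff]
    rintro _ ⟨⟨a, rfl⟩, ha⟩
    have ha2 : h (f a) = 1 := ha
    rw [hfac] at ha2
    rw [(injective_iff_map_eq_one _).1 hj.1 a ha2, map_one]
    exact one_mem _
  have hsup : f.range ⊔ h.ker = ⊤ := by
    refine eq_top_iff.2 fun b _ => ?_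
    obtain ⟨a, ha⟩ := hj.2 (h b)
    have h1 : (f a)⁻¹ * b ∈ h.ker := by rw [MonoidHom.mem_ker, map_mul, map_inv, hfac, ha, inv_mul_cancel]
    simpa using Subgroup.mul_mem_sup (show f a ∈ f.range from ⟨a, rfl⟩) h1
  rcases hB j _ _ hn inferInstance hinf hsup with h' | h'
  · obtain ⟨a, ha⟩ := exists_ne (1 : F i)
    have : f a = 1 := Subgroup.mem_bot.1 (h' ▸ (⟨a, rfl⟩ : f a ∈ f.range))
    exact absurd (hinj (this.trans (map_one f).symm)) ha
  · refine ⟨hinj, fun b => ?_⟩
    obtain ⟨a, ha⟩ := hj.2 (h b)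
    exact ⟨a, (MonoidHom.ker_eq_bot_iff h).1 h' ((hfac a).trans ha)⟩

/-- Uniqueness of the decomposition. -/
theorem krull_schmidt.{w, z} : ∀ {m n : ℕ} {F : Fin m → Type w} {B : Fin n → Type z} [∀ i, Group (F i)]
    [∀ j, Group (B j)] [∀ i, Finite (F i)] [∀ j, Finite (B j)],
    (∀ i, Nontrivial (F i) ∧ Indec (F i)) → (∀ j, Nontrivial (B j) ∧ Indec (B j)) →
    ((i : Fin m) → F i) ≃* ((j : Fin n) → B j) → ∃ σ : Fin m ≃ Fin n, ∀ i, Nonempty (F i ≃* B (σ i)) := by
  intro m
  induction m with
  | zero =>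
    intro n F B _ _ _ _ _ hB e
    cases n with
    | zero => exact ⟨Equiv.refl _, fun i => i.elim0⟩
    | succ n =>
      haveI := (hB 0).1
      obtain ⟨b, hb⟩ := exists_ne (1 : B 0)
      have h1 : e.symm (Pi.mulSingle 0 b) = 1 := Subsingleton.elim _ _
      rw [MulEquiv.symm_apply_eq, map_one] at h1
      exact absurd (Pi.mulSingle_eq_one_iff.1 h1) hb
  | succ m ih =>
    intro n F B _ _ _ _ hF hB e
    obtain ⟨j, hj⟩ := exists_exchange 0 (hF 0) (fun j => (hB j).2) e
    obtain ⟨n, rfl⟩ : ∃ n', n = n' + 1 := Nat.exists_eq_succ_of_ne_zero (fun h => (h ▸ j).elim0)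
    classical
    let f : F 0 ≃* B j := MulEquiv.ofBijective
      ((Pi.evalMonoidHom B j).comp (e.toMonoidHom.comp (MonoidHom.mulSingle F 0))) hj
    let ins : ((k : Fin n) → B (j.succAbove k)) →* ((k : Fin (n + 1)) → B k) :=
      { toFun := fun x => j.insertNth 1 x
        map_one' := funext fun k => by
          rcases Fin.eq_self_or_eq_succAbove j k with rfl | ⟨k, rfl⟩ <;> simp
        map_mul' := fun x y => funext fun k => by
          rcases Fin.eq_self_or_eq_succAbove j k with rfl | ⟨k, rfl⟩ <;> simp }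
    let g : ((k : Fin n) → B (j.succAbove k)) →* ((i : Fin m) → F i.succ) :=
      { toFun := fun x i => e.symm (ins x) i.succ
        map_one' := funext fun i => by simp
        map_mul' := fun x y => funext fun i => by simp }
    have hg : Function.Injective g := by
      refine (injective_iff_map_eq_one g).2 fun x hx => ?_
      have h1 : Pi.mulSingle 0 (e.symm (ins x) 0) = e.symm (ins x) := by
        funext i
        rcases Fin.eq_zero_or_eq_succ i with rfl | ⟨i, rfl⟩
        · simp
        · rw [Pi.mulSingle_eq_of_ne (Fin.succ_ne_zero i)]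
          exact (congrFun hx i).symm
      have h2 : e (Pi.mulSingle 0 (e.symm (ins x) 0)) j = 1 := by
        rw [h1, e.apply_symm_apply]
        exact Fin.insertNth_apply_same j 1 x
      have h3 : e.symm (ins x) 0 = 1 := f.injective (h2.trans (map_one f).symm)
      rw [h3, Pi.mulSingle_one, eq_comm, MulEquiv.symm_apply_eq, map_one] at h1
      funext k
      simpa [ins] using congrFun h1 (j.succAbove k)
    have hc : Nat.card ((k : Fin n) → B (j.succAbove k)) = Nat.card ((i : Fin m) → F i.succ) := by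
      have h1 := Nat.card_congr e.toEquiv
      rw [Nat.card_pi, Nat.card_pi, Fin.prod_univ_succ, Fin.prod_univ_succAbove _ j,
        Nat.card_congr f.toEquiv] at h1
      rw [Nat.card_pi, Nat.card_pi]
      exact (Nat.eq_of_mul_eq_mul_left Nat.card_pos h1).symm
    have hgb : Function.Bijective g := (Nat.bijective_iff_injective_and_card g).2 ⟨hg, hc⟩
    obtain ⟨σ, hσ⟩ := ih (fun i => hF i.succ) (fun k => hB (j.succAbove k)) (MulEquiv.ofBijective g hgb).symm
    refine ⟨(finSuccEquiv m).trans ((Equiv.optionCongr σ).trans (finSuccEquiv' j).symm), fun i => ?_⟩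
    rcases Fin.eq_zero_or_eq_succ i with rfl | ⟨i, rfl⟩
    · have : ((finSuccEquiv m).trans ((Equiv.optionCongr σ).trans (finSuccEquiv' j).symm)) 0 = j := by simp
      rw [this]
      exact ⟨f⟩
    · have : ((finSuccEquiv m).trans ((Equiv.optionCongr σ).trans (finSuccEquiv' j).symm)) i.succ =
          j.succAbove (σ i) := by simp
      rw [this]
      exact hσ i

end CfsgLib.ClassSizes.KrullSchmidt
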