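import Cfsg.Agent.Lib.ClassSizes.Kulakoff
import Cfsg.Agent.Lib.Transfer.RankTwo
import Cfsg.Agent.Lib.Transfer.NormalAbelian
import Cfsg.Agent.Lib.Transfer.MaximalClass
import Cfsg.Agent.Lib.TwoGroups.CyclicNormalAbelian

/-!
# Cyclic normal subgroups of a fixed order in a `p`-group

In a `p`-group which is neither cyclic nor, for `p = 2`, of maximal class, the number of cyclic normal subgroups of
order `p ^ b` with `2 ≤ b` is divisible by `p`.
-/

set_option autoImplicit false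

namespace CfsgLib.ClassSizes.Kulakoff

universe u

open Subgroup

theorem swap_pow {H : Type*} [Group H] {a b c : H} (hc : c ∈ center H) (hba : b * a = a * b * c) (n : ℕ) :
    b ^ n * a = a * b ^ n * c ^ n := by
  have hc' : ∀ g, g * c = c * g := mem_center_iff.1 hc
  induction n with
  | zero => simp
  | succ n ih =>
    have hcn : c ^ n * b = b * c ^ n := by
      have : Commute b c := hc' b
      exact (this.pow_right n).eq.symm
    calc b ^ (n + 1) * a = b ^ n * (b * a) := by rw [pow_succ, mul_assoc]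
      _ = (b ^ n * a) * b * c := by rw [hba]; group
      _ = a * b ^ n * (c ^ n * b) * c := by rw [ih]; group
      _ = a * b ^ (n + 1) * c ^ (n + 1) := by rw [hcn, pow_succ, pow_succ]; group

theorem swap_pow_pow {H : Type*} [Group H] {a b c : H} (hc : c ∈ center H) (hba : b * a = a * b * c) (i k : ℕ) :
    b ^ k * a ^ i = a ^ i * b ^ k * c ^ (i * k) := by
  induction i with
  | zero => simp
  | succ i ih =>
    have h1 := swap_pow hc hba k
    have h2 : c ^ (i * k) * a = a * c ^ (i * k) := by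
      have : Commute a c := mem_center_iff.1 hc a
      exact (this.pow_right _).eq.symm
    calc b ^ k * a ^ (i + 1) = b ^ k * a ^ i * a := by rw [pow_succ, mul_assoc]
      _ = a ^ i * b ^ k * (c ^ (i * k) * a) := by rw [ih]; group
      _ = a ^ i * (b ^ k * a) * c ^ (i * k) := by rw [h2]; group
      _ = a ^ i * (a * b ^ k * c ^ k) * c ^ (i * k) := by rw [h1]
      _ = a ^ (i + 1) * b ^ k * (c ^ k * c ^ (i * k)) := by rw [pow_succ]; group
      _ = _ := by rw [← pow_add]; congr 2; ring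

theorem mul_pow_central {H : Type*} [Group H] {a b c : H} (hc : c ∈ center H) (hba : b * a = a * b * c) (n : ℕ) :
    (a * b) ^ n = a ^ n * b ^ n * c ^ n.choose 2 := by
  induction n with
  | zero => simp
  | succ n ih =>
    have hC : ∀ j : ℕ, ∀ g : H, g * c ^ j = c ^ j * g := fun j => mem_center_iff.1 (pow_mem hc j)
    calc (a * b) ^ (n + 1) = a ^ n * b ^ n * (c ^ n.choose 2 * (a * b)) := by rw [pow_succ, ih, mul_assoc]
      _ = a ^ n * (b ^ n * a) * b * c ^ n.choose 2 := by rw [← hC]; group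
      _ = a ^ n * a * b ^ n * (c ^ n * b) * c ^ n.choose 2 := by rw [swap_pow hc hba]; group
      _ = a ^ (n + 1) * b ^ (n + 1) * (c ^ n * c ^ n.choose 2) := by rw [← hC, pow_succ, pow_succ]; group
      _ = _ := by rw [← pow_add, Nat.choose_succ_succ' n 1, Nat.choose_one_right]

variable {P : Type u} [Group P] [Finite P] {p b : ℕ} [hp : Fact p.Prime]

/-- The cyclic normal subgroups of order `p ^ b`. -/
def IsCN (p b : ℕ) (C : Subgroup P) : Prop := C.Normal ∧ IsCyclic C ∧ Nat.card C = p ^ b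

theorem mem_zpowers_of_pow_eq_one {x u : P} (hb : 1 ≤ b) (hx : orderOf x = p ^ b) (hu : u ∈ zpowers x)
    (h1 : u ^ p = 1) : u ∈ zpowers (x ^ p ^ (b - 1)) := by
  obtain ⟨i, rfl⟩ := (mem_powers_iff_mem_zpowers).2 hu
  simp only at h1 ⊢
  rw [← pow_mul, ← orderOf_dvd_iff_pow_eq_one, hx, show p ^ b = p ^ (b - 1) * p by
    rw [← pow_succ, Nat.sub_add_cancel hb]] at h1
  obtain ⟨t, ht⟩ := Nat.dvd_of_mul_dvd_mul_right hp.out.pos h1
  rw [ht, pow_mul]
  exact pow_mem (mem_zpowers _) _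

/-- The cyclic normal subgroups of order `p ^ b` inside `⟨x, f⟩`. -/
theorem fibre (hP : IsPGroup p P) (hb : 2 ≤ b) {x f c : P} (hx : orderOf x = p ^ b)
    (hxn : (zpowers x).Normal) (hf : f ^ p = 1) (hfx : f ∉ zpowers x) (hc : c ∈ center P) (hcp : c ^ p = 1)
    (hcx : c ∈ zpowers x) (hfxc : f * x = x * f * c) (hexp : c = 1 ∨ p ∣ (p ^ (b - 1)).choose 2)
    (hfn : ∀ g : P, ∃ d ∈ zpowers x, d ∈ center P ∧ d ^ p = 1 ∧ g * f * g⁻¹ = f * d) :
    Nat.card {D : Subgroup P // IsCN p b D ∧ D ≤ zpowers x ⊔ zpowers f} = p ∧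
      ∀ D : Subgroup P, IsCN p b D → D ≤ zpowers x ⊔ zpowers f →
        x ^ p ^ (b - 1) ∈ D ∧ zpowers x ≤ D ⊔ zpowers f := by
  set w := x ^ p ^ (b - 1) with hw
  set N := p ^ (b - 1) with hN
  have hNp : N * p = p ^ b := by rw [hN, ← pow_succ, Nat.sub_add_cancel (by omega : 1 ≤ b)]
  have hwne : w ≠ 1 := fun h => by
    rw [hw, ← orderOf_dvd_iff_pow_eq_one, hx, Nat.pow_dvd_pow_iff_le_right hp.out.one_lt] at h
    omega
  have hwp : w ^ p = 1 := by rw [hw, ← pow_mul, hNp, ← hx, pow_orderOf_eq_one]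
  have hfN : ∀ k : ℕ, f ^ (k * N) = 1 := fun k => by
    obtain ⟨t, ht⟩ : p ∣ N := dvd_pow_self p (by omega)
    rw [ht, show k * (p * t) = p * (k * t) by ring, pow_mul, hf, one_pow]
  have hswap : ∀ i k : ℕ, f ^ k * x ^ i = x ^ i * f ^ k * c ^ (i * k) := swap_pow_pow hc hfxc
  have hpowN : ∀ i k : ℕ, (x ^ i * f ^ k) ^ N = w ^ i := fun i k => by
    rw [mul_pow_central (pow_mem hc _) (hswap i k), ← pow_mul, ← pow_mul f, hfN k, mul_one, ← pow_mul c]
    have : c ^ (i * k * N.choose 2) = 1 := by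
      rcases hexp with h | ⟨t, ht⟩
      · rw [h, one_pow]
      · rw [ht, show i * k * (p * t) = p * (i * k * t) by ring, pow_mul, hcp, one_pow]
    rw [this, mul_one, hw, ← pow_mul, mul_comm i]
  have hord : ∀ i k : ℕ, ¬ p ∣ i → orderOf (x ^ i * f ^ k) = p ^ b := fun i k hi => by
    have h1 : ¬ (x ^ i * f ^ k) ^ p ^ (b - 1) = 1 := by
      rw [← hN, hpowN, ← orderOf_dvd_iff_pow_eq_one, orderOf_eq_prime hwp hwne]
      exact hi
    have h2 : (x ^ i * f ^ k) ^ p ^ (b - 1 + 1) = 1 := by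
      rw [pow_succ, pow_mul, ← hN, hpowN, ← pow_mul, mul_comm, pow_mul, hwp, one_pow]
    have := orderOf_eq_prime_pow h1 h2
    rwa [Nat.sub_add_cancel (by omega : 1 ≤ b)] at this
  have hcpow : ∀ a r : ℕ, ((c ^ a) ^ r) ^ p = 1 := fun a r => by
    rw [← pow_mul, ← pow_mul, show a * (r * p) = p * (a * r) by ring, pow_mul, hcp, one_pow]
  have hwy : ∀ j : ℕ, w ∈ zpowers (x * f ^ j) := fun j => by
    have := hpowN 1 j
    rw [pow_one, pow_one] at this
    rw [← this]
    exact pow_mem (mem_zpowers _) _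
  have hsmall : ∀ u ∈ zpowers x, u ^ p = 1 → ∀ j : ℕ, u ∈ zpowers (x * f ^ j) := fun u hu hu1 j =>
    zpowers_le.2 (hwy j) (mem_zpowers_of_pow_eq_one (by omega) hx hu hu1)
  have hD : ∀ j : ℕ, IsCN p b (zpowers (x * f ^ j)) := by
    intro j
    have ho := hord 1 j (fun h => hp.out.one_lt.ne' (Nat.dvd_one.1 h))
    rw [pow_one] at ho
    refine ⟨⟨fun y hy g => ?_⟩, inferInstance, by rw [Nat.card_zpowers, ho]⟩
    suffices h : g * (x * f ^ j) * g⁻¹ ∈ zpowers (x * f ^ j) by
      obtain ⟨n, rfl⟩ := mem_zpowers_iff.1 hy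
      rw [← MulAut.conj_apply, map_zpow, MulAut.conj_apply]
      exact zpow_mem h n
    obtain ⟨i, hi⟩ := (mem_powers_iff_mem_zpowers).2 (hxn.conj_mem x (mem_zpowers x) g)
    simp only at hi
    obtain ⟨d, hdx, hdc, hdp, hgf⟩ := hfn g
    have hwZ : w ∈ center P := by
      haveI : (zpowers w).Normal := by
        refine ⟨fun y hy h => mem_zpowers_of_pow_eq_one (by omega) hx
          (hxn.conj_mem y (zpowers_le.2 (pow_mem (mem_zpowers x) _) hy) h) ?_⟩
        obtain ⟨n, rfl⟩ := mem_zpowers_iff.1 hy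
        rw [conj_pow, ← zpow_natCast, ← zpow_mul, mul_comm, zpow_mul, zpow_natCast, hwp, one_zpow, mul_one,
          mul_inv_cancel]
      exact CfsgLib.PGroups.le_center_of_card_prime hP (by rw [Nat.card_zpowers, orderOf_eq_prime hwp hwne])
        (mem_zpowers w)
    have hi1 : i % p = 1 := by
      have h1 : w ^ i = w := by
        rw [hw, ← pow_mul, mul_comm, pow_mul, hi, conj_pow, ← hw, mem_center_iff.1 hwZ g, mul_inv_cancel_right]
      have h2 := pow_eq_pow_iff_modEq.1 (h1.trans (pow_one w).symm)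
      rw [orderOf_eq_prime hwp hwne] at h2
      exact Eq.trans h2 (Nat.mod_eq_of_lt hp.out.one_lt)
    have hfj : f ^ (i * j) = f ^ j := by
      conv_lhs => rw [← Nat.mod_add_div i p, hi1, add_mul, one_mul, mul_assoc, pow_add, pow_mul f p, hf, one_pow,
        mul_one]
    have key : g * (x * f ^ j) * g⁻¹ = (x * f ^ j) ^ i * ((c ^ (1 * j)) ^ i.choose 2)⁻¹ * d ^ j := by
      have h1 : g * (x * f ^ j) * g⁻¹ = x ^ i * (f * d) ^ j := by
        rw [hi, ← hgf, conj_pow]
        group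
      have hdcomm : Commute f d := mem_center_iff.1 hdc f
      have h2 := mul_pow_central (pow_mem hc (1 * j)) (hswap 1 j) i
      rw [pow_one x] at h2
      rw [h1, h2, mul_inv_cancel_right, ← pow_mul f, mul_comm j i, hfj, hdcomm.mul_pow, mul_assoc]
    rw [key]
    refine mul_mem (mul_mem (pow_mem (mem_zpowers _) _) (inv_mem (hsmall _ (pow_mem (pow_mem hcx _) _) ?_ j)))
      (hsmall _ (pow_mem hdx _) ?_ j)
    · exact hcpow _ _
    · rw [← pow_mul, mul_comm, pow_mul, hdp, one_pow]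
  have hle : ∀ j : ℕ, zpowers (x * f ^ j) ≤ zpowers x ⊔ zpowers f := fun j =>
    zpowers_le.2 (mul_mem (mem_sup_left (mem_zpowers x)) (mem_sup_right (pow_mem (mem_zpowers f) j)))
  have hsurj : ∀ D : Subgroup P, IsCN p b D → D ≤ zpowers x ⊔ zpowers f → ∃ j < p, D = zpowers (x * f ^ j) := by
    intro D hDcn hDle
    obtain ⟨y, hy⟩ := (Subgroup.isCyclic_iff_exists_zpowers_eq_top D).1 hDcn.2.1
    have hyo : orderOf y = p ^ b := by rw [← Nat.card_zpowers, hy, hDcn.2.2]
    haveI := hxn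
    obtain ⟨a, ha, v, hv, hav⟩ := mem_sup_of_normal_left.1 (hDle (hy ▸ mem_zpowers y))
    obtain ⟨i, rfl⟩ := (mem_powers_iff_mem_zpowers).2 ha
    obtain ⟨k, rfl⟩ := (mem_powers_iff_mem_zpowers).2 hv
    simp only at hav
    have hi : ¬ p ∣ i := by
      rintro ⟨t, rfl⟩
      have h1 : y ^ N = 1 := by rw [← hav, hpowN, pow_mul, hwp, one_pow]
      rw [← orderOf_dvd_iff_pow_eq_one, hyo, hN, Nat.pow_dvd_pow_iff_le_right hp.out.one_lt] at h1
      omega
    obtain ⟨i', -, hi'⟩ := Nat.exists_mul_mod_eq_one_of_coprime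
      (((hp.out.coprime_iff_not_dvd.2 hi).pow_left b).symm) (Nat.one_lt_pow (by omega) hp.out.one_lt)
    refine ⟨(k * i') % p, Nat.mod_lt _ hp.out.pos, ?_⟩
    have h1 : y ^ i' = x * f ^ ((k * i') % p) * (c ^ (i * k)) ^ i'.choose 2 := by
      rw [← hav, mul_pow_central (pow_mem hc _) (hswap i k), ← pow_mul, ← pow_mul f]
      congr 2
      · rw [← pow_mod_orderOf, hx, hi', pow_one]
      · rw [← Nat.mod_add_div (k * i') p, pow_add, pow_mul f p, hf, one_pow, mul_one, Nat.mod_add_div]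
    have hmem : y ^ i' ∈ zpowers (x * f ^ ((k * i') % p)) := by
      rw [h1]
      refine mul_mem (mem_zpowers _) (hsmall _ (pow_mem (pow_mem hcx _) _) ?_ _)
      exact hcpow _ _
    have hcop : (orderOf y).Coprime i' := by
      rw [hyo]
      refine (Nat.Coprime.pow_left b (hp.out.coprime_iff_not_dvd.2 fun hd => ?_))
      have h2 : p ∣ i * i' % p ^ b :=
        (Nat.dvd_mod_iff (dvd_pow_self p (by omega : b ≠ 0))).2 (dvd_mul_of_dvd_right hd i)
      rw [hi'] at h2
      exact hp.out.one_lt.ne' (Nat.dvd_one.1 h2)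
    refine eq_of_le_of_card_ge ?_ ?_
    · rw [← hy, zpowers_le]
      obtain ⟨m, hm⟩ := exists_pow_eq_self_of_coprime hcop.symm
      rw [← hm]
      exact pow_mem hmem m
    · rw [hDcn.2.2, (hD _).2.2]
  refine ⟨?_, fun D hDcn hDle => ?_⟩
  · refine (Nat.card_congr (Equiv.ofBijective
      (fun j : Fin p => (⟨zpowers (x * f ^ (j : ℕ)), hD j, hle j⟩ :
        {D : Subgroup P // IsCN p b D ∧ D ≤ zpowers x ⊔ zpowers f}))
      ⟨fun j j' hjj => ?_, fun D => ?_⟩)).symm.trans (Nat.card_fin p)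
    · suffices key : ∀ j j' : ℕ, j ≤ j' → j' < p → zpowers (x * f ^ j) = zpowers (x * f ^ j') → j = j' by
        have he := congrArg Subtype.val hjj
        rcases le_total (j : ℕ) j' with h | h
        · exact Fin.ext (key _ _ h j'.2 he)
        · exact Fin.ext (key _ _ h j.2 he.symm).symm
      intro j j' hj hj' he
      by_contra hne
      have h1 : f ^ (j' - j) ∈ zpowers (x * f ^ j) := by
        have h2 := mul_mem (inv_mem (mem_zpowers (x * f ^ j))) (he ▸ mem_zpowers (x * f ^ j'))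
        rwa [show (x * f ^ j)⁻¹ * (x * f ^ j') = f ^ (j' - j) by
          rw [mul_inv_rev, mul_assoc, inv_mul_cancel_left, inv_mul_eq_iff_eq_mul, ← pow_add, Nat.add_sub_cancel' hj]] at h2
      have hyo : orderOf (x * f ^ j) = p ^ b := by rw [← Nat.card_zpowers, (hD j).2.2]
      have h3 := mem_zpowers_of_pow_eq_one (by omega) hyo h1 (by rw [← pow_mul, mul_comm, pow_mul, hf, one_pow])
      have h4 := hpowN 1 j
      rw [pow_one, pow_one] at h4
      rw [← hN, h4] at h3
      have h5 : f ^ (j' - j) ∈ zpowers x := zpowers_le.2 (pow_mem (mem_zpowers x) _) h3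
      have hfo : orderOf f = p := orderOf_eq_prime hf fun h => hfx (h ▸ one_mem _)
      obtain ⟨m, hm⟩ := exists_pow_eq_self_of_coprime (x := f) (n := j' - j) (by
        rw [hfo]
        exact (hp.out.coprime_iff_not_dvd.2 fun hd => by
          have := Nat.le_of_dvd (by omega) hd
          omega).symm)
      exact hfx (hm ▸ pow_mem h5 m)
    · obtain ⟨j, hj, he⟩ := hsurj D.1 D.2.1 D.2.2
      exact ⟨⟨j, hj⟩, Subtype.ext he.symm⟩
  · obtain ⟨j, -, rfl⟩ := hsurj D hDcn hDle
    refine ⟨hwy j, zpowers_le.2 ?_⟩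
    have h := mul_mem (mem_sup_left (T := zpowers f) (mem_zpowers (x * f ^ j)))
      (mem_sup_right (S := zpowers (x * f ^ j)) (inv_mem (pow_mem (mem_zpowers f) j)))
    rwa [mul_inv_cancel_right] at h

/-- A set invariant under right multiplication by a subgroup. -/
theorem dvd_card_of_invariant {H : Subgroup P} {T : Set P} (h : ∀ t ∈ T, ∀ u ∈ H, t * u ∈ T) :
    Nat.card H ∣ Nat.card T := by
  have hT : QuotientGroup.mk ⁻¹' ((fun y : P => (y : P ⧸ H)) '' T) = T := by
    ext y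
    refine ⟨?_, fun hy => ⟨y, hy, rfl⟩⟩
    rintro ⟨z, hz, hzy⟩
    simpa using h z hz _ (QuotientGroup.eq.1 hzy)
  conv_rhs => rw [← hT]
  rw [Nat.card_congr (QuotientGroup.preimageMkEquivSubgroupProdSet H _), Nat.card_prod]
  exact dvd_mul_right _ _

theorem class_of_no_square {n : ℕ} (hP : Nat.card P = 2 ^ n) (hnc : ¬ IsCyclic P)
    (hno : ¬ ∃ E : Subgroup P, E.Normal ∧ (∀ e ∈ E, e ^ 2 = 1) ∧ Nat.card E = 2 ^ 2) :
    Group.nilpotencyClass P = n - 1 := by
  have : Fact (Nat.Prime 2) := ⟨Nat.prime_two⟩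
  have hG : IsPGroup 2 P := IsPGroup.of_card hP
  have hn : ∀ A : Subgroup P, A.Normal → IsMulCommutative A → IsCyclic A := by
    intro A hAn hA
    by_contra hAc
    obtain ⟨q, hq, E, hEA, hexp, hcard⟩ := Core.exists_elementary_of_not_isCyclic A hAc
    obtain ⟨e, he, he1⟩ : ∃ e ∈ E, e ≠ 1 := by
      by_contra h
      push Not at h
      rw [(Subgroup.eq_bot_iff_forall _).2 h, card_bot] at hcard
      nlinarith [hq.two_le]
    haveI := Fact.mk hq
    have hq2 : q = 2 := by
      obtain ⟨i, hi⟩ := IsPGroup.iff_orderOf.1 hG e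
      rw [orderOf_eq_prime (hexp e he) he1] at hi
      exact (Nat.prime_dvd_prime_iff_eq hq Nat.prime_two).1 (hq.dvd_of_dvd_pow (hi ▸ dvd_rfl : q ∣ 2 ^ i))
    subst hq2
    let A₂ : Subgroup P :=
      { carrier := {a | a ∈ A ∧ a ^ 2 = 1}
        one_mem' := ⟨one_mem _, one_pow _⟩
        mul_mem' := fun {a b} ha hb => ⟨mul_mem ha.1 hb.1, by
          have hab : Commute a b := congrArg Subtype.val (mul_comm' (⟨a, ha.1⟩ : A) ⟨b, hb.1⟩)
          rw [hab.mul_pow, ha.2, hb.2, one_mul]⟩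
        inv_mem' := fun {a} ha => ⟨inv_mem ha.1, by rw [inv_pow, ha.2, inv_one]⟩ }
    haveI : A₂.Normal := ⟨fun a ha g => ⟨hAn.conj_mem a ha.1 g, by rw [conj_pow, ha.2, mul_one, mul_inv_cancel]⟩⟩
    obtain ⟨B, hBn, hBA, hBc, -⟩ := CfsgLib.Transfer.exists_normal_card hG A₂ 2
      (hcard.trans (card_le_of_le fun a ha => ⟨hEA ha, hexp a ha⟩))
    exact hno ⟨B, hBn, fun b hb => (hBA hb).2, hBc⟩
  have hm : ∀ {a b : P} (h3 : 3 ≤ n), orderOf a = 2 ^ (n - 1) → b ∉ zpowers a →
      (b * a * b⁻¹ = a⁻¹ ∨ 4 ≤ n ∧ b * a * b⁻¹ = a ^ 2 ^ (n - 2) * a⁻¹) →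
      (b ^ 2 = 1 ∨ b ^ 2 = a ^ 2 ^ (n - 2)) → Group.nilpotencyClass P = n - 1 :=
    fun {a b} h3 h1 h2 h4 h5 => CfsgLib.Transfer.class_of_shape n P h3 hP ⟨a, b, h1, h2, h4, h5⟩
  have hsmall : n ≤ 2 → Group.nilpotencyClass P = n - 1 := by
    intro hle
    have hn2 : n = 2 := by
      rcases (by omega : n = 0 ∨ n = 1 ∨ n = 2) with rfl | rfl | rfl
      · haveI := (Nat.card_eq_one_iff_unique.1 (hP.trans (pow_zero 2))).1
        exact absurd isCyclic_of_subsingleton hnc
      · exact absurd (isCyclic_of_prime_card (p := 2) (hP.trans (pow_one 2))) hnc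
      · rfl
    subst hn2
    haveI : Nontrivial P := Finite.one_lt_card_iff_nontrivial.1 (by rw [hP]; norm_num)
    exact CfsgLib.Transfer.class_eq_one_of_comm fun a b => IsPGroup.commutative_of_card_eq_prime_sq hP a b
  have hquat : ∀ k : ℕ, Nonempty (P ≃* QuaternionGroup k) → Group.nilpotencyClass P = n - 1 := by
    rintro k ⟨e⟩
    by_cases h3 : n ≤ 2
    · exact hsmall h3
    have hk : NeZero k := ⟨fun hk => by
      subst hk
      have h1 := orderOf_pos (e.symm (QuaternionGroup.a (1 : ZMod (2 * 0))))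
      rw [MulEquiv.orderOf_eq, QuaternionGroup.orderOf_a_one] at h1
      omega⟩
    have hcard : 4 * k = 2 ^ n := by
      rw [← hP, Nat.card_congr e.toEquiv, Nat.card_eq_fintype_card, QuaternionGroup.card]
    have hk2 : k = 2 ^ (n - 2) := by
      have : 2 ^ n = 4 * 2 ^ (n - 2) := by rw [show 4 = 2 ^ 2 from rfl, ← pow_add]; congr 1; omega
      omega
    have h2k : 2 * k = 2 ^ (n - 1) := by rw [hk2, ← pow_succ']; congr 1; omega
    refine hm (a := e.symm (QuaternionGroup.a 1)) (b := e.symm (QuaternionGroup.xa 0)) (by omega)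
      (by rw [MulEquiv.orderOf_eq, QuaternionGroup.orderOf_a_one, h2k]) ?_ (Or.inl ?_) (Or.inr ?_)
    · intro h
      obtain ⟨i, hi⟩ := (mem_powers_iff_mem_zpowers).2 h
      simp only [← map_pow, e.symm.injective.eq_iff, QuaternionGroup.a_one_pow] at hi
      cases hi
    · rw [← map_inv, ← map_mul, ← map_inv, ← map_mul]
      congr 1
      refine mul_inv_eq_iff_eq_mul.2 (mul_left_cancel (a := QuaternionGroup.a 1) ?_)
      rw [mul_inv_cancel_left, QuaternionGroup.xa_mul_a, QuaternionGroup.a_mul_xa]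
      simp
    · rw [← map_pow, ← map_pow, QuaternionGroup.a_one_pow, ← hk2, pow_two, QuaternionGroup.xa_mul_xa]
      simp
  by_cases hB : ∃ B : Subgroup P, IsMulCommutative B ∧ ¬ IsCyclic B
  · obtain ⟨-, ⟨k, hk⟩ | ⟨k, hk8, ⟨e⟩⟩ | ⟨k, hk3, hkc, x, y, hx, hy, hxy⟩⟩ :=
      CfsgLib.TwoGroups.CycNA.classification 2 hG hn hB
    · exact hquat k hk
    · haveI : NeZero k := ⟨by omega⟩
      have hcard : 2 * k = 2 ^ n := by
        rw [← hP, Nat.card_congr e.toEquiv, Nat.card_eq_fintype_card, DihedralGroup.card]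
      have h3 : 3 ≤ n := by
        by_contra hcon
        have : 2 ^ n ≤ 2 ^ 2 := Nat.pow_le_pow_right two_pos (by omega)
        omega
      have hk2 : k = 2 ^ (n - 1) := by
        have : 2 ^ n = 2 * 2 ^ (n - 1) := by rw [← pow_succ']; congr 1; omega
        omega
      refine hm (a := e.symm (DihedralGroup.r 1)) (b := e.symm (DihedralGroup.sr 0)) h3
        (by rw [MulEquiv.orderOf_eq, DihedralGroup.orderOf_r_one, hk2]) ?_ (Or.inl ?_) (Or.inl ?_)
      · intro h
        obtain ⟨i, hi⟩ := (mem_powers_iff_mem_zpowers).2 h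
        simp only [← map_pow, e.symm.injective.eq_iff, DihedralGroup.r_one_pow] at hi
        cases hi
      · rw [← map_inv, ← map_mul, ← map_inv, ← map_mul]
        congr 1
        simp
      · rw [← map_pow, pow_two, DihedralGroup.sr_mul_sr, sub_zero, ← DihedralGroup.one_def, map_one]
    · obtain rfl : n = k + 1 := Nat.pow_right_injective le_rfl (hP.symm.trans hkc)
      refine hm (a := x) (b := y) (by omega) hx ?_ (Or.inr ⟨by omega, ?_⟩) (Or.inl ?_)
      · intro h
        obtain ⟨i, hi⟩ := (mem_powers_iff_mem_zpowers).2 h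
        simp only at hi
        have hcomm : y * x * y⁻¹ = x := by
          rw [← hi, mul_inv_eq_iff_eq_mul]
          exact ((Commute.refl x).pow_left i).eq
        rw [hcomm, eq_comm, ← pow_one x, ← pow_mul, one_mul, pow_eq_pow_iff_modEq, hx] at hxy
        have h4 : 4 ≤ 2 ^ (k - 1) := by
          calc 4 = 2 ^ 2 := rfl
            _ ≤ 2 ^ (k - 1) := Nat.pow_le_pow_right two_pos (by omega)
        have h5 : 2 ^ k = 2 * 2 ^ (k - 1) := by rw [← pow_succ']; congr 1; omega
        rw [Nat.ModEq, Nat.mod_eq_of_lt (by omega), Nat.mod_eq_of_lt (by omega)] at hxy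
        omega
      · rw [hxy, show k + 1 - 2 = k - 1 by omega, eq_mul_inv_iff_mul_eq, ← pow_succ]
        congr 1
        have : 1 ≤ 2 ^ (k - 1) := Nat.one_le_two_pow
        omega
      · rw [← hy, pow_orderOf_eq_one]
  · push Not at hB
    have huniq : ∀ H K : Subgroup P, Nat.card H = 2 → Nat.card K = 2 → H = K := by
      intro H K hH hK
      by_contra hHK
      obtain ⟨Z, -, hZc, hZ⟩ : ∃ Z : Subgroup P, Z.Normal ∧ Nat.card Z = 2 ∧ Z ≤ center P := by
        haveI : Nontrivial P := Finite.one_lt_card_iff_nontrivial.1 (by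
          have := card_le_card_group H
          omega)
        have := hG.center_nontrivial
        obtain ⟨z, hz⟩ := exists_prime_orderOf_dvd_card' 2 (show 2 ∣ Nat.card (center P) from by
          obtain ⟨j, hj⟩ := (hG.to_subgroup (center P)).exists_card_eq
          have h1 : 1 < Nat.card (center P) := Finite.one_lt_card
          rw [hj] at h1 ⊢
          exact dvd_pow_self 2 (by rintro rfl; simp at h1))
        have hle : zpowers (z : P) ≤ center P := zpowers_le.2 z.2
        refine ⟨zpowers (z : P), ⟨fun a ha g => ?_⟩, by rw [Nat.card_zpowers, orderOf_coe, hz], hle⟩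
        rwa [mem_center_iff.1 (hle ha) g, mul_inv_cancel_right]
      wlog hHZ : H ≠ Z generalizing H K
      · refine this K H hK hH (Ne.symm hHK) ?_
        push Not at hHZ
        exact fun h => hHK (hHZ.trans h.symm)
      haveI hcomm : IsMulCommutative (H ⊔ Z : Subgroup P) := by
        haveI : IsCyclic H := isCyclic_of_prime_card hH
        refine ⟨⟨fun a b => ?_⟩⟩
        have hHle : H ≤ centralizer (H : Set P) := fun a ha => mem_centralizer_iff.2 fun b hb =>
          congrArg Subtype.val (mul_comm' (⟨b, hb⟩ : H) ⟨a, ha⟩)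
        have h1 : H ⊔ Z ≤ centralizer ((H ⊔ Z : Subgroup P) : Set P) := by
          refine sup_le ?_ (hZ.trans (center_le_centralizer _))
          rw [le_centralizer_iff]
          exact sup_le hHle (hZ.trans (center_le_centralizer _))
        exact Subtype.ext (mem_centralizer_iff.1 (h1 b.2) a a.2)
      haveI := hB (H ⊔ Z) hcomm
      exact hHZ (Subgroup.subgroupOf_inj.1 (eq_of_card_eq_of_isCyclic
        (H := H.subgroupOf (H ⊔ Z)) (K := Z.subgroupOf (H ⊔ Z)) (by
          rw [Nat.card_congr (subgroupOfEquivOfLe le_sup_left).toEquiv,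
            Nat.card_congr (subgroupOfEquivOfLe le_sup_right).toEquiv, hH, hZc])) |> fun h => by
          rwa [inf_eq_left.2 le_sup_left, inf_eq_left.2 le_sup_right] at h)
    rcases CfsgLib.Core.UniqueOrderP.isCyclic_or_quaternion_of_unique hG huniq with h | ⟨-, k, hk⟩
    · exact absurd h hnc
    · exact hquat _ hk

/-- A normal elementary subgroup of order `p ^ 2`, central if possible. -/
theorem exists_square {n : ℕ} (hP : Nat.card P = p ^ n) (hnc : ¬ IsCyclic P)
    (h2 : p = 2 → Group.nilpotencyClass P ≠ n - 1) :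
    ∃ (E : Subgroup P) (z e : P), E.Normal ∧ Nat.card E = p ^ 2 ∧ (∀ v ∈ E, v ^ p = 1) ∧ z ∈ E ∧ z ∈ center P ∧
      z ≠ 1 ∧ e ∈ E ∧ e ∉ zpowers z ∧ E = zpowers z ⊔ zpowers e ∧ (∀ g : P, ∃ d ∈ zpowers z, g * e * g⁻¹ = e * d) ∧
      (E ≤ center P ∨ ∀ t ∈ center P, t ^ p = 1 → t ∈ zpowers z) := by
  have hG : IsPGroup p P := IsPGroup.of_card hP
  obtain ⟨E₀, hE₀n, hE₀, hE₀c⟩ : ∃ E : Subgroup P, E.Normal ∧ (∀ e ∈ E, e ^ p = 1) ∧ Nat.card E = p ^ 2 := by
    by_cases hp2 : p = 2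
    · subst hp2
      by_contra hno
      exact h2 rfl (class_of_no_square hP hnc hno)
    · obtain ⟨A, hAn, hA, hAc⟩ := CfsgLib.Transfer.exists_normal_elementary_card_sq hp2 hG hnc
      exact ⟨A, hAn, hA.2, hAc⟩
  haveI := hE₀n
  have hne : E₀ ≠ ⊥ := fun h => by
    rw [h, card_bot] at hE₀c
    exact (Nat.one_lt_pow two_ne_zero hp.out.one_lt).ne hE₀c
  obtain ⟨⟨z, hz⟩, hz1⟩ := ne_bot_iff_exists_ne_one.1 (CfsgLib.PGroups.inf_center_ne_bot hG hne)
  have hz1' : z ≠ 1 := fun h => hz1 (Subtype.ext h)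
  obtain ⟨hzE, hzc⟩ := Subgroup.mem_inf.1 hz
  have hzo : orderOf z = p := orderOf_eq_prime (hE₀ z hzE) hz1'
  have key : ∀ E : Subgroup P, E.Normal → (∀ v ∈ E, v ^ p = 1) → z ∈ E → Nat.card E = p ^ 2 →
      (E ≤ center P ∨ ∀ t ∈ center P, t ^ p = 1 → t ∈ zpowers z) →
    ∃ (E : Subgroup P) (z e : P), E.Normal ∧ Nat.card E = p ^ 2 ∧ (∀ v ∈ E, v ^ p = 1) ∧ z ∈ E ∧ z ∈ center P ∧
      z ≠ 1 ∧ e ∈ E ∧ e ∉ zpowers z ∧ E = zpowers z ⊔ zpowers e ∧ (∀ g : P, ∃ d ∈ zpowers z, g * e * g⁻¹ = e * d) ∧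
      (E ≤ center P ∨ ∀ t ∈ center P, t ^ p = 1 → t ∈ zpowers z) := by
    intro E hEn hE hzE hEc hor
    haveI := hEn
    obtain ⟨e, he, hez⟩ : ∃ e ∈ E, e ∉ zpowers z := by
      by_contra h
      push Not at h
      have := card_le_of_le h
      rw [hEc, Nat.card_zpowers, hzo, sq] at this
      nlinarith [hp.out.two_le]
    have hsup : E = zpowers z ⊔ zpowers e := by
      refine (eq_of_le_of_card_ge (sup_le (zpowers_le.2 hzE) (zpowers_le.2 he)) ?_).symm
      obtain ⟨j, hj⟩ := (hG.to_subgroup (zpowers z ⊔ zpowers e)).exists_card_eq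
      rw [hj, hEc]
      refine Nat.pow_le_pow_right hp.out.pos ?_
      by_contra hlt
      refine hez ((eq_of_le_of_card_ge (le_sup_left (b := zpowers e)) ?_).ge (mem_sup_right (mem_zpowers e)))
      rw [Nat.card_zpowers, hzo, hj]
      calc p ^ j ≤ p ^ 1 := Nat.pow_le_pow_right hp.out.pos (by omega)
        _ = p := pow_one p
    refine ⟨E, z, e, hEn, hEc, hE, hzE, hzc, hz1', he, hez, hsup, fun g => ?_, hor⟩
    haveI hZn : (zpowers z).Normal := ⟨fun a ha g => by
      rwa [mem_center_iff.1 (zpowers_le.2 hzc ha) g, mul_inv_cancel_right]⟩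
    haveI : (E.map (QuotientGroup.mk' (zpowers z))).Normal := hEn.map _ (QuotientGroup.mk'_surjective _)
    have hcardQ : Nat.card (E.map (QuotientGroup.mk' (zpowers z))) = p := by
      rw [← relIndex_ker, QuotientGroup.ker_mk']
      have h1 := relIndex_mul_relIndex ⊥ (zpowers z) E bot_le (zpowers_le.2 hzE)
      rw [relIndex_bot_left, relIndex_bot_left, Nat.card_zpowers, hzo, hEc, sq] at h1
      exact Nat.eq_of_mul_eq_mul_left hp.out.pos h1
    have hcen := CfsgLib.PGroups.le_center_of_card_prime (hG.to_quotient _) hcardQ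
      (mem_map_of_mem _ he)
    refine ⟨e⁻¹ * (g * e * g⁻¹), ?_, by group⟩
    rw [← QuotientGroup.eq_one_iff]
    have h1 := mem_center_iff.1 hcen (QuotientGroup.mk' (zpowers z) g)
    simp only [QuotientGroup.mk'_apply] at h1
    simp only [QuotientGroup.mk_mul, QuotientGroup.mk_inv]
    rw [h1]
    group
  by_cases hex : ∃ t ∈ center P, t ^ p = 1 ∧ t ∉ zpowers z
  · obtain ⟨t, htc, htp, htz⟩ := hex
    have hle : zpowers z ⊔ zpowers t ≤ center P := sup_le (zpowers_le.2 hzc) (zpowers_le.2 htc)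
    refine key (zpowers z ⊔ zpowers t) ⟨fun a ha g => ?_⟩ (fun v hv => ?_) (mem_sup_left (mem_zpowers z)) ?_
      (Or.inl hle)
    · rwa [mem_center_iff.1 (hle ha) g, mul_inv_cancel_right]
    · haveI : (zpowers z).Normal := ⟨fun a ha g => by
        rwa [mem_center_iff.1 (zpowers_le.2 hzc ha) g, mul_inv_cancel_right]⟩
      obtain ⟨a, ha, b, hb, rfl⟩ := mem_sup_of_normal_left.1 hv
      obtain ⟨i, rfl⟩ := (mem_powers_iff_mem_zpowers).2 ha
      obtain ⟨j, rfl⟩ := (mem_powers_iff_mem_zpowers).2 hb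
      simp only
      have hzt : Commute z t := mem_center_iff.1 htc z
      rw [(hzt.pow_pow i j).mul_pow, ← pow_mul, mul_comm i, pow_mul, hE₀ z hzE, one_pow, one_mul, ← pow_mul,
        mul_comm j, pow_mul, htp, one_pow]
    · have hto : orderOf t = p := orderOf_eq_prime htp fun h => htz (h ▸ one_mem _)
      have hdisj : zpowers z ⊓ zpowers t = ⊥ := by
        by_contra hbot
        obtain ⟨⟨v, hv⟩, hv1⟩ := ne_bot_iff_exists_ne_one.1 hbot
        have h1 : zpowers t ≤ zpowers z ⊓ zpowers t := by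
          refine (eq_of_le_of_card_ge (inf_le_right : zpowers z ⊓ zpowers t ≤ _) ?_).ge
          rw [Nat.card_zpowers, hto]
          rcases (Nat.dvd_prime hp.out).1 (hto ▸ Nat.card_zpowers t ▸ card_dvd_of_le inf_le_right) with h | h
          · exact absurd (Subtype.ext (mem_bot.1 ((card_eq_one.1 h).le hv))) hv1
          · exact h.ge
        exact htz (Subgroup.mem_inf.1 (h1 (mem_zpowers t))).1
      haveI : (zpowers z).Normal := ⟨fun a ha g => by
        rwa [mem_center_iff.1 (zpowers_le.2 hzc ha) g, mul_inv_cancel_right]⟩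
      have h1 := card_mul_index ((zpowers z).subgroupOf (zpowers z ⊔ zpowers t))
      rw [Nat.card_congr (subgroupOfEquivOfLe le_sup_left).toEquiv, Nat.card_zpowers, hzo] at h1
      rw [← h1, sq]
      congr 1
      show (zpowers z).relIndex (zpowers z ⊔ zpowers t) = p
      rw [relIndex_sup_left, ← inf_relIndex_right, hdisj, relIndex_bot_left, Nat.card_zpowers, hto]
  · push Not at hex
    exact key E₀ hE₀n hE₀ hzE hE₀c (Or.inr hex)

/-- The elements of order four generating normal subgroups, in the exceptional case. -/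
theorem card_cyclic_four {n : ℕ} (hP : Nat.card P = 2 ^ n) (h2 : Group.nilpotencyClass P ≠ n - 1)
    {E : Subgroup P} {z e : P} (hEn : E.Normal) (hEc : Nat.card E = 2 ^ 2) (hE : ∀ v ∈ E, v ^ 2 = 1) (hzE : z ∈ E)
    (hzc : z ∈ center P) (hz1 : z ≠ 1) (heE : e ∈ E) (hsup : E = zpowers z ⊔ zpowers e)
    (hd : ∀ g : P, ∃ d ∈ zpowers z, g * e * g⁻¹ = e * d) (huniq : ∀ t ∈ center P, t ^ 2 = 1 → t ∈ zpowers z) :
    2 ∣ Nat.card {C : Subgroup P // IsCN 2 2 C} := by
  classical
  have : Fact (Nat.Prime 2) := ⟨Nat.prime_two⟩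
  have hG : IsPGroup 2 P := IsPGroup.of_card hP
  have hz2 := hE z hzE
  have hzo : orderOf z = 2 := orderOf_eq_prime hz2 hz1
  have hzpow : ∀ v ∈ zpowers z, v = 1 ∨ v = z := by
    intro v hv
    obtain ⟨i, rfl⟩ := (mem_powers_iff_mem_zpowers).2 hv
    simp only
    rcases Nat.mod_two_eq_zero_or_one i with h | h <;> rw [← pow_mod_orderOf, hzo, h] <;> simp
  have hzz : ∀ g : P, g * z = z * g := mem_center_iff.1 hzc
  haveI hZn : (zpowers z).Normal := ⟨fun a ha g => by
    rwa [mem_center_iff.1 (zpowers_le.2 hzc ha) g, mul_inv_cancel_right]⟩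
  -- elements squaring into `⟨z⟩` and central modulo `⟨z⟩`
  let W : Subgroup P :=
    { carrier := {x | x ^ 2 ∈ zpowers z ∧ ∀ g : P, g * x * g⁻¹ * x⁻¹ ∈ zpowers z}
      one_mem' := ⟨by simp, fun g => by simp⟩
      mul_mem' := fun {a b} ha hb => by
        refine ⟨?_, fun g => ?_⟩
        · have h1 := hb.2 a
          rw [show (a * b) ^ 2 = a ^ 2 * ((a⁻¹ * (b * a * b⁻¹ * a⁻¹) * a) * b ^ 2) by
            simp only [pow_two]; group]
          refine mul_mem ha.1 (mul_mem ?_ hb.1)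
          simpa using hZn.conj_mem _ (ha.2 b) a⁻¹
        · rw [show g * (a * b) * g⁻¹ * (a * b)⁻¹ = (g * a * g⁻¹ * a⁻¹) * (a * (g * b * g⁻¹ * b⁻¹) * a⁻¹) by group]
          exact mul_mem (ha.2 g) (hZn.conj_mem _ (hb.2 g) a)
      inv_mem' := fun {a} ha => by
        refine ⟨by rw [inv_pow]; exact inv_mem ha.1, fun g => ?_⟩
        rw [show g * a⁻¹ * g⁻¹ * a⁻¹⁻¹ = a⁻¹ * (g * a * g⁻¹ * a⁻¹)⁻¹ * a by group]
        simpa using hZn.conj_mem _ (inv_mem (ha.2 g)) a⁻¹ }
  have hWn : W.Normal := ⟨fun x hx g => by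
    refine ⟨by rw [conj_pow]; exact hZn.conj_mem _ hx.1 g, fun h => ?_⟩
    rw [show h * (g * x * g⁻¹) * h⁻¹ * (g * x * g⁻¹)⁻¹ =
      (h * g * x * (h * g)⁻¹ * x⁻¹) * (g * x * g⁻¹ * x⁻¹)⁻¹ by group]
    exact mul_mem (hx.2 (h * g)) (inv_mem (hx.2 g))⟩
  have hEW : E ≤ W := by
    rw [hsup]
    refine sup_le (zpowers_le.2 ⟨by rw [hz2]; exact one_mem _, fun g => by simp [hzz g]⟩)
      (zpowers_le.2 ⟨by rw [hE e heE]; exact one_mem _, fun g => ?_⟩)
    obtain ⟨d, hd', hge⟩ := hd g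
    have hdc : e * d = d * e := mem_center_iff.1 (zpowers_le.2 hzc hd') e
    rw [hge, hdc, mul_inv_cancel_right]
    exact hd'
  let N₄ : Set P := {x | x ∈ W ∧ x ^ 2 = z}
  have hN₄ : Nat.card N₄ = 2 * Nat.card {C : Subgroup P // IsCN 2 2 C} := by
    have hto : ∀ x ∈ N₄, orderOf x = 4 ∧ IsCN 2 2 (zpowers x) := by
      intro x hx
      have ho : orderOf x = 2 ^ (1 + 1) := orderOf_eq_prime_pow (by rw [pow_one]; exact hx.2 ▸ hz1)
        (by rw [show 2 ^ (1 + 1) = 2 * 2 from rfl, pow_mul, hx.2, hz2])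
      refine ⟨ho, ⟨fun y hy g => ?_⟩, inferInstance, by rw [Nat.card_zpowers, ho]⟩
      have hgx : g * x * g⁻¹ ∈ zpowers x := by
        have h1 : g * x * g⁻¹ = (g * x * g⁻¹ * x⁻¹) * x := by group
        rw [h1]
        exact mul_mem (zpowers_le.2 (hx.2 ▸ pow_mem (mem_zpowers x) 2 : z ∈ zpowers x) (hx.1.2 g)) (mem_zpowers x)
      obtain ⟨i, rfl⟩ := mem_zpowers_iff.1 hy
      rw [← MulAut.conj_apply, map_zpow, MulAut.conj_apply]
      exact zpow_mem hgx i
    have hfrom : ∀ C : Subgroup P, IsCN 2 2 C → ∀ x : P, zpowers x = C → x ∈ N₄ := by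
      intro C hC x hxC
      haveI := hC.1
      have ho : orderOf x = 4 := by rw [← Nat.card_zpowers, hxC, hC.2.2]; rfl
      have hCne : C ≠ ⊥ := fun h => by
        rw [← hxC, zpowers_eq_bot] at h
        rw [h, orderOf_one] at ho
        omega
      obtain ⟨⟨t, ht⟩, ht1⟩ := ne_bot_iff_exists_ne_one.1 (CfsgLib.PGroups.inf_center_ne_bot hG hCne)
      obtain ⟨htC, htZ⟩ := Subgroup.mem_inf.1 ht
      have hzC : z ∈ C := by
        obtain ⟨i, hi⟩ := IsPGroup.iff_orderOf.1 hG t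
        have hi0 : i ≠ 0 := fun h => ht1 (Subtype.ext (orderOf_eq_one_iff.1 (by rw [hi, h, pow_zero])))
        have ht2 : (t ^ 2 ^ (i - 1)) ^ 2 = 1 := by
          rw [← pow_mul, ← pow_succ, Nat.sub_add_cancel (Nat.pos_of_ne_zero hi0), ← hi, pow_orderOf_eq_one]
        rcases hzpow _ (huniq _ (pow_mem htZ _) ht2) with h | h
        · exfalso
          rw [← orderOf_dvd_iff_pow_eq_one, hi, Nat.pow_dvd_pow_iff_le_right (by norm_num)] at h
          omega
        · exact h ▸ pow_mem htC _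
      have hx2 : x ^ 2 = z := by
        have h1 : zpowers z = zpowers (x ^ 2) := by
          have hzx : z ∈ zpowers (x ^ 2 ^ (2 - 1)) :=
            mem_zpowers_of_pow_eq_one (p := 2) (b := 2) (by norm_num) ho (hxC.symm ▸ hzC) hz2
          refine eq_of_le_of_card_ge (zpowers_le.2 (by simpa using hzx)) ?_
          rw [Nat.card_zpowers, Nat.card_zpowers, hzo, orderOf_pow, ho]
          decide
        rcases hzpow _ (h1.symm ▸ mem_zpowers (x ^ 2)) with h | h
        · exfalso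
          rw [← orderOf_dvd_iff_pow_eq_one, ho] at h
          norm_num at h
        · exact h
      refine ⟨⟨by rw [hx2]; exact mem_zpowers z, fun g => ?_⟩, hx2⟩
      obtain ⟨i, hi⟩ := (mem_powers_iff_mem_zpowers).2 (hxC.symm ▸ hC.1.conj_mem x (hxC ▸ mem_zpowers x) g :
        g * x * g⁻¹ ∈ zpowers x)
      simp only at hi
      rw [← hi]
      have hodd : i % 2 = 1 := by
        by_contra hev
        have h1 : (g * x * g⁻¹) ^ 2 = 1 := by
          rw [← hi, ← Nat.mod_add_div i 2, Nat.mod_two_ne_one.1 hev, zero_add, ← pow_mul,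
            show 2 * (i / 2) * 2 = 4 * (i / 2) by ring, ← ho, pow_mul, pow_orderOf_eq_one, one_pow]
        rw [conj_pow, hx2, hzz, mul_inv_cancel_right] at h1
        exact hz1 h1
      rw [← Nat.mod_add_div i 2, hodd, add_comm, pow_succ, mul_inv_cancel_right, pow_mul, hx2]
      exact pow_mem (mem_zpowers z) _
    let f : N₄ → {C : Subgroup P // IsCN 2 2 C} := fun x => ⟨zpowers x.1, (hto x.1 x.2).2⟩
    haveI := Fintype.ofFinite {C : Subgroup P // IsCN 2 2 C}
    rw [← Nat.card_congr (Equiv.sigmaFiberEquiv f), Nat.card_sigma,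
      Finset.sum_congr rfl (g := fun _ => 2) fun C _ => ?_, Finset.sum_const, Finset.card_univ, smul_eq_mul,
      ← Nat.card_eq_fintype_card, mul_comm]
    haveI := C.2.2.1
    have hgen : Nat.card {y : C.1 // orderOf y = 4} = 2 := by
      haveI := Fintype.ofFinite C.1
      rw [Nat.card_eq_fintype_card, Fintype.card_subtype, IsCyclic.card_orderOf_eq_totient]
      · decide
      · rw [← Nat.card_eq_fintype_card, C.2.2.2]; norm_num
    refine Eq.trans ?_ hgen
    refine Nat.card_congr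
      { toFun := fun x => ⟨⟨x.1.1, (congrArg Subtype.val x.2 : zpowers x.1.1 = C.1) ▸ mem_zpowers x.1.1⟩, by
          rw [← orderOf_coe]; exact (hto x.1.1 x.1.2).1⟩
        invFun := fun y => ⟨⟨y.1.1, hfrom C.1 C.2 y.1.1 ?_⟩, Subtype.ext ?_⟩
        left_inv := fun x => rfl
        right_inv := fun y => rfl }
    all_goals
      show zpowers (y.1 : P) = C.1
      refine eq_of_le_of_card_ge (zpowers_le.2 y.1.2) ?_
      rw [Nat.card_zpowers, orderOf_coe, y.2, C.2.2.2]
      norm_num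
  suffices h4 : 4 ∣ Nat.card N₄ by
    rw [hN₄] at h4
    omega
  let A : Subgroup P := W ⊓ centralizer ({e} : Set P)
  have hmemA : ∀ x, x ∈ A ↔ x ∈ W ∧ x * e = e * x := fun x => by
    rw [Subgroup.mem_inf, mem_centralizer_singleton_iff]
  have hezc : e * z = z * e := hzz e
  have hEA : E ≤ A := fun v hv => (hmemA v).2 ⟨hEW hv, congrArg Subtype.val
    (IsPGroup.commutative_of_card_eq_prime_sq hEc (⟨v, hv⟩ : E) ⟨e, heE⟩)⟩
  have hsplit : Nat.card N₄ = Nat.card {x : P | x ∈ N₄ ∧ x ∈ A} + Nat.card {x : P | x ∈ N₄ ∧ x ∉ A} := by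
    rw [← Nat.card_sum]
    exact Nat.card_congr ((Equiv.sumCompl (fun x : N₄ => x.1 ∈ A)).symm.trans
      (Equiv.sumCongr (Equiv.subtypeSubtypeEquivSubtypeInter (· ∈ N₄) (· ∈ A))
        (Equiv.subtypeSubtypeEquivSubtypeInter (· ∈ N₄) (fun x => x ∉ A))))
  rw [hsplit]
  refine Nat.dvd_add ?_ ?_
  · have h := dvd_card_of_invariant (H := E) (T := {x : P | x ∈ N₄ ∧ x ∈ A}) ?_
    · rwa [hEc] at h
    rintro x ⟨hxN, hxA⟩ v hv
    refine ⟨⟨mul_mem hxN.1 (hEW hv), ?_⟩, mul_mem hxA (hEA hv)⟩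
    have hxv : Commute x v := by
      have hEcent : E ≤ centralizer ({x} : Set P) := by
        rw [hsup]
        exact sup_le (zpowers_le.2 (mem_centralizer_singleton_iff.2 (hzz x).symm))
          (zpowers_le.2 (mem_centralizer_singleton_iff.2 ((hmemA x).1 hxA).2.symm))
      exact (mem_centralizer_singleton_iff.1 (hEcent hv)).symm
    rw [hxv.mul_pow, hxN.2, hE v hv, mul_one]
  by_cases hall : ∀ x ∈ N₄, x ∈ A
  · have : IsEmpty {x : P | x ∈ N₄ ∧ x ∉ A} := ⟨fun x => x.2.2 (hall x.1 x.2.1)⟩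
    rw [Nat.card_of_isEmpty]
    exact dvd_zero _
  push Not at hall
  obtain ⟨x₀, hx₀, hx₀A⟩ := hall
  have hconj : ∀ x ∈ W, x ∉ A → x * e * x⁻¹ = e * z := by
    intro x hx hxA
    obtain ⟨d, hd', hxe⟩ := hd x
    rcases hzpow d hd' with rfl | rfl
    · exact absurd ((hmemA x).2 ⟨hx, by rw [mul_one] at hxe; exact mul_inv_eq_iff_eq_mul.1 hxe⟩) hxA
    · exact hxe
  have hidx : (A.subgroupOf W).index = 2 := by
    refine index_eq_two_iff.2 ⟨⟨x₀, hx₀.1⟩, fun y => ?_⟩
    by_cases hy : (y : P) ∈ A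
    · exact Or.inr ⟨mem_subgroupOf.2 hy, fun h => hx₀A ((mul_mem_cancel_left hy).1 (mem_subgroupOf.1 h))⟩
    · refine Or.inl ⟨mem_subgroupOf.2 ((hmemA _).2 ⟨mul_mem y.2 hx₀.1, ?_⟩), fun h => hy (mem_subgroupOf.1 h)⟩
      have h1 := hconj _ hx₀.1 hx₀A
      have h3 := hconj _ y.2 hy
      show (y : P) * x₀ * e = e * (y * x₀)
      rw [← mul_inv_eq_iff_eq_mul]
      calc (y : P) * x₀ * e * (y * x₀)⁻¹ = y * (x₀ * e * x₀⁻¹) * (y : P)⁻¹ := by group
        _ = y * e * (z * (y : P)⁻¹) := by rw [h1]; group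
        _ = (y * e * (y : P)⁻¹) * z := by rw [← hzz (y : P)⁻¹]; group
        _ = e := by rw [h3, mul_assoc, ← pow_two, hz2, mul_one]
  have hcardW : Nat.card W = 2 * Nat.card A := by
    rw [← card_mul_index (A.subgroupOf W), hidx, Nat.card_congr (subgroupOfEquivOfLe (inf_le_left : A ≤ W)).toEquiv,
      mul_comm]
  have hT : 2 * Nat.card {x : P | x ∈ N₄ ∧ x ∉ A} = Nat.card A := by
    have hflip : ∀ x ∈ W, x ∉ A → (x * e) ^ 2 = x ^ 2 * z := by
      intro x hx hxA
      have h1 := hconj x hx hxA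
      calc (x * e) ^ 2 = (x * e * x⁻¹) * x ^ 2 * e := by simp only [pow_two]; group
        _ = e * z * (x ^ 2 * e) := by rw [h1]; group
        _ = e * z * (e * x ^ 2) := by
          rw [show x ^ 2 * e = e * x ^ 2 from (mem_center_iff.1 (zpowers_le.2 hzc hx.1) e).symm]
        _ = e * (z * e) * x ^ 2 := by group
        _ = e ^ 2 * z * x ^ 2 := by rw [← hezc, pow_two e]; simp only [mul_assoc]
        _ = x ^ 2 * z := by rw [hE e heE, one_mul]; exact (hzz _).symm
    have hWA : Nat.card {x : P | x ∈ W ∧ x ∉ A} = Nat.card A := by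
      have h := Nat.card_congr (Equiv.sumCompl (fun x : W => (x : P) ∈ A))
      rw [Nat.card_sum, hcardW,
        Nat.card_congr (Equiv.subtypeSubtypeEquivSubtype (q := fun x : P => x ∈ A) (p := fun x : P => x ∈ W) (fun hx => hx.1)),
        Nat.card_congr (Equiv.subtypeSubtypeEquivSubtypeInter (fun x : P => x ∈ W) (fun x => x ∉ A))] at h
      have h' : Nat.card {x : P // x ∈ A} = Nat.card A := rfl
      show Nat.card {x : P // x ∈ W ∧ x ∉ A} = _
      omega
    have heW : e ∈ W := hEW heE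
    have heA : e ∈ A := hEA heE
    have hcongr : Nat.card {x : P | x ∈ N₄ ∧ x ∉ A} = Nat.card {x : P | (x ∈ W ∧ x ^ 2 = 1) ∧ x ∉ A} :=
      Nat.card_congr (
      { toFun := fun x => ⟨x.1 * e, ⟨mul_mem x.2.1.1 heW, by rw [hflip _ x.2.1.1 x.2.2, x.2.1.2, ← pow_two, hz2]⟩,
          fun h => x.2.2 ((mul_mem_cancel_right heA).1 h)⟩
        invFun := fun x => ⟨x.1 * e, ⟨mul_mem x.2.1.1 heW, by rw [hflip _ x.2.1.1 x.2.2, x.2.1.2, one_mul]⟩,
          fun h => x.2.2 ((mul_mem_cancel_right heA).1 h)⟩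
        left_inv := fun x => Subtype.ext (by show x.1 * e * e = x.1; rw [mul_assoc, ← pow_two, hE e heE, mul_one])
        right_inv := fun x => Subtype.ext (by show x.1 * e * e = x.1; rw [mul_assoc, ← pow_two, hE e heE, mul_one]) } :
        {x : P | x ∈ N₄ ∧ x ∉ A} ≃ {x : P | (x ∈ W ∧ x ^ 2 = 1) ∧ x ∉ A})
    rw [← hWA, two_mul]
    nth_rw 2 [hcongr]
    simp only [Nat.card_coe_set_eq]
    rw [← Set.ncard_union_eq (Set.disjoint_left.2 fun x hx hx' => hz1 (hx.1.2.symm.trans hx'.1.2))]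
    congr 1
    ext x
    constructor
    · rintro (h | h) <;> exact ⟨h.1.1, h.2⟩
    · intro h
      rcases hzpow _ h.1.1 with h1 | h1
      · exact Or.inr ⟨⟨h.1, h1⟩, h.2⟩
      · exact Or.inl ⟨⟨h.1, h1⟩, h.2⟩
  obtain ⟨j, hj⟩ := (hG.to_subgroup A).exists_card_eq
  suffices h8 : 8 ∣ Nat.card A by omega
  rw [hj, show 8 = 2 ^ 3 from rfl]
  refine pow_dvd_pow 2 ?_
  by_contra hlt
  have hAE : E = A := eq_of_le_of_card_ge hEA (by
    rw [hj, hEc]; exact Nat.pow_le_pow_right two_pos (by omega))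
  -- then `E` is self-centralizing
  apply h2
  refine CfsgLib.Transfer.class_eq_of_self_centralizing n P hP E hEc (le_antisymm (fun g hg => ?_) ?_)
  · let K : Subgroup P := centralizer (W : Set P)
    haveI := hWn
    haveI hKn : K.Normal := Subgroup.normal_centralizer
    have hKW : ∀ w ∈ W, w ∈ K → w ∈ zpowers z := by
      intro w hwW hwK
      have hc : ∀ v ∈ W, v * w = w * v := mem_centralizer_iff.1 hwK
      have hwA : w ∈ E := hAE ▸ (hmemA w).2 ⟨hwW, (hc e (hEW heE)).symm⟩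
      have h1 := hconj x₀ hx₀.1 hx₀A
      rw [hsup] at hwA
      obtain ⟨a, ha, v, hv, rfl⟩ := mem_sup_of_normal_left.1 hwA
      obtain ⟨i, rfl⟩ := (mem_powers_iff_mem_zpowers).2 hv
      simp only at hc ⊢
      rcases Nat.mod_two_eq_zero_or_one i with hi | hi
      · rw [← Nat.mod_add_div i 2, hi, zero_add, pow_mul, hE e heE, one_pow, mul_one]
        exact ha
      · exfalso
        rw [← Nat.mod_add_div i 2, hi, pow_add, pow_one, pow_mul, hE e heE, one_pow, mul_one] at hc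
        have h3 := hc x₀ hx₀.1
        rw [← mul_assoc, mem_center_iff.1 (zpowers_le.2 hzc ha) x₀, mul_assoc, mul_assoc] at h3
        rw [mul_inv_eq_iff_eq_mul, mul_left_cancel h3, mul_assoc] at h1
        exact hz1 (right_eq_mul.1 (mul_left_cancel h1))
    have hKle : K ≤ zpowers z := by
      have hzK : z ∈ K := mem_centralizer_iff.2 fun v _ => hzz v
      by_contra hK
      obtain ⟨i, hi⟩ := (hG.to_subgroup K).exists_card_eq
      have hi2 : 2 ≤ i := by
        by_contra hi2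
        refine hK (eq_of_le_of_card_ge (zpowers_le.2 hzK) ?_).ge
        rw [hi, Nat.card_zpowers, hzo]
        calc 2 ^ i ≤ 2 ^ 1 := Nat.pow_le_pow_right two_pos (by omega)
          _ = 2 := rfl
      obtain ⟨D, hDn, hDK, hDc, -⟩ := CfsgLib.Transfer.exists_normal_card hG K 2
        (hi ▸ Nat.pow_le_pow_right two_pos hi2)
      haveI := hDn
      have hDne : D ≠ ⊥ := fun h => by rw [h, card_bot] at hDc; norm_num at hDc
      obtain ⟨⟨t, ht⟩, ht1⟩ := ne_bot_iff_exists_ne_one.1 (CfsgLib.PGroups.inf_center_ne_bot hG hDne)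
      obtain ⟨htD, htZ⟩ := Subgroup.mem_inf.1 ht
      have hzD : z ∈ D := by
        obtain ⟨k, hk⟩ := IsPGroup.iff_orderOf.1 hG t
        have hk0 : k ≠ 0 := fun h => ht1 (Subtype.ext (orderOf_eq_one_iff.1 (by rw [hk, h, pow_zero])))
        have ht2 : (t ^ 2 ^ (k - 1)) ^ 2 = 1 := by
          rw [← pow_mul, ← pow_succ, Nat.sub_add_cancel (Nat.pos_of_ne_zero hk0), ← hk, pow_orderOf_eq_one]
        rcases hzpow _ (huniq _ (pow_mem htZ _) ht2) with h | h
        · exfalso
          rw [← orderOf_dvd_iff_pow_eq_one, hk, Nat.pow_dvd_pow_iff_le_right (by norm_num)] at h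
          omega
        · exact h ▸ pow_mem htD _
      haveI : (D.map (QuotientGroup.mk' (zpowers z))).Normal := hDn.map _ (QuotientGroup.mk'_surjective _)
      have hcardQ : Nat.card (D.map (QuotientGroup.mk' (zpowers z))) = 2 := by
        rw [← relIndex_ker, QuotientGroup.ker_mk']
        have h1 := relIndex_mul_relIndex ⊥ (zpowers z) D bot_le (zpowers_le.2 hzD)
        rw [relIndex_bot_left, relIndex_bot_left, Nat.card_zpowers, hzo, hDc] at h1
        omega
      have hcen := CfsgLib.PGroups.le_center_of_card_prime (hG.to_quotient _) hcardQ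
      have hDW : D ≤ W := by
        intro y hy
        refine ⟨?_, fun g => ?_⟩
        · rw [← QuotientGroup.eq_one_iff, QuotientGroup.mk_pow]
          have h1 := pow_card_eq_one' (x := (⟨_, mem_map_of_mem (QuotientGroup.mk' (zpowers z)) hy⟩ :
            D.map (QuotientGroup.mk' (zpowers z))))
          rw [hcardQ] at h1
          exact congrArg Subtype.val h1
        · rw [← QuotientGroup.eq_one_iff]
          have h1 := mem_center_iff.1 (hcen (mem_map_of_mem _ hy)) (QuotientGroup.mk' (zpowers z) g)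
          simp only [QuotientGroup.mk'_apply] at h1
          simp only [QuotientGroup.mk_mul, QuotientGroup.mk_inv]
          rw [h1]
          group
      have hDz : D ≤ zpowers z := fun y hy => hKW y (hDW hy) (hDK hy)
      have := card_le_of_le hDz
      rw [hDc, Nat.card_zpowers, hzo] at this
      omega
    have hge : g * e = e * g := (mem_centralizer_iff.1 hg e heE).symm
    have hWgen : ∀ h : P, h * e = e * h → h * x₀ = x₀ * h → h ∈ K := by
      intro h hhe hhx
      refine mem_centralizer_iff.2 fun w hw => ?_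
      have hEh : E ≤ centralizer ({h} : Set P) := by
        rw [hsup]
        exact sup_le (zpowers_le.2 (mem_centralizer_singleton_iff.2 (hzz h).symm))
          (zpowers_le.2 (mem_centralizer_singleton_iff.2 hhe.symm))
      by_cases hwA : w ∈ A
      · exact mem_centralizer_singleton_iff.1 (hEh (hAE.ge hwA))
      · have hiff := index_eq_two_iff'.1 hidx
        have hwx : w * x₀ ∈ E := by
          rw [hAE]
          have hne : ¬ ((⟨w, hw⟩ : W) ∈ A.subgroupOf W) := fun h' => hwA (mem_subgroupOf.1 h')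
          have hne0 : ¬ ((⟨x₀, hx₀.1⟩ : W) ∈ A.subgroupOf W) := fun h' => hx₀A (mem_subgroupOf.1 h')
          exact mem_subgroupOf.1 ((mul_mem_iff_of_index_two hidx).2 (iff_of_false hne hne0))
        have h5 : Commute (w * x₀) h := mem_centralizer_singleton_iff.1 (hEh hwx)
        have h6 : Commute x₀⁻¹ h := (Commute.inv_left (hhx.symm : Commute x₀ h))
        have h7 := h5.mul_left h6
        rwa [mul_inv_cancel_right] at h7
    obtain ⟨k, hk⟩ := (mem_powers_iff_mem_zpowers).2 (hx₀.1.2 g)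
    simp only at hk
    rcases hzpow _ (hx₀.1.2 g) with h1 | h1
    · have : g * x₀ = x₀ * g := by
        rw [mul_inv_eq_one] at h1
        exact mul_inv_eq_iff_eq_mul.1 h1
      exact (zpowers_le.2 hzE) (hKle (hWgen g hge this))
    · have hgx : g * x₀ * g⁻¹ = z * x₀ := mul_inv_eq_iff_eq_mul.1 h1
      have hex : e * x₀ * e⁻¹ = z * x₀ := by
        have h3 := hconj x₀ hx₀.1 hx₀A
        have h4 : e⁻¹ = e := inv_eq_of_mul_eq_one_right (by rw [← pow_two, hE e heE])
        rw [h4, mul_assoc]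
        have h5 : x₀ * e = e * z * x₀ := mul_inv_eq_iff_eq_mul.1 h3
        rw [h5, show e * (e * z * x₀) = e ^ 2 * (z * x₀) by rw [pow_two]; group, hE e heE, one_mul]
      have h6 : (e⁻¹ * g) * x₀ = x₀ * (e⁻¹ * g) := by
        rw [← mul_inv_eq_iff_eq_mul]
        calc e⁻¹ * g * x₀ * (e⁻¹ * g)⁻¹ = e⁻¹ * (g * x₀ * g⁻¹) * e := by group
          _ = e⁻¹ * (e * x₀ * e⁻¹) * e := by rw [hgx, hex]
          _ = x₀ := by group
      have h7 : e⁻¹ * g * e = e * (e⁻¹ * g) := by
        rw [mul_assoc, hge]; group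
      have h8 := zpowers_le.2 hzE (hKle (hWgen _ h7 h6))
      have h9 := mul_mem heE h8
      rwa [mul_inv_cancel_left] at h9
  · exact fun v hv => mem_centralizer_iff.2 fun w hw => congrArg Subtype.val
      (IsPGroup.commutative_of_card_eq_prime_sq hEc (⟨w, hw⟩ : E) ⟨v, hv⟩)

/-- The number of cyclic normal subgroups of order `p ^ b` is divisible by `p`. -/
theorem dvd_card_cyclic_normal {n : ℕ} (hP : Nat.card P = p ^ n) (hnc : ¬ IsCyclic P)
    (h2 : p = 2 → Group.nilpotencyClass P ≠ n - 1) (hb : 2 ≤ b) :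
    p ∣ Nat.card {C : Subgroup P // IsCN p b C} := by
  classical
  have hG : IsPGroup p P := IsPGroup.of_card hP
  obtain ⟨E, z, e, hEn, hEc, hE, hzE, hzc, hz1, heE, hez, hsup, hd, hor⟩ := exists_square hP hnc h2
  by_cases hexc : p = 2 ∧ b = 2 ∧ ¬ E ≤ center P
  · obtain ⟨rfl, rfl, hcen⟩ := hexc
    exact card_cyclic_four hP (h2 rfl) hEn hEc hE hzE hzc hz1 heE hsup hd (hor.resolve_left hcen)
  haveI := hEn
  haveI hZn : (zpowers z).Normal := ⟨fun a ha g => by
    rwa [mem_center_iff.1 (zpowers_le.2 hzc ha) g, mul_inv_cancel_right]⟩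
  haveI := Fintype.ofFinite {C : Subgroup P // IsCN p b C}
  let key : {C : Subgroup P // IsCN p b C} → Subgroup P := fun C => if z ∈ C.1 then C.1 ⊔ E else C.1 ⊔ zpowers z
  haveI := Fintype.ofFinite (Subgroup P)
  rw [Nat.card_eq_fintype_card, ← Finset.card_univ,
    Finset.card_eq_sum_card_fiberwise (f := key) (t := Finset.univ) fun C _ => Finset.mem_univ _]
  refine Finset.dvd_sum fun K _ => ?_
  rw [← Fintype.card_subtype, ← Nat.card_eq_fintype_card]
  rcases isEmpty_or_nonempty {C : {C : Subgroup P // IsCN p b C} // key C = K} with hemp | ⟨⟨C, rfl⟩⟩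
  · rw [Nat.card_of_isEmpty]
    exact dvd_zero p
  obtain ⟨x, hxC⟩ := (Subgroup.isCyclic_iff_exists_zpowers_eq_top C.1).1 C.2.2.1
  have hx : orderOf x = p ^ b := by rw [← Nat.card_zpowers, hxC, C.2.2.2]
  have hxn : (zpowers x).Normal := hxC ▸ C.2.1
  have hexp : ∀ c : P, (c = 1 → True) → ¬ (p = 2 ∧ b = 2) → p ∣ (p ^ (b - 1)).choose 2 := by
    intro _ _ hne
    obtain ⟨t, ht⟩ : p ∣ p ^ (b - 1) := dvd_pow_self p (by omega)
    have h2c := Nat.choose_two_right (p ^ (b - 1))
    by_cases hp2 : p = 2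
    · subst hp2
      obtain ⟨r, hr⟩ : 2 ∣ t := by
        have : t = 2 ^ (b - 2) := by
          refine Nat.eq_of_mul_eq_mul_left two_pos (ht.symm.trans ?_)
          rw [← pow_succ']; congr 1; omega
        rw [this]
        exact dvd_pow_self 2 (by omega)
      refine ⟨r * (2 ^ (b - 1) - 1), ?_⟩
      rw [h2c]
      conv_lhs => rw [ht, hr]
      rw [show 2 * (2 * r) * (2 * (2 * r) - 1) = 2 * (2 * (r * (2 * (2 * r) - 1))) by ring,
        Nat.mul_div_cancel_left _ two_pos]
      rw [ht, hr]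
    · have h3 : 2 * (p ^ (b - 1)).choose 2 = p ^ (b - 1) * (p ^ (b - 1) - 1) := by
        rw [h2c, Nat.mul_div_cancel' (Nat.even_mul_pred_self _).two_dvd]
      have h4 : p ∣ 2 * (p ^ (b - 1)).choose 2 := by rw [h3, ht, mul_assoc]; exact dvd_mul_right _ _
      exact ((Nat.coprime_primes hp.out Nat.prime_two).2 hp2).dvd_of_dvd_mul_left h4
  by_cases hzC : z ∈ C.1
  · have hkey : key C = zpowers x ⊔ zpowers e := by
      show (if z ∈ C.1 then C.1 ⊔ E else C.1 ⊔ zpowers z) = _
      rw [if_pos hzC, hsup, ← hxC, ← sup_assoc, sup_eq_left.2 (zpowers_le.2 (show z ∈ zpowers x from hxC.symm ▸ hzC))]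
    have hzx : z ∈ zpowers x := hxC.symm ▸ hzC
    have hzp : ∀ d ∈ zpowers z, d ∈ zpowers x ∧ d ∈ center P ∧ d ^ p = 1 := fun d hd' =>
      ⟨zpowers_le.2 hzx hd', zpowers_le.2 hzc hd', hE d (zpowers_le.2 hzE hd')⟩
    have hex : e ∉ zpowers x := by
      intro h
      refine hez ?_
      have h1 := mem_zpowers_of_pow_eq_one (by omega) hx h (hE e heE)
      have h3 := mem_zpowers_of_pow_eq_one (by omega) hx hzx (hE z hzE)
      have hwle : zpowers (x ^ p ^ (b - 1)) ≤ zpowers z := by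
        refine (eq_of_le_of_card_ge (zpowers_le.2 h3) ?_).ge
        rw [Nat.card_zpowers, Nat.card_zpowers, orderOf_eq_prime (hE z hzE) hz1]
        refine Nat.le_of_dvd hp.out.pos (orderOf_dvd_of_pow_eq_one ?_)
        rw [← pow_mul, ← pow_succ, Nat.sub_add_cancel (by omega : 1 ≤ b), ← hx, pow_orderOf_eq_one]
      exact hwle h1
    obtain ⟨d₀, hd₀, hxe⟩ := hd x
    obtain ⟨hc1, hc2, hc3⟩ := hzp d₀⁻¹ (inv_mem hd₀)
    have hswap : e * x = x * e * d₀⁻¹ := by
      have h1 : x * e = e * d₀ * x := mul_inv_eq_iff_eq_mul.1 hxe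
      rw [h1, mem_center_iff.1 hc2 (e * d₀ * x), ← mul_assoc, ← mul_assoc, ← mem_center_iff.1 hc2 e,
        inv_mul_cancel_right]
    have hexp' : d₀⁻¹ = 1 ∨ p ∣ (p ^ (b - 1)).choose 2 := by
      by_cases hne : p = 2 ∧ b = 2
      · left
        have hec : e ∈ center P := (not_not.1 fun h => hexc ⟨hne.1, hne.2, h⟩) heE
        rw [mem_center_iff.1 hec x, mul_assoc, mul_inv_cancel, mul_one] at hxe
        rw [left_eq_mul.1 hxe, inv_one]
      · exact Or.inr (hexp 1 (fun _ => trivial) hne)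
    obtain ⟨hcard, hprop⟩ := fibre hG hb hx hxn (hE e heE) hex hc2 hc3 hc1 hswap hexp'
      (fun g => by obtain ⟨d, hd', hg⟩ := hd g; exact ⟨d, (hzp d hd').1, (hzp d hd').2.1, (hzp d hd').2.2, hg⟩)
    refine Eq.dvd (Eq.trans hcard.symm (Nat.card_congr ?_))
    refine
      { toFun := fun D => ⟨⟨D.1, D.2.1⟩, ?_⟩
        invFun := fun D => ⟨D.1.1, D.1.2, ?_⟩
        left_inv := fun D => rfl
        right_inv := fun D => rfl }
    · obtain ⟨h1, h3⟩ := hprop D.1 D.2.1 D.2.2
      have hzD : z ∈ D.1 := zpowers_le.2 h1 (mem_zpowers_of_pow_eq_one (by omega) hx hzx (hE z hzE))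
      show (if z ∈ D.1 then D.1 ⊔ E else D.1 ⊔ zpowers z) = key C
      rw [if_pos hzD, hkey]
      refine le_antisymm (sup_le D.2.2 (hsup ▸ sup_le (zpowers_le.2 (mem_sup_left hzx)) le_sup_right))
        (sup_le (h3.trans (sup_le_sup_left (zpowers_le.2 heE) _)) (le_sup_of_le_right (zpowers_le.2 heE)))
    · refine le_of_le_of_eq ?_ (D.2.trans hkey)
      show D.1.1 ≤ if z ∈ D.1.1 then D.1.1 ⊔ E else D.1.1 ⊔ zpowers z
      split_ifs <;> exact le_sup_left
  · have hkey : key C = zpowers x ⊔ zpowers z := by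
      show (if z ∈ C.1 then C.1 ⊔ E else C.1 ⊔ zpowers z) = _
      rw [if_neg hzC, hxC]
    have hzx : z ∉ zpowers x := hxC.symm ▸ hzC
    obtain ⟨hcard, hprop⟩ := fibre hG hb hx hxn (hE z hzE) hzx (one_mem _) (one_pow _) (one_mem _)
      (by rw [mul_one, mem_center_iff.1 hzc x]) (Or.inl rfl)
      (fun g => ⟨1, one_mem _, one_mem _, one_pow _, by rw [mul_one, mem_center_iff.1 hzc g, mul_inv_cancel_right]⟩)
    refine Eq.dvd (Eq.trans hcard.symm (Nat.card_congr ?_))
    refine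
      { toFun := fun D => ⟨⟨D.1, D.2.1⟩, ?_⟩
        invFun := fun D => ⟨D.1.1, D.1.2, ?_⟩
        left_inv := fun D => rfl
        right_inv := fun D => rfl }
    · obtain ⟨h1, h3⟩ := hprop D.1 D.2.1 D.2.2
      obtain ⟨y, hy⟩ := (Subgroup.isCyclic_iff_exists_zpowers_eq_top D.1).1 D.2.1.2.1
      have hyo : orderOf y = p ^ b := by rw [← Nat.card_zpowers, hy, D.2.1.2.2]
      have hzD : z ∉ D.1 := by
        intro h
        refine hzx ?_
        have h4 := mem_zpowers_of_pow_eq_one (by omega) hyo (hy.symm ▸ h) (hE z hzE)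
        have hw1 : x ^ p ^ (b - 1) ≠ 1 := fun hh => by
          rw [← orderOf_dvd_iff_pow_eq_one, hx, Nat.pow_dvd_pow_iff_le_right hp.out.one_lt] at hh
          omega
        have hwp : (x ^ p ^ (b - 1)) ^ p = 1 := by
          rw [← pow_mul, ← pow_succ, Nat.sub_add_cancel (by omega : 1 ≤ b), ← hx, pow_orderOf_eq_one]
        have h5 := mem_zpowers_of_pow_eq_one (by omega) hyo (hy.symm ▸ h1) hwp
        have h6 : zpowers (y ^ p ^ (b - 1)) ≤ zpowers (x ^ p ^ (b - 1)) := by
          refine (eq_of_le_of_card_ge (zpowers_le.2 h5) ?_).ge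
          rw [Nat.card_zpowers, Nat.card_zpowers, orderOf_eq_prime hwp hw1]
          refine Nat.le_of_dvd hp.out.pos (orderOf_dvd_of_pow_eq_one ?_)
          rw [← pow_mul, ← pow_succ, Nat.sub_add_cancel (by omega : 1 ≤ b), ← hyo, pow_orderOf_eq_one]
        exact zpowers_le.2 (pow_mem (mem_zpowers x) _) (h6 h4)
      show (if z ∈ D.1 then D.1 ⊔ E else D.1 ⊔ zpowers z) = key C
      rw [if_neg hzD, hkey]
      exact le_antisymm (sup_le D.2.2 le_sup_right) (sup_le h3 le_sup_right)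
    · refine le_of_le_of_eq ?_ (D.2.trans hkey)
      show D.1.1 ≤ if z ∈ D.1.1 then D.1.1 ⊔ E else D.1.1 ⊔ zpowers z
      split_ifs <;> exact le_sup_left

/-- Non-cyclic subgroups of a given order, reduced to normal subgroups. -/
theorem card_noncyclic_modEq_one {n : ℕ} (hP : Nat.card P = p ^ n) (hnc : ¬ IsCyclic P)
    (h2 : p = 2 → Group.nilpotencyClass P ≠ n - 1) (hb : 2 ≤ b) (hbn : b ≤ n) :
    Nat.card {H : Subgroup P // H.Normal ∧ Nat.card H = p ^ b ∧ ¬ IsCyclic H} ≡ 1 [MOD p] := by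
  classical
  have h1 := CfsgLib.Orders.card_normal_subgroups_modEq_one (G := P) hp.out hP hbn
  obtain ⟨t, ht⟩ := dvd_card_cyclic_normal hP hnc h2 hb
  have hsum : Nat.card {H : Subgroup P // H.Normal ∧ Nat.card H = p ^ b} =
      Nat.card {C : Subgroup P // IsCN p b C} +
        Nat.card {H : Subgroup P // H.Normal ∧ Nat.card H = p ^ b ∧ ¬ IsCyclic H} := by
    rw [← Nat.card_sum]
    refine Nat.card_congr ((Equiv.sumCompl (fun H : {H : Subgroup P // H.Normal ∧ Nat.card H = p ^ b} =>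
      IsCyclic H.1)).symm.trans (Equiv.sumCongr ?_ ?_))
    · exact ⟨fun H => ⟨H.1.1, H.1.2.1, H.2, H.1.2.2⟩, fun C => ⟨⟨C.1, C.2.1, C.2.2.2⟩, C.2.2.1⟩,
        fun _ => rfl, fun _ => rfl⟩
    · exact ⟨fun H => ⟨H.1.1, H.1.2.1, H.1.2.2, H.2⟩, fun H => ⟨⟨H.1, H.2.1, H.2.2.1⟩, H.2.2.2⟩,
        fun _ => rfl, fun _ => rfl⟩
  rw [hsum, ht, Nat.ModEq, Nat.add_comm, Nat.add_mul_mod_self_left] at h1
  exact h1

open scoped Pointwise in
/-- Non-cyclic subgroups of a given `p`-power order and the normal ones of a Sylow subgroup. -/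
theorem card_noncyclic_modEq_sylow {G : Type u} [Group G] [Finite G] (S : Sylow p G) :
    Nat.card {H : Subgroup G // Nat.card H = p ^ b ∧ ¬ IsCyclic H} ≡
      Nat.card {H : Subgroup (S : Subgroup G) // H.Normal ∧ Nat.card H = p ^ b ∧ ¬ IsCyclic H} [MOD p] := by
  let T := {H : Subgroup G // Nat.card H = p ^ b ∧ ¬ IsCyclic H}
  have hT : ∀ (g : G) (H : Subgroup G), Nat.card H = p ^ b ∧ ¬ IsCyclic H →
      Nat.card (MulAut.conj g • H : Subgroup G) = p ^ b ∧ ¬ IsCyclic (MulAut.conj g • H : Subgroup G) :=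
    fun g H h => ⟨by rw [Core.card_conj_smul]; exact h.1,
      fun hc => h.2 ((Subgroup.equivSMul (MulAut.conj g) H).isCyclic.2 hc)⟩
  letI : MulAction (S : Subgroup G) T :=
    { smul := fun g H => ⟨MulAut.conj (g : G) • H.1, hT g H.1 H.2⟩
      one_smul := fun H => Subtype.ext (Core.conj_one_smul H.1)
      mul_smul := fun a c H => Subtype.ext ((Core.conj_smul_conj_smul (a : G) (c : G) H.1).symm) }
  refine (S.isPGroup'.card_modEq_card_fixedPoints T).trans (congrArg (· % p) ?_)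
  have hfix : ∀ H : T, H ∈ MulAction.fixedPoints (S : Subgroup G) T →
      (S : Subgroup G) ≤ normalizer (H.1 : Set G) ∧ H.1 ≤ S := by
    intro H hH
    have hn : (S : Subgroup G) ≤ normalizer (H.1 : Set G) := by
      intro g hg
      have h1 : MulAut.conj g • H.1 = H.1 := congrArg Subtype.val (hH ⟨g, hg⟩)
      rw [mem_normalizer_iff]
      intro v
      constructor
      · intro hv
        exact h1 ▸ Subgroup.smul_mem_pointwise_smul v (MulAut.conj g) H.1 hv
      · intro hv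
        rw [← h1] at hv
        exact (Subgroup.smul_mem_pointwise_smul_iff).1 hv
    refine ⟨hn, ?_⟩
    have hsup : IsPGroup p (H.1 ⊔ (S : Subgroup G) : Subgroup G) :=
      IsPGroup.to_sup_of_normal_left' (IsPGroup.of_card H.2.1) S.isPGroup' hn
    exact le_sup_left.trans (S.is_maximal' hsup le_sup_right).le
  refine Nat.card_congr
    { toFun := fun H => ⟨H.1.1.subgroupOf S, (normal_subgroupOf_iff_le_normalizer (hfix H.1 H.2).2).2 (hfix H.1 H.2).1,
        by rw [Nat.card_congr (subgroupOfEquivOfLe (hfix H.1 H.2).2).toEquiv]; exact H.1.2.1,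
        fun hc => H.1.2.2 ((subgroupOfEquivOfLe (hfix H.1 H.2).2).isCyclic.1 hc)⟩
      invFun := fun H => ⟨⟨H.1.map (S : Subgroup G).subtype,
        by rw [card_map_of_injective (S : Subgroup G).subtype_injective]; exact H.2.2.1,
        fun hc => H.2.2.2 ((H.1.equivMapOfInjective _ (S : Subgroup G).subtype_injective).isCyclic.2 hc)⟩,
        fun g => Subtype.ext ?_⟩
      left_inv := fun H => Subtype.ext (Subtype.ext (map_subgroupOf_eq_of_le (hfix H.1 H.2).2))
      right_inv := fun H => Subtype.ext (comap_map_eq_self_of_injective (S : Subgroup G).subtype_injective _) }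
  show MulAut.conj (g : G) • H.1.map (S : Subgroup G).subtype = H.1.map (S : Subgroup G).subtype
  ext v
  rw [Core.mem_conj_smul_iff]
  constructor
  · rintro ⟨w, hw, hwv⟩
    refine ⟨g * w * g⁻¹, H.2.1.conj_mem w hw g, ?_⟩
    simp only [coe_subtype, Subgroup.coe_mul, InvMemClass.coe_inv] at hwv ⊢
    rw [hwv]
    group
  · rintro ⟨w, hw, rfl⟩
    exact ⟨g⁻¹ * w * g, H.2.1.conj_mem' w hw g, by simp⟩

end CfsgLib.ClassSizes.Kulakoff
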