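import Mathlib
import Cfsg.Agent.Lib.ClassSizes.EngelExponent
import Cfsg.Agent.Lib.PGroups.MaxClassRank

/-!
`p`-th powers in a `p`-group of maximal class, and `|H : ℧₁(H)| ≤ p ^ p` for all subgroups.

`Good m s`: `s` lies outside `L 1` and outside the two-step centralisers seen modulo `L m`.
A good element gives `(s x)^p ≡ s^p (mod L m)` for `x ∈ L 1`, hence the power structure
`x ∈ L i \ L (i+1) → x^p ∈ L (i+p-1) \ L (i+p)` below `L m`, which in turn makes the two-step
centralisers periodic of period `p - 1`, so that a good element for `m + 1` exists.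
-/

set_option autoImplicit false
set_option linter.style.haveILetI false

namespace CfsgLib.ClassSizes.MaxClass

open Subgroup CfsgLib.PGroups CfsgLib.PGroups.MaxClassRank
open scoped commutatorElement

variable {S : Type*} [Group S]

local notation "L" => Subgroup.lowerCentralSeries (⊤ : Subgroup S)

/-- hypotheses and consequences of maximal class -/
structure Data (S : Type*) [Group S] [Finite S] (p n : ℕ) : Prop where
  pgrp : IsPGroup p S
  prime : p.Prime
  hn : 3 ≤ n
  hcard : Nat.card S = p ^ n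
  hbot : (⊤ : Subgroup S).lowerCentralSeries (n - 1) = ⊥
  hfrat : frattini S = (⊤ : Subgroup S).lowerCentralSeries 1
  hser : ∀ j, 1 ≤ j → j ≤ n - 1 →
    Nat.card ((⊤ : Subgroup S).lowerCentralSeries j) = p ^ (n - 1 - j)

variable [Finite S] {p n : ℕ}

theorem Data.of [Fact p.Prime] [Group.IsNilpotent S] (hn : 3 ≤ n) (hcard : Nat.card S = p ^ n)
    (hmax : Group.nilpotencyClass S = n - 1) : Data S p n where
  pgrp := IsPGroup.of_card hcard
  prime := Fact.out
  hn := hn
  hcard := hcard
  hbot := Subgroup.lowerCentralSeries_eq_bot_iff_nilpotencyClass_le.mpr hmax.le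
  hfrat := (card_series (IsPGroup.of_card hcard) hn hcard hmax).1.1
  hser := (card_series (IsPGroup.of_card hcard) hn hcard hmax).2

/-- `Good n m s` -/
def Good (n m : ℕ) (s : S) : Prop :=
  s ∉ L 1 ∧ ∀ j, 1 ≤ j → j + 2 ≤ m → j + 3 ≤ n → s ∉ twoStep (S := S) j

omit [Finite S] in
theorem mk_commute_iff {N : Subgroup S} [N.Normal] {a b : S} :
    ⁅a, b⁆ ∈ N ↔ Commute (a : S ⧸ N) (b : S ⧸ N) := by
  rw [← commutatorElement_eq_one_iff_commute, ← QuotientGroup.eq_one_iff]
  rfl

omit [Finite S] in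
/-- elements of `L t` are central modulo `L (t + 1)` -/
theorem central_mod {t : ℕ} {z : S} (hz : z ∈ L t) (g : S) :
    Commute (z : S ⧸ L (t + 1)) (g : S ⧸ L (t + 1)) :=
  mk_commute_iff.1 (by
    rw [Subgroup.lowerCentralSeries_succ]
    exact Subgroup.commutator_mem_commutator hz (mem_top g))

theorem Data.lt (D : Data S p n) {j : ℕ} (h1 : 1 ≤ j) (h2 : j + 2 ≤ n) : L (j + 1) < L j := by
  refine lt_of_le_of_ne (Subgroup.lowerCentralSeries_antitone _ (Nat.le_succ j)) fun e => ?_
  have a := D.hser j h1 (by omega)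
  have b := D.hser (j + 1) (by omega) (by omega)
  rw [e, a] at b
  have := Nat.pow_right_injective D.prime.two_le b
  omega

theorem Data.lt_zero (D : Data S p n) : L 1 < (⊤ : Subgroup S) := by
  refine lt_top_iff_ne_top.2 fun e => ?_
  have a := D.hser 1 le_rfl (by have := D.hn; omega)
  rw [e, Subgroup.card_top, D.hcard] at a
  have := Nat.pow_right_injective D.prime.two_le a
  have := D.hn
  omega

theorem Data.cover (D : Data S p n) {j : ℕ} (h1 : 1 ≤ j) {x : S} (hx : x ∈ L j)
    (hx' : x ∉ L (j + 1)) : L j ≤ zpowers x ⊔ L (j + 1) := by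
  have := Fact.mk D.prime
  have hjn : j + 2 ≤ n := by
    by_contra h
    have hb : L j = ⊥ := le_bot_iff.1 (le_of_le_of_eq
      (Subgroup.lowerCentralSeries_antitone _ (show n - 1 ≤ j by omega)) D.hbot)
    rw [hb, Subgroup.mem_bot] at hx
    exact hx' (hx ▸ one_mem _)
  have hle : zpowers x ⊔ L (j + 1) ≤ L j :=
    sup_le (zpowers_le.mpr hx) (Subgroup.lowerCentralSeries_antitone _ (Nat.le_succ j))
  refine (Subgroup.eq_of_le_of_card_ge hle ?_).ge
  obtain ⟨e, he⟩ := IsPGroup.iff_card.mp (D.pgrp.to_subgroup (zpowers x ⊔ L (j + 1)))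
  have hlt : Nat.card (L (j + 1)) < Nat.card (zpowers x ⊔ L (j + 1) : Subgroup S) := by
    refine lt_of_le_of_ne (Subgroup.card_le_of_le le_sup_right) fun h => hx' ?_
    rw [Subgroup.eq_of_le_of_card_ge (le_sup_right : L (j + 1) ≤ zpowers x ⊔ L (j + 1)) h.ge]
    exact mem_sup_left (mem_zpowers x)
  rw [D.hser (j + 1) (by omega) (by omega), he] at hlt
  rw [D.hser j h1 (by omega), he]
  exact Nat.pow_le_pow_right D.prime.pos (by
    have := (Nat.pow_lt_pow_iff_right D.prime.one_lt).mp hlt; omega)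

theorem Data.mem_twoStep_of_commute (D : Data S p n) {j : ℕ} (h1 : 1 ≤ j) {x g : S} (hx : x ∈ L j)
    (hx' : x ∉ L (j + 1)) (h : Commute (x : S ⧸ L (j + 2)) (g : S ⧸ L (j + 2))) :
    g ∈ twoStep (S := S) j := by
  refine mem_twoStep.2 fun y hy => ?_
  obtain ⟨u, hu, v, hv, rfl⟩ := mem_sup_of_normal_right.mp (D.cover h1 hx hx' hy)
  obtain ⟨k, rfl⟩ := mem_zpowers_iff.1 hu
  refine mk_commute_iff.2 ?_
  rw [QuotientGroup.mk_mul, QuotientGroup.mk_zpow]
  exact (h.zpow_left k).mul_left (central_mod (t := j + 1) hv g)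

theorem Data.mem_or (D : Data S p n) {i : ℕ} (_hi : 1 ≤ i) (x : S) (hx : x ∈ L i) (hin : n - 1 ≤ i) :
    x = 1 := by
  have h := Subgroup.lowerCentralSeries_antitone _ hin hx
  rwa [D.hbot, Subgroup.mem_bot] at h

/-- `Y` generates modulo `L 1` together with `s` -/
theorem Data.exists_partner (D : Data S p n) {s : S} (hs : s ∉ L 1) :
    ∃ y : S, ⁅y, s⁆ ∉ L 2 := by
  by_contra hc
  push Not at hc
  have := Fact.mk D.prime
  -- `⟨s⟩ L 1` is proper
  by_cases htop : zpowers s ⊔ L 1 = ⊤
  · have h : zpowers s = ⊤ := frattini_nongenerating (D.hfrat ▸ htop)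
    have : IsCyclic S := ⟨s, fun g => Subgroup.mem_zpowers_iff.1 (by rw [h]; exact mem_top g)⟩
    have hcomm : L 1 = ⊥ := by
      rw [Subgroup.top_lowerCentralSeries_one, _root_.commutator_def, Subgroup.commutator_eq_bot_iff_le_centralizer]
      intro a _
      rw [Subgroup.mem_centralizer_iff]
      intro b _
      letI := IsCyclic.commGroup (α := S)
      exact mul_comm b a
    have a := D.hser 1 le_rfl (by have := D.hn; omega)
    rw [hcomm, Subgroup.card_bot] at a
    have := Nat.one_lt_pow (n := n - 1 - 1) (by have := D.hn; omega) D.prime.one_lt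
    omega
  · obtain ⟨y, hy⟩ : ∃ y, y ∉ zpowers s ⊔ L 1 := by
      by_contra h
      push Not at h
      exact htop (eq_top_iff.2 fun g _ => h g)
    -- `⟨y⟩ ⟨s⟩ L 1` is everything
    set K := zpowers y ⊔ (zpowers s ⊔ L 1) with hK
    have hKtop : K = ⊤ := by
      refine Subgroup.eq_top_of_le_card K ?_
      obtain ⟨a, ha⟩ := IsPGroup.iff_card.mp (D.pgrp.to_subgroup (zpowers s ⊔ L 1 : Subgroup S))
      obtain ⟨b, hb⟩ := IsPGroup.iff_card.mp (D.pgrp.to_subgroup K)
      have h1 : Nat.card (L 1) < Nat.card (zpowers s ⊔ L 1 : Subgroup S) := by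
        refine lt_of_le_of_ne (Subgroup.card_le_of_le le_sup_right) fun h => hs ?_
        rw [Subgroup.eq_of_le_of_card_ge (le_sup_right : L 1 ≤ zpowers s ⊔ L 1) h.ge]
        exact mem_sup_left (mem_zpowers s)
      have h2 : Nat.card (zpowers s ⊔ L 1 : Subgroup S) < Nat.card K := by
        refine lt_of_le_of_ne (Subgroup.card_le_of_le le_sup_right) fun h => hy ?_
        rw [Subgroup.eq_of_le_of_card_ge (le_sup_right : zpowers s ⊔ L 1 ≤ K) h.ge]
        exact mem_sup_left (mem_zpowers y)
      rw [D.hser 1 le_rfl (by have := D.hn; omega), ha] at h1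
      rw [ha, hb] at h2
      rw [D.hcard, hb]
      have := (Nat.pow_lt_pow_iff_right D.prime.one_lt).mp h1
      have := (Nat.pow_lt_pow_iff_right D.prime.one_lt).mp h2
      exact Nat.pow_le_pow_right D.prime.pos (by omega)
    have hgen : zpowers y ⊔ zpowers s = ⊤ := by
      refine frattini_nongenerating ?_
      rw [D.hfrat, sup_assoc]
      exact hKtop
    have hle : L 1 ≤ L 2 := by
      rw [Subgroup.top_lowerCentralSeries_one, _root_.commutator_def, Subgroup.commutator_le]
      intro a _ b _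
      refine mk_commute_iff.2 ?_
      have hcy : Commute (y : S ⧸ L 2) (s : S ⧸ L 2) := mk_commute_iff.1 (hc y)
      have key : ∀ z : S, Commute (z : S ⧸ L 2) (y : S ⧸ L 2) → Commute (z : S ⧸ L 2) (s : S ⧸ L 2) →
          ∀ g : S, Commute (z : S ⧸ L 2) (g : S ⧸ L 2) := by
        intro z hzy hzs g
        have : zpowers y ⊔ zpowers s ≤ (Subgroup.centralizer {(z : S ⧸ L 2)}).comap (QuotientGroup.mk' (L 2)) := by
          refine sup_le (zpowers_le.2 ?_) (zpowers_le.2 ?_) <;>
            rw [Subgroup.mem_comap, Subgroup.mem_centralizer_singleton_iff]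
          · exact hzy.symm.eq
          · exact hzs.symm.eq
        have hg := this (hgen ▸ mem_top g)
        rw [Subgroup.mem_comap, Subgroup.mem_centralizer_singleton_iff] at hg
        exact (show Commute (g : S ⧸ L 2) (z : S ⧸ L 2) from hg).symm
      exact key a (key y (Commute.refl _) hcy a).symm (key s hcy.symm (Commute.refl _) a).symm b
    exact (D.lt (j := 1) le_rfl (by have := D.hn; omega)).not_ge hle

theorem Data.step_not_mem (D : Data S p n) {m : ℕ} (hm : m ≤ n - 1) {s : S} (hs : Good n m s)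
    {j : ℕ} (h1 : 1 ≤ j) (hj : j + 2 ≤ m) {w : S} (hw : w ∈ L j) (hw' : w ∉ L (j + 1)) :
    stepComm s w ∉ L (j + 2) := by
  intro h
  refine hs.2 j h1 hj (by omega) (D.mem_twoStep_of_commute h1 hw hw' ?_)
  rw [stepComm_eq, mk_commute_iff, QuotientGroup.mk_inv, QuotientGroup.mk_inv] at h
  exact Commute.inv_inv_iff.1 h

theorem Data.iter_not_mem (D : Data S p n) {m : ℕ} (hm : m ≤ n - 1) {s : S} (hs : Good n m s)
    {i : ℕ} (hi : 1 ≤ i) {w : S} (hw : w ∈ L i) (hw' : w ∉ L (i + 1)) :
    ∀ k, i + k + 1 ≤ m → iterComm s w k ∉ L (i + k + 1) := by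
  intro k
  induction k with
  | zero => intro _; exact hw'
  | succ k ih =>
    intro hk
    rw [iterComm_succ]
    exact D.step_not_mem hm hs (j := i + k) (by omega) (by omega) (iterComm_mem hw k) (ih (by omega))

/-- `s L 1` is a single class modulo `L m`. -/
theorem Data.conj_class (D : Data S p n) {m : ℕ} (hm : m ≤ n - 1) {s : S} (hs : Good n m s)
    {x : S} (hx : x ∈ L 1) :
    ∀ t, 1 ≤ t → t ≤ m → ∃ g : S, (g * s * g⁻¹)⁻¹ * (s * x) ∈ L t := by
  intro t ht
  induction t, ht using Nat.le_induction with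
  | base => intro _; exact ⟨1, by simpa using hx⟩
  | succ t ht ih =>
    intro htm
    obtain ⟨g, hg⟩ := ih (by omega)
    set d := (g * s * g⁻¹)⁻¹ * (s * x) with hd
    have hdd : s * x = (g * s * g⁻¹) * d := by rw [hd, mul_inv_cancel_left]
    obtain ⟨u, hu, hus⟩ : ∃ u ∈ L (t - 1), ⁅u, s⁆ ∉ L (t + 1) := by
      rcases Nat.eq_or_lt_of_le ht with rfl | ht'
      · obtain ⟨y, hy⟩ := D.exists_partner hs.1
        exact ⟨y, by simp, hy⟩
      · by_contra hc
        push Not at hc
        refine hs.2 (t - 1) (by omega) (by omega) (by omega) (mem_twoStep.2 fun y hy => ?_)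
        rw [show t - 1 + 2 = t + 1 by omega]
        exact hc y hy
    have hc : ⁅u, s⁆ ∈ L t := by
      have := Subgroup.commutator_mem_commutator hu (mem_top s)
      rwa [← Subgroup.lowerCentralSeries_succ, show t - 1 + 1 = t by omega] at this
    obtain ⟨a, ha, l, hl, hal⟩ := mem_sup_of_normal_right.mp (D.cover ht hc hus hg)
    obtain ⟨k, rfl⟩ := mem_zpowers_iff.1 ha
    -- commutation with `s` is a homomorphism on `L (t-1)` modulo `L (t+1)`
    have hcen : ∀ w ∈ L t, ∀ v : S, Commute (w : S ⧸ L (t + 1)) (v : S ⧸ L (t + 1)) :=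
      fun w hw v => central_mod hw v
    have hpow : ((u ^ k * s * (u ^ k)⁻¹ : S) : S ⧸ L (t + 1)) = ((⁅u, s⁆ ^ k * s : S) : S ⧸ L (t + 1)) := by
      simp only [QuotientGroup.mk_mul, QuotientGroup.mk_inv, QuotientGroup.mk_zpow]
      set U := (u : S ⧸ L (t + 1))
      set V := (s : S ⧸ L (t + 1))
      set C := ((⁅u, s⁆ : S) : S ⧸ L (t + 1)) with hC
      have hUV : SemiconjBy U V (C * V) := by
        show U * V = C * V * U
        have : C = U * V * U⁻¹ * V⁻¹ := by rw [hC]; rfl
        rw [this]; group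
      have hCU : Commute C U := hcen _ hc u
      have hCV : Commute C V := hcen _ hc s
      have hN : ∀ i : ℕ, U ^ i * V * (U ^ i)⁻¹ = C ^ i * V := by
        intro i
        induction i with
        | zero => rw [pow_zero, pow_zero]; group
        | succ i ih =>
          calc U ^ (i + 1) * V * (U ^ (i + 1))⁻¹ = U * (U ^ i * V * (U ^ i)⁻¹) * U⁻¹ := by
                rw [pow_succ']; group
            _ = U * C ^ i * V * U⁻¹ := by rw [ih, ← mul_assoc]
            _ = C ^ i * (U * V) * U⁻¹ := by rw [← (hCU.pow_left i).eq]; group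
            _ = C ^ i * (C * V * U) * U⁻¹ := by rw [hUV.eq]
            _ = C ^ (i + 1) * V := by rw [pow_succ]; group
      cases k with
      | ofNat i => simp only [Int.ofNat_eq_natCast, zpow_natCast]; exact hN i
      | negSucc i =>
        simp only [zpow_negSucc, inv_inv]
        have := hN (i + 1)
        rw [eq_inv_mul_iff_mul_eq]
        calc C ^ (i + 1) * ((U ^ (i + 1))⁻¹ * V * U ^ (i + 1))
            = C ^ (i + 1) * (U ^ (i + 1))⁻¹ * V * U ^ (i + 1) := by group
          _ = (U ^ (i + 1))⁻¹ * C ^ (i + 1) * V * U ^ (i + 1) := by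
              rw [((hCU.pow_pow (i + 1) (i + 1)).inv_right).eq]
          _ = (U ^ (i + 1))⁻¹ * (C ^ (i + 1) * V) * U ^ (i + 1) := by group
          _ = V := by rw [← this]; group
    refine ⟨g * u ^ k, QuotientGroup.eq.1 ?_⟩
    have hv : ((⁅u, s⁆ ^ k : S) : S ⧸ L (t + 1)) = (d : S ⧸ L (t + 1)) := by
      rw [← hal, QuotientGroup.mk_mul, (QuotientGroup.eq_one_iff l).2 hl, mul_one]
    calc ((g * u ^ k * s * (g * u ^ k)⁻¹ : S) : S ⧸ L (t + 1))
        = (g : S ⧸ L (t + 1)) * ((u ^ k * s * (u ^ k)⁻¹ : S) : S ⧸ L (t + 1)) * (g : S ⧸ L (t + 1))⁻¹ := by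
          simp only [QuotientGroup.mk_mul, QuotientGroup.mk_inv]; group
      _ = (g : S ⧸ L (t + 1)) * ((d : S ⧸ L (t + 1)) * (s : S ⧸ L (t + 1))) * (g : S ⧸ L (t + 1))⁻¹ := by
          rw [hpow, QuotientGroup.mk_mul, hv]
      _ = ((s * x : S) : S ⧸ L (t + 1)) := by
          have c := (hcen d hg (g * s * g⁻¹)).eq
          rw [hdd]
          simp only [QuotientGroup.mk_mul, QuotientGroup.mk_inv] at c ⊢
          rw [← c]
          calc (g : S ⧸ L (t + 1)) * ((d : S ⧸ L (t + 1)) * (s : S ⧸ L (t + 1))) * (g : S ⧸ L (t + 1))⁻¹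
              = ((g : S ⧸ L (t + 1)) * (d : S ⧸ L (t + 1))) * ((s : S ⧸ L (t + 1)) * (g : S ⧸ L (t + 1))⁻¹) := by
                group
            _ = ((d : S ⧸ L (t + 1)) * (g : S ⧸ L (t + 1))) * ((s : S ⧸ L (t + 1)) * (g : S ⧸ L (t + 1))⁻¹) := by
                rw [(hcen d hg g).eq]
            _ = _ := by group

/-- `s ^ p` is central modulo `L m`. -/
theorem Data.pow_deep (D : Data S p n) {m : ℕ} (hm : m ≤ n - 1) {s : S} (hs : Good n m s) :
    ∀ j, 1 ≤ j → j + 1 ≤ m → s ^ p ∈ L j := by
  have := Fact.mk D.prime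
  intro j hj
  induction j, hj using Nat.le_induction with
  | base => intro _; rw [← D.hfrat]; exact pow_mem_frattini D.pgrp s
  | succ j hj ih =>
    intro hjm
    by_contra hnot
    refine hs.2 j hj (by omega) (by omega) (D.mem_twoStep_of_commute hj (ih (by omega)) hnot ?_)
    rw [QuotientGroup.mk_pow]
    exact (Commute.refl _).pow_left p

/-- `(s x)^p ≡ s^p` -/
theorem Data.mul_pow_mem (D : Data S p n) {m : ℕ} (hm : m ≤ n - 1) (hm2 : 2 ≤ m) {s : S}
    (hs : Good n m s) {x : S} (hx : x ∈ L 1) : prodSeq s x p ∈ L m := by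
  obtain ⟨g, hg⟩ := D.conj_class hm hs hx m (by omega) le_rfl
  have h1 := QuotientGroup.eq.2 hg
  have hc := central_mod (D.pow_deep hm hs (m - 1) (by omega) (by omega)) g
  rw [show m - 1 + 1 = m by omega] at hc
  refine (QuotientGroup.eq_one_iff _).1 ?_
  simp only [prodSeq, QuotientGroup.mk_mul, QuotientGroup.mk_inv, QuotientGroup.mk_pow] at hc h1 ⊢
  rw [← h1, conj_pow, ← hc.eq]
  group

omit [Finite S] in
theorem isPolySeq_conjSeq (s : S) {i : ℕ} {w : S} (hw : w ∈ L i) :
    IsPolySeq (fun d => L (d - 1)) (i + 1) (conjSeq s w) := by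
  intro k a
  show seqDiff^[k] (conjSeq s w) a ∈ L (i + 1 + k - 1)
  rw [iterate_seqDiff_conjSeq, show i + 1 + k - 1 = i + k by omega]
  exact (inferInstance : (L (i + k)).Normal).conj_mem' _ (iterComm_mem hw k) _

omit [Finite S] in
theorem isPolySeq_prodSeq (s : S) {i : ℕ} (hi : 1 ≤ i) {x : S} (hx : x ∈ L i) :
    IsPolySeq (fun d => L (d - 1)) i (prodSeq s x) := by
  refine isPolySeq_of (fun k => ?_) ?_
  · refine Subgroup.lowerCentralSeries_antitone _ (show i - 1 ≤ i by omega) ?_
    induction k with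
    | zero => simp [prodSeq, one_mem]
    | succ k ih =>
      have h : prodSeq s x (k + 1) = prodSeq s x k * seqDiff (prodSeq s x) k := by simp [seqDiff]
      rw [h, seqDiff_prodSeq]
      exact mul_mem ih ((inferInstance : (L i).Normal).conj_mem' _ (inv_mem hx) _)
  · rw [seqDiff_prodSeq]
    exact isPolySeq_conjSeq s (inv_mem hx)

theorem Data.filt (D : Data S p n) : IsCommFiltration (fun d => L (d - 1)) (n - 1 + 1) :=
  isCommFiltration_lowerCentralSeries D.hbot

/-- `((s x)^p)⁻¹ s^p` lies deep when all relevant `p`-th powers do -/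
theorem Data.norm_mem (D : Data S p n) (s : S) {i t : ℕ} (hi : 1 ≤ i) {x : S} (hx : x ∈ L i)
    (hc : ∀ k, i ≤ k → ∀ c ∈ L k, c ^ p ∈ L t) (ht : t + 1 ≤ i + p) : prodSeq s x p ∈ L t := by
  refine (QuotientGroup.eq_one_iff _).1 ?_
  rw [eval_prime D.filt (fun d => inferInstance) D.prime hi (L t)
    (Subgroup.lowerCentralSeries_antitone _ (by omega)) le_rfl D.prime.pos
    (fun k hk _ c hc' => hc (i + k - 1) (by omega) c hc')
    (isPolySeq_prodSeq s hi hx) (fun j hj => by
      obtain rfl : j = 0 := by omega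
      simp [prodSeq])]
  refine (QuotientGroup.eq_one_iff _).2 (Subgroup.lowerCentralSeries_antitone _ ?_
    ((isPolySeq_prodSeq s hi hx) p 0))
  omega

/-- the leading term of a `p`-th power -/
theorem Data.pow_eq (D : Data S p n) {m : ℕ} (hm : m ≤ n - 1) (hm2 : 2 ≤ m) {s : S} (hs : Good n m s)
    {i t : ℕ} (hi : 1 ≤ i) {x : S} (hx : x ∈ L i)
    (hc : ∀ k, i + 1 ≤ k → ∀ c ∈ L k, c ^ p ∈ L t) (ht : t ≤ i + p) (htm : t ≤ m) :
    ((x ^ p : S) : S ⧸ L t) = ((iterComm s x⁻¹ (p - 1) : S) : S ⧸ L t) := by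
  have hΦ := D.filt
  have hp2 := D.prime.two_le
  set b : ℕ → S := fun k => x⁻¹ ^ k.choose 1 with hb
  have hbP : IsPolySeq (fun d => L (d - 1)) i b :=
    isPolySeq_choose hΦ 1 i (by show x⁻¹ ∈ L (i + 1 - 1); simpa using inv_mem hx)
  have hP := isPolySeq_prodSeq s hi hx
  have hf : IsPolySeq (fun d => L (d - 1)) i (prodSeq s x * b⁻¹) := hP.mul hΦ (hbP.inv hΦ)
  have hev := eval_prime hΦ (fun d => inferInstance) D.prime hi (L t)
    (Subgroup.lowerCentralSeries_antitone _ (by omega)) (k0 := 2) (by omega) (by omega)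
    (fun k hk _ c hc' => hc (i + k - 1) (by omega) c hc') hf (fun j hj => by
      rcases (show j = 0 ∨ j = 1 by omega) with rfl | rfl
      · simp [prodSeq, hb]
      · simp [prodSeq, hb])
  have h1 := diff_mul_mod hΦ (fun d => inferInstance) p i hi _ _ hP (hbP.inv hΦ) 0
  have h2 := diff_inv_mod hΦ (fun d => inferInstance) (k := p) hi hbP 0
  have hb1 : seqDiff^[p] b 0 = 1 := by
    rw [hb, seqDiff_iterate_choose_eq_one _ (by omega : 1 < p)]
  rw [hb1, inv_one] at h2
  rw [QuotientGroup.mk_mul, h2, QuotientGroup.mk_one, mul_one] at h1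
  obtain ⟨q, hq⟩ : ∃ q, p = q + 1 := ⟨p - 1, by omega⟩
  have h3 : seqDiff^[p] (prodSeq s x) 0 = iterComm s x⁻¹ (p - 1) := by
    rw [hq, Function.iterate_succ_apply, seqDiff_prodSeq, iterate_seqDiff_conjSeq]
    simp [conjSeq]
  rw [← h3, ← QuotientGroup.eq.2 (Subgroup.lowerCentralSeries_antitone _ (show t ≤ i + p + 1 - 1 by omega)
    (QuotientGroup.eq.1 h1)), ← hev]
  have h4 : prodSeq s x p ∈ L t :=
    Subgroup.lowerCentralSeries_antitone _ htm (D.mul_pow_mem hm hm2 hs
      (Subgroup.lowerCentralSeries_antitone _ hi hx))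
  simp [hb, (QuotientGroup.eq_one_iff _).2 h4]

/-- power map -/
theorem Data.pow_mem (D : Data S p n) {m : ℕ} (hm : m ≤ n - 1) (hm2 : 2 ≤ m) {s : S} (hs : Good n m s) :
    ∀ i t, 1 ≤ i → t + 1 ≤ i + p → t ≤ m → ∀ x ∈ L i, x ^ p ∈ L t := by
  suffices h : ∀ r i t, n ≤ i + r → 1 ≤ i → t + 1 ≤ i + p → t ≤ m → ∀ x ∈ L i, x ^ p ∈ L t from
    fun i t => h n i t (by omega)
  intro r
  induction r with
  | zero =>
    intro i t hr hi _ _ x hx
    rw [D.mem_or hi x hx (by omega), one_pow]
    exact one_mem _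
  | succ r ih =>
    intro i t hr hi ht htm x hx
    refine (QuotientGroup.eq_one_iff _).1 ?_
    rw [D.pow_eq hm hm2 hs hi hx (fun k hk => ih k t (by omega) (by omega) (by omega) htm) (by omega) htm,
      QuotientGroup.eq_one_iff]
    exact Subgroup.lowerCentralSeries_antitone _ (by omega) (iterComm_mem (inv_mem hx) (p - 1))

theorem Data.pow_not_mem (D : Data S p n) {m : ℕ} (hm : m ≤ n - 1) {s : S} (hs : Good n m s)
    {i : ℕ} (hi : 1 ≤ i) (him : i + p ≤ m) {x : S} (hx : x ∈ L i) (hx' : x ∉ L (i + 1)) :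
    x ^ p ∉ L (i + p) := by
  intro h
  have hp := D.prime.two_le
  have h1 := D.pow_eq hm (by omega) hs hi hx
    (fun k hk => D.pow_mem hm (by omega) hs k (i + p) (by omega) (by omega) him) le_rfl him
  rw [(QuotientGroup.eq_one_iff _).2 h, eq_comm, QuotientGroup.eq_one_iff] at h1
  have := D.iter_not_mem hm hs hi (inv_mem hx) (fun hh => hx' (by simpa using inv_mem hh)) (p - 1)
    (by omega)
  rw [show i + (p - 1) + 1 = i + p by omega] at this
  exact this h1

theorem Data.twoStep_ne_top (D : Data S p n) {j : ℕ} (hj : j + 3 ≤ n) : twoStep (S := S) j ≠ ⊤ := by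
  intro htop
  have hle : L (j + 1) ≤ L (j + 2) := by
    rw [Subgroup.lowerCentralSeries_succ _ j, Subgroup.commutator_le]
    exact fun x hx g _ => mem_twoStep.mp (htop ▸ mem_top g) x hx
  exact (D.lt (j := j + 1) (by omega) (by omega)).not_ge hle

theorem Data.twoStep_index_le (D : Data S p n) {j : ℕ} (h1 : 1 ≤ j) (hj : j + 3 ≤ n) :
    (twoStep (S := S) j).index ≤ p := by
  obtain ⟨x, hx, hx'⟩ := SetLike.exists_of_lt (D.lt h1 (by omega))
  set π := QuotientGroup.mk' (L (j + 2)) with hπ
  let f : S ⧸ twoStep (S := S) j → (L (j + 1)).map π := fun q =>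
    ⟨π ⁅x, q.out⁆, Subgroup.mem_map_of_mem _ (by
      rw [Subgroup.lowerCentralSeries_succ]
      exact Subgroup.commutator_mem_commutator hx (mem_top _))⟩
  have hf : Function.Injective f := by
    intro a b hab
    have h : π ⁅x, a.out⁆ = π ⁅x, b.out⁆ := Subtype.ext_iff.1 hab
    rw [← a.out_eq, ← b.out_eq]
    refine QuotientGroup.eq.2 (D.mem_twoStep_of_commute h1 hx hx' ?_)
    rw [map_commutatorElement, map_commutatorElement, commutatorElement_def, commutatorElement_def] at h
    show π x * π (a.out⁻¹ * b.out) = π (a.out⁻¹ * b.out) * π x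
    rw [map_mul, map_inv]
    generalize π x = X at h ⊢
    generalize π a.out = A at h ⊢
    generalize π b.out = B at h ⊢
    have h' : A * X⁻¹ * A⁻¹ = B * X⁻¹ * B⁻¹ := mul_left_cancel (a := X) (by simpa only [mul_assoc] using h)
    have h'' : A * X * A⁻¹ = B * X * B⁻¹ := by
      have := congrArg (·⁻¹) h'
      simpa only [mul_inv_rev, inv_inv, mul_assoc] using this
    calc X * (A⁻¹ * B) = A⁻¹ * (A * X * A⁻¹) * B := by group
      _ = A⁻¹ * (B * X * B⁻¹) * B := by rw [h'']
      _ = A⁻¹ * B * X := by group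
  have hcard : Nat.card ((L (j + 1)).map π) = p := by
    have h := Subgroup.relIndex_ker (f := π) (K := L (j + 1))
    rw [hπ, QuotientGroup.ker_mk'] at h
    rw [← h]
    have h2 := Subgroup.relIndex_mul_relIndex (⊥ : Subgroup S) (L (j + 2)) (L (j + 1)) bot_le
      (Subgroup.lowerCentralSeries_antitone _ (by omega))
    rw [Subgroup.relIndex_bot_left, Subgroup.relIndex_bot_left, D.hser (j + 1) (by omega) (by omega),
      D.hser (j + 2) (by omega) (by omega),
      show n - 1 - (j + 1) = n - 1 - (j + 2) + 1 by omega, pow_succ] at h2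
    exact Nat.eq_of_mul_eq_mul_left (pow_pos D.prime.pos _) h2
  rw [Subgroup.index_eq_card, ← hcard]
  exact Nat.card_le_card_of_injective f hf

theorem Data.twoStep_shift (D : Data S p n) {m : ℕ} (hm : m ≤ n - 1) {s : S} (hs : Good n m s)
    {j : ℕ} (h1 : 1 ≤ j) (hj : j + p + 1 ≤ m) :
    twoStep (S := S) j = twoStep (S := S) (j + (p - 1)) := by
  have := Fact.mk D.prime
  have hp2 := D.prime.two_le
  have hle : twoStep (S := S) j ≤ twoStep (S := S) (j + (p - 1)) := by
    intro g hg
    obtain ⟨x, hx, hx'⟩ := SetLike.exists_of_lt (D.lt h1 (by omega))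
    have hxp : x ^ p ∈ L (j + (p - 1)) := D.pow_mem hm (by omega) hs j _ h1 (by omega) (by omega) x hx
    have hxp' : x ^ p ∉ L (j + (p - 1) + 1) := by
      rw [show j + (p - 1) + 1 = j + p by omega]
      exact D.pow_not_mem hm hs h1 (by omega) hx hx'
    refine D.mem_twoStep_of_commute (by omega) hxp hxp' ?_
    set w := x⁻¹ * (g * x * g⁻¹) with hw
    have hwm : w ∈ L (j + 2) := by
      have : w = ⁅x⁻¹, g⁆ := by simp [hw, commutatorElement_def, mul_assoc]
      rw [this]
      exact mem_twoStep.1 hg _ (inv_mem hx)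
    have h := D.norm_mem x (i := j + 2) (t := j + (p - 1) + 2) (by omega) hwm
      (fun k hk => D.pow_mem hm (by omega) hs k _ (by omega) (by omega) (by omega)) (by omega)
    rw [prodSeq, hw, mul_inv_cancel_left, conj_pow, ← QuotientGroup.eq] at h
    rw [QuotientGroup.mk_mul, QuotientGroup.mk_mul, QuotientGroup.mk_inv, mul_inv_eq_iff_eq_mul] at h
    exact h.symm
  refine Subgroup.eq_of_le_of_card_ge hle ?_
  have a := (twoStep (S := S) j).card_mul_index
  have b := (twoStep (S := S) (j + (p - 1))).card_mul_index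
  have hi := D.twoStep_index_le h1 (by omega)
  obtain ⟨e, he⟩ := D.pgrp.index (twoStep (S := S) (j + (p - 1)))
  have he1 : 1 ≤ e := by
    by_contra h0
    rw [show e = 0 by omega, pow_zero, Subgroup.index_eq_one] at he
    exact D.twoStep_ne_top (by omega) he
  have hpe : p ≤ (twoStep (S := S) (j + (p - 1))).index := by
    rw [he]; exact Nat.le_self_pow (by omega) p
  have hpos : 0 < (twoStep (S := S) j).index := Nat.pos_of_ne_zero Subgroup.index_ne_zero_of_finite
  nlinarith [Nat.mul_le_mul_left (Nat.card (twoStep (S := S) j)) hi,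
    Nat.mul_le_mul_left (Nat.card (twoStep (S := S) (j + (p - 1)))) hpe, hp2]

theorem Data.exists_good (D : Data S p n) : ∀ m, m ≤ n - 1 → ∃ s : S, Good n m s := by
  classical
  have := Fact.mk D.prime
  have hn := D.hn
  obtain ⟨a, ha⟩ : ∃ a, a ∉ L 1 := by
    by_contra h
    push Not at h
    exact D.lt_zero.not_ge fun g _ => h g
  intro m
  induction m with
  | zero => intro _; exact ⟨a, ha, fun j _ hj => by omega⟩
  | succ m ih =>
    intro hm
    obtain ⟨s0, hs0⟩ := ih (by omega)
    have hp2 := D.prime.two_le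
    by_cases hsmall : n ≤ 3 ∨ m + 1 ≤ 2
    · exact ⟨a, ha, fun j _ hj _ => by omega⟩
    push Not at hsmall
    let J := (insert (m - 1) (Finset.Icc 1 (p - 1))).filter (fun j => 1 ≤ j ∧ j + 3 ≤ n)
    have hJcard : J.card ≤ p := (Finset.card_filter_le _ _).trans
      ((Finset.card_insert_le _ _).trans (by simp; omega))
    letI : Fintype S := Fintype.ofFinite S
    obtain ⟨s, hs1, hs⟩ : ∃ s : S, s ≠ 1 ∧ ∀ j ∈ J, s ∉ twoStep (S := S) j := by
      by_contra hc
      push Not at hc
      have h1 : (Finset.univ.erase (1 : S)) ⊆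
          J.biUnion fun j => (Finset.univ.filter (fun s => s ∈ twoStep (S := S) j)).erase 1 := by
        intro s hs
        obtain ⟨hs1, -⟩ := Finset.mem_erase.1 hs
        obtain ⟨j, hj, hsj⟩ := hc s hs1
        exact Finset.mem_biUnion.mpr ⟨j, hj, Finset.mem_erase.2 ⟨hs1, by simpa using hsj⟩⟩
      have h2 : ∀ j ∈ J, ((Finset.univ.filter (fun s => s ∈ twoStep (S := S) j)).erase 1).card ≤
          p ^ (n - 1) - 1 := by
        intro j hj
        rw [Finset.card_erase_of_mem (by simp [one_mem])]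
        refine Nat.sub_le_sub_right ?_ 1
        rw [← Fintype.card_subtype, ← Nat.card_eq_fintype_card]
        obtain ⟨e, he⟩ := IsPGroup.iff_card.mp (D.pgrp.to_subgroup (twoStep (S := S) j))
        show Nat.card (twoStep (S := S) j) ≤ _
        have : e < n := by
          by_contra hh
          refine D.twoStep_ne_top (Finset.mem_filter.1 hj).2.2 (Subgroup.eq_top_of_le_card _ ?_)
          rw [he, D.hcard]; exact Nat.pow_le_pow_right D.prime.pos (by omega)
        rw [he]; exact Nat.pow_le_pow_right D.prime.pos (by omega)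
      have h3 := (Finset.card_le_card h1).trans (Finset.card_biUnion_le_card_mul _ _ _ h2)
      rw [Finset.card_erase_of_mem (Finset.mem_univ _), Finset.card_univ, ← Nat.card_eq_fintype_card,
        D.hcard] at h3
      have h4 : p ^ n = p * p ^ (n - 1) := by rw [← pow_succ']; congr 1; omega
      have h5 : 1 ≤ p ^ (n - 1) := Nat.one_le_pow _ _ D.prime.pos
      have h6 : J.card * (p ^ (n - 1) - 1) ≤ p * (p ^ (n - 1) - 1) := Nat.mul_le_mul_right _ hJcard
      rw [Nat.mul_sub_one p] at h6
      have h7 : p ≤ p * p ^ (n - 1) := Nat.le_mul_of_pos_right _ h5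
      rw [h4] at h3
      omega
    refine ⟨s, fun h => ?_, ?_⟩
    · refine hs 1 (Finset.mem_filter.2 ⟨Finset.mem_insert_of_mem (Finset.mem_Icc.2 ⟨le_rfl, by omega⟩),
        le_rfl, by omega⟩) (mem_twoStep.2 fun x hx => ?_)
      exact Subgroup.lowerCentralSeries_antitone _ (by omega)
        (lowerCentralSeries_commutator_le 1 1 (Subgroup.commutator_mem_commutator hx h))
    · intro j
      induction j using Nat.strong_induction_on with
      | _ j ihj =>
        intro h1 hjm hjn
        by_cases hjp : j ≤ p - 1 ∨ j = m - 1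
        · refine hs j (Finset.mem_filter.2 ⟨?_, h1, hjn⟩)
          rcases hjp with h | h
          · exact Finset.mem_insert_of_mem (Finset.mem_Icc.2 ⟨h1, h⟩)
          · rw [h]; exact Finset.mem_insert_self _ _
        push Not at hjp
        have e := D.twoStep_shift (j := j - (p - 1)) (by omega) hs0 (by omega) (by omega)
        rw [show j - (p - 1) + (p - 1) = j by omega] at e
        rw [← e]
        exact ihj _ (by omega) (by omega) (by omega) (by omega)

/-- not all `p`-th powers are in `L p` -/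
theorem Data.exists_pow_not_mem (D : Data S p n) (hnp : p + 1 ≤ n) : ∃ g : S, g ^ p ∉ L p := by
  by_contra hall
  push Not at hall
  have := Fact.mk D.prime
  have hp2 := D.prime.two_le
  obtain ⟨s, hs⟩ := D.exists_good p (by omega)
  obtain ⟨y, hy⟩ := D.exists_partner hs.1
  set π := QuotientGroup.mk' (L p) with hπ
  have hE := engel_of_exponent_prime (p := p) (G := S ⧸ L p) (fun g => by
      obtain ⟨g, rfl⟩ := QuotientGroup.mk'_surjective (L p) g
      rw [← map_pow]
      exact (QuotientGroup.eq_one_iff _).2 (hall g))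
    (by
      rw [← Subgroup.map_top_of_surjective π (QuotientGroup.mk'_surjective _),
        ← Subgroup.map_lowerCentralSeries, Subgroup.map_eq_bot_iff, hπ, QuotientGroup.ker_mk'])
    (π y) (π s)
  rw [← map_iterComm] at hE
  have hmem : iterComm s y (p - 1) ∈ L p := (QuotientGroup.eq_one_iff _).1 hE
  obtain ⟨q, hq⟩ : ∃ q, p - 1 = q + 1 := ⟨p - 2, by omega⟩
  rw [hq, iterComm, Function.iterate_succ_apply] at hmem
  have h1 : stepComm s y ∈ L 1 := stepComm_mem (j := 0) (by simp)
  have h2 : stepComm s y ∉ L 2 := by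
    intro h
    rw [stepComm_eq, mk_commute_iff, QuotientGroup.mk_inv, QuotientGroup.mk_inv] at h
    exact hy (mk_commute_iff.2 (Commute.inv_inv_iff.1 h))
  have h3 := D.iter_not_mem (m := p) (by omega) hs le_rfl h1 h2 q (by omega)
  rw [show 1 + q + 1 = p by omega] at h3
  exact h3 hmem

/-- `|H : ℧₁(H)| ≤ p ^ p` -/
theorem Data.relIndex_powers_le (D : Data S p n) (H : Subgroup S) :
    (Subgroup.closure {y : S | ∃ h ∈ H, y = h ^ p}).relIndex H ≤ p ^ p := by
  classical
  have := Fact.mk D.prime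
  have hp2 := D.prime.two_le
  have hn := D.hn
  set U := Subgroup.closure {y : S | ∃ h ∈ H, y = h ^ p} with hU
  have hUH : U ≤ H := (Subgroup.closure_le _).2 (by rintro _ ⟨h, hh, rfl⟩; exact H.pow_mem hh p)
  have hUpow : ∀ h ∈ H, h ^ p ∈ U := fun h hh => Subgroup.subset_closure ⟨h, hh, rfl⟩
  have hrel : U.relIndex H * Nat.card U = Nat.card H := by
    have h := Subgroup.relIndex_mul_relIndex ⊥ U H bot_le hUH
    rw [Subgroup.relIndex_bot_left, Subgroup.relIndex_bot_left] at h
    rwa [mul_comm]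
  suffices hmain : Nat.card H ≤ p ^ p * Nat.card U by
    rw [← hrel] at hmain
    exact Nat.le_of_mul_le_mul_right hmain Nat.card_pos
  by_cases hsmall : n ≤ p
  · refine le_trans ?_ (Nat.le_mul_of_pos_right _ Nat.card_pos)
    refine le_trans (Subgroup.card_le_card_group H) ?_
    rw [D.hcard]
    exact Nat.pow_le_pow_right D.prime.pos hsmall
  push Not at hsmall
  obtain ⟨s, hs⟩ := D.exists_good (n - 1) le_rfl
  by_cases htop : H = ⊤
  · -- the whole group
    subst htop
    haveI : U.Normal := ⟨fun u hu g => by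
      have e : U.map (MulAut.conj g).toMonoidHom ≤ U := by
        rw [hU, MonoidHom.map_closure]
        refine Subgroup.closure_mono ?_
        rintro _ ⟨_, ⟨h, -, rfl⟩, rfl⟩
        exact ⟨g * h * g⁻¹, mem_top _, by simp [conj_pow]⟩
      exact e ⟨u, hu, rfl⟩⟩
    obtain ⟨g, hg⟩ := D.exists_pow_not_mem (by omega)
    have hg1 : g ^ p ∈ L 1 := by rw [← D.hfrat]; exact pow_mem_frattini D.pgrp g
    obtain ⟨j, hj1, hjp, hj, hj'⟩ : ∃ j, 1 ≤ j ∧ j < p ∧ g ^ p ∈ L j ∧ g ^ p ∉ L (j + 1) := by
      by_contra hc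
      push Not at hc
      apply hg
      have : ∀ j, 1 ≤ j → j ≤ p → g ^ p ∈ L j := by
        intro j hj
        induction j, hj using Nat.le_induction with
        | base => intro _; exact hg1
        | succ j hj ih => intro hjp; exact hc j hj (by omega) (ih (by omega))
      exact this p (by omega) le_rfl
    have hle : L j ≤ U := le_of_normal D.hbot U ((D.cover hj1 hj hj').trans
      (sup_le_sup_right (zpowers_le.2 (hUpow g (mem_top _))) _))
    have := Subgroup.card_le_of_le hle
    rw [D.hser j hj1 (by omega)] at this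
    rw [Subgroup.card_top, D.hcard]
    refine le_trans ?_ (Nat.mul_le_mul_left _ this)
    rw [← pow_add]
    exact Nat.pow_le_pow_right D.prime.pos (by omega)
  · -- proper subgroups
    have key : ∀ r i, n ≤ i + r + p → 1 ≤ i →
        Nat.card (H ⊓ L i : Subgroup S) ≤ p ^ (p - 1) * Nat.card (U ⊓ L (i + (p - 1)) : Subgroup S) := by
      intro r
      induction r with
      | zero =>
        intro i hr hi
        refine le_trans ?_ (Nat.le_mul_of_pos_right _ Nat.card_pos)
        refine le_trans (Subgroup.card_le_of_le inf_le_right) ?_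
        rcases Nat.lt_or_ge i n with h | h
        · rw [D.hser i hi (by omega)]
          exact Nat.pow_le_pow_right D.prime.pos (by omega)
        · rw [le_bot_iff.1 (le_of_le_of_eq (Subgroup.lowerCentralSeries_antitone _ (show n - 1 ≤ i by omega)) D.hbot),
            Subgroup.card_bot]
          exact Nat.one_le_pow _ _ D.prime.pos
      | succ r ih =>
        intro i hr hi
        by_cases hlast : n ≤ i + r + p
        · exact ih i hlast hi
        have hstep := ih (i + 1) (by omega) (by omega)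
        rw [show i + 1 + (p - 1) = i + (p - 1) + 1 by omega] at hstep
        by_cases hall : H ⊓ L i ≤ L (i + 1)
        · refine le_trans ?_ (le_trans hstep (Nat.mul_le_mul_left _ (Subgroup.card_le_of_le
            (inf_le_inf_left U (Subgroup.lowerCentralSeries_antitone _ (Nat.le_succ _))))))
          exact Subgroup.card_le_of_le (le_inf inf_le_left hall)
        obtain ⟨x, hxm, hx'⟩ := SetLike.not_le_iff_exists.1 hall
        obtain ⟨hxH, hx⟩ := Subgroup.mem_inf.1 hxm
        have hxU : x ^ p ∈ (U ⊓ L (i + (p - 1)) : Subgroup S) :=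
          Subgroup.mem_inf.2 ⟨hUpow x hxH, D.pow_mem le_rfl (by omega) hs i _ hi (by omega) (by omega) x hx⟩
        have hxn : x ^ p ∉ (U ⊓ L (i + (p - 1) + 1) : Subgroup S) := fun h =>
          D.pow_not_mem le_rfl hs hi (by omega) hx hx' (by
            have := (Subgroup.mem_inf.1 h).2
            rwa [show i + (p - 1) + 1 = i + p by omega] at this)
        -- left side grows by at most `p`, right side by at least `p`
        have hA : Nat.card (H ⊓ L i : Subgroup S) ≤ p * Nat.card (H ⊓ L (i + 1) : Subgroup S) := by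
          have hle : L (i + 1) ≤ L i := Subgroup.lowerCentralSeries_antitone _ (Nat.le_succ i)
          have h1 := Subgroup.relIndex_mul_relIndex ⊥ (H ⊓ L (i + 1)) (H ⊓ L i) bot_le (inf_le_inf_left H hle)
          rw [Subgroup.relIndex_bot_left, Subgroup.relIndex_bot_left] at h1
          have h2 : (H ⊓ L (i + 1)).relIndex (H ⊓ L i) ≤ (L (i + 1)).relIndex (L i) := by
            rw [show H ⊓ L (i + 1) = L (i + 1) ⊓ (H ⊓ L i) by
              rw [inf_left_comm, inf_eq_left.2 hle], Subgroup.inf_relIndex_right]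
            exact Subgroup.relIndex_le_of_le_right inf_le_right Subgroup.index_ne_zero_of_finite
          have h3 : (L (i + 1)).relIndex (L i) = p := by
            have := Subgroup.relIndex_mul_relIndex ⊥ (L (i + 1)) (L i) bot_le hle
            rw [Subgroup.relIndex_bot_left, Subgroup.relIndex_bot_left, D.hser i hi (by omega),
              D.hser (i + 1) (by omega) (by omega),
              show n - 1 - i = n - 1 - (i + 1) + 1 by omega, pow_succ] at this
            exact Nat.eq_of_mul_eq_mul_left (pow_pos D.prime.pos _) this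
          rw [← h1, mul_comm p]
          exact Nat.mul_le_mul_left _ (h2.trans h3.le)
        have hB : p * Nat.card (U ⊓ L (i + (p - 1) + 1) : Subgroup S) ≤
            Nat.card (U ⊓ L (i + (p - 1)) : Subgroup S) := by
          set A := (U ⊓ L (i + (p - 1) + 1) : Subgroup S) with hA'
          set B := (U ⊓ L (i + (p - 1)) : Subgroup S) with hB'
          have hAB : A ≤ B := inf_le_inf_left U (Subgroup.lowerCentralSeries_antitone _ (Nat.le_succ _))
          obtain ⟨a, ha⟩ := IsPGroup.iff_card.mp (D.pgrp.to_subgroup A)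
          obtain ⟨b, hb⟩ := IsPGroup.iff_card.mp (D.pgrp.to_subgroup B)
          have hlt : Nat.card A < Nat.card B := lt_of_le_of_ne (Subgroup.card_le_of_le hAB) fun h =>
            hxn ((Subgroup.eq_of_le_of_card_ge hAB h.ge) ▸ hxU)
          rw [ha, hb] at hlt
          rw [ha, hb, ← pow_succ']
          exact Nat.pow_le_pow_right D.prime.pos ((Nat.pow_lt_pow_iff_right D.prime.one_lt).mp hlt)
        calc Nat.card (H ⊓ L i : Subgroup S) ≤ p * Nat.card (H ⊓ L (i + 1) : Subgroup S) := hA
          _ ≤ p * (p ^ (p - 1) * Nat.card (U ⊓ L (i + (p - 1) + 1) : Subgroup S)) := Nat.mul_le_mul_left _ hstep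
          _ = p ^ (p - 1) * (p * Nat.card (U ⊓ L (i + (p - 1) + 1) : Subgroup S)) := by ring
          _ ≤ _ := Nat.mul_le_mul_left _ hB
    obtain ⟨M, hM, hHM⟩ := (eq_top_or_exists_le_coatom H).resolve_left htop
    have hL1M : L 1 ≤ M := by rw [← D.hfrat]; exact frattini_le_coatom hM
    obtain ⟨e, he⟩ := IsPGroup.iff_card.mp (D.pgrp.to_subgroup M)
    have hMlt : e < n := by
      by_contra h
      exact hM.1 (Subgroup.eq_top_of_le_card _ (by rw [he, D.hcard]; exact Nat.pow_le_pow_right D.prime.pos (by omega)))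
    have hrelM : (L 1).relIndex M ≤ p := by
      have h := Subgroup.relIndex_mul_relIndex ⊥ (L 1) M bot_le hL1M
      rw [Subgroup.relIndex_bot_left, Subgroup.relIndex_bot_left, he, D.hser 1 le_rfl (by omega)] at h
      refine Nat.le_of_mul_le_mul_left ?_ (pow_pos D.prime.pos (n - 1 - 1))
      rw [h, ← pow_succ]
      exact Nat.pow_le_pow_right D.prime.pos (by omega)
    have hH1 : Nat.card H ≤ p * Nat.card (H ⊓ L 1 : Subgroup S) := by
      have h1 := Subgroup.relIndex_mul_relIndex ⊥ (H ⊓ L 1) H bot_le inf_le_left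
      rw [Subgroup.relIndex_bot_left, Subgroup.relIndex_bot_left] at h1
      rw [← h1, mul_comm p]
      refine Nat.mul_le_mul_left _ ?_
      rw [inf_comm, Subgroup.inf_relIndex_right]
      exact (Subgroup.relIndex_le_of_le_right hHM Subgroup.index_ne_zero_of_finite).trans hrelM
    calc Nat.card H ≤ p * Nat.card (H ⊓ L 1 : Subgroup S) := hH1
      _ ≤ p * (p ^ (p - 1) * Nat.card (U ⊓ L (1 + (p - 1)) : Subgroup S)) :=
          Nat.mul_le_mul_left _ (key n 1 (by omega) le_rfl)
      _ = p ^ p * Nat.card (U ⊓ L (1 + (p - 1)) : Subgroup S) := by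
          rw [← mul_assoc, ← pow_succ', show p - 1 + 1 = p by omega]
      _ ≤ _ := Nat.mul_le_mul_left _ (Subgroup.card_le_of_le inf_le_left)

end CfsgLib.ClassSizes.MaxClass
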