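import Mathlib
import Cfsg.Agent.S3884
import Cfsg.Agent.Lib.PGroups.Metacyclic
import Cfsg.Agent.Lib.PGroups.RankTwoOmega
import Cfsg.Agent.Lib.OddLocal.MetacyclicAction
import Cfsg.Agent.Lib.Transfer.MaximalClass
import Cfsg.Agent.Lib.ClassSizes.Kulakoff

/-!
Automorphisms of order `p` of metacyclic `p`-groups (`p` odd) without cyclic subgroups of index `p`:
the two bottom layers `E ≤ Q` of orders `p ^ 2` and `p ^ 4`, and which automorphisms move `E`.
-/

set_option autoImplicit false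

namespace CfsgLib.ClassSizes.MetacyclicAut

open Subgroup
open scoped commutatorElement

variable {L : Type*} [Group L] [Finite L] {p : ℕ} [hp : Fact p.Prime]

theorem exists_prime_order_of_ne_bot (hL : IsPGroup p L) {A : Subgroup L} (hA : A ≠ ⊥) :
    ∃ x ∈ A, orderOf x = p := by
  have h : p ∣ Nat.card A := by
    rcases (hL.to_subgroup A).card_eq_or_dvd with h | h
    · exact absurd (Subgroup.card_eq_one.mp h) hA
    · exact h
  obtain ⟨x, hx⟩ := exists_prime_orderOf_dvd_card' p h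
  exact ⟨x, x.2, by rw [Subgroup.orderOf_coe, hx]⟩

/-- in a cyclic group an element killed by `p` is a power of any element of order `p` -/
theorem mem_zpowers_of_cyclic [IsCyclic L] {x y : L} (hx : orderOf x = p) (hy : y ^ p = 1) :
    y ∈ zpowers x := by
  rcases eq_or_ne y 1 with rfl | h
  · exact Subgroup.one_mem _
  rw [CfsgLib.ClassSizes.Kulakoff.eq_of_card_eq_of_isCyclic (H := zpowers x) (K := zpowers y)
    (by rw [Nat.card_zpowers, Nat.card_zpowers, hx, orderOf_eq_prime hy h])]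
  exact mem_zpowers y

/-- `Ω₁` of a non-cyclic metacyclic group of odd prime power order -/
theorem exists_omega (hp2 : p ≠ 2) (hL : IsPGroup p L) (hmc : Cfsg.IsMetacyclic L) (hnc : ¬ IsCyclic L) :
    ∃ E : Subgroup L, Nat.card E = p ^ 2 ∧ (∀ x, x ∈ E ↔ x ^ p = 1) := by
  have hp' := hp.out
  obtain ⟨D⟩ := CfsgLib.PGroups.Metacyclic.exists_data hp2 hL hmc
  set N := zpowers D.a with hN
  have hconj : ∀ n ∈ N, ∀ g : L, g * n * g⁻¹ ∈ N := by
    intro n hn g
    obtain ⟨k, rfl⟩ := (mem_powers_iff_mem_zpowers.mpr hn : n ∈ Submonoid.powers D.a)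
    obtain ⟨i, j, rfl⟩ := D.gen g
    have e : D.a ^ i * D.b ^ j * D.a ^ k * (D.a ^ i * D.b ^ j)⁻¹ = D.a ^ ((D.d + 1) ^ j * k) := by
      rw [mul_assoc (D.a ^ i), D.conj_pow, mul_inv_rev, ← mul_assoc (D.a ^ i), ← pow_add,
        Nat.add_comm, pow_add]
      group
    show D.a ^ i * D.b ^ j * D.a ^ k * (D.a ^ i * D.b ^ j)⁻¹ ∈ N
    rw [e]; exact N.pow_mem (mem_zpowers _) _
  haveI : N.Normal := ⟨fun n hn g => hconj n hn g⟩
  have hQc : IsCyclic (L ⧸ N) := by
    refine ⟨⟨(D.b : L ⧸ N), fun v => ?_⟩⟩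
    obtain ⟨v, rfl⟩ := QuotientGroup.mk_surjective v
    obtain ⟨i, j, rfl⟩ := D.gen v
    rw [QuotientGroup.mk_mul, (QuotientGroup.eq_one_iff _).2 (N.pow_mem (mem_zpowers _) i), one_mul,
      QuotientGroup.mk_pow]
    exact Subgroup.pow_mem _ (mem_zpowers _) _
  -- an element of order `p` outside `N`
  obtain ⟨x, hxp, hxN⟩ : ∃ x : L, orderOf x = p ∧ x ∉ N := by
    obtain ⟨A, B, hA, hB, hAB, hcard⟩ := Cfsg.Agent.S3884.result hp2 hL hmc
    have hA' : A ≠ ⊥ := fun h => by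
      subst h
      rw [Subgroup.card_bot, one_mul] at hcard
      rw [Subgroup.eq_top_of_card_eq B hcard] at hB
      exact hnc (isCyclic_of_surjective _ Subgroup.topEquiv.surjective)
    have hB' : B ≠ ⊥ := fun h => by
      subst h
      rw [Subgroup.card_bot, mul_one] at hcard
      rw [Subgroup.eq_top_of_card_eq A hcard] at hA
      exact hnc (isCyclic_of_surjective _ Subgroup.topEquiv.surjective)
    obtain ⟨x, hxA, hx⟩ := exists_prime_order_of_ne_bot hL hA'
    obtain ⟨y, hyB, hy⟩ := exists_prime_order_of_ne_bot hL hB'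
    by_contra h
    push Not at h
    have := h x hx
    have hy' := h y hy
    have h1 := mem_zpowers_of_cyclic (L := N) (x := ⟨x, this⟩) (y := ⟨y, hy'⟩) (p := p)
      (by rw [← Subgroup.orderOf_coe]; exact hx) (Subtype.ext (by rw [← hy]; exact pow_orderOf_eq_one y))
    obtain ⟨k, hk⟩ := h1
    have hk' : x ^ k = y := congrArg Subtype.val hk
    have : y ∈ A ⊓ B := ⟨hk' ▸ A.zpow_mem hxA k, hyB⟩
    rw [hAB, Subgroup.mem_bot] at this
    rw [this, orderOf_one] at hy
    exact hp'.ne_one hy.symm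
  -- an element of order `p` in `N`
  have hNne : N ≠ ⊥ := fun h => by
    have ha : D.a = 1 := Subgroup.zpowers_eq_bot.mp h
    refine hnc ⟨⟨D.b, fun g => ?_⟩⟩
    obtain ⟨i, j, rfl⟩ := D.gen g
    rw [ha, one_pow, one_mul]
    exact Subgroup.pow_mem _ (mem_zpowers _) _
  obtain ⟨z, hzN, hzp⟩ := exists_prime_order_of_ne_bot hL hNne
  have hz_of : ∀ n ∈ N, n ^ p = 1 → n ∈ zpowers z := fun n hn hn1 => by
    obtain ⟨k, hk⟩ := mem_zpowers_of_cyclic (L := N) (x := ⟨z, hzN⟩) (y := ⟨n, hn⟩) (p := p)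
      (by rw [← Subgroup.orderOf_coe]; exact hzp) (Subtype.ext hn1)
    exact ⟨k, congrArg Subtype.val hk⟩
  have hzZ : z ∈ center L := by
    have hle : zpowers z ≤ center L := by
      haveI : (zpowers z).Normal := ⟨fun n hn g => hz_of _ (hconj n (zpowers_le.2 hzN hn) g) (by
        rw [_root_.conj_pow, show n ^ p = 1 from ?_, mul_one, mul_inv_cancel]
        obtain ⟨k, rfl⟩ := hn
        show (z ^ k) ^ p = 1
        rw [← zpow_natCast, ← zpow_mul, mul_comm, zpow_mul, zpow_natCast, ← hzp, pow_orderOf_eq_one, one_zpow])⟩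
      exact CfsgLib.PGroups.RankTwoOmega.le_center_of_card_le hL (by rw [Nat.card_zpowers, hzp])
    exact hle (mem_zpowers z)
  have hxz : Commute z x := (Subgroup.mem_center_iff.mp hzZ x).symm
  have hxp1 : x ^ p = 1 := orderOf_dvd_iff_pow_eq_one.1 hxp.dvd
  have hzp1 : z ^ p = 1 := orderOf_dvd_iff_pow_eq_one.1 hzp.dvd
  let E : Subgroup L := zpowers z ⊔ zpowers x
  haveI : (zpowers z).Normal := ⟨fun n hn g => by
    have hnZ : n ∈ center L := zpowers_le.2 hzZ hn
    rwa [Subgroup.mem_center_iff.mp hnZ g, mul_inv_cancel_right]⟩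
  have hmemE : ∀ y, y ∈ E ↔ ∃ i j : ℤ, z ^ i * x ^ j = y := by
    intro y
    show y ∈ zpowers z ⊔ zpowers x ↔ _
    rw [Subgroup.mem_sup_of_normal_left]
    constructor
    · rintro ⟨_, ⟨i, rfl⟩, _, ⟨j, rfl⟩, rfl⟩; exact ⟨i, j, rfl⟩
    · rintro ⟨i, j, rfl⟩; exact ⟨_, ⟨i, rfl⟩, _, ⟨j, rfl⟩, rfl⟩
  have hE : ∀ y, y ∈ E ↔ y ^ p = 1 := by
    intro y
    constructor
    · intro hy
      obtain ⟨i, j, rfl⟩ := (hmemE y).1 hy
      rw [(hxz.zpow_zpow i j).mul_pow, ← zpow_natCast, ← zpow_natCast (x ^ j), ← zpow_mul, ← zpow_mul,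
        mul_comm i, mul_comm j, zpow_mul, zpow_mul, zpow_natCast, zpow_natCast]
      rw [hzp1, hxp1, one_zpow, one_zpow, one_mul]
    · intro hy
      have hxbar : orderOf (x : L ⧸ N) = p := orderOf_eq_prime
        (by rw [← QuotientGroup.mk_pow, ← hxp, pow_orderOf_eq_one, QuotientGroup.mk_one])
        (fun h => hxN ((QuotientGroup.eq_one_iff x).1 h))
      obtain ⟨l, hl⟩ := (mem_powers_iff_mem_zpowers.mpr (mem_zpowers_of_cyclic (p := p) hxbar
        (y := (y : L ⧸ N)) (by rw [← QuotientGroup.mk_pow, hy, QuotientGroup.mk_one])) :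
          (y : L ⧸ N) ∈ Submonoid.powers (x : L ⧸ N))
      have hn : y * (x ^ l)⁻¹ ∈ N := by
        rw [← QuotientGroup.eq_one_iff, QuotientGroup.mk_mul, QuotientGroup.mk_inv, QuotientGroup.mk_pow]
        exact mul_inv_eq_one.mpr hl.symm
      obtain ⟨t, ht⟩ := (mem_powers_iff_mem_zpowers.mpr hn : y * (x ^ l)⁻¹ ∈ Submonoid.powers D.a)
      obtain ⟨i, j, hij⟩ := D.gen (x ^ l)
      have hy' : y = D.a ^ (t + i) * D.b ^ j := by
        rw [pow_add, mul_assoc, ← hij, show D.a ^ t = y * (x ^ l)⁻¹ from ht, inv_mul_cancel_right]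
      obtain ⟨w, hw, hS⟩ := CfsgLib.PGroups.GeomSum.S_prime (p := p)
        (d := CfsgLib.PGroups.GeomSum.S D.d j * D.d) hp2 (D.hd.mul_left _)
      have h1 := D.pow_rule (t + i) j p
      rw [← hy', hy, Nat.add_mul, pow_add] at h1
      have h2 := D.pow_rule i j p
      rw [← hij, ← pow_mul, mul_comm l p, pow_mul, hxp1, one_pow] at h2
      rw [mul_assoc, ← h2, mul_one, hS] at h1
      have h3 : D.a ^ t ∈ zpowers z := hz_of _ (N.pow_mem (mem_zpowers _) t) (by
        have hd : orderOf ((D.a ^ t) ^ p) ∣ w := by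
          refine orderOf_dvd_of_pow_eq_one ?_
          rw [← pow_mul, ← pow_mul]
          exact h1.symm
        obtain ⟨e, he⟩ := IsPGroup.iff_orderOf.mp hL ((D.a ^ t) ^ p)
        rw [he] at hd
        have he0 : e = 0 := by
          by_contra hne
          exact hw ((dvd_pow_self p hne).trans hd)
        rw [he0, pow_zero, orderOf_eq_one_iff] at he
        exact he)
      rw [show y = D.a ^ t * x ^ l by rw [show D.a ^ t = y * (x ^ l)⁻¹ from ht, inv_mul_cancel_right]]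
      exact mul_mem (le_sup_left (a := zpowers z) h3) (pow_mem (le_sup_right (b := zpowers x) (mem_zpowers x)) _)
  refine ⟨E, ?_, hE⟩
  have hdis : zpowers z ⊓ zpowers x = ⊥ := by
    rw [eq_bot_iff]
    rintro v ⟨hv1, hv2⟩
    by_contra hv
    have hvx : orderOf v = p := by
      refine orderOf_eq_prime ?_ hv
      obtain ⟨k, rfl⟩ := hv2
      show (x ^ k) ^ p = 1
      rw [← zpow_natCast, ← zpow_mul, mul_comm, zpow_mul, zpow_natCast, ← hxp, pow_orderOf_eq_one, one_zpow]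
    have : zpowers v = zpowers x := Subgroup.eq_of_le_of_card_ge (zpowers_le.2 hv2)
      (by rw [Nat.card_zpowers, Nat.card_zpowers, hxp, hvx])
    exact hxN (zpowers_le.2 hzN ((zpowers_le.2 hv1 : zpowers v ≤ zpowers z) (this ▸ mem_zpowers x)))
  have h := Subgroup.IsComplement'.card_mul (H := (zpowers z).subgroupOf E) (K := (zpowers x).subgroupOf E) ?_
  · rw [Nat.card_congr (subgroupOfEquivOfLe le_sup_left).toEquiv,
      Nat.card_congr (subgroupOfEquivOfLe le_sup_right).toEquiv, Nat.card_zpowers, Nat.card_zpowers, hzp, hxp] at h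
    rw [← h, pow_two]
  refine Subgroup.isComplement'_of_disjoint_and_mul_eq_univ ?_ ?_
  · rw [disjoint_iff, ← Subgroup.inf_subgroupOf_left, eq_bot_iff]
    rintro v hv
    apply Subtype.ext
    have hh : (v : L) ∈ zpowers z ⊓ zpowers x := by
      simp only [Subgroup.mem_subgroupOf, Subgroup.mem_inf] at hv ⊢
      tauto
    rwa [hdis, Subgroup.mem_bot] at hh
  · rw [Set.eq_univ_iff_forall]
    rintro ⟨v, hv⟩
    obtain ⟨i, j, rfl⟩ := (hmemE v).1 hv
    exact ⟨⟨z ^ i, le_sup_left (a := zpowers z) (zpow_mem (mem_zpowers z) i)⟩, zpow_mem (mem_zpowers z) i,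
      ⟨x ^ j, le_sup_right (b := zpowers x) (zpow_mem (mem_zpowers x) j)⟩, zpow_mem (mem_zpowers x) j, rfl⟩

/-- The two bottom layers. -/
structure Str (p : ℕ) (E Q : Subgroup L) : Prop where
  memE : ∀ x, x ∈ E ↔ x ^ p = 1
  memQ : ∀ x, x ∈ Q ↔ x ^ p ∈ E
  cardE : Nat.card E = p ^ 2
  cardQ : Nat.card Q = p ^ 4
  comm : ∀ e ∈ E, ∀ x ∈ Q, Commute e x
  mul_pow : ∀ x ∈ Q, ∀ y ∈ Q, (x * y) ^ p = x ^ p * y ^ p
  surj : ∀ e ∈ E, ∃ x ∈ Q, x ^ p = e

theorem exists_str (hp2 : p ≠ 2) (hL : IsPGroup p L) (hmc : Cfsg.IsMetacyclic L) [Nontrivial L]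
    (hnci : ∀ C : Subgroup L, IsCyclic C → C.index ≠ p) : ∃ E Q : Subgroup L, Str p E Q := by
  classical
  have hp' := hp.out
  obtain ⟨n, hn⟩ := IsPGroup.iff_card.mp hL
  have hn0 : n ≠ 0 := by
    rintro rfl
    rw [pow_zero] at hn
    exact absurd hn (Finite.one_lt_card (α := L)).ne'
  have hncL : ¬ IsCyclic L := fun h => by
    obtain ⟨H, hH⟩ := Sylow.exists_subgroup_card_pow_prime p
      (show p ^ (n - 1) ∣ Nat.card L from hn ▸ pow_dvd_pow p (Nat.sub_le n 1))
    refine hnci H inferInstance ?_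
    have h1 := H.card_mul_index
    rw [hH, hn] at h1
    refine Nat.eq_of_mul_eq_mul_left (pow_pos hp'.pos (n - 1)) ?_
    rw [h1, ← pow_succ, Nat.sub_add_cancel (Nat.pos_of_ne_zero hn0)]
  obtain ⟨E, hEc, hE⟩ := exists_omega hp2 hL hmc hncL
  haveI : E.Normal := ⟨fun e he g => by rw [hE] at he ⊢; rw [_root_.conj_pow, he, mul_one, mul_inv_cancel]⟩
  have hLE : Nat.card L = E.index * p ^ 2 := by rw [← hEc, mul_comm, E.card_mul_index]
  have hqnc : ¬ IsCyclic (L ⧸ E) := by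
    intro h
    obtain ⟨xq, hxq⟩ := h.exists_generator
    obtain ⟨x, rfl⟩ := QuotientGroup.mk_surjective xq
    set k := orderOf (x : L ⧸ E) with hk
    have hkidx : k = E.index := by
      rw [hk, ← Nat.card_zpowers, (Subgroup.eq_top_iff' _).2 hxq, Subgroup.card_top]
      rfl
    have hxk : (x ^ k) ^ p = 1 := (hE _).1 ((QuotientGroup.eq_one_iff _).1 (by
      rw [QuotientGroup.mk_pow, hk, pow_orderOf_eq_one]))
    have hkd : k ∣ orderOf x := orderOf_map_dvd (QuotientGroup.mk' E) x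
    obtain ⟨s, hs⟩ := IsPGroup.iff_orderOf.mp (hL.to_quotient E) (x : L ⧸ E)
    rw [← hk] at hs
    rcases eq_or_ne (x ^ k) 1 with h1 | h1
    · rcases Nat.eq_zero_or_pos s with rfl | hs0
      · -- `L = E`
        rw [pow_zero] at hs
        obtain ⟨e, he⟩ := exists_prime_orderOf_dvd_card' (G := L) p (by
          rw [hn]; exact dvd_pow_self p hn0)
        refine hnci (zpowers e) inferInstance ?_
        have h2 := (zpowers e).card_mul_index
        rw [Nat.card_zpowers, he, hLE, ← hkidx, hs, one_mul, pow_two] at h2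
        exact Nat.eq_of_mul_eq_mul_left hp'.pos h2
      · have hv : x ^ p ^ (s - 1) ∈ E := by
          rw [hE, ← pow_mul, ← pow_succ, Nat.sub_add_cancel hs0, ← hs, h1]
        have hd : k ∣ p ^ (s - 1) := by
          rw [hk, orderOf_dvd_iff_pow_eq_one, ← QuotientGroup.mk_pow, QuotientGroup.eq_one_iff]
          exact hv
        rw [hs, Nat.pow_dvd_pow_iff_le_right hp'.one_lt] at hd
        omega
    · have ho : orderOf x = k * p := by
        have hk0 : k ≠ 0 := (orderOf_pos _).ne'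
        have h2 := orderOf_eq_prime hxk h1
        rw [orderOf_pow_of_dvd hk0 hkd] at h2
        rw [← h2, Nat.mul_div_cancel' hkd]
      refine hnci (zpowers x) inferInstance ?_
      have h2 := (zpowers x).card_mul_index
      rw [Nat.card_zpowers, ho, hLE, ← hkidx, pow_two, mul_assoc] at h2
      exact Nat.eq_of_mul_eq_mul_left hp'.pos (Nat.eq_of_mul_eq_mul_left (orderOf_pos _) h2)
  obtain ⟨N, hN, hNc, hNq⟩ := hmc
  have hqmc : Cfsg.IsMetacyclic (L ⧸ E) := by
    haveI hn' : (N.map (QuotientGroup.mk' E)).Normal := Subgroup.Normal.map hN _ (QuotientGroup.mk'_surjective E)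
    refine ⟨N.map (QuotientGroup.mk' E), hn',
      isCyclic_of_surjective ((QuotientGroup.mk' E).subgroupMap N) (MonoidHom.subgroupMap_surjective _ _), ?_⟩
    refine isCyclic_of_surjective (QuotientGroup.map N (N.map (QuotientGroup.mk' E)) (QuotientGroup.mk' E)
      (Subgroup.le_comap_map _ _)) fun v => ?_
    obtain ⟨v, rfl⟩ := QuotientGroup.mk_surjective v
    obtain ⟨u, rfl⟩ := QuotientGroup.mk_surjective v
    exact ⟨(u : L ⧸ N), rfl⟩
  obtain ⟨E2, hE2c, hE2⟩ := exists_omega hp2 (hL.to_quotient E) hqmc hqnc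
  set Q := E2.comap (QuotientGroup.mk' E) with hQdef
  have hQ : ∀ x, x ∈ Q ↔ x ^ p ∈ E := fun x => by
    rw [hQdef, Subgroup.mem_comap, hE2, QuotientGroup.mk'_apply, ← QuotientGroup.mk_pow, QuotientGroup.eq_one_iff]
  have hQc : Nat.card Q = p ^ 4 := by
    have h1 := Q.card_mul_index
    rw [hQdef, Subgroup.index_comap_of_surjective _ (QuotientGroup.mk'_surjective E), hLE] at h1
    have h2 := E2.card_mul_index
    rw [hE2c, ← Subgroup.index_eq_card E] at h2
    rw [← h2] at h1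
    refine Nat.eq_of_mul_eq_mul_right (Nat.pos_of_ne_zero (E2.index_ne_zero_of_finite)) ?_
    rw [hQdef, h1]; ring
  have hEQ : E ≤ Q := fun e he => (hQ e).2 (by rw [(hE e).1 he]; exact E.one_mem)
  -- `Q` modulo `E` is abelian
  have hcm : ∀ x ∈ Q, ∀ y ∈ Q, ⁅x, y⁆ ∈ E := by
    intro x hx y hy
    haveI := IsPGroup.isMulCommutative_of_card_eq_prime_sq hE2c
    rw [← QuotientGroup.eq_one_iff]
    show QuotientGroup.mk' E ⁅x, y⁆ = 1
    rw [map_commutatorElement, commutatorElement_eq_one_iff_commute]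
    exact congrArg Subtype.val
      ((IsMulCommutative.is_comm (M := E2)).comm ⟨_, (Subgroup.mem_comap.1 hx)⟩ ⟨_, (Subgroup.mem_comap.1 hy)⟩)
  have hpp : ∀ x ∈ Q, x ^ p ^ 2 = 1 := fun x hx => by
    rw [pow_two, pow_mul]; exact (hE _).1 ((hQ x).1 hx)
  -- two generators
  haveI hKc : IsCyclic (N ⊓ Q : Subgroup L) :=
    isCyclic_of_injective (Subgroup.inclusion inf_le_left) (Subgroup.inclusion_injective _)
  obtain ⟨⟨a, haK⟩, ha⟩ := hKc.exists_generator
  obtain ⟨⟨bq, hbq⟩, hb⟩ := (inferInstance : IsCyclic (Q.map (QuotientGroup.mk' N))).exists_generator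
  obtain ⟨b, hbQ, rfl⟩ := Subgroup.mem_map.1 hbq
  have haN : a ∈ N := haK.1
  have haQ : a ∈ Q := haK.2
  have hK : (N ⊓ Q : Subgroup L) = zpowers a := le_antisymm
    (fun v hv => by obtain ⟨k, hk⟩ := ha ⟨v, hv⟩; exact ⟨k, congrArg Subtype.val hk⟩) (zpowers_le.2 haK)
  have hMp : Q.map (QuotientGroup.mk' N) = zpowers (b : L ⧸ N) := le_antisymm
    (fun v hv => by obtain ⟨k, hk⟩ := hb ⟨v, hv⟩; exact ⟨k, congrArg Subtype.val hk⟩) (zpowers_le.2 hbq)
  have hprod : p ^ 4 = orderOf a * orderOf (b : L ⧸ N) := by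
    rw [← hQc, Subgroup.card_eq_card_quotient_mul_card_subgroup ((QuotientGroup.mk' N).comp Q.subtype).ker,
      Nat.card_congr (QuotientGroup.quotientKerEquivRange _).toEquiv, MonoidHom.range_comp, Subgroup.range_subtype,
      hMp, Nat.card_zpowers, mul_comm]
    congr 1
    rw [← Nat.card_zpowers a, ← hK]
    exact Nat.card_congr
      { toFun := fun v => ⟨v.1.1, (QuotientGroup.eq_one_iff _).1 v.2, v.1.2⟩
        invFun := fun v => ⟨⟨v.1, v.2.2⟩, (QuotientGroup.eq_one_iff _).2 v.2.1⟩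
        left_inv := fun v => rfl
        right_inv := fun v => rfl }
  have hda : orderOf a ∣ p ^ 2 := orderOf_dvd_of_pow_eq_one (hpp a haQ)
  have hdb : orderOf (b : L ⧸ N) ∣ p ^ 2 := orderOf_dvd_of_pow_eq_one (by
    rw [← QuotientGroup.mk_pow, hpp b hbQ, QuotientGroup.mk_one])
  have hp2pos : 0 < p ^ 2 := pow_pos hp'.pos 2
  have hla := Nat.le_of_dvd hp2pos hda
  have hlb := Nat.le_of_dvd hp2pos hdb
  have hoa : orderOf a = p ^ 2 := by
    refine le_antisymm hla (Nat.le_of_mul_le_mul_right ?_ hp2pos)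
    calc p ^ 2 * p ^ 2 = orderOf a * orderOf (b : L ⧸ N) := by rw [← hprod, ← pow_add]
      _ ≤ orderOf a * p ^ 2 := Nat.mul_le_mul_left _ hlb
  have hob : orderOf (b : L ⧸ N) = p ^ 2 := by
    rw [hoa, show p ^ 4 = p ^ 2 * p ^ 2 from pow_add p 2 2] at hprod
    exact (Nat.eq_of_mul_eq_mul_left hp2pos hprod).symm
  set z := a ^ p with hz
  set w := b ^ p with hw
  have hzE : z ∈ E := (hQ a).1 haQ
  have hwE : w ∈ E := (hQ b).1 hbQ
  have hzo : orderOf z = p := by
    rw [hz, orderOf_pow_of_dvd hp'.ne_zero (hoa ▸ dvd_pow_self p two_ne_zero), hoa, pow_two,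
      Nat.mul_div_cancel _ hp'.pos]
  have hwN : w ∉ N := fun h => by
    have h' : (b : L ⧸ N) ^ p = 1 := by
      rw [← QuotientGroup.mk_pow]; exact (QuotientGroup.eq_one_iff _).2 h
    have := Nat.le_of_dvd hp'.pos (orderOf_dvd_of_pow_eq_one h')
    rw [hob, pow_two] at this
    nlinarith [hp'.two_le]
  have hNE : (N ⊓ E : Subgroup L) = zpowers z := by
    refine le_antisymm (fun v hv => ?_) (zpowers_le.2 ⟨N.pow_mem haN p, hzE⟩)
    obtain ⟨k, hk⟩ := mem_zpowers_of_cyclic (L := N) (x := ⟨z, N.pow_mem haN p⟩) (y := ⟨v, hv.1⟩) (p := p)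
      (by rw [← Subgroup.orderOf_coe]; exact hzo) (Subtype.ext ((hE v).1 hv.2))
    exact ⟨k, congrArg Subtype.val hk⟩
  have hzc : zpowers z ≤ center L := by
    rw [← hNE]
    exact CfsgLib.PGroups.RankTwoOmega.le_center_of_card_le hL (by rw [hNE, Nat.card_zpowers, hzo])
  have hc : ⁅b, a⁆ ∈ zpowers z := by
    rw [← hNE]
    refine ⟨?_, hcm b hbQ a haQ⟩
    rw [commutatorElement_def]
    exact N.mul_mem (hN.conj_mem a haN b) (N.inv_mem haN)
  have hwa : Commute w a := by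
    have hci : ∀ g : L, Commute ⁅b, a⁆ g := fun g => (Subgroup.mem_center_iff.1 (hzc hc) g).symm
    have hk : ∀ k : ℕ, b ^ k * a = ⁅b, a⁆ ^ k * a * b ^ k := by
      intro k
      induction k with
      | zero => simp
      | succ k ih =>
        calc b ^ (k + 1) * a = b * (b ^ k * a) := by rw [pow_succ']; group
          _ = b * ⁅b, a⁆ ^ k * a * b ^ k := by rw [ih]; group
          _ = ⁅b, a⁆ ^ k * (b * a) * b ^ k := by rw [← ((hci b).pow_left k).eq]; group
          _ = ⁅b, a⁆ ^ k * (⁅b, a⁆ * a * b) * b ^ k := by rw [commutatorElement_def]; group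
          _ = _ := by rw [pow_succ, pow_succ']; group
    show b ^ p * a = a * b ^ p
    rw [hk p, (hE _).1 (hcm b hbQ a haQ), one_mul]
  have hgenE : E ≤ zpowers z ⊔ zpowers w := by
    refine (Subgroup.eq_of_le_of_card_ge (sup_le (zpowers_le.2 hzE) (zpowers_le.2 hwE)) ?_).ge
    rw [hEc]
    obtain ⟨r, hr⟩ := IsPGroup.iff_card.mp (hL.to_subgroup (zpowers z ⊔ zpowers w))
    rw [hr]
    refine Nat.pow_le_pow_right hp'.pos ?_
    by_contra hr2
    have h1 : zpowers z = zpowers z ⊔ zpowers w := Subgroup.eq_of_le_of_card_ge le_sup_left (by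
      rw [hr, Nat.card_zpowers, hzo]
      calc p ^ r ≤ p ^ 1 := Nat.pow_le_pow_right hp'.pos (by omega)
        _ = p := pow_one p)
    exact hwN ((zpowers_le.2 (N.pow_mem haN p) : zpowers z ≤ N) (h1 ▸ (le_sup_right (a := zpowers z) (mem_zpowers w))))
  have hgenQ : ∀ g, g ∈ Q → g ∈ zpowers a ⊔ zpowers b := by
    intro g hg
    obtain ⟨k, hk⟩ : (g : L ⧸ N) ∈ zpowers (b : L ⧸ N) := hMp ▸ Subgroup.mem_map_of_mem _ hg
    have h1 : g * (b ^ k)⁻¹ ∈ N ⊓ Q := by
      refine Subgroup.mem_inf.2 ⟨?_, Q.mul_mem hg (Q.inv_mem (Q.zpow_mem hbQ k))⟩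
      rw [← QuotientGroup.eq_one_iff, QuotientGroup.mk_mul, QuotientGroup.mk_inv, QuotientGroup.mk_zpow]
      exact mul_inv_eq_one.mpr hk.symm
    rw [hK] at h1
    have := mul_mem (le_sup_left (b := zpowers b) h1) (le_sup_right (a := zpowers a) (zpow_mem (mem_zpowers b) k))
    simpa using this
  have hcent : ∀ e ∈ E, ∀ x ∈ Q, Commute e x := by
    intro e he x hx
    have h1 : zpowers z ⊔ zpowers w ≤ Subgroup.centralizer ((zpowers a ⊔ zpowers b : Subgroup L) : Set L) := by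
      rw [Subgroup.le_centralizer_iff]
      refine sup_le (zpowers_le.2 ?_) (zpowers_le.2 ?_) <;>
      · rw [Subgroup.mem_centralizer_iff]
        intro v hv
        have hv' : v ∈ Subgroup.centralizer ({a} : Set L) ⊓ Subgroup.centralizer ({b} : Set L) := by
          refine (sup_le (zpowers_le.2 ?_) (zpowers_le.2 ?_) : zpowers z ⊔ zpowers w ≤ _) hv
          · have := Subgroup.mem_center_iff.1 (hzc (mem_zpowers z))
            exact ⟨Subgroup.mem_centralizer_singleton_iff.2 (this a).symm,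
              Subgroup.mem_centralizer_singleton_iff.2 (this b).symm⟩
          · exact ⟨Subgroup.mem_centralizer_singleton_iff.2 hwa,
              Subgroup.mem_centralizer_singleton_iff.2 ((Commute.refl b).pow_left p)⟩
        first
          | exact Subgroup.mem_centralizer_singleton_iff.1 hv'.1
          | exact Subgroup.mem_centralizer_singleton_iff.1 hv'.2
    exact ((Subgroup.mem_centralizer_iff.1 (h1 (hgenE he))) x (hgenQ x hx)).symm
  have hmul : ∀ x ∈ Q, ∀ y ∈ Q, (x * y) ^ p = x ^ p * y ^ p := by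
    intro x hx y hy
    have h1 : (⁅(⟨y, hy⟩ : Q), ⟨x, hx⟩⁆ : Q) ∈ center Q := Subgroup.mem_center_iff.2 fun g =>
      Subtype.ext (hcent _ (hcm y hy x hx) g g.2).symm.eq
    exact congrArg Subtype.val (CfsgLib.PGroups.RankTwoOmega.pow_mul_of_central hp2 h1
      (Subtype.ext ((hE _).1 (hcm y hy x hx))))
  refine ⟨E, Q, hE, hQ, hEc, hQc, hcent, hmul, fun e he => ?_⟩
  let φ : Q →* E :=
    { toFun := fun x => ⟨(x : L) ^ p, (hQ x).1 x.2⟩
      map_one' := Subtype.ext (one_pow p)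
      map_mul' := fun x y => Subtype.ext (hmul x x.2 y y.2) }
  have hker : Nat.card φ.ker = p ^ 2 := by
    rw [← hEc]
    exact Nat.card_congr
      { toFun := fun v => ⟨v.1.1, (hE _).2 (congrArg Subtype.val v.2)⟩
        invFun := fun v => ⟨⟨v.1, hEQ v.2⟩, Subtype.ext ((hE _).1 v.2)⟩
        left_inv := fun v => rfl
        right_inv := fun v => rfl }
  have htop : φ.range = ⊤ := by
    refine Subgroup.eq_top_of_card_eq _ ?_
    have h1 := Subgroup.card_eq_card_quotient_mul_card_subgroup φ.ker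
    rw [hQc, hker, Nat.card_congr (QuotientGroup.quotientKerEquivRange _).toEquiv] at h1
    rw [hEc]
    refine Nat.eq_of_mul_eq_mul_right hp2pos ?_
    rw [← h1, ← pow_add]
  obtain ⟨x, hx⟩ : (⟨e, he⟩ : E) ∈ φ.range := htop ▸ Subgroup.mem_top _
  exact ⟨x, x.2, congrArg Subtype.val hx⟩

/-- `δ x = x⁻¹ (a x)` -/
def dlt (a : MulAut L) (x : L) : L := x⁻¹ * a x

namespace Str

variable {E Q : Subgroup L}

theorem le (S : Str p E Q) : E ≤ Q := fun e he =>
  (S.memQ e).2 (by rw [(S.memE e).1 he]; exact E.one_mem)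

theorem map_memE (S : Str p E Q) (a : MulAut L) {x : L} (hx : x ∈ E) : a x ∈ E :=
  (S.memE _).2 (by rw [← map_pow, (S.memE x).1 hx, map_one])

theorem map_memQ (S : Str p E Q) (a : MulAut L) {x : L} (hx : x ∈ Q) : a x ∈ Q :=
  (S.memQ _).2 (by rw [← map_pow]; exact S.map_memE a ((S.memQ x).1 hx))

theorem dlt_memQ (S : Str p E Q) (a : MulAut L) {x : L} (hx : x ∈ Q) : dlt a x ∈ Q :=
  Q.mul_mem (Q.inv_mem hx) (S.map_memQ a hx)

theorem dlt_memE (S : Str p E Q) (a : MulAut L) {x : L} (hx : x ∈ E) : dlt a x ∈ E :=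
  E.mul_mem (E.inv_mem hx) (S.map_memE a hx)

theorem dlt_mul (S : Str p E Q) (a : MulAut L) {x y : L} (hx : x ∈ E) (hy : y ∈ E) :
    dlt a (x * y) = dlt a x * dlt a y := by
  have h := (S.comm _ (S.dlt_memE a hx) _ (Q.inv_mem (S.le hy))).eq
  calc dlt a (x * y) = y⁻¹ * (x⁻¹ * a x) * a y := by rw [dlt, map_mul]; group
    _ = x⁻¹ * a x * y⁻¹ * a y := by rw [show x⁻¹ * a x = dlt a x from rfl, ← h]
    _ = _ := by rw [dlt, dlt]; group

theorem dlt_pow (S : Str p E Q) (a : MulAut L) {x : L} (hx : x ∈ Q) : dlt a x ^ p = dlt a (x ^ p) := by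
  rw [dlt, S.mul_pow _ (Q.inv_mem hx) _ (S.map_memQ a hx), inv_pow, ← map_pow]
  rfl

/-- an automorphism of `p`-power order acts unipotently on `E` -/
theorem dlt_dlt (S : Str p E Q) (a : MulAut L) (hap : a ^ p = 1) {e : L} (he : e ∈ E) :
    dlt a (dlt a e) = 1 := by
  classical
  have := Fintype.ofFinite L
  let ψ : E →* E :=
    { toFun := fun x => ⟨dlt a x, S.dlt_memE a x.2⟩
      map_one' := Subtype.ext (by simp [dlt])
      map_mul' := fun x y => Subtype.ext (S.dlt_mul a x.2 y.2) }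
  by_cases h0 : ∀ v ∈ E, dlt a v = 1
  · exact h0 _ (S.dlt_memE a he)
  push Not at h0
  obtain ⟨v, hv, hv1⟩ := h0
  have hfix : ∀ {R : Subgroup E}, p ∣ Nat.card R → (∀ x ∈ R, (⟨a (x : E), S.map_memE a x.2⟩ : E) ∈ R) →
      ∃ x : E, x ∈ R ∧ x ≠ 1 ∧ ψ x = 1 := by
    intro R hR hinv
    let f : R → R := fun x => ⟨⟨a ((x : E) : L), S.map_memE a (x : E).2⟩, hinv _ x.2⟩
    have hf : Function.Injective f := fun x y h =>
      Subtype.ext (Subtype.ext (a.injective (congrArg (fun v : R => ((v : E) : L)) h)))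
    let σ : Equiv.Perm R := Equiv.ofBijective f ⟨hf, Finite.surjective_of_injective hf⟩
    have hσk : ∀ (k : ℕ) (x : R), (((σ ^ k) x : E) : L) = (a ^ k) ((x : E) : L) := by
      intro k
      induction k with
      | zero => intro x; rfl
      | succ k ih =>
        intro x
        rw [pow_succ', pow_succ', Equiv.Perm.mul_apply, MulAut.mul_apply, ← ih x]
        rfl
    have hσ : σ ^ p ^ 1 = 1 := Equiv.ext fun x => Subtype.ext (Subtype.ext (by
      rw [hσk, pow_one, hap]; rfl))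
    obtain ⟨b, hb, hb1⟩ := Equiv.Perm.exists_fixed_point_of_prime' (p := p)
      (by rw [← Nat.card_eq_fintype_card]; exact hR) hσ (a := (1 : R)) (Subtype.ext (Subtype.ext (map_one a)))
    refine ⟨b, b.2, fun h => hb1 (Subtype.ext h), Subtype.ext ?_⟩
    have hb' : a ((b : E) : L) = ((b : E) : L) := congrArg (fun v : R => ((v : E) : L)) hb
    show dlt a ((b : E) : L) = 1
    rw [dlt, hb', inv_mul_cancel]
  have hrk : Nat.card ψ.range * Nat.card ψ.ker = p ^ 2 := by
    rw [← S.cardE, ← Nat.card_congr (QuotientGroup.quotientKerEquivRange ψ).toEquiv,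
      ← Subgroup.card_eq_card_quotient_mul_card_subgroup]
  have hpE : p ∣ Nat.card E := S.cardE ▸ dvd_pow_self p two_ne_zero
  have hkne : Nat.card ψ.ker ≠ 1 := fun h => by
    obtain ⟨x, -, hx1, hx⟩ := hfix (R := ⊤) (by rw [Subgroup.card_top]; exact hpE) fun _ _ => Subgroup.mem_top _
    exact hx1 (Subgroup.mem_bot.1 (Subgroup.eq_bot_of_card_eq _ h ▸ (MonoidHom.mem_ker.2 hx)))
  have hrne : Nat.card ψ.range ≠ 1 := fun h => by
    have h1 : ψ ⟨v, hv⟩ ∈ ψ.range := ⟨⟨v, hv⟩, rfl⟩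
    rw [Subgroup.eq_bot_of_card_eq _ h, Subgroup.mem_bot] at h1
    exact hv1 (congrArg (fun u : E => (u : L)) h1)
  obtain ⟨i, hi, hri⟩ := (Nat.dvd_prime_pow hp.out).1 ⟨_, hrk.symm⟩
  have hi1 : i = 1 := by
    rcases (by omega : i = 0 ∨ i = 1 ∨ i = 2) with rfl | rfl | rfl
    · exact absurd (by simpa using hri) hrne
    · rfl
    · exfalso
      rw [hri] at hrk
      exact hkne (Nat.eq_of_mul_eq_mul_left (pow_pos hp.out.pos 2) (by rw [hrk, mul_one]))
  subst hi1
  rw [pow_one] at hri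
  obtain ⟨x, hxR, hx1, hx⟩ := hfix (R := ψ.range) (hri ▸ dvd_rfl) (by
    rintro _ ⟨u, rfl⟩
    refine ⟨⟨a u, S.map_memE a u.2⟩, Subtype.ext ?_⟩
    show dlt a (a (u : L)) = a (dlt a (u : L))
    rw [dlt, dlt, map_mul, map_inv])
  have hle : ψ.range ≤ ψ.ker := by
    have h : ψ.range ⊓ ψ.ker = ψ.range := by
      refine Subgroup.eq_of_le_of_card_ge inf_le_left ?_
      rcases ((Nat.dvd_prime hp.out).1 (hri ▸ Subgroup.card_dvd_of_le (inf_le_left (a := ψ.range) (b := ψ.ker)))) with h | h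
      · exact absurd (Subgroup.mem_bot.1 (Subgroup.eq_bot_of_card_eq _ h ▸
          Subgroup.mem_inf.2 ⟨hxR, MonoidHom.mem_ker.2 hx⟩)) hx1
      · rw [hri, h]
    exact h ▸ inf_le_right
  exact congrArg Subtype.val (MonoidHom.mem_ker.1 (hle (⟨⟨e, he⟩, rfl⟩ : ψ ⟨e, he⟩ ∈ ψ.range)))

/-- the iterated formula -/
theorem iterate (S : Str p E Q) (a : MulAut L) (hap : a ^ p = 1) {x : L} (hx : x ∈ Q) :
    ∃ e1 f, e1 ∈ E ∧ f ∈ E ∧ a (dlt a x) = dlt a x * e1 ∧ dlt a e1 = f ∧
      dlt a x ^ p * e1 ^ p.choose 2 * f ^ p.choose 3 = 1 := by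
  have hw := S.dlt_memQ a hx
  have he1 : dlt a (dlt a x) ∈ E := by
    rw [S.memE, S.dlt_pow a hw, S.dlt_pow a hx, S.dlt_dlt a hap ((S.memQ x).1 hx)]
  set w := dlt a x with hwdef
  set e1 := dlt a w with he1def
  set f := dlt a e1 with hfdef
  have hf : f ∈ E := S.dlt_memE a he1
  have hff : dlt a f = 1 := S.dlt_dlt a hap he1
  have hax : a x = x * w := by rw [hwdef, dlt, mul_inv_cancel_left]
  have haw : a w = w * e1 := by rw [he1def, dlt, mul_inv_cancel_left]
  have hae : a e1 = e1 * f := by rw [hfdef, dlt, mul_inv_cancel_left]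
  have haf : a f = f := by
    rw [dlt] at hff
    exact (inv_mul_eq_one.1 hff).symm
  have c1 : Commute e1 w := S.comm _ he1 _ hw
  have c2 : Commute f e1 := S.comm _ hf _ (S.le he1)
  have key : ∀ k : ℕ, (a ^ k) x = x * (w ^ k * e1 ^ k.choose 2 * f ^ k.choose 3) := by
    intro k
    induction k with
    | zero => simp
    | succ k ih =>
      rw [pow_succ', MulAut.mul_apply, ih, map_mul, map_mul, map_mul, map_pow, map_pow, map_pow, hax, haw, hae, haf,
        c1.symm.mul_pow, c2.symm.mul_pow, Nat.choose_succ_succ' k 1, Nat.choose_succ_succ' k 2, Nat.choose_one_right,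
        pow_succ', pow_add, pow_add]
      simp only [mul_assoc]
  have := key p
  rw [hap, MulAut.one_apply, left_eq_mul] at this
  exact ⟨e1, f, he1, hf, haw, rfl, this⟩

theorem eq_three (S : Str p E Q) (hp2 : p ≠ 2) (a : MulAut L) (hap : a ^ p = 1) {e : L} (he : e ∈ E)
    (hmov : a e ≠ e) : p = 3 := by
  by_contra hp3
  have hp' := hp.out
  have hp5 : 5 ≤ p := by
    have := hp'.two_le
    by_contra h
    interval_cases p <;> simp_all (config := { decide := true })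
  obtain ⟨x, hx, rfl⟩ := S.surj e he
  obtain ⟨e1, f, he1, hf, -, -, h⟩ := S.iterate a hap hx
  have hE1 : ∀ {v : L}, v ∈ E → ∀ {c : ℕ}, p ∣ c → v ^ c = 1 := fun hv c hc => by
    obtain ⟨t, rfl⟩ := hc
    rw [pow_mul, (S.memE _).1 hv, one_pow]
  rw [hE1 he1 (hp'.dvd_choose_self two_ne_zero (by omega)), hE1 hf (hp'.dvd_choose_self three_ne_zero (by omega)),
    mul_one, mul_one, S.dlt_pow a hx, dlt, inv_mul_eq_one] at h
  exact hmov h.symm

theorem no_fixed_nine (S : Str p E Q) (hp3 : p = 3) (a : MulAut L) (hap : a ^ p = 1) {e : L} (he : e ∈ E)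
    (hmov : a e ≠ e) {y : L} (hy : a y = y) : y ^ p ^ 2 = 1 → y ^ p = 1 := by
  intro hy2
  by_contra hy1
  have hyE : y ^ p ∈ E := (S.memE _).2 (by rw [← pow_mul, ← pow_two, hy2])
  have hyQ : y ∈ Q := (S.memQ y).2 hyE
  obtain ⟨x, hx, rfl⟩ := S.surj e he
  obtain ⟨e1, f, he1, hf, haw, hfe, h⟩ := S.iterate a hap hx
  set w := dlt a x with hwdef
  have hwQ : w ∈ Q := S.dlt_memQ a hx
  have hwp : w ^ p = dlt a (x ^ p) := S.dlt_pow a hx
  -- the fixed points of `a` on `E`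
  let F : Subgroup L :=
    { carrier := {v | v ∈ E ∧ a v = v}
      one_mem' := ⟨E.one_mem, map_one a⟩
      mul_mem' := fun {u v} hu hv => ⟨E.mul_mem hu.1 hv.1, by rw [map_mul, hu.2, hv.2]⟩
      inv_mem' := fun {u} hu => ⟨E.inv_mem hu.1, by rw [map_inv, hu.2]⟩ }
  have hvF : y ^ p ∈ F := ⟨hyE, by rw [map_pow, hy]⟩
  have hFc : Nat.card F = p := by
    obtain ⟨i, hi, hFi⟩ := (Nat.dvd_prime_pow hp.out).1
      (S.cardE ▸ Subgroup.card_dvd_of_le (fun v (hv : v ∈ F) => hv.1) : Nat.card F ∣ p ^ 2)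
    rcases (by omega : i = 0 ∨ i = 1 ∨ i = 2) with rfl | rfl | rfl
    · rw [pow_zero] at hFi
      exact absurd (Subgroup.mem_bot.1 (Subgroup.eq_bot_of_card_eq _ hFi ▸ hvF)) hy1
    · rw [hFi, pow_one]
    · have : F = E := Subgroup.eq_of_le_of_card_ge (fun v hv => hv.1) (by rw [hFi, S.cardE])
      exact absurd ((this ▸ he : x ^ p ∈ F)).2 hmov
  have hwF : w ^ p ∈ F := by
    have h1 := S.dlt_dlt a hap he
    rw [dlt, inv_mul_eq_one] at h1
    exact ⟨hwp ▸ S.dlt_memE a he, by rw [hwp]; exact h1.symm⟩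
  have hFz : zpowers (y ^ p) = F := Subgroup.eq_of_le_of_card_ge (zpowers_le.2 hvF) (by
    rw [hFc, Nat.card_zpowers, orderOf_eq_prime ((S.memE _).1 hyE) hy1])
  obtain ⟨j, hj⟩ := (mem_powers_iff_mem_zpowers.mpr (hFz ▸ hwF) : w ^ p ∈ Submonoid.powers (y ^ p))
  -- `w` lies in `E` times a fixed element
  have he'' : w * (y ^ j)⁻¹ ∈ E := by
    rw [S.memE, S.mul_pow _ hwQ _ (Q.inv_mem (Q.pow_mem hyQ j)), inv_pow, ← pow_mul, mul_comm, pow_mul]
    exact mul_inv_eq_one.2 hj.symm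
  set e2 := w * (y ^ j)⁻¹ with he2
  have he1' : e1 = (y ^ j)⁻¹ * dlt a e2 * y ^ j := by
    have : e1 = w⁻¹ * a w := by rw [haw, inv_mul_cancel_left]
    rw [this, show w = e2 * y ^ j by rw [he2, inv_mul_cancel_right], map_mul, map_pow, hy, dlt]
    group
  rw [(S.comm _ (S.dlt_memE a he'') _ (Q.inv_mem (Q.pow_mem hyQ j))).symm.eq, inv_mul_cancel_right] at he1'
  have hf1 : f = 1 := by rw [← hfe, he1', S.dlt_dlt a hap he'']
  have hc2 : e1 ^ p.choose 2 = 1 := by
    rw [hp3] at S ⊢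
    have := (S.memE _).1 he1
    exact this
  rw [hf1, one_pow, mul_one, hc2, mul_one, hwp, dlt, inv_mul_eq_one] at h
  exact hmov h.symm

end Str

end CfsgLib.ClassSizes.MetacyclicAut
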