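import Mathlib
import Cfsg.Agent.Lib.Perm.FourTrans
import Cfsg.Agent.Lib.ClassSizes.BrauerWielandtFour

/-!
Quadruply transitive groups of degree at least 8 whose four-point stabilisers have odd order have
degree 11.

Count incidences between involutions (or four-groups) and quadruples in two ways, and compare with
the Brauer–Wielandt formula for two four-groups normalising the stabiliser `H` of a quadruple:
`6 cs = (n - 5) cz`, `4 D' = (n - 7) D`, `h D² = cz³`, `h D'² = cz cs²` force `n = 11`.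
-/

set_option autoImplicit false

namespace CfsgLib.ClassSizes.OddFour

open Equiv MulAction CfsgLib.Perm

variable {α : Type*} [Fintype α] [DecidableEq α] {G : Subgroup (Perm α)}

/-- commuting elements of square one in `G` -/
def Valid (G : Subgroup (Perm α)) (q : Perm α × Perm α) : Prop :=
  q.1 ∈ G ∧ q.2 ∈ G ∧ q.1 * q.1 = 1 ∧ q.2 * q.2 = 1 ∧ Commute q.1 q.2

/-- prescribed action on a quadruple -/
def Pat (q : Perm α × Perm α) (π τ : Perm (Fin 4)) (x : Fin 4 ↪ α) : Prop :=
  ∀ i, q.1 (x i) = x (π i) ∧ q.2 (x i) = x (τ i)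

/-- the stabiliser of a quadruple -/
def Hst (G : Subgroup (Perm α)) (x : Fin 4 ↪ α) : Subgroup (Perm α) where
  carrier := {g | g ∈ G ∧ ∀ i, g (x i) = x i}
  one_mem' := ⟨G.one_mem, fun _ => rfl⟩
  mul_mem' := fun {a b} ha hb => ⟨G.mul_mem ha.1 hb.1, fun i => by rw [Perm.mul_apply, hb.2, ha.2]⟩
  inv_mem' := fun {a} ha => ⟨G.inv_mem ha.1, fun i => by rw [Perm.inv_def, Equiv.symm_apply_eq, ha.2]⟩

/-- size of the centraliser of a pair in the stabiliser -/
noncomputable def cnt (G : Subgroup (Perm α)) (x : Fin 4 ↪ α) (q : Perm α × Perm α) : ℕ :=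
  Nat.card {h : Hst G x // Commute (h : Perm α) q.1 ∧ Commute (h : Perm α) q.2}

/-- simultaneous conjugation -/
def conjPair (g : Perm α) (q : Perm α × Perm α) : Perm α × Perm α :=
  (g * q.1 * g⁻¹, g * q.2 * g⁻¹)

theorem conjPair_mul (g h : Perm α) (q : Perm α × Perm α) :
    conjPair (g * h) q = conjPair g (conjPair h q) := by
  simp [conjPair, mul_assoc]

theorem conjPair_one (q : Perm α × Perm α) : conjPair 1 q = q := by simp [conjPair]

theorem valid_conjPair {g : Perm α} (hg : g ∈ G) {q : Perm α × Perm α} (hq : Valid G q) :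
    Valid G (conjPair g q) := by
  obtain ⟨h1, h2, h3, h4, h5⟩ := hq
  refine ⟨G.mul_mem (G.mul_mem hg h1) (G.inv_mem hg), G.mul_mem (G.mul_mem hg h2) (G.inv_mem hg), ?_, ?_, ?_⟩
  · show g * q.1 * g⁻¹ * (g * q.1 * g⁻¹) = 1
    rw [show g * q.1 * g⁻¹ * (g * q.1 * g⁻¹) = g * (q.1 * q.1) * g⁻¹ by group, h3, mul_one, mul_inv_cancel]
  · show g * q.2 * g⁻¹ * (g * q.2 * g⁻¹) = 1
    rw [show g * q.2 * g⁻¹ * (g * q.2 * g⁻¹) = g * (q.2 * q.2) * g⁻¹ by group, h4, mul_one, mul_inv_cancel]
  · show g * q.1 * g⁻¹ * (g * q.2 * g⁻¹) = g * q.2 * g⁻¹ * (g * q.1 * g⁻¹)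
    rw [show g * q.1 * g⁻¹ * (g * q.2 * g⁻¹) = g * (q.1 * q.2) * g⁻¹ by group, h5.eq]
    group

theorem pat_conjPair {g : Perm α} {q : Perm α × Perm α} {π τ σ π' τ' : Perm (Fin 4)} {x y : Fin 4 ↪ α}
    (hg : ∀ i, g (x i) = y (σ i)) (hπ : ∀ i, π' (σ i) = σ (π i)) (hτ : ∀ i, τ' (σ i) = σ (τ i))
    (hq : Pat q π τ x) : Pat (conjPair g q) π' τ' y := by
  intro i
  obtain ⟨i, rfl⟩ := σ.surjective i
  have hinv : g⁻¹ (y (σ i)) = x i := by rw [Perm.inv_def, Equiv.symm_apply_eq, hg]
  refine ⟨?_, ?_⟩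
  · show (g * q.1 * g⁻¹) (y (σ i)) = _
    rw [Perm.mul_apply, Perm.mul_apply, hinv, (hq i).1, hg, hπ]
  · show (g * q.2 * g⁻¹) (y (σ i)) = _
    rw [Perm.mul_apply, Perm.mul_apply, hinv, (hq i).2, hg, hτ]

/-- All pairs with the same pattern on a quadruple are conjugate under its stabiliser. -/
theorem exists_conj (hB : InvFixLE G 3) {q q' : Perm α × Perm α} {π τ : Perm (Fin 4)} {x : Fin 4 ↪ α}
    (hq : Valid G q) (hq' : Valid G q') (hp : Pat q π τ x) (hp' : Pat q' π τ x) :
    ∃ h ∈ Hst G x, conjPair h q = q' := by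
  have hcard : 3 < (Finset.univ.map x).card := by simp
  obtain ⟨k, hk, hks, hke, -⟩ := hB.conj_of_agree hq.1 hq'.1 hq.2.2.1 hq'.2.2.1 hcard (fun c hc => by
    obtain ⟨i, -, rfl⟩ := Finset.mem_map.1 hc
    rw [(hp i).1, (hp' i).1])
  have hkx : ∀ i, k (x i) = x i := fun i => hks _ (Finset.mem_map_of_mem x (Finset.mem_univ i))
  have hv := valid_conjPair hk hq
  have hpk : Pat (conjPair k q) π τ x :=
    pat_conjPair (σ := 1) (fun i => by rw [hkx]; rfl) (fun i => rfl) (fun i => rfl) hp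
  obtain ⟨k2, hk2, hk2s, hk2e, hk2c⟩ := hB.conj_of_agree hv.2.1 hq'.2.1 hv.2.2.2.1 hq'.2.2.2.1 hcard (fun c hc => by
    obtain ⟨i, -, rfl⟩ := Finset.mem_map.1 hc
    rw [(hpk i).2, (hp' i).2])
  have hk2x : ∀ i, k2 (x i) = x i := fun i => hk2s _ (Finset.mem_map_of_mem x (Finset.mem_univ i))
  refine ⟨k2 * k, (Hst G x).mul_mem ⟨hk2, hk2x⟩ ⟨hk, hkx⟩, ?_⟩
  rw [conjPair_mul]
  have h1 : (conjPair k q).1 = q'.1 := hke
  refine Prod.ext ?_ hk2e
  show k2 * (conjPair k q).1 * k2⁻¹ = q'.1
  have hc : Commute q'.1 k2 := hk2c q'.1 (h1 ▸ hv.2.2.2.2) hq'.2.2.2.2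
  rw [h1, hc.symm.eq, mul_inv_cancel_right]

theorem card_pat (hB : InvFixLE G 3) {q : Perm α × Perm α} {π τ : Perm (Fin 4)} {x : Fin 4 ↪ α}
    (hq : Valid G q) (hp : Pat q π τ x) :
    Nat.card {r // Valid G r ∧ Pat r π τ x} * cnt G x q = Nat.card (Hst G x) := by
  let C : Subgroup (Hst G x) :=
    { carrier := {h | Commute (h : Perm α) q.1 ∧ Commute (h : Perm α) q.2}
      one_mem' := ⟨Commute.one_left _, Commute.one_left _⟩
      mul_mem' := fun {a b} ha hb => ⟨ha.1.mul_left hb.1, ha.2.mul_left hb.2⟩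
      inv_mem' := fun {a} ha => ⟨ha.1.inv_left, ha.2.inv_left⟩ }
  have hiff : ∀ h h' : Hst G x, conjPair (h : Perm α) q = conjPair (h' : Perm α) q ↔ h⁻¹ * h' ∈ C := by
    intro h h'
    constructor
    · intro e
      have e1 : conjPair ((h : Perm α)⁻¹ * (h' : Perm α)) q = q := by
        rw [conjPair_mul, ← e, ← conjPair_mul, inv_mul_cancel, conjPair_one]
      exact ⟨mul_inv_eq_iff_eq_mul.1 (congrArg Prod.fst e1), mul_inv_eq_iff_eq_mul.1 (congrArg Prod.snd e1)⟩
    · rintro ⟨c1, c2⟩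
      have e1 : conjPair ((h : Perm α)⁻¹ * (h' : Perm α)) q = q :=
        Prod.ext (mul_inv_eq_iff_eq_mul.2 c1.eq) (mul_inv_eq_iff_eq_mul.2 c2.eq)
      conv_rhs => rw [show (h' : Perm α) = (h : Perm α) * ((h : Perm α)⁻¹ * (h' : Perm α)) by group, conjPair_mul, e1]
  have hmem : ∀ h : Hst G x, Valid G (conjPair (h : Perm α) q) ∧ Pat (conjPair (h : Perm α) q) π τ x :=
    fun h => ⟨valid_conjPair h.2.1 hq,
      pat_conjPair (σ := 1) (fun i => by rw [h.2.2]; rfl) (fun i => rfl) (fun i => rfl) hp⟩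
  let f : Hst G x ⧸ C → {r // Valid G r ∧ Pat r π τ x} := fun c => ⟨conjPair (c.out : Perm α) q, hmem _⟩
  have hf : Function.Bijective f := by
    refine ⟨fun a b e => ?_, fun r => ?_⟩
    · rw [← a.out_eq, ← b.out_eq]
      exact QuotientGroup.eq.2 ((hiff _ _).1 (congrArg Subtype.val e))
    · obtain ⟨h, hh, he⟩ := exists_conj hB hq r.2.1 hp r.2.2
      refine ⟨((⟨h, hh⟩ : Hst G x) : Hst G x ⧸ C), Subtype.ext ?_⟩
      show conjPair ((((⟨h, hh⟩ : Hst G x) : Hst G x ⧸ C)).out : Perm α) q = r.1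
      rw [← he]
      exact (hiff _ _).2 (QuotientGroup.eq.1 (QuotientGroup.out_eq' _))
  rw [← Nat.card_eq_of_bijective f hf, ← Subgroup.index_eq_card]
  exact C.index_mul_card

/-- transport between quadruples -/
theorem card_pat_eq (hG : IsMultiplyPretransitive G α 4) (hn : 4 ≤ Fintype.card α) (π τ : Perm (Fin 4))
    (x y : Fin 4 ↪ α) :
    Nat.card {r // Valid G r ∧ Pat r π τ x} = Nat.card {r // Valid G r ∧ Pat r π τ y} := by
  obtain ⟨g, hg, hgx⟩ := ktrans_exists hG hn le_rfl x y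
  have hgy : ∀ i, g⁻¹ (y i) = x i := fun i => by rw [Perm.inv_def, Equiv.symm_apply_eq, hgx]
  exact Nat.card_congr
    { toFun := fun r => ⟨conjPair g r.1, valid_conjPair hg r.2.1,
        pat_conjPair (σ := 1) (fun i => by rw [hgx]; rfl) (fun _ => rfl) (fun _ => rfl) r.2.2⟩
      invFun := fun r => ⟨conjPair g⁻¹ r.1, valid_conjPair (G.inv_mem hg) r.2.1,
        pat_conjPair (σ := 1) (fun i => by rw [hgy]; rfl) (fun _ => rfl) (fun _ => rfl) r.2.2⟩
      left_inv := fun r => Subtype.ext (by simp [← conjPair_mul, conjPair_one])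
      right_inv := fun r => Subtype.ext (by simp [← conjPair_mul, conjPair_one]) }

/-- the centraliser size depends only on the pattern up to relabelling -/
theorem cnt_eq (hG : IsMultiplyPretransitive G α 4) (hn : 4 ≤ Fintype.card α) (hB : InvFixLE G 3)
    {q q' : Perm α × Perm α} {π τ π' τ' : Perm (Fin 4)} {x : Fin 4 ↪ α} (hq : Valid G q) (hq' : Valid G q')
    (hp : Pat q π τ x) (hp' : Pat q' π' τ' x) (σ : Perm (Fin 4)) (hπ : ∀ i, π' (σ i) = σ (π i))
    (hτ : ∀ i, τ' (σ i) = σ (τ i)) : cnt G x q = cnt G x q' := by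
  obtain ⟨g0, hg0, hg0x⟩ := ktrans_exists hG hn le_rfl x (σ.toEmbedding.trans x)
  obtain ⟨h, hh, he⟩ := exists_conj hB (valid_conjPair hg0 hq) hq' (pat_conjPair hg0x hπ hτ hp) hp'
  set g := h * g0 with hgdef
  have hgG : g ∈ G := G.mul_mem hh.1 hg0
  have hge : conjPair g q = q' := by rw [hgdef, conjPair_mul, he]
  have hgx : ∀ i, g (x i) = x (σ i) := fun i => by
    rw [hgdef, Perm.mul_apply, hg0x]; exact hh.2 _
  have hgx' : ∀ i, g⁻¹ (x i) = x (σ.symm i) := fun i => by
    rw [Perm.inv_def, Equiv.symm_apply_eq, hgx, Equiv.apply_symm_apply]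
  have hmem1 : ∀ k ∈ Hst G x, g * k * g⁻¹ ∈ Hst G x := fun k hk =>
    ⟨G.mul_mem (G.mul_mem hgG hk.1) (G.inv_mem hgG), fun i => by
      rw [Perm.mul_apply, Perm.mul_apply, hgx', hk.2, hgx, Equiv.apply_symm_apply]⟩
  have hmem2 : ∀ k ∈ Hst G x, g⁻¹ * k * g ∈ Hst G x := fun k hk =>
    ⟨G.mul_mem (G.mul_mem (G.inv_mem hgG) hk.1) hgG, fun i => by
      rw [Perm.mul_apply, Perm.mul_apply, hgx, hk.2, hgx', Equiv.symm_apply_apply]⟩
  subst hge
  have hcm : ∀ (k a : Perm α), Commute (g * k * g⁻¹) (g * a * g⁻¹) ↔ Commute k a := fun k a => by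
    constructor
    · intro hh'
      have := hh'.map (MulAut.conj g⁻¹).toMonoidHom
      simpa [mul_assoc] using this
    · intro hh'
      exact hh'.map (MulAut.conj g).toMonoidHom
  refine Nat.card_congr
    { toFun := fun k => ⟨⟨g * k.1.1 * g⁻¹, hmem1 _ k.1.2⟩, (hcm _ _).2 k.2.1, (hcm _ _).2 k.2.2⟩
      invFun := fun k => ⟨⟨g⁻¹ * k.1.1 * g, hmem2 _ k.1.2⟩,
        (hcm _ _).1 (by rw [show g * (g⁻¹ * k.1.1 * g) * g⁻¹ = k.1.1 by group]; exact k.2.1),
        (hcm _ _).1 (by rw [show g * (g⁻¹ * k.1.1 * g) * g⁻¹ = k.1.1 by group]; exact k.2.2)⟩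
      left_inv := fun k => Subtype.ext (Subtype.ext (by simp [mul_assoc]))
      right_inv := fun k => Subtype.ext (Subtype.ext (by simp [mul_assoc])) }

theorem odd_card_Hst (hB : InvFixLE G 3) (x : Fin 4 ↪ α) : Odd (Nat.card (Hst G x)) := by
  rw [← Nat.not_even_iff_odd, even_iff_two_dvd]
  intro h2
  obtain ⟨g, hg⟩ := exists_prime_orderOf_dvd_card' 2 h2
  have h := hB.odd_order g.2.1 (s := Finset.univ.map x) (by simp) (fun c hc => by
    obtain ⟨i, -, rfl⟩ := Finset.mem_map.1 hc
    exact g.2.2 i)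
  rw [Subgroup.orderOf_coe, hg] at h
  exact absurd h (by decide)

/-- conjugation of the stabiliser by an involution preserving the quadruple -/
def conjAut (u : Perm α) (hu : u ∈ G) (hu2 : u * u = 1) (x : Fin 4 ↪ α) (π : Perm (Fin 4))
    (hux : ∀ i, u (x i) = x (π i)) : Hst G x ≃* Hst G x where
  toFun h := ⟨u * h * u, G.mul_mem (G.mul_mem hu h.2.1) hu, fun i => by
    rw [Perm.mul_apply, Perm.mul_apply, hux, h.2.2, ← hux, ← Perm.mul_apply, hu2, Perm.one_apply]⟩
  invFun h := ⟨u * h * u, G.mul_mem (G.mul_mem hu h.2.1) hu, fun i => by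
    rw [Perm.mul_apply, Perm.mul_apply, hux, h.2.2, ← hux, ← Perm.mul_apply, hu2, Perm.one_apply]⟩
  left_inv h := Subtype.ext (by
    show u * (u * (h : Perm α) * u) * u = h
    rw [show u * (u * (h : Perm α) * u) * u = (u * u) * h * (u * u) by group, hu2, one_mul, mul_one])
  right_inv h := Subtype.ext (by
    show u * (u * (h : Perm α) * u) * u = h
    rw [show u * (u * (h : Perm α) * u) * u = (u * u) * h * (u * u) by group, hu2, one_mul, mul_one])
  map_mul' a b := Subtype.ext (by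
    show u * ((a : Perm α) * b) * u = u * a * u * (u * b * u)
    rw [show u * (a : Perm α) * u * (u * b * u) = u * a * (u * u) * b * u by group, hu2, mul_one, mul_assoc u (a : Perm α) b])

theorem conj_fix_iff {u h : Perm α} (hu2 : u * u = 1) : u * h * u = h ↔ Commute h u := by
  constructor
  · intro e
    show h * u = u * h
    conv_lhs => rw [← e]
    rw [mul_assoc, hu2, mul_one]
  · intro e
    rw [mul_assoc, e.eq, ← mul_assoc, hu2, one_mul]

theorem bw_cnt (hB : InvFixLE G 3) {q : Perm α × Perm α} {π τ : Perm (Fin 4)} {x : Fin 4 ↪ α}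
    (hq : Valid G q) (hp : Pat q π τ x) :
    Nat.card (Hst G x) * cnt G x q ^ 2 =
      cnt G x (q.1, 1) * cnt G x (q.2, 1) * cnt G x (q.1 * q.2, 1) := by
  obtain ⟨u, v⟩ := q
  obtain ⟨hu, hv, hu2, hv2, huv⟩ := hq
  set a := conjAut u hu hu2 x π (fun i => (hp i).1)
  set b := conjAut v hv hv2 x τ (fun i => (hp i).2)
  have hinv : u⁻¹ = u := inv_eq_of_mul_eq_one_right hu2
  have hinv' : v⁻¹ = v := inv_eq_of_mul_eq_one_right hv2
  have h := BWFour.brauer_wielandt (odd_card_Hst hB x) a b a.left_inv b.left_inv (fun k => Subtype.ext (by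
    show u * (v * (k : Perm α) * v) * u = v * (u * k * u) * v
    calc u * (v * (k : Perm α) * v) * u = (u * v) * k * (v * u) := by group
      _ = (v * u) * k * (u * v) := by rw [huv.eq]
      _ = _ := by group))
  have hmv : (u * v) * (u * v) = 1 := by
    rw [show (u * v) * (u * v) = u * (v * u) * v by group, ← huv.eq,
      show u * (u * v) * v = (u * u) * (v * v) by group, hu2, hv2, one_mul]
  have e1 : Nat.card {k : Hst G x // a k = k ∧ b k = k} = cnt G x (u, v) :=
    Nat.card_congr (Equiv.subtypeEquivRight fun k => by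
      rw [Subtype.ext_iff, Subtype.ext_iff]; exact and_congr (conj_fix_iff hu2) (conj_fix_iff hv2))
  have e2 : Nat.card {k : Hst G x // a k = k} = cnt G x (u, 1) :=
    Nat.card_congr (Equiv.subtypeEquivRight fun k => by
      rw [Subtype.ext_iff]; exact (conj_fix_iff hu2).trans (and_iff_left (Commute.one_right _)).symm)
  have e3 : Nat.card {k : Hst G x // b k = k} = cnt G x (v, 1) :=
    Nat.card_congr (Equiv.subtypeEquivRight fun k => by
      rw [Subtype.ext_iff]; exact (conj_fix_iff hv2).trans (and_iff_left (Commute.one_right _)).symm)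
  have e4 : Nat.card {k : Hst G x // a (b k) = k} = cnt G x (u * v, 1) :=
    Nat.card_congr (Equiv.subtypeEquivRight fun k => by
      rw [Subtype.ext_iff]
      show u * (v * (k : Perm α) * v) * u = k ↔ _
      rw [show u * (v * (k : Perm α) * v) * u = u * v * k * (v * u) by group, ← huv.eq]
      exact (conj_fix_iff hmv).trans (and_iff_left (Commute.one_right _)).symm)
  rw [e1, e2, e3, e4] at h
  exact h

theorem double_count {A B : Type*} [Finite A] [Finite B] (r : A → B → Prop) {k l : ℕ}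
    (hk : ∀ a, Nat.card {b // r a b} = k) (hl : ∀ b, Nat.card {a // r a b} = l) :
    Nat.card A * k = Nat.card B * l := by
  classical
  have := Fintype.ofFinite A
  have := Fintype.ofFinite B
  have h1 : Nat.card {t : A × B // r t.1 t.2} = Nat.card A * k := by
    rw [Nat.card_congr (Equiv.subtypeProdEquivSigmaSubtype r), Nat.card_sigma]
    simp only [hk, Finset.sum_const, Finset.card_univ, smul_eq_mul, Nat.card_eq_fintype_card]
  have h2 : Nat.card {t : A × B // r t.1 t.2} = Nat.card B * l := by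
    rw [Nat.card_congr ((Equiv.prodComm A B).subtypeEquiv (p := fun t : A × B => r t.1 t.2) (q := fun t : B × A => r t.2 t.1) fun t => Iff.rfl),
      Nat.card_congr (Equiv.subtypeProdEquivSigmaSubtype fun b a => r a b), Nat.card_sigma]
    simp only [hl, Finset.sum_const, Finset.card_univ, smul_eq_mul, Nat.card_eq_fintype_card]
  omega

/-- an embedding of four distinct points -/
def mk4 (a b c d : α) (hab : a ≠ b) (hac : a ≠ c) (had : a ≠ d) (hbc : b ≠ c) (hbd : b ≠ d)
    (hcd : c ≠ d) : Fin 4 ↪ α :=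
  ⟨![a, b, c, d], by
    intro i j
    fin_cases i <;> fin_cases j <;> simp [hab, hac, had, hbc, hbd, hcd, hab.symm, hac.symm, had.symm,
      hbc.symm, hbd.symm, hcd.symm]⟩

theorem mk4_apply {a b c d : α} (hab : a ≠ b) (hac : a ≠ c) (had : a ≠ d) (hbc : b ≠ c) (hbd : b ≠ d)
    (hcd : c ≠ d) (i : Fin 4) : mk4 a b c d hab hac had hbc hbd hcd i = ![a, b, c, d] i := rfl

section Counts

variable {u v : Perm α}

theorem moved_image (hu : u * u = 1) {a : α} (ha : u a ≠ a) : u (u a) ≠ u a := fun h => ha (u.injective h)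

theorem invol_apply (hu : u * u = 1) (a : α) : u (u a) = a := by rw [← Perm.mul_apply, hu]; rfl

theorem card_single_A (hu : u * u = 1) (hf : (fixFinset u).card = 3) :
    Nat.card {x : Fin 4 ↪ α // ∀ i, u (x i) = x (dtA i)} =
      (Fintype.card α - 3) * (Fintype.card α - 5) := by
  classical
  let T : Finset α := Finset.univ \ fixFinset u
  have hT : ∀ a, a ∈ T ↔ u a ≠ a := fun a => by simp [T]
  have huu := invol_apply hu
  let e : {x : Fin 4 ↪ α // ∀ i, u (x i) = x (dtA i)} ≃ Σ a : T, (T \ {(a : α), u a} : Finset α) :=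
    { toFun := fun x => ⟨⟨x.1 0, (hT _).2 (by rw [x.2 0]; exact x.1.injective.ne (by decide))⟩,
        ⟨x.1 2, Finset.mem_sdiff.2 ⟨(hT _).2 (by rw [x.2 2]; exact x.1.injective.ne (by decide)), by
          simp only [Finset.mem_insert, Finset.mem_singleton, x.2 0, not_or]
          exact ⟨x.1.injective.ne (by decide), x.1.injective.ne (by decide)⟩⟩⟩⟩
      invFun := fun t => ⟨mk4 (t.1 : α) (u t.1) (t.2 : α) (u t.2)
          (Ne.symm ((hT _).1 t.1.2))
          (fun h => (Finset.mem_sdiff.1 t.2.2).2 (by simp [h]))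
          (fun h => (Finset.mem_sdiff.1 t.2.2).2 (by simp [h, huu]))
          (fun h => (Finset.mem_sdiff.1 t.2.2).2 (by simp [h]))
          (fun h => (Finset.mem_sdiff.1 t.2.2).2 (by simp [u.injective h]))
          (Ne.symm ((hT _).1 (Finset.mem_sdiff.1 t.2.2).1)),
        fun i => by fin_cases i <;> simp [mk4_apply, dtA, Equiv.swap_apply_def, huu]⟩
      left_inv := fun x => Subtype.ext (Function.Embedding.ext fun i => by
        fin_cases i
        · rfl
        · exact x.2 0
        · rfl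
        · exact x.2 2)
      right_inv := fun t => rfl }
  rw [Nat.card_congr e, Nat.card_sigma]
  have hc : ∀ a : T, Nat.card (T \ {(a : α), u a} : Finset α) = Fintype.card α - 5 := fun a => by
    rw [Nat.card_eq_fintype_card, Fintype.card_coe, Finset.card_sdiff_of_subset (by
      simp only [Finset.insert_subset_iff, Finset.singleton_subset_iff]
      exact ⟨a.2, (hT _).2 (moved_image hu ((hT _).1 a.2))⟩),
      Finset.card_pair (Ne.symm ((hT _).1 a.2)),
      show T = Finset.univ \ fixFinset u from rfl, Finset.card_univ_sdiff, hf]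
    omega
  simp only [hc, Finset.sum_const, smul_eq_mul, Finset.card_univ, Fintype.card_coe]
  rw [show T = Finset.univ \ fixFinset u from rfl, Finset.card_univ_sdiff, hf]

theorem card_single_B (hu : u * u = 1) (hf : (fixFinset u).card = 3) :
    Nat.card {x : Fin 4 ↪ α // ∀ i, u (x i) = x ((Equiv.swap 0 1 : Perm (Fin 4)) i)} =
      (Fintype.card α - 3) * 6 := by
  classical
  let T : Finset α := Finset.univ \ fixFinset u
  have hT : ∀ a, a ∈ T ↔ u a ≠ a := fun a => by simp [T]
  have hE : ∀ a, a ∈ fixFinset u ↔ u a = a := fun a => mem_fixFinset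
  have huu := invol_apply hu
  let e : {x : Fin 4 ↪ α // ∀ i, u (x i) = x ((Equiv.swap 0 1 : Perm (Fin 4)) i)} ≃
      (T × (fixFinset u).offDiag) :=
    { toFun := fun x => (⟨x.1 0, (hT _).2 (by rw [x.2 0]; exact x.1.injective.ne (by decide))⟩,
        ⟨(x.1 2, x.1 3), Finset.mem_offDiag.2 ⟨(hE _).2 (by rw [x.2 2]; rfl), (hE _).2 (by rw [x.2 3]; rfl),
          x.1.injective.ne (by decide)⟩⟩)
      invFun := fun t => ⟨mk4 (t.1 : α) (u t.1) (t.2.1.1) (t.2.1.2)
          (Ne.symm ((hT _).1 t.1.2))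
          (fun h => (hT _).1 t.1.2 (by rw [h]; exact (hE _).1 (Finset.mem_offDiag.1 t.2.2).1))
          (fun h => (hT _).1 t.1.2 (by rw [h]; exact (hE _).1 (Finset.mem_offDiag.1 t.2.2).2.1))
          (fun h => moved_image hu ((hT _).1 t.1.2) (by rw [h]; exact (hE _).1 (Finset.mem_offDiag.1 t.2.2).1))
          (fun h => moved_image hu ((hT _).1 t.1.2) (by rw [h]; exact (hE _).1 (Finset.mem_offDiag.1 t.2.2).2.1))
          (Finset.mem_offDiag.1 t.2.2).2.2,
        fun i => by
          obtain ⟨h1, h2, -⟩ := Finset.mem_offDiag.1 t.2.2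
          fin_cases i <;> simp [mk4_apply, Equiv.swap_apply_def, huu, (hE _).1 h1, (hE _).1 h2]⟩
      left_inv := fun x => Subtype.ext (Function.Embedding.ext fun i => by
        fin_cases i
        · rfl
        · exact x.2 0
        · rfl
        · rfl)
      right_inv := fun t => rfl }
  rw [Nat.card_congr e, Nat.card_prod, Nat.card_eq_fintype_card, Nat.card_eq_fintype_card, Fintype.card_coe,
    Fintype.card_coe, show T = Finset.univ \ fixFinset u from rfl, Finset.card_univ_sdiff, Finset.offDiag_card, hf]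

/-- pairs with `v` moving a fixed point of `u` -/
def Good (q : Perm α × Perm α) : Prop :=
  q.1 ≠ 1 ∧ ∃ e, q.1 e = e ∧ q.2 e ≠ e

theorem good_conjPair {g : Perm α} {q : Perm α × Perm α} (hq : Good q) : Good (conjPair g q) := by
  obtain ⟨h1, e, he1, he2⟩ := hq
  refine ⟨fun h => h1 ?_, g e, ?_, fun h => he2 ?_⟩
  · exact conj_eq_one_iff.1 h
  · show (g * q.1 * g⁻¹) (g e) = g e
    rw [Perm.mul_apply, Perm.mul_apply, Perm.inv_def, Equiv.symm_apply_apply, he1]
  · have h' : (g * q.2 * g⁻¹) (g e) = g e := h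
    rw [Perm.mul_apply, Perm.mul_apply, Perm.inv_def, Equiv.symm_apply_apply] at h'
    exact g.injective h'

theorem pair_structure (hu : u * u = 1) (hv : v * v = 1) (huv : Commute u v)
    (hfu : (fixFinset u).card = 3) (hfv : (fixFinset v).card = 3)
    (hfw : (fixFinset (u * v)).card = 3) {e : α} (he : u e = e) (hev : v e ≠ e) :
    (fixFinset v \ fixFinset u).card = 2 ∧ (fixFinset (u * v) \ fixFinset u).card = 2 ∧
      (Finset.univ \ (fixFinset u ∪ fixFinset v ∪ fixFinset (u * v))).card = Fintype.card α - 7 := by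
  classical
  have huu := invol_apply hu
  have hvv := invol_apply hv
  have hc : ∀ a, u (v a) = v (u a) := fun a => DFunLike.congr_fun huv.eq a
  have hvE : ∀ a ∈ fixFinset u, v a ∈ fixFinset u := fun a ha => by
    rw [mem_fixFinset] at ha ⊢; rw [hc, ha]
  have hpair : ({e, v e} : Finset α) ⊆ fixFinset u := by
    simp only [Finset.insert_subset_iff, Finset.singleton_subset_iff]
    exact ⟨mem_fixFinset.2 he, hvE e (mem_fixFinset.2 he)⟩
  obtain ⟨a, ha⟩ := Finset.card_eq_one.1 (show (fixFinset u \ {e, v e}).card = 1 by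
    rw [Finset.card_sdiff_of_subset hpair, Finset.card_pair (Ne.symm hev), hfu])
  have haE : a ∈ fixFinset u ∧ a ≠ e ∧ a ≠ v e := by
    have : a ∈ fixFinset u \ {e, v e} := ha ▸ Finset.mem_singleton_self a
    simpa using this
  have hEeq : ∀ c ∈ fixFinset u, c = a ∨ c = e ∨ c = v e := fun c hc => by
    by_contra h
    push Not at h
    have : c ∈ fixFinset u \ {e, v e} := Finset.mem_sdiff.2 ⟨hc, by simp [h.2.1, h.2.2]⟩
    rw [ha, Finset.mem_singleton] at this
    exact h.1 this
  have hva : v a = a := by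
    rcases hEeq _ (hvE a haE.1) with h | h | h
    · exact h
    · exact absurd (by rw [← h, hvv]) haE.2.2
    · exact absurd (v.injective h) haE.2.1
  have hmem_w : ∀ c, c ∈ fixFinset (u * v) ↔ u (v c) = c := fun c => by rw [mem_fixFinset, Perm.mul_apply]
  have hEv : fixFinset v ∩ fixFinset u = {a} := by
    ext c
    simp only [Finset.mem_inter, Finset.mem_singleton]
    refine ⟨fun ⟨h1, h2⟩ => ?_, fun h => h ▸ ⟨mem_fixFinset.2 hva, haE.1⟩⟩
    rw [mem_fixFinset] at h1
    rcases hEeq c h2 with h | rfl | rfl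
    · exact h
    · exact absurd h1 hev
    · rw [hvv] at h1; exact absurd h1.symm hev
  have hEw : fixFinset (u * v) ∩ fixFinset u = {a} := by
    ext c
    simp only [Finset.mem_inter, Finset.mem_singleton]
    refine ⟨fun ⟨h1, h2⟩ => ?_, fun h => h ▸ ⟨(hmem_w a).2 (by rw [hva, mem_fixFinset.1 haE.1]), haE.1⟩⟩
    rw [hmem_w, mem_fixFinset.1 (hvE c h2)] at h1
    have : c ∈ fixFinset v ∩ fixFinset u := Finset.mem_inter.2 ⟨mem_fixFinset.2 h1, h2⟩
    rwa [hEv, Finset.mem_singleton] at this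
  have hvw : ∀ c, c ∈ fixFinset v → c ∈ fixFinset (u * v) → c ∈ fixFinset u := fun c h1 h2 => by
    rw [mem_fixFinset] at h1 ⊢; rw [hmem_w, h1] at h2; exact h2
  have huni : ((fixFinset u ∪ fixFinset v) ∩ fixFinset (u * v)) = {a} := by
    ext c
    simp only [Finset.mem_inter, Finset.mem_union, Finset.mem_singleton]
    refine ⟨fun ⟨h1, h2⟩ => ?_, fun h => h ▸ ⟨Or.inl haE.1, (hmem_w a).2 (by rw [hva, mem_fixFinset.1 haE.1])⟩⟩
    have hcu : c ∈ fixFinset u := h1.elim id fun h => hvw c h h2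
    have : c ∈ fixFinset (u * v) ∩ fixFinset u := Finset.mem_inter.2 ⟨h2, hcu⟩
    rwa [hEw, Finset.mem_singleton] at this
  refine ⟨?_, ?_, ?_⟩
  · rw [Finset.card_sdiff, Finset.inter_comm, hEv, hfv, Finset.card_singleton]
  · rw [Finset.card_sdiff, Finset.inter_comm, hEw, hfw, Finset.card_singleton]
  · rw [Finset.card_univ_sdiff, Finset.card_union, huni, Finset.card_union, Finset.inter_comm, hEv, hfu, hfv, hfw,
      Finset.card_singleton]

theorem card_pair_A (hu : u * u = 1) (hv : v * v = 1) (huv : Commute u v) :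
    Nat.card {x : Fin 4 ↪ α // Pat (u, v) dtA dtB x} =
      (Finset.univ \ (fixFinset u ∪ fixFinset v ∪ fixFinset (u * v))).card := by
  classical
  have huu := invol_apply hu
  have hvv := invol_apply hv
  have hc : ∀ a, u (v a) = v (u a) := fun a => DFunLike.congr_fun huv.eq a
  rw [← Fintype.card_coe, ← Nat.card_eq_fintype_card]
  have hR : ∀ a, a ∈ Finset.univ \ (fixFinset u ∪ fixFinset v ∪ fixFinset (u * v)) ↔
      u a ≠ a ∧ v a ≠ a ∧ u (v a) ≠ a := fun a => by
    simp [mem_fixFinset, not_or, and_assoc]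
  refine Nat.card_congr
    { toFun := fun x => ⟨x.1 0, (hR _).2 ⟨by rw [(x.2 0).1]; exact x.1.injective.ne (by decide),
        by rw [(x.2 0).2]; exact x.1.injective.ne (by decide),
        by rw [(x.2 0).2, (x.2 (dtB 0)).1]; exact x.1.injective.ne (by decide)⟩⟩
      invFun := fun a => ⟨mk4 (a : α) (u a) (v a) (u (v a))
          (Ne.symm ((hR _).1 a.2).1) (Ne.symm ((hR _).1 a.2).2.1) (Ne.symm ((hR _).1 a.2).2.2)
          (fun h => ((hR _).1 a.2).2.2 (by rw [← h, huu]))
          (fun h => ((hR _).1 a.2).2.1 (u.injective h).symm)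
          (fun h => ((hR _).1 a.2).1 (v.injective (by rw [← hc]; exact h.symm))),
        fun i => by
          fin_cases i <;> simp [mk4_apply, dtA, dtB, Equiv.swap_apply_def, huu, hvv, hc]⟩
      left_inv := fun x => Subtype.ext (Function.Embedding.ext fun i => by
        fin_cases i
        · rfl
        · exact (x.2 0).1
        · exact (x.2 0).2
        · show u (v (x.1 0)) = x.1 3
          have e1 : v (x.1 0) = _ := (x.2 0).2
          rw [e1]
          exact (x.2 (dtB 0)).1)
      right_inv := fun a => rfl }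

theorem card_pair_B (hu : u * u = 1) (huv : Commute u v) :
    Nat.card {x : Fin 4 ↪ α // Pat (u, v) dtA (Equiv.swap 0 1) x} =
      (fixFinset (u * v) \ fixFinset u).card * (fixFinset v \ fixFinset u).card := by
  classical
  have huu := invol_apply hu
  have hc : ∀ a, u (v a) = v (u a) := fun a => DFunLike.congr_fun huv.eq a
  rw [← Fintype.card_coe, ← Fintype.card_coe, ← Fintype.card_prod, ← Nat.card_eq_fintype_card]
  refine Nat.card_congr
    { toFun := fun x => (⟨x.1 0, Finset.mem_sdiff.2 ⟨mem_fixFinset.2 (by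
          rw [Perm.mul_apply, (x.2 0).2, (x.2 _).1]; rfl),
          fun h => x.1.injective.ne (a₁ := 1) (a₂ := 0) (by decide) (by
            have := (x.2 0).1
            rw [mem_fixFinset] at h
            exact (h.symm.trans this).symm)⟩⟩,
        ⟨x.1 2, Finset.mem_sdiff.2 ⟨mem_fixFinset.2 (by rw [(x.2 2).2]; rfl),
          fun h => x.1.injective.ne (a₁ := 3) (a₂ := 2) (by decide) (by
            have := (x.2 2).1
            rw [mem_fixFinset] at h
            exact (h.symm.trans this).symm)⟩⟩)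
      invFun := fun t => ⟨mk4 (t.1 : α) (u t.1) (t.2 : α) (u t.2)
          (fun h => (Finset.mem_sdiff.1 t.1.2).2 (mem_fixFinset.2 h.symm))
          (fun h => by
            obtain ⟨h1, h2⟩ := Finset.mem_sdiff.1 t.1.2
            obtain ⟨h3, -⟩ := Finset.mem_sdiff.1 t.2.2
            rw [mem_fixFinset, Perm.mul_apply] at h1
            rw [mem_fixFinset, ← h] at h3
            rw [h3] at h1
            exact h2 (mem_fixFinset.2 h1))
          (fun h => by
            obtain ⟨h1, h2⟩ := Finset.mem_sdiff.1 t.1.2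
            obtain ⟨h3, -⟩ := Finset.mem_sdiff.1 t.2.2
            rw [mem_fixFinset, Perm.mul_apply] at h1
            rw [mem_fixFinset] at h3
            rw [h, hc, huu, h3] at h1
            exact h2 (mem_fixFinset.2 (by rw [h, huu, ← h1])))
          (fun h => by
            obtain ⟨h1, h2⟩ := Finset.mem_sdiff.1 t.1.2
            obtain ⟨h3, -⟩ := Finset.mem_sdiff.1 t.2.2
            rw [mem_fixFinset, Perm.mul_apply] at h1
            rw [mem_fixFinset] at h3
            have h4 : v (u t.1) = u t.1 := by rw [h]; exact h3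
            rw [← hc] at h4
            rw [u.injective h4] at h1
            exact h2 (mem_fixFinset.2 h1))
          (fun h => by
            obtain ⟨h1, h2⟩ := Finset.mem_sdiff.1 t.1.2
            obtain ⟨h3, -⟩ := Finset.mem_sdiff.1 t.2.2
            rw [mem_fixFinset, Perm.mul_apply] at h1
            rw [mem_fixFinset] at h3
            rw [u.injective h] at h1 h2
            rw [h3] at h1
            exact h2 (mem_fixFinset.2 h1))
          (fun h => (Finset.mem_sdiff.1 t.2.2).2 (mem_fixFinset.2 h.symm)),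
        fun i => by
          obtain ⟨h1, -⟩ := Finset.mem_sdiff.1 t.1.2
          obtain ⟨h3, -⟩ := Finset.mem_sdiff.1 t.2.2
          rw [mem_fixFinset, Perm.mul_apply] at h1
          rw [mem_fixFinset] at h3
          have h1' : v t.1 = u t.1 := u.injective (by rw [h1, huu])
          fin_cases i <;> simp [mk4_apply, dtA, Equiv.swap_apply_def, huu, h1', h3, ← hc, h1]⟩
      left_inv := fun x => Subtype.ext (Function.Embedding.ext fun i => by
        fin_cases i
        · rfl
        · exact (x.2 0).1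
        · rfl
        · exact (x.2 2).1)
      right_inv := fun t => rfl }

end Counts

set_option maxHeartbeats 1000000 in
theorem degree_eq_eleven (hG : IsMultiplyPretransitive G α 4) (hB : InvFixLE G 3)
    (hn : 8 ≤ Fintype.card α) (p : Fin 4 ↪ α) : Fintype.card α = 11 := by
  classical
  have h4n : 4 ≤ Fintype.card α := by omega
  obtain ⟨hoddn, -⟩ := four_trans_inv hG hB hn p
  obtain ⟨z, hz, hz2, -, hzp⟩ := hB.exists_tuple_lift hG h4n (show 3 < 4 by omega) le_rfl
    G.one_mem (one_mul _) (p := p) (π := 1) (σ := dtA) (fun i => rfl) (by decide) (fun i => rfl)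
  obtain ⟨w, hw, hw2, hwz, hwp⟩ := hB.exists_tuple_lift hG h4n (show 3 < 4 by omega) le_rfl
    hz hz2 (p := p) hzp (σ := dtB) (by decide) (by decide)
  obtain ⟨s, hs, hs2, hsz, hsp⟩ := hB.exists_tuple_lift hG h4n (show 3 < 4 by omega) le_rfl
    hz hz2 (p := p) hzp (σ := Equiv.swap 0 1) (by decide) (by decide)
  have hne : ∀ {q : Perm α} {π : Perm (Fin 4)}, (∀ i, q (p i) = p (π i)) → π ≠ 1 → q ≠ 1 := by
    intro q π h hπ hq
    refine hπ (Equiv.ext fun i => p.injective ?_)
    rw [← h i, hq]; rfl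
  have hz1 : z ≠ 1 := hne hzp (by decide)
  have hs1 : s ≠ 1 := hne hsp (by decide)
  have hparity : ∀ u : Perm α, u * u = 1 → (fixFinset u).card % 2 = 1 := fun u hu => by
    rw [involution_fix_parity hu]; exact Nat.odd_iff.1 hoddn
  -- every involution fixes exactly three points
  have hfs : (fixFinset s).card = 3 := by
    have h1 := hB s hs hs2 hs1
    have h2 := hparity s hs2
    have h3 : ({p 2, p 3} : Finset α) ⊆ fixFinset s := by
      simp only [Finset.insert_subset_iff, Finset.singleton_subset_iff, mem_fixFinset, hsp]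
      exact ⟨rfl, rfl⟩
    have h4 := Finset.card_le_card h3
    rw [Finset.card_pair (p.injective.ne (by decide))] at h4
    omega
  have hclass : ∀ u ∈ G, u * u = 1 → u ≠ 1 → (fixFinset u).card = (fixFinset z).card := by
    intro u hu hu2 hu1
    have huu := invol_apply hu2
    obtain ⟨a, ha⟩ : ∃ a, u a ≠ a := by
      by_contra h
      push Not at h
      exact hu1 (Equiv.ext h)
    obtain ⟨b, hb⟩ : ∃ b, b ∉ insert a (insert (u a) (fixFinset u)) := by
      by_contra h
      push Not at h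
      have h0 := Finset.card_le_card (s := (Finset.univ : Finset α)) (fun b _ => h b)
      have h1 := hB u hu hu2 hu1
      have h2 := Finset.card_insert_le a (insert (u a) (fixFinset u))
      have h3 := Finset.card_insert_le (u a) (fixFinset u)
      rw [Finset.card_univ] at h0
      omega
    simp only [Finset.mem_insert, mem_fixFinset, not_or] at hb
    let x : Fin 4 ↪ α := mk4 a (u a) b (u b) (Ne.symm ha) (Ne.symm hb.1)
      (fun h => hb.2.1 (by rw [h, huu])) (Ne.symm hb.2.1) (fun h => hb.1 (u.injective h).symm) (Ne.symm hb.2.2)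
    have hp : Pat (u, 1) dtA 1 x := fun i => ⟨by fin_cases i <;> simp [x, mk4_apply, dtA, Equiv.swap_apply_def, huu], rfl⟩
    obtain ⟨g, hg, hgx⟩ := ktrans_exists hG h4n le_rfl x p
    obtain ⟨k, -, hk⟩ := exists_conj hB
      (valid_conjPair hg (q := (u, 1)) ⟨hu, G.one_mem, hu2, one_mul 1, Commute.one_right _⟩)
      (q' := (z, 1)) ⟨hz, G.one_mem, hz2, one_mul 1, Commute.one_right _⟩
      (pat_conjPair (σ := 1) (π' := dtA) (τ' := 1) (fun i => by rw [hgx]; rfl) (fun _ => rfl) (fun _ => rfl) hp)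
      (fun i => ⟨hzp i, rfl⟩)
    rw [← conjPair_mul] at hk
    have hk' : k * g * u * (k * g)⁻¹ = z := congrArg Prod.fst hk
    rw [← hk']
    refine Finset.card_equiv (k * g) fun c => ?_
    rw [mem_fixFinset, mem_fixFinset, Perm.mul_apply (k * g * u), Perm.inv_def, Equiv.symm_apply_apply,
      Perm.mul_apply (k * g) u, (k * g).injective.eq_iff]
  have hf3 : ∀ u ∈ G, u * u = 1 → u ≠ 1 → (fixFinset u).card = 3 := fun u hu hu2 hu1 => by
    rw [hclass u hu hu2 hu1, ← hclass s hs hs2 hs1, hfs]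
  set n := Fintype.card α with hndef
  set h := Nat.card (Hst G p) with hhdef
  have hhpos : 0 < h := Nat.card_pos
  have hv1 : ∀ {u : Perm α}, u ∈ G → u * u = 1 → Valid G (u, 1) := fun hu hu2 =>
    ⟨hu, G.one_mem, hu2, one_mul 1, Commute.one_right _⟩
  have hvz := hv1 hz hz2
  have hvs := hv1 hs hs2
  have hpz : Pat (z, 1) dtA 1 p := fun i => ⟨hzp i, rfl⟩
  have hps : Pat (s, 1) (Equiv.swap 0 1) 1 p := fun i => ⟨hsp i, rfl⟩
  -- counting involutions
  let A := {u : Perm α // u ∈ G ∧ u * u = 1 ∧ u ≠ 1}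
  have single : ∀ (π : Perm (Fin 4)), π ≠ 1 → ∀ x : Fin 4 ↪ α,
      Nat.card {u : A // ∀ i, u.1 (x i) = x (π i)} = Nat.card {r // Valid G r ∧ Pat r π 1 p} := by
    intro π hπ x
    rw [← card_pat_eq hG h4n π 1 x p]
    refine Nat.card_congr
      { toFun := fun u => ⟨(u.1.1, 1), hv1 u.1.2.1 u.1.2.2.1, fun i => ⟨u.2 i, rfl⟩⟩
        invFun := fun r => ⟨⟨r.1.1, r.2.1.1, r.2.1.2.2.1, fun e => hπ (Equiv.ext fun i => x.injective (by
          rw [← (r.2.2 i).1, e]; rfl))⟩, fun i => (r.2.2 i).1⟩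
        left_inv := fun u => rfl
        right_inv := fun r => Subtype.ext (Prod.ext rfl ?_) }
    show (1 : Perm α) = r.1.2
    by_contra hne'
    have h3 := hB _ r.2.1.2.1 r.2.1.2.2.2.1 (Ne.symm hne')
    have h4 : (Finset.univ.map x) ⊆ fixFinset r.1.2 := fun c hc => by
      obtain ⟨i, -, rfl⟩ := Finset.mem_map.1 hc
      exact mem_fixFinset.2 (r.2.2 i).2
    have := Finset.card_le_card h4
    simp at this
    omega
  have hA := double_count (fun (u : A) (x : Fin 4 ↪ α) => ∀ i, u.1 (x i) = x (dtA i))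
    (fun u => card_single_A u.2.2.1 (hf3 _ u.2.1 u.2.2.1 u.2.2.2)) (single dtA (by decide))
  have hA' := double_count (fun (u : A) (x : Fin 4 ↪ α) => ∀ i, u.1 (x i) = x ((Equiv.swap 0 1 : Perm (Fin 4)) i))
    (fun u => card_single_B u.2.2.1 (hf3 _ u.2.1 u.2.2.1 u.2.2.2)) (single (Equiv.swap 0 1) (by decide))
  -- pairs
  have hvzw : Valid G (z, w) := ⟨hz, hw, hz2, hw2, hwz.symm⟩
  have hpzw : Pat (z, w) dtA dtB p := fun i => ⟨hzp i, hwp i⟩
  have hvzs : Valid G (z, s) := ⟨hz, hs, hz2, hs2, hsz.symm⟩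
  have hpzs : Pat (z, s) dtA (Equiv.swap 0 1) p := fun i => ⟨hzp i, hsp i⟩
  have hgoodB : ∀ (r : Perm α × Perm α) (x : Fin 4 ↪ α), Valid G r → Pat r dtA (Equiv.swap 0 1) x → Good r := by
    rintro ⟨u, v⟩ x ⟨hu, hv, hu2, hv2, -⟩ hp
    have hu1 : u ≠ 1 := fun e => by
      have := (hp 0).1
      simp only [e, Perm.one_apply] at this
      exact absurd (x.injective this) (by decide)
    have hv1' : v ≠ 1 := fun e => by
      have := (hp 0).2
      simp only [e, Perm.one_apply] at this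
      exact absurd (x.injective this) (by decide)
    refine ⟨hu1, ?_⟩
    by_contra hc
    push Not at hc
    have hx : ∀ i, x i ∉ fixFinset u := fun i hi => by
      rw [mem_fixFinset, (hp i).1] at hi
      revert hi
      fin_cases i <;> exact fun hi => absurd (x.injective hi) (by decide)
    have hsub : insert (x 2) (fixFinset u) ⊆ fixFinset v := Finset.insert_subset
      (mem_fixFinset.2 (by rw [(hp 2).2]; rfl)) fun c hc' => mem_fixFinset.2 (hc c (mem_fixFinset.1 hc'))
    have := Finset.card_le_card hsub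
    rw [Finset.card_insert_of_notMem (hx 2), hf3 u hu hu2 hu1, hf3 v hv hv2 hv1'] at this
    omega
  have hstruct : ∀ r : Perm α × Perm α, Valid G r → Good r →
      Nat.card {x : Fin 4 ↪ α // Pat r dtA dtB x} = n - 7 ∧
      Nat.card {x : Fin 4 ↪ α // Pat r dtA (Equiv.swap 0 1) x} = 4 := by
    rintro ⟨u, v⟩ ⟨hu, hv, hu2, hv2, huv⟩ ⟨hu1, e, he1, he2⟩
    have hv1' : v ≠ 1 := fun h' => he2 (by show v e = e; rw [h']; rfl)
    have hw1 : u * v ≠ 1 := fun h' => he2 (by
      show v e = e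
      rw [show v = u from (mul_left_cancel (a := u) (by rw [h', hu2] : u * v = u * u))]
      exact he1)
    have hwsq : u * v * (u * v) = 1 := by
      rw [show u * v * (u * v) = u * (v * u) * v by group, ← huv.eq,
        show u * (u * v) * v = (u * u) * (v * v) by group, hu2, hv2, one_mul]
    obtain ⟨h1, h2, h3⟩ := pair_structure hu2 hv2 huv (hf3 u hu hu2 hu1) (hf3 v hv hv2 hv1')
      (hf3 _ (G.mul_mem hu hv) hwsq hw1) he1 he2
    exact ⟨by rw [card_pair_A hu2 hv2 huv, h3], by rw [card_pair_B hu2 huv, h1, h2]⟩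
  have hgoodA : ∀ (r : Perm α × Perm α) (x : Fin 4 ↪ α), Valid G r → Pat r dtA dtB x → Good r := by
    intro r x hr hrx
    have hgs := hgoodB _ p hvzs hpzs
    have hpos : 0 < Nat.card {y : Fin 4 ↪ α // Pat (z, s) dtA dtB y} := by
      rw [(hstruct _ hvzs hgs).1]
      have := Nat.odd_iff.1 hoddn
      omega
    obtain ⟨⟨y, hy⟩⟩ := (Nat.card_pos_iff.1 hpos).1
    obtain ⟨g, hg, hgy⟩ := ktrans_exists hG h4n le_rfl y x
    obtain ⟨k, -, hk⟩ := exists_conj hB (valid_conjPair hg hvzs) hr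
      (pat_conjPair (σ := 1) (π' := dtA) (τ' := dtB) (fun i => by rw [hgy]; rfl) (fun _ => rfl) (fun _ => rfl) hy) hrx
    rw [← hk]
    exact good_conjPair (good_conjPair hgs)
  let P := {r : Perm α × Perm α // Valid G r ∧ Good r}
  have pairs : ∀ (τ : Perm (Fin 4)), (∀ r x, Valid G r → Pat r dtA τ x → Good r) → ∀ x : Fin 4 ↪ α,
      Nat.card {r : P // Pat r.1 dtA τ x} = Nat.card {r // Valid G r ∧ Pat r dtA τ p} := by
    intro τ hτ x
    rw [← card_pat_eq hG h4n dtA τ x p]
    exact Nat.card_congr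
      { toFun := fun r => ⟨r.1.1, r.1.2.1, r.2⟩
        invFun := fun r => ⟨⟨r.1, r.2.1, hτ _ x r.2.1 r.2.2⟩, r.2.2⟩
        left_inv := fun r => rfl
        right_inv := fun r => rfl }
  have hP := double_count (fun (r : P) (x : Fin 4 ↪ α) => Pat r.1 dtA dtB x)
    (fun r => (hstruct _ r.2.1 r.2.2).1) (pairs dtB hgoodA)
  have hP' := double_count (fun (r : P) (x : Fin 4 ↪ α) => Pat r.1 dtA (Equiv.swap 0 1) x)
    (fun r => (hstruct _ r.2.1 r.2.2).2) (pairs (Equiv.swap 0 1) hgoodB)
  -- orbit lengths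
  have oA := card_pat hB hvz hpz
  have oA' := card_pat hB hvs hps
  have oP := card_pat hB hvzw hpzw
  have oP' := card_pat hB hvzs hpzs
  -- equal centralisers
  have hvw := hv1 hw hw2
  have hzw2 : z * w * (z * w) = 1 := by
    rw [show z * w * (z * w) = z * (w * z) * w by group, hwz.eq,
      show z * (z * w) * w = (z * z) * (w * w) by group, hz2, hw2, one_mul]
  have hzs2 : z * s * (z * s) = 1 := by
    rw [show z * s * (z * s) = z * (s * z) * s by group, hsz.eq,
      show z * (z * s) * s = (z * z) * (s * s) by group, hz2, hs2, one_mul]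
  have cw : cnt G p (w, 1) = cnt G p (z, 1) :=
    (cnt_eq hG h4n hB hvz hvw hpz (π' := dtB) (τ' := 1) (fun i => ⟨hwp i, rfl⟩) (Equiv.swap 1 2) (by decide)
      (fun _ => rfl)).symm
  have czw : cnt G p (z * w, 1) = cnt G p (z, 1) :=
    (cnt_eq hG h4n hB hvz (hv1 (G.mul_mem hz hw) hzw2) hpz (π' := dtA * dtB) (τ' := 1)
      (fun i => ⟨by show (z * w) (p i) = _; rw [Perm.mul_apply, hwp, hzp]; rfl, rfl⟩) (Equiv.swap 1 3) (by decide)
      (fun _ => rfl)).symm
  have czs : cnt G p (z * s, 1) = cnt G p (s, 1) :=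
    (cnt_eq hG h4n hB hvs (hv1 (G.mul_mem hz hs) hzs2) hps (π' := dtA * Equiv.swap 0 1) (τ' := 1)
      (fun i => ⟨by show (z * s) (p i) = _; rw [Perm.mul_apply, hsp, hzp]; rfl, rfl⟩) dtB (by decide)
      (fun _ => rfl)).symm
  have b1 := bw_cnt hB hvzw hpzw
  have b2 := bw_cnt hB hvzs hpzs
  simp only at b1 b2
  rw [cw, czw] at b1
  rw [czs] at b2
  set cz := cnt G p (z, 1)
  set cs := cnt G p (s, 1)
  set D := cnt G p (z, w)
  set D' := cnt G p (z, s)
  set JA := Nat.card {r // Valid G r ∧ Pat r dtA 1 p}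
  set JB := Nat.card {r // Valid G r ∧ Pat r (Equiv.swap 0 1 : Perm (Fin 4)) 1 p}
  set KA := Nat.card {r // Valid G r ∧ Pat r dtA dtB p}
  set KB := Nat.card {r // Valid G r ∧ Pat r dtA (Equiv.swap 0 1 : Perm (Fin 4)) p}
  set N := Nat.card A
  set M := Nat.card P
  set X := Nat.card (Fin 4 ↪ α)
  rw [← hhdef] at oA oA' oP oP' b1 b2
  have hXpos : 0 < X := Nat.card_pos_iff.2 ⟨⟨p⟩, inferInstance⟩
  have posA : 0 < JA ∧ 0 < cz := by
    rw [← oA] at hhpos
    exact CanonicallyOrderedAdd.mul_pos.1 hhpos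
  have posB : 0 < JB ∧ 0 < cs := by
    rw [← oA'] at hhpos
    exact CanonicallyOrderedAdd.mul_pos.1 hhpos
  have posP : 0 < KA ∧ 0 < D := by
    rw [← oP] at hhpos
    exact CanonicallyOrderedAdd.mul_pos.1 hhpos
  have posP' : 0 < KB ∧ 0 < D' := by
    rw [← oP'] at hhpos
    exact CanonicallyOrderedAdd.mul_pos.1 hhpos
  -- ratios
  have r1 : 6 * cs = (n - 5) * cz := by
    have e1 : 6 * JA = (n - 5) * JB := by
      refine Nat.eq_of_mul_eq_mul_left hXpos ?_
      calc X * (6 * JA) = 6 * (X * JA) := by ring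
        _ = 6 * (N * ((n - 3) * (n - 5))) := by rw [hA]
        _ = (n - 5) * (N * ((n - 3) * 6)) := by ring
        _ = (n - 5) * (X * JB) := by rw [hA']
        _ = X * ((n - 5) * JB) := by ring
    refine Nat.eq_of_mul_eq_mul_left (Nat.mul_pos posA.1 posB.1) ?_
    calc JA * JB * (6 * cs) = 6 * JA * (JB * cs) := by ring
      _ = (n - 5) * JB * (JA * cz) := by rw [oA', oA, e1]
      _ = _ := by ring
  have r2 : 4 * D' = (n - 7) * D := by
    have e1 : 4 * KA = (n - 7) * KB := by
      refine Nat.eq_of_mul_eq_mul_left hXpos ?_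
      calc X * (4 * KA) = 4 * (X * KA) := by ring
        _ = 4 * (M * (n - 7)) := by rw [hP]
        _ = (n - 7) * (M * 4) := by ring
        _ = (n - 7) * (X * KB) := by rw [hP']
        _ = X * ((n - 7) * KB) := by ring
    refine Nat.eq_of_mul_eq_mul_left (Nat.mul_pos posP.1 posP'.1) ?_
    calc KA * KB * (4 * D') = 4 * KA * (KB * D') := by ring
      _ = (n - 7) * KB * (KA * D) := by rw [oP', oP, e1]
      _ = _ := by ring
  have r3 : D' * cz = D * cs := by
    have : h * ((D' * cz) ^ 2) = h * ((D * cs) ^ 2) := by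
      calc h * ((D' * cz) ^ 2) = h * D' ^ 2 * cz ^ 2 := by ring
        _ = cz * cs * cs * cz ^ 2 := by rw [b2]
        _ = cz * cz * cz * cs ^ 2 := by ring
        _ = h * D ^ 2 * cs ^ 2 := by rw [b1]
        _ = _ := by ring
    exact Nat.pow_left_injective two_ne_zero (Nat.eq_of_mul_eq_mul_left hhpos this)
  have r4 : 6 * (n - 7) = 4 * (n - 5) := by
    refine Nat.eq_of_mul_eq_mul_left (Nat.mul_pos posP.2 posA.2) ?_
    calc D * cz * (6 * (n - 7)) = 6 * cz * ((n - 7) * D) := by ring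
      _ = 6 * cz * (4 * D') := by rw [r2]
      _ = 24 * (D' * cz) := by ring
      _ = 4 * D * (6 * cs) := by rw [r3]; ring
      _ = 4 * D * ((n - 5) * cz) := by rw [r1]
      _ = _ := by ring
  omega

end CfsgLib.ClassSizes.OddFour
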