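import Mathlib

/-!
Submultiplicativity of the number of classes of π-elements over a normal subgroup.

With `P(G) = {(g,h) commuting, g a π-element}` one has `|P(G)| = k_π(G)|G|`, and an injection
`P(G) → P(G/N) × P(N)`: after dividing `h` by a representative, `(g,n)` becomes `(n_π, g n_π')`,
from which `g` is recovered as the π-part of the second entry.
-/

set_option autoImplicit false

namespace CfsgLib.ClassSizes

variable {G : Type*} [Group G]

/-- every prime dividing the order of `g` is in `π` -/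
def IsPiElement (π : Set ℕ) (g : G) : Prop := ∀ q : ℕ, q.Prime → q ∣ orderOf g → q ∈ π

/-- commuting pairs with first entry a π-element -/
abbrev PiPairs (π : Set ℕ) (G : Type*) [Group G] : Type _ :=
  {p : G × G // IsPiElement π p.1 ∧ Commute p.1 p.2}

theorem classProp_iff (π : Set ℕ) (g : G) :
    (∀ q : ℕ, q.Prime → (∃ x : G, ConjClasses.mk x = ConjClasses.mk g ∧ q ∣ orderOf x) → q ∈ π) ↔
      IsPiElement π g := by
  refine ⟨fun h q hq hd => h q hq ⟨g, rfl, hd⟩, fun h q hq ⟨x, hx, hd⟩ => h q hq ?_⟩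
  obtain ⟨c, rfl⟩ := isConj_iff.1 (ConjClasses.mk_eq_mk_iff_isConj.1 hx)
  have : orderOf (c * x * c⁻¹) = orderOf x := (SemiconjBy.orderOf_eq c (by simp [SemiconjBy])).symm
  rwa [this]

/-- `|P(G)| = k_π(G) |G|` -/
theorem card_piPairs [Finite G] (π : Set ℕ) :
    Nat.card (PiPairs π G) = Nat.card {C : ConjClasses G //
      ∀ q : ℕ, q.Prime → (∃ g : G, ConjClasses.mk g = C ∧ q ∣ orderOf g) → q ∈ π} * Nat.card G := by
  classical
  have := Fintype.ofFinite G
  set Q : ConjClasses G → Prop := fun C =>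
    ∀ q : ℕ, q.Prime → (∃ g : G, ConjClasses.mk g = C ∧ q ∣ orderOf g) → q ∈ π with hQ
  let f : PiPairs π G → {C : ConjClasses G // Q C} := fun p =>
    ⟨ConjClasses.mk p.1.1, (classProp_iff π p.1.1).2 p.2.1⟩
  have hfib : ∀ C, Nat.card {p // f p = C} = Nat.card G := by
    rintro ⟨C, hC⟩
    obtain ⟨g, rfl⟩ := ConjClasses.exists_rep C
    let e : {p // f p = ⟨ConjClasses.mk g, hC⟩} ≃
        Σ x : MulAction.orbit (ConjAct G) g, MulAction.stabilizer (ConjAct G) (x : G) :=
      { toFun := fun p => ⟨⟨p.1.1.1, by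
            rw [ConjAct.mem_orbit_conjAct]
            exact ConjClasses.mk_eq_mk_iff_isConj.1 (Subtype.ext_iff.1 p.2)⟩,
          ⟨ConjAct.toConjAct p.1.1.2, by
            rw [MulAction.mem_stabilizer_iff, ConjAct.toConjAct_smul]
            exact mul_inv_eq_of_eq_mul p.1.2.2.eq.symm⟩⟩
        invFun := fun x => ⟨⟨(x.1.1, ConjAct.ofConjAct x.2.1), by
            refine ⟨(classProp_iff π _).1 ?_, ?_⟩
            · have := ConjClasses.mk_eq_mk_iff_isConj.2 (ConjAct.mem_orbit_conjAct.1 x.1.2)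
              rw [this]
              exact hC
            · have := x.2.2
              rw [MulAction.mem_stabilizer_iff, ConjAct.smul_def] at this
              exact (eq_mul_of_mul_inv_eq this).symm⟩,
          Subtype.ext (ConjClasses.mk_eq_mk_iff_isConj.2 (ConjAct.mem_orbit_conjAct.1 x.1.2))⟩
        left_inv := fun _ => rfl
        right_inv := fun _ => rfl }
    rw [Nat.card_congr e, Nat.card_sigma]
    have hconst : ∀ x : MulAction.orbit (ConjAct G) g,
        Nat.card (MulAction.stabilizer (ConjAct G) (x : G)) =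
          Nat.card (MulAction.stabilizer (ConjAct G) g) := fun x =>
      Nat.card_congr (MulAction.stabilizerEquivStabilizerOfOrbitRel
        (MulAction.orbitRel_apply.2 x.2)).toEquiv
    simp only [hconst, Finset.sum_const, Finset.card_univ, smul_eq_mul]
    rw [← Nat.card_eq_fintype_card, Nat.card_coe_set_eq, ← MulAction.index_stabilizer,
      Subgroup.index_mul_card]
    exact Nat.card_congr ConjAct.ofConjAct.toEquiv
  calc Nat.card (PiPairs π G) = Nat.card (Σ C : {C : ConjClasses G // Q C}, {p // f p = C}) :=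
        (Nat.card_congr (Equiv.sigmaFiberEquiv f)).symm
    _ = _ := by
        rw [Nat.card_sigma]
        simp only [hfib, Finset.sum_const, Finset.card_univ, smul_eq_mul]
        rw [← Nat.card_eq_fintype_card]

/-- an exponent taking π-parts -/
theorem exists_piExponent [Finite G] (π : Set ℕ) :
    ∃ e : ℕ, (∀ g : G, IsPiElement π g → g ^ e = g) ∧ (∀ n : G, IsPiElement π (n ^ e)) ∧
      ∀ n : G, (n ^ e) ^ e = n ^ e := by
  classical
  set M := Nat.card G with hM
  have hM0 : M ≠ 0 := Nat.card_pos.ne'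
  set A := ∏ p ∈ M.primeFactors.filter (fun p => p ∈ π), p ^ M.factorization p with hA
  set B := ∏ p ∈ M.primeFactors.filter (fun p => p ∉ π), p ^ M.factorization p with hB
  have hAB : A * B = M := by
    rw [hA, hB, Finset.prod_filter_mul_prod_filter_not]
    exact Nat.prod_factorization_pow_eq_self hM0
  have hAprime : ∀ q : ℕ, q.Prime → q ∣ A → q ∈ π := by
    intro q hq hd
    obtain ⟨p, hp, hqp⟩ := (hq.prime.dvd_finsetProd_iff _).1 hd
    rw [Finset.mem_filter] at hp
    rw [(Nat.prime_dvd_prime_iff_eq hq (Nat.prime_of_mem_primeFactors hp.1)).1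
      (hq.dvd_of_dvd_pow hqp)]
    exact hp.2
  have hBprime : ∀ q : ℕ, q.Prime → q ∣ B → q ∉ π := by
    intro q hq hd
    obtain ⟨p, hp, hqp⟩ := (hq.prime.dvd_finsetProd_iff _).1 hd
    rw [Finset.mem_filter] at hp
    rw [(Nat.prime_dvd_prime_iff_eq hq (Nat.prime_of_mem_primeFactors hp.1)).1
      (hq.dvd_of_dvd_pow hqp)]
    exact hp.2
  have hcop : A.Coprime B :=
    Nat.coprime_of_dvd fun q hq ha hb => hBprime q hq hb (hAprime q hq ha)
  obtain ⟨e, he1, he0⟩ := Nat.chineseRemainder hcop 1 0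
  have hBe : B ∣ e := Nat.modEq_zero_iff_dvd.1 he0
  refine ⟨e, fun g hg => ?_, fun n q hq hd => hAprime q hq (hd.trans ?_), fun n => ?_⟩
  · have hdA : orderOf g ∣ A := by
      have h := orderOf_dvd_natCard g
      rw [← hM, ← hAB] at h
      refine Nat.Coprime.dvd_of_dvd_mul_right ?_ h
      exact Nat.coprime_of_dvd fun q hq ha hb => hBprime q hq hb (hg q hq ha)
    have h := pow_eq_pow_iff_modEq.2 (he1.of_dvd hdA : e ≡ 1 [MOD orderOf g])
    rwa [pow_one] at h
  · refine orderOf_dvd_of_pow_eq_one ?_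
    obtain ⟨d, hd⟩ := hBe
    rw [← pow_mul, hd, mul_comm B d, mul_assoc, mul_comm B A, hAB, mul_comm, pow_mul, hM,
      pow_card_eq_one', one_pow]
  · rw [← pow_mul, pow_eq_pow_iff_modEq]
    refine Nat.ModEq.of_dvd (orderOf_dvd_natCard n) ?_
    rw [← hM, ← hAB, ← Nat.modEq_and_modEq_iff_modEq_mul hcop]
    exact ⟨by simpa using he1.mul_left e,
      (Nat.modEq_zero_iff_dvd.2 (hBe.mul_right e)).trans (Nat.modEq_zero_iff_dvd.2 hBe).symm⟩

/-- `k_π(G) ≤ k_π(N) k_π(G/N)` -/
theorem piClasses_mul [Finite G] (N : Subgroup G) [N.Normal] (π : Set ℕ) :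
    Nat.card {C : ConjClasses G //
        ∀ q : ℕ, q.Prime → (∃ g : G, ConjClasses.mk g = C ∧ q ∣ orderOf g) → q ∈ π} ≤
      Nat.card {C : ConjClasses N //
        ∀ q : ℕ, q.Prime → (∃ g : N, ConjClasses.mk g = C ∧ q ∣ orderOf g) → q ∈ π} *
      Nat.card {C : ConjClasses (G ⧸ N) //
        ∀ q : ℕ, q.Prime → (∃ g : (G ⧸ N), ConjClasses.mk g = C ∧ q ∣ orderOf g) → q ∈ π} := by
  classical
  obtain ⟨e, hfix, hpi, hidem⟩ := exists_piExponent (G := G) π
  -- `σ g y`: an element commuting with `g` lying over `y`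
  let σ : G → G ⧸ N → G := fun g y =>
    if h : ∃ u : G, Commute g u ∧ (u : G ⧸ N) = y then h.choose else 1
  have σspec : ∀ g u : G, Commute g u → Commute g (σ g u) ∧ (σ g u : G ⧸ N) = u := by
    intro g u hu
    have h : ∃ v : G, Commute g v ∧ (v : G ⧸ N) = u := ⟨u, hu, rfl⟩
    simp only [σ, dif_pos h]
    exact h.choose_spec
  -- the component in `N`
  let nOf : PiPairs π G → G := fun p => (σ p.1.1 p.1.2)⁻¹ * p.1.2
  have hnN : ∀ p, nOf p ∈ N := fun p => QuotientGroup.eq.1 (σspec _ _ p.2.2).2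
  have hnC : ∀ p : PiPairs π G, Commute p.1.1 (nOf p) := fun p =>
    (σspec _ _ p.2.2).1.inv_right.mul_right p.2.2
  let bOf : PiPairs π G → G := fun p => p.1.1 * ((nOf p ^ e)⁻¹ * nOf p)
  have hb_mk : ∀ p, (bOf p : G ⧸ N) = p.1.1 := by
    intro p
    refine QuotientGroup.eq.2 ?_
    have h : (bOf p)⁻¹ * p.1.1 = ((nOf p ^ e)⁻¹ * nOf p)⁻¹ := by simp [bOf, mul_inv_rev, mul_assoc]
    rw [h]
    exact inv_mem (mul_mem (inv_mem (pow_mem (hnN p) e)) (hnN p))
  have hbC : ∀ p : PiPairs π G, Commute (nOf p ^ e) (bOf p) := fun p =>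
    ((hnC p).symm.pow_left e).mul_right
      (((Commute.refl (nOf p)).pow_pow e e).inv_right.mul_right ((Commute.refl _).pow_left e))
  let cOf : PiPairs π G → G := fun p => (σ (nOf p ^ e) p.1.1)⁻¹ * bOf p
  have hσb : ∀ p : PiPairs π G,
      Commute (nOf p ^ e) (σ (nOf p ^ e) p.1.1) ∧ (σ (nOf p ^ e) p.1.1 : G ⧸ N) = bOf p := by
    intro p
    have h := σspec _ _ (hbC p)
    rwa [hb_mk] at h ⊢
  have hcN : ∀ p, cOf p ∈ N := fun p => QuotientGroup.eq.1 (hσb p).2
  let Φ : PiPairs π G → PiPairs π N × PiPairs π (G ⧸ N) := fun p =>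
    (⟨(⟨nOf p ^ e, pow_mem (hnN p) e⟩, ⟨cOf p, hcN p⟩), by
        refine ⟨fun q hq hd => hpi (nOf p) q hq ?_, Subtype.ext ?_⟩
        · rwa [← Subgroup.orderOf_coe] at hd
        · exact ((hσb p).1.inv_right.mul_right (hbC p)).eq⟩,
      ⟨((p.1.1 : G ⧸ N), (p.1.2 : G ⧸ N)),
        fun q hq hd => p.2.1 q hq (hd.trans (orderOf_map_dvd (QuotientGroup.mk' N) p.1.1)),
        p.2.2.map (QuotientGroup.mk' N)⟩)
  have hΦ : Function.Injective Φ := by
    have hbe : ∀ p : PiPairs π G, bOf p ^ e = p.1.1 := by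
      intro p
      simp only [bOf]
      have hc1 : Commute p.1.1 ((nOf p ^ e)⁻¹ * nOf p) :=
        ((hnC p).pow_right e).inv_right.mul_right (hnC p)
      have hc2 : Commute (nOf p ^ e)⁻¹ (nOf p) := ((Commute.refl (nOf p)).pow_left e).inv_left
      rw [hc1.mul_pow, hc2.mul_pow, hfix _ p.2.1, inv_pow, hidem, inv_mul_cancel, mul_one]
    intro p p' h
    simp only [Φ, Prod.ext_iff, Subtype.ext_iff] at h
    obtain ⟨⟨ha, hc⟩, hg, hh⟩ := h
    have hb : bOf p = bOf p' := by
      simp only [cOf] at hc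
      rw [ha, hg] at hc
      exact mul_left_cancel hc
    have hg' : p.1.1 = p'.1.1 := by rw [← hbe p, ← hbe p', hb]
    have hn : nOf p = nOf p' := by
      simp only [bOf] at hb
      rw [hg', ha] at hb
      exact mul_left_cancel (mul_left_cancel hb)
    refine Subtype.ext (Prod.ext hg' ?_)
    simp only [nOf] at hn
    rw [hg', hh] at hn
    exact mul_left_cancel hn
  have hle := Nat.card_le_card_of_injective Φ hΦ
  rw [Nat.card_prod, card_piPairs, card_piPairs, card_piPairs,
    Subgroup.card_eq_card_quotient_mul_card_subgroup N] at hle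
  refine Nat.le_of_mul_le_mul_right (le_trans hle (le_of_eq ?_))
    (Nat.mul_pos (Nat.card_pos (α := G ⧸ N)) (Nat.card_pos (α := N)))
  rw [mul_mul_mul_comm, mul_comm (Nat.card N)]

end CfsgLib.ClassSizes
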