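import Mathlib

/-!
The power graph of a finite group determines its maximal cyclic subgroups of
non-prime-power order.
-/

namespace CfsgLib.ClassSizes.PowerGraph

open Subgroup

variable {G H : Type*} [Group G] [Group H] [Finite G] [Finite H]

/-- Comparability. -/
def Adj (x y : G) : Prop := x ∈ zpowers y ∨ y ∈ zpowers x

/-- The closed neighbourhood. -/
def nbhd (x : G) : Set G := {y | Adj x y}

/-- `x` generates a maximal cyclic subgroup. -/
def IsMaxCyc (x : G) : Prop := ∀ y, x ∈ zpowers y → y ∈ zpowers x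

variable (G) in
/-- Only the identity is universal. -/
def NoUniversal : Prop := ∀ y : G, y ≠ 1 → ∃ z, ¬ Adj y z

omit [Finite G] in
theorem adj_symm {x y : G} (h : Adj x y) : Adj y x := h.symm

theorem orderOf_dvd_of_mem {x y : G} (h : x ∈ zpowers y) : orderOf x ∣ orderOf y :=
  orderOf_dvd_of_mem_zpowers h

theorem not_adj_of_not_dvd {x y : G} (h1 : ¬ orderOf x ∣ orderOf y) (h2 : ¬ orderOf y ∣ orderOf x) :
    ¬ Adj x y := fun h => h.elim (fun h => h1 (orderOf_dvd_of_mem h)) (fun h => h2 (orderOf_dvd_of_mem h))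

theorem zpowers_eq_of_mem {x y : G} (hy : y ∈ zpowers x) (h : orderOf y = orderOf x) :
    zpowers y = zpowers x :=
  Subgroup.eq_of_le_of_card_ge (zpowers_le.2 hy) (by rw [Nat.card_zpowers, Nat.card_zpowers, h])

omit [Finite G] in
theorem nbhd_eq_of_zpowers_eq {x y : G} (h : zpowers x = zpowers y) : nbhd x = nbhd y := by
  ext z
  change Adj x z ↔ Adj y z
  unfold Adj
  rw [h]
  have : ∀ a : G, x ∈ zpowers a ↔ y ∈ zpowers a := fun a => by rw [← zpowers_le, h, zpowers_le]
  rw [this z]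

omit [Finite G] in
theorem nbhd_isMax {x : G} (hx : IsMaxCyc x) : nbhd x = zpowers x := by
  ext z
  exact ⟨fun h => h.elim (hx z) id, Or.inr⟩

theorem exists_isMax (x : G) : ∃ y, x ∈ zpowers y ∧ IsMaxCyc y := by
  obtain ⟨y, hy, hmax⟩ := Set.Finite.exists_maximalFor (fun y : G => orderOf y) {y : G | x ∈ zpowers y}
    (Set.toFinite _) ⟨x, mem_zpowers x⟩
  refine ⟨y, hy, fun z hz => ?_⟩
  have h1 : orderOf y ≤ orderOf z := Nat.le_of_dvd (orderOf_pos z) (orderOf_dvd_of_mem hz)
  have h2 := hmax (show x ∈ zpowers z from zpowers_le.2 hz hy) h1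
  rw [zpowers_eq_of_mem hz (le_antisymm h1 h2)]
  exact mem_zpowers z

theorem exists_mem_orderOf {x : G} {d : ℕ} (hd : d ∣ orderOf x) : ∃ w ∈ zpowers x, orderOf w = d := by
  refine ⟨x ^ (orderOf x / d), npow_mem_zpowers x _, ?_⟩
  exact orderOf_pow_orderOf_div (orderOf_pos x).ne' hd

theorem exists_other_prime {m : ℕ} (hm : ¬ IsPrimePow m) (hm1 : 1 < m) (p : ℕ) :
    ∃ q, q.Prime ∧ q ∣ m ∧ q ≠ p := by
  by_contra h
  push Not at h
  obtain ⟨q, hq, hqm⟩ := Nat.exists_prime_and_dvd hm1.ne'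
  obtain rfl := h q hq hqm
  have := Nat.eq_prime_pow_of_unique_prime_dvd (p := q) (by omega : m ≠ 0) fun {d} hd hdm => h d hd hdm
  refine hm (isPrimePow_nat_iff _ |>.2 ⟨q, m.primeFactorsList.length, hq, ?_, this.symm⟩)
  by_contra h0
  rw [show m.primeFactorsList.length = 0 by omega, pow_zero] at this
  omega

/-- A nontrivial non-generator of a cyclic group of non-prime-power order is incomparable to an
element of prime power order. -/
theorem exists_incomparable {x y : G} (hm : ¬ IsPrimePow (orderOf x)) (hy : y ∈ zpowers x) (hy1 : y ≠ 1)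
    (hlt : orderOf y ≠ orderOf x) : ∃ w ∈ zpowers x, IsPrimePow (orderOf w) ∧ ¬ Adj y w := by
  have hx1 : 1 < orderOf x := by
    by_contra h
    have h' : orderOf x = 1 := by have := orderOf_pos x; omega
    exact hlt (Nat.dvd_antisymm (orderOf_dvd_of_mem hy) (by rw [h']; exact one_dvd _))
  have hnd : ¬ orderOf x ∣ orderOf y := fun h => hlt (Nat.dvd_antisymm (orderOf_dvd_of_mem hy) h)
  rw [Nat.dvd_iff_prime_pow_dvd_dvd] at hnd
  push Not at hnd
  obtain ⟨p, i, hp, hpm, hpy⟩ := hnd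
  have hi : i ≠ 0 := fun h => hpy (by simp [h])
  by_cases hd : orderOf y ∣ p ^ i
  · obtain ⟨q, hq, hqm, hqp⟩ := exists_other_prime hm hx1 p
    obtain ⟨t, -, ht⟩ := (Nat.dvd_prime_pow hp).1 hd
    obtain ⟨w, hw, hwo⟩ := exists_mem_orderOf hqm
    refine ⟨w, hw, hwo ▸ hq.isPrimePow, not_adj_of_not_dvd ?_ ?_⟩
    · rw [hwo, ht]
      intro h
      have ht0 : t ≠ 0 := fun h0 => hy1 (orderOf_eq_one_iff.1 (by rw [ht, h0, pow_zero]))
      exact hqp ((Nat.prime_dvd_prime_iff_eq hp hq).1 ((dvd_pow_self p ht0).trans h)).symm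
    · rw [hwo, ht]
      exact fun h => hqp ((Nat.prime_dvd_prime_iff_eq hq hp).1 (hq.dvd_of_dvd_pow h))
  · obtain ⟨w, hw, hwo⟩ := exists_mem_orderOf hpm
    refine ⟨w, hw, hwo ▸ hp.isPrimePow.pow hi, not_adj_of_not_dvd ?_ ?_⟩ <;> rw [hwo] <;> assumption

theorem orderOf_eq_card_of_universal (hG : ¬ IsPrimePow (Nat.card G)) {y : G} (hy : y ≠ 1)
    (hu : ∀ z, Adj y z) : orderOf y = Nat.card G := by
  refine Nat.dvd_antisymm (orderOf_dvd_natCard y) ((Nat.dvd_iff_prime_pow_dvd_dvd _ _).2 fun p k hp hpk => ?_)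
  haveI := Fact.mk hp
  obtain ⟨K, hK⟩ := Sylow.exists_subgroup_card_pow_prime p hpk
  rw [← hK, ← Nat.card_zpowers]
  refine Subgroup.card_dvd_of_le fun z hz => (hu z).resolve_left fun hyz => ?_
  obtain ⟨i, -, hi⟩ := (Nat.dvd_prime_pow hp).1
    ((orderOf_dvd_of_mem hyz).trans (by rw [← hK]; exact Subgroup.orderOf_dvd_natCard K hz))
  have hi0 : i ≠ 0 := fun h0 => hy (orderOf_eq_one_iff.1 (by rw [hi, h0, pow_zero]))
  have h1 : 1 < Nat.card G := Finite.one_lt_card_iff_nontrivial.2 ⟨y, 1, hy⟩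
  obtain ⟨q, hq, hqm, hqp⟩ := exists_other_prime hG h1 p
  haveI := Fact.mk hq
  obtain ⟨w, hw⟩ := exists_prime_orderOf_dvd_card' q hqm
  rcases hu w with h | h
  · have := orderOf_dvd_of_mem h
    rw [hi, hw] at this
    exact hqp ((Nat.prime_dvd_prime_iff_eq hp hq).1 ((dvd_pow_self p hi0).trans this)).symm
  · have := orderOf_dvd_of_mem h
    rw [hi, hw] at this
    exact hqp ((Nat.prime_dvd_prime_iff_eq hq hp).1 (hq.dvd_of_dvd_pow this))

theorem card_generators (x : G) :
    Nat.card {y : G // zpowers y = zpowers x} = Nat.totient (orderOf x) := by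
  classical
  haveI := Fintype.ofFinite G
  have h := IsCyclic.card_orderOf_eq_totient (α := zpowers x) (d := orderOf x) (by rw [← Fintype.card_zpowers])
  rw [← h, ← Fintype.card_subtype, ← Nat.card_eq_fintype_card]
  refine Nat.card_congr
    { toFun := fun y => ⟨⟨y.1, zpowers_le.1 y.2.le⟩, ?_⟩
      invFun := fun y => ⟨y.1.1, zpowers_eq_of_mem y.1.2 ((Subgroup.orderOf_coe y.1).trans y.2)⟩
      left_inv := fun _ => rfl
      right_inv := fun _ => rfl }
  rw [← Subgroup.orderOf_coe, ← Nat.card_zpowers, ← Nat.card_zpowers, y.2]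

theorem totient_dvd_card_of_closed (P : G → Prop) (hcl : ∀ y z, P y → zpowers z = zpowers y → P z)
    (d : ℕ) (hd : ∀ y, P y → d ∣ Nat.totient (orderOf y)) : d ∣ Nat.card {y : G // P y} := by
  classical
  haveI := Fintype.ofFinite G
  rw [Nat.card_eq_fintype_card, Fintype.card_subtype,
    Finset.card_eq_sum_card_fiberwise (f := fun y : G => zpowers y)
      (t := (Finset.univ.filter P).image fun y => zpowers y) (fun y hy => Finset.mem_image_of_mem _ hy)]
  refine Finset.dvd_sum fun C hC => ?_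
  obtain ⟨y, hy, rfl⟩ := Finset.mem_image.1 hC
  rw [Finset.mem_filter] at hy
  rw [show (Finset.univ.filter P).filter (fun z => zpowers z = zpowers y) =
    Finset.univ.filter (fun z => zpowers z = zpowers y) from by
      ext z; simp only [Finset.mem_filter, Finset.mem_univ, true_and]
      exact ⟨fun h => h.2, fun h => ⟨hcl y z hy.2 h, h⟩⟩]
  rw [← Fintype.card_subtype, ← Nat.card_eq_fintype_card, card_generators]
  exact hd y hy.2

/-- The outcome of transporting a maximal cyclic subgroup of non-prime-power order. -/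
theorem structure_image (e : G ≃ H) (he : ∀ x y, Adj x y ↔ Adj (e x) (e y)) (hNG : NoUniversal G)
    (he1 : e 1 = 1) {g : G} (hg : IsMaxCyc g) (hn : ¬ IsPrimePow (orderOf g)) (hn1 : 1 < orderOf g) :
    (∃ g', zpowers g' = zpowers g ∧ IsMaxCyc (e g') ∧ orderOf (e g') = orderOf g) ∨
    ∃ g' u r k c, zpowers g' = zpowers g ∧ Nat.Prime r ∧ 0 < k ∧ orderOf (e g') = r ^ k ∧
      Nat.totient (orderOf g) + 1 = r ^ k ∧ orderOf g = r ^ k + Nat.totient (r ^ k) * c ∧
      IsMaxCyc u ∧ ¬ IsPrimePow (orderOf u) ∧ e g' ∈ zpowers u ∧ u ∉ zpowers (e g') := by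
  classical
  obtain ⟨g', hgg, hmax⟩ := Set.Finite.exists_maximalFor (fun x : G => orderOf (e x))
    {x | zpowers x = zpowers g} (Set.toFinite _) ⟨g, rfl⟩
  change zpowers g' = zpowers g at hgg
  set h := e g' with hh
  have hNg : ∀ y, y ∈ nbhd g' ↔ y ∈ zpowers g := fun y => by
    rw [nbhd_eq_of_zpowers_eq hgg, nbhd_isMax hg]; rfl
  have hNh : ∀ y, e y ∈ nbhd h ↔ y ∈ zpowers g := fun y => (he g' y).symm.trans (hNg y)
  have hcard : Nat.card (nbhd h) = orderOf g := by
    rw [← Nat.card_zpowers]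
    exact (Nat.card_congr (e.subtypeEquiv fun y => (hNh y).symm)).symm
  have hg'1 : g' ≠ 1 := by
    rintro rfl
    have := congrArg (fun K : Subgroup G => Nat.card K) hgg
    simp only [Nat.card_zpowers, orderOf_one] at this
    omega
  -- dominating vertices of the neighbourhood
  have hdom : ∀ w ∈ zpowers g, w ≠ 1 → (∀ z ∈ zpowers g, Adj w z) → zpowers w = zpowers g := by
    intro w hw hw1 hd
    by_contra hne
    obtain ⟨v, hv, -, hna⟩ := exists_incomparable hn hw hw1 fun ho => hne (zpowers_eq_of_mem hw ho)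
    exact hna (hd v hv)
  have htwin : ∀ w, zpowers w = zpowers g → w ≠ g' → orderOf (e w) ≤ orderOf h ∧ nbhd (e w) = nbhd h := by
    intro w hw _
    refine ⟨?_, ?_⟩
    · rcases le_total (orderOf (e w)) (orderOf h) with h1 | h1
      · exact h1
      · exact hmax hw h1
    · ext z
      obtain ⟨y, rfl⟩ := e.surjective z
      change Adj (e w) (e y) ↔ Adj h (e y)
      rw [hh, ← he, ← he]
      change y ∈ nbhd w ↔ y ∈ nbhd g'
      rw [nbhd_eq_of_zpowers_eq hw, nbhd_eq_of_zpowers_eq hgg]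
  -- the two sides
  set U : H → Prop := fun z => h ∈ zpowers z ∧ z ∉ zpowers h with hU
  have hsplit : ∀ z, z ∈ nbhd h → z ∈ zpowers h ∨ U z := fun z hz => by
    by_cases hzh : z ∈ zpowers h
    · exact Or.inl hzh
    · exact Or.inr ⟨hz.resolve_right hzh, hzh⟩
  have hLU : ∀ z w, z ∈ zpowers h → U w → Adj z w := fun z w hz hw => Or.inl (zpowers_le.2 hw.1 hz)
  by_cases hUe : ∀ z, ¬ U z
  · refine Or.inl ⟨g', hgg, fun z hz => ?_, ?_⟩
    · by_contra hzh
      exact hUe z ⟨hz, hzh⟩
    · rw [← hcard, ← Nat.card_zpowers]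
      exact Nat.card_congr (Equiv.subtypeEquivRight fun z =>
        ⟨fun hz => Or.inr hz, fun hz => (hsplit z hz).resolve_right (hUe z)⟩)
  push Not at hUe
  obtain ⟨z0, hz0⟩ := hUe
  -- no vertex of `U` is a twin of `h`
  have hUtwin : ∀ z, U z → ∀ w, zpowers w = zpowers g → e w ≠ z := by
    intro z hz w hw hwz
    have hle : orderOf (e w) ≤ orderOf h := by
      rcases eq_or_ne w g' with rfl | hne
      · exact le_rfl
      · exact (htwin w hw hne).1
    refine hz.2 ?_
    have hd := orderOf_dvd_of_mem hz.1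
    rw [hwz] at hle
    have hlt : orderOf z = orderOf h := le_antisymm hle (Nat.le_of_dvd (orderOf_pos z) hd)
    rw [zpowers_eq_of_mem hz.1 hlt.symm]
    exact mem_zpowers z
  -- non-dominating vertices lie on one side
  have hside : ∀ v ∈ zpowers g, v ≠ 1 → zpowers v ≠ zpowers g → U (e v) := by
    obtain ⟨v0, hv0⟩ : ∃ v0, e v0 = z0 := e.surjective z0
    have hv0g : v0 ∈ zpowers g := (hNh v0).1 (by rw [hv0]; exact Or.inl hz0.1)
    have hv01 : v0 ≠ 1 := by
      rintro rfl
      rw [he1] at hv0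
      exact hz0.2 (hv0 ▸ one_mem _)
    have hv0n : zpowers v0 ≠ zpowers g := fun h0 => hUtwin z0 hz0 v0 h0 hv0
    have hpair : ∀ a ∈ zpowers g, ∀ b ∈ zpowers g, ¬ Adj a b → (U (e a) ↔ U (e b)) := by
      intro a ha b hb hab
      have hab' : ¬ Adj (e a) (e b) := fun h => hab ((he a b).2 h)
      constructor <;> intro hU'
      · exact (hsplit _ ((hNh b).2 hb)).resolve_left fun hL => hab' (adj_symm (hLU _ _ hL hU'))
      · exact (hsplit _ ((hNh a).2 ha)).resolve_left fun hL => hab' (hLU _ _ hL hU')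
    have hpp : ∀ a ∈ zpowers g, ∀ b ∈ zpowers g, IsPrimePow (orderOf a) → IsPrimePow (orderOf b) →
        (U (e a) ↔ U (e b)) := by
      intro a ha b hb hap hbp
      obtain ⟨p, i, hp, hi, hpi⟩ := (isPrimePow_nat_iff _).1 hap
      obtain ⟨q, j, hq, hj, hqj⟩ := (isPrimePow_nat_iff _).1 hbp
      have key : ∀ {a b : G} {p q i j : ℕ}, p.Prime → q.Prime → 0 < i → 0 < j → p ≠ q →
          orderOf a = p ^ i → orderOf b = q ^ j → ¬ Adj a b := by
        intro a b p q i j hp hq hi hj hpq ha hb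
        refine not_adj_of_not_dvd ?_ ?_ <;> rw [ha, hb] <;> intro hd
        · exact hpq ((Nat.prime_dvd_prime_iff_eq hp hq).1 (hp.dvd_of_dvd_pow ((dvd_pow_self p hi.ne').trans hd)))
        · exact hpq ((Nat.prime_dvd_prime_iff_eq hq hp).1 (hq.dvd_of_dvd_pow ((dvd_pow_self q hj.ne').trans hd))).symm
      rcases eq_or_ne p q with rfl | hpq
      · obtain ⟨t, ht, htn, htp⟩ := exists_other_prime hn hn1 p
        obtain ⟨c, hc, hco⟩ := exists_mem_orderOf htn
        have hco' : orderOf c = t ^ 1 := by rw [pow_one, hco]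
        exact (hpair a ha c hc (key hp ht hi one_pos htp.symm hpi.symm hco')).trans
          (hpair c hc b hb (key ht hq one_pos hj htp hco' hqj.symm))
      · exact hpair a ha b hb (key hp hq hi hj hpq hpi.symm hqj.symm)
    intro v hv hv1 hvn
    obtain ⟨a, ha, hap, hav⟩ := exists_incomparable hn hv hv1 fun ho => hvn (zpowers_eq_of_mem hv ho)
    obtain ⟨b, hb, hbp, hbv⟩ := exists_incomparable hn hv0g hv01 fun ho => hv0n (zpowers_eq_of_mem hv0g ho)
    rw [hpair v hv a ha hav, hpp a ha b hb hap hbp, ← hpair v0 hv0g b hb hbv, hv0]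
    exact hz0
  have hLtwin : ∀ z ∈ zpowers h, z ≠ 1 → ∃ w, zpowers w = zpowers g ∧ e w = z := by
    intro z hz hz1
    obtain ⟨v, rfl⟩ := e.surjective z
    refine ⟨v, by_contra fun hvn => ?_, rfl⟩
    have hv1 : v ≠ 1 := fun h0 => hz1 (by rw [h0, he1])
    exact (hside v ((hNh v).1 (Or.inr hz)) hv1 hvn).2 hz
  have hh1 : h ≠ 1 := fun h0 => hg'1 (e.injective (by rw [← hh, h0, he1]))
  have hhpp : IsPrimePow (orderOf h) := by
    by_contra hnp
    have h1 : 1 < orderOf h := by
      have := orderOf_pos h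
      have : orderOf h ≠ 1 := fun h0 => hh1 (orderOf_eq_one_iff.1 h0)
      omega
    obtain ⟨q, hq, hqm, -⟩ := exists_other_prime hnp h1 0
    obtain ⟨a, ha, hao⟩ := exists_mem_orderOf hqm
    have ha1 : a ≠ 1 := fun h0 => hq.ne_one (by rw [← hao, h0, orderOf_one])
    obtain ⟨b, hb, hbp, hab⟩ := exists_incomparable hnp ha ha1 fun ho => hnp (by rw [← ho, hao]; exact hq.isPrimePow)
    obtain ⟨w, hw, rfl⟩ := hLtwin a ha ha1
    apply hab
    rcases eq_or_ne w g' with rfl | hne
    · exact Or.inr hb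
    · change b ∈ nbhd (e w)
      rw [(htwin w hw hne).2]
      exact Or.inr hb
  obtain ⟨r, k, hr, hk, hrk⟩ := (isPrimePow_nat_iff _).1 hhpp
  have htot : Nat.totient (orderOf g) + 1 = r ^ k := by
    rw [hrk, ← card_generators, ← Nat.card_zpowers (a := h)]
    have e1 : Nat.card {w : G // zpowers w = zpowers g} = ((zpowers h : Set H) \ {1}).ncard := by
      rw [← Nat.card_coe_set_eq]
      refine Nat.card_congr (e.subtypeEquiv fun w => ⟨fun hw => ⟨?_, ?_⟩, fun hw => ?_⟩)
      · exact (hsplit _ ((hNh w).2 (hw ▸ mem_zpowers w))).resolve_right fun hU' => hUtwin _ hU' w hw rfl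
      · intro hw1
        rw [Set.mem_singleton_iff, ← he1] at hw1
        rw [e.injective hw1, zpowers_one_eq_bot] at hw
        exact absurd (orderOf_eq_one_iff.2 (Subgroup.zpowers_eq_bot.1 hw.symm)) hn1.ne'
      · obtain ⟨w', hw', hww⟩ := hLtwin _ hw.1 (by simpa using hw.2)
        rwa [← e.injective hww]
    rw [e1, Set.ncard_sdiff_singleton_add_one (one_mem (zpowers h)) (Set.toFinite _), ← Nat.card_coe_set_eq]
    rfl
  have hsum : orderOf g = r ^ k + Nat.card {z // U z} := by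
    rw [← hcard, hrk, ← Nat.card_zpowers (a := h)]
    have hdisj : Disjoint (zpowers h : Set H) {z | U z} := Set.disjoint_left.2 fun z hz hU' => hU'.2 hz
    rw [show Nat.card (zpowers h) = (zpowers h : Set H).ncard from Nat.card_coe_set_eq _,
      show Nat.card {z // U z} = {z | U z}.ncard from Nat.card_coe_set_eq {z | U z},
      ← Set.ncard_union_eq hdisj, Nat.card_coe_set_eq]
    congr 1
    ext z
    exact ⟨fun hz => hsplit z hz, fun hz => hz.elim Or.inr fun hU' => Or.inl hU'.1⟩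
  have hUcl : ∀ y z, U y → zpowers z = zpowers y → U z := fun y z hy hzy =>
    ⟨hzy ▸ hy.1, fun hz => hy.2 (zpowers_le.1 (hzy ▸ zpowers_le.2 hz))⟩
  obtain ⟨c, hc⟩ := totient_dvd_card_of_closed U hUcl (Nat.totient (r ^ k)) fun y hy =>
    Nat.totient_dvd_of_dvd (hrk ▸ orderOf_dvd_of_mem hy.1)
  by_cases hall : ∀ z, U z → IsPrimePow (orderOf z)
  · exfalso
    have hd : r ^ k * (r - 1) ∣ Nat.card {z // U z} := totient_dvd_card_of_closed U hUcl _ fun y hy => by
      obtain ⟨q, j, hq, hj, hqj⟩ := (isPrimePow_nat_iff _).1 (hall y hy)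
      have hd := orderOf_dvd_of_mem hy.1
      rw [← hrk, ← hqj] at hd
      obtain rfl := (Nat.prime_dvd_prime_iff_eq hr hq).1 (hr.dvd_of_dvd_pow ((dvd_pow_self r hk.ne').trans hd))
      have hkj : k < j := by
        rcases lt_or_eq_of_le ((Nat.pow_dvd_pow_iff_le_right hr.one_lt).1 hd) with h' | h'
        · exact h'
        · refine absurd ?_ hy.2
          rw [zpowers_eq_of_mem hy.1 (by rw [← hrk, ← hqj, h'])]
          exact mem_zpowers y
      rw [← hqj, Nat.totient_prime_pow hr (by omega)]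
      exact Nat.mul_dvd_mul (pow_dvd_pow r (by omega)) dvd_rfl
    obtain ⟨c', hc'⟩ := hd
    set n := orderOf g
    have hrn : r ^ k ∣ n := ⟨1 + (r - 1) * c', by rw [hsum, hc']; ring⟩
    obtain ⟨a, n', hn', hna⟩ := Nat.exists_eq_pow_mul_and_not_dvd (by omega : n ≠ 0) r hr.one_lt.ne'
    have ha : k ≤ a := by
      by_contra hlt
      refine hn' ?_
      have h1 : r ^ (a + 1) ∣ r ^ a * n' := hna ▸ (pow_dvd_pow r (by omega)).trans hrn
      rw [pow_succ] at h1
      exact Nat.dvd_of_mul_dvd_mul_left (pow_pos hr.pos a) h1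
    have hco : Nat.Coprime (r ^ a) n' := ((hr.coprime_iff_not_dvd).2 hn').pow_left a
    rw [hna, Nat.totient_mul hco, Nat.totient_prime_pow hr (by omega)] at htot
    have ha1 : a = 1 := by
      by_contra ha1
      have h1 : r ∣ r ^ (a - 1) * (r - 1) * n'.totient :=
        Dvd.dvd.mul_right (Dvd.dvd.mul_right (dvd_pow_self r (by omega)) _) _
      have h2 : r ∣ r ^ (a - 1) * (r - 1) * n'.totient + 1 := htot ▸ dvd_pow_self r hk.ne'
      exact hr.not_dvd_one ((Nat.dvd_add_right h1).1 h2)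
    obtain rfl : k = 1 := by omega
    subst ha1
    rw [Nat.sub_self, pow_zero, one_mul, pow_one] at htot
    have htn : n'.totient = 1 := by
      have h2 := hr.two_le
      exact Nat.eq_of_mul_eq_mul_left (by omega : 0 < r - 1) (by rw [mul_one]; omega)
    rcases Nat.totient_eq_one_iff.1 htn with rfl | rfl
    · exact hn (by rw [hna, mul_one]; exact hr.isPrimePow.pow one_ne_zero)
    · rw [hna, hc'] at hsum
      have h2 := hr.two_le
      have : (r - 1) * c' = 1 := Nat.eq_of_mul_eq_mul_left hr.pos (by rw [← mul_assoc, mul_one]; simp at hsum ⊢; omega)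
      have hr2 := Nat.eq_one_of_mul_eq_one_right this
      obtain rfl : r = 2 := by omega
      exact hn' dvd_rfl
  · push Not at hall
    obtain ⟨z, hz, hznp⟩ := hall
    obtain ⟨u, hzu, hu⟩ := exists_isMax z
    refine Or.inr ⟨g', u, r, k, c, hgg, hr, hk, hrk.symm, htot, hsum.trans (by rw [hc]), hu, ?_,
      zpowers_le.2 hzu hz.1, fun hu' => hz.2 (zpowers_le.2 hu' hzu)⟩
    intro hupp
    refine hznp (hupp.dvd (orderOf_dvd_of_mem hzu) fun h1 => ?_)
    exact hz.2 ((orderOf_eq_one_iff.1 h1) ▸ one_mem _)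

theorem totient_ineq {r k : ℕ} (hr : r.Prime) (hk : 0 < k) (h2 : r ≠ 2) :
    2 * r ^ k ≤ 3 * Nat.totient (r ^ k) := by
  rw [Nat.totient_prime_pow hr hk]
  have h3 : 3 ≤ r := by have := hr.two_le; omega
  obtain ⟨j, rfl⟩ : ∃ j, k = j + 1 := ⟨k - 1, by omega⟩
  rw [Nat.add_sub_cancel, pow_succ]
  have : r ^ j * (2 * r) ≤ r ^ j * (3 * (r - 1)) := Nat.mul_le_mul_left _ (by omega)
  linarith

/-- The arithmetic endgame. -/
theorem arith_half {n l r s k j c : ℕ} (hr : r.Prime) (hs : s.Prime) (hk : 0 < k) (hj : 0 < j)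
    (hn : ¬ IsPrimePow n) (hn0 : n ≠ 0) (hsn : s ^ j ∣ n) (hrl : r ^ k ∣ l)
    (h1 : Nat.totient n + 1 = r ^ k) (h2 : Nat.totient l + 1 = s ^ j)
    (h3 : n = r ^ k + Nat.totient (r ^ k) * c) : s ^ j < r ^ k := by
  obtain ⟨a, n', hn', hna⟩ := Nat.exists_eq_pow_mul_and_not_dvd hn0 s hs.one_lt.ne'
  have ha : j ≤ a := by
    by_contra hlt
    refine hn' ?_
    have h : s ^ (a + 1) ∣ s ^ a * n' := hna ▸ (pow_dvd_pow s (by omega)).trans hsn
    rw [pow_succ] at h
    exact Nat.dvd_of_mul_dvd_mul_left (pow_pos hs.pos a) h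
  have hco : Nat.Coprime (s ^ a) n' := ((hs.coprime_iff_not_dvd).2 hn').pow_left a
  have htn : Nat.totient n = Nat.totient (s ^ a) * Nat.totient n' := by rw [hna, Nat.totient_mul hco]
  have hn'0 : n' ≠ 0 := fun h => hn' (h ▸ dvd_zero s)
  have htpos : 0 < Nat.totient n' := Nat.totient_pos.2 (by omega)
  have hmono : Nat.totient (s ^ j) ≤ Nat.totient (s ^ a) :=
    Nat.le_of_dvd (Nat.totient_pos.2 (pow_pos hs.pos a)) (Nat.totient_dvd_of_dvd (pow_dvd_pow s ha))
  have hhalf : s ^ j ≤ 2 * Nat.totient (s ^ j) := by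
    rw [Nat.totient_prime_pow hs hj]
    obtain ⟨i, rfl⟩ : ∃ i, j = i + 1 := ⟨j - 1, by omega⟩
    rw [Nat.add_sub_cancel, pow_succ]
    have := hs.two_le
    have : s ^ i * s ≤ s ^ i * (2 * (s - 1)) := Nat.mul_le_mul_left _ (by omega)
    linarith
  rcases Nat.lt_or_ge (Nat.totient n') 2 with hlt | hge
  · exfalso
    rcases Nat.totient_eq_one_iff.1 (show Nat.totient n' = 1 by omega) with rfl | rfl
    · exact hn (by rw [hna, mul_one]; exact hs.isPrimePow.pow (by omega))
    rw [Nat.totient_two, mul_one] at htn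
    have hs2 : s ≠ 2 := fun h => hn' (h ▸ dvd_rfl)
    have hr2 : r ≠ 2 := by
      rintro rfl
      have he : Even (Nat.totient (s ^ a)) := Nat.totient_even (by
        have := hs.two_le
        calc 2 < s ^ 1 := by rw [pow_one]; omega
          _ ≤ s ^ a := Nat.pow_le_pow_right hs.pos (by omega))
      have ho : Even (Nat.totient n + 1) := by rw [h1, Nat.even_pow]; exact ⟨even_two, hk.ne'⟩
      rw [htn, Nat.even_add_one] at ho
      exact ho he
    have hdl : Nat.totient (r ^ k) ∣ Nat.totient l := Nat.totient_dvd_of_dvd hrl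
    have hl0 : 0 < Nat.totient l := by
      have := Nat.one_lt_pow hj.ne' hs.one_lt
      omega
    have hle := Nat.le_of_dvd hl0 hdl
    have h23 := totient_ineq hr hk hr2
    have haj : a = j := by
      by_contra hne
      have : s ^ j * 2 ≤ Nat.totient (s ^ a) := by
        rw [Nat.totient_prime_pow hs (by omega)]
        exact Nat.mul_le_mul (Nat.pow_le_pow_right hs.pos (by omega)) (by have := hs.two_le; omega)
      omega
    subst haj
    rcases Nat.lt_or_ge k 2 with hk1 | hk2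
    · obtain rfl : k = 1 := by omega
      rw [pow_one] at h1 h3 hdl
      rw [Nat.totient_prime hr] at h3 hdl
      obtain ⟨d, hd⟩ := hdl
      have hev : Even (r - 1) := by
        obtain ⟨t, ht⟩ := hr.odd_of_ne_two hr2
        exact ⟨t, by omega⟩
      obtain ⟨t, ht⟩ := hev
      have e1 : (r - 1) * d = 2 * (t * d) := by rw [ht]; ring
      have e2 : (r - 1) * c = 2 * (t * c) := by rw [ht]; ring
      have hr1 := hr.two_le
      omega
    · have hrt : r ∣ Nat.totient (r ^ k) := by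
        rw [Nat.totient_prime_pow hr hk]; exact Dvd.dvd.mul_right (dvd_pow_self r (by omega)) _
      have hr_n : r ∣ n := h3 ▸ dvd_add (dvd_pow_self r hk.ne') (Dvd.dvd.mul_right hrt c)
      rw [hna, hr.dvd_mul] at hr_n
      rcases hr_n with h | h
      · exact hr.not_dvd_one ((Nat.dvd_add_right (hrt.trans (Nat.totient_dvd_of_dvd hrl))).1 (h2 ▸ h))
      · exact hr2 ((Nat.prime_dvd_prime_iff_eq hr Nat.prime_two).1 h)
  · have := Nat.mul_le_mul hmono hge
    omega

/-- Maximal cyclic subgroups of non-prime-power order are preserved. -/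
theorem orderOf_preserved (e : G ≃ H) (he : ∀ x y, Adj x y ↔ Adj (e x) (e y)) (hNG : NoUniversal G)
    (hNH : NoUniversal H) (he1 : e 1 = 1) {g : G} (hg : IsMaxCyc g) (hn : ¬ IsPrimePow (orderOf g))
    (hn1 : 1 < orderOf g) : ∃ h : H, orderOf h = orderOf g := by
  rcases structure_image e he hNG he1 hg hn hn1 with
    ⟨g', -, -, h⟩ | ⟨g', u, r, k, c, hgg, hr, hk, hgo, htot, hsum, hu, hup, hgu, hug⟩
  · exact ⟨e g', h⟩
  exfalso
  have hu1 : 1 < orderOf u := by
    have h1 := orderOf_pos u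
    have h2 := orderOf_dvd_of_mem hgu
    rw [hgo] at h2
    have := Nat.one_lt_pow hk.ne' hr.one_lt
    have := Nat.le_of_dvd h1 h2
    omega
  have he' : ∀ x y, Adj x y ↔ Adj (e.symm x) (e.symm y) := fun x y => by
    rw [he, e.apply_symm_apply, e.apply_symm_apply]
  have he1' : e.symm 1 = 1 := by rw [← he1, e.symm_apply_apply]
  rcases structure_image e.symm he' hNH he1' hu hup hu1 with
    ⟨u', huu, hv, -⟩ | ⟨u', g2, s, j, d, huu, hs, hj, hvo, htot', hsum', -, -, -, -⟩
  · have hgu' : e g' ∈ zpowers u' := by rw [huu]; exact hgu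
    have hadj : Adj g' (e.symm u') := by
      have := (he' (e g') u').1 (Or.inl hgu')
      rwa [e.symm_apply_apply] at this
    have hvg : e.symm u' ∈ zpowers g := by
      have h := (nbhd_eq_of_zpowers_eq hgg ▸ hadj : e.symm u' ∈ nbhd g)
      rwa [nbhd_isMax hg] at h
    have hgv : zpowers (e.symm u') = zpowers g :=
      le_antisymm (zpowers_le.2 hvg) (zpowers_le.2 (hv g hvg))
    have hN : nbhd u = nbhd (e g') := by
      rw [nbhd_eq_of_zpowers_eq huu.symm]
      ext z
      obtain ⟨y, rfl⟩ := e.surjective z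
      change Adj u' (e y) ↔ Adj (e g') (e y)
      conv_lhs => rw [← e.apply_symm_apply u']
      rw [← he, ← he]
      change y ∈ nbhd (e.symm u') ↔ y ∈ nbhd g'
      rw [nbhd_eq_of_zpowers_eq hgv, nbhd_eq_of_zpowers_eq hgg]
    obtain ⟨w, hw, -, hna⟩ := exists_incomparable hup hgu
      (fun h0 => by
        rw [← he1] at h0
        rw [e.injective h0, zpowers_one_eq_bot] at hgg
        exact hn1.ne' (orderOf_eq_one_iff.2 (Subgroup.zpowers_eq_bot.1 hgg.symm)))
      (fun ho => hug (by rw [zpowers_eq_of_mem hgu ho]; exact mem_zpowers u))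
    exact hna (show w ∈ nbhd (e g') by rw [← hN]; exact Or.inr hw)
  · have hgu' : e g' ∈ zpowers u' := by rw [huu]; exact hgu
    have hadj : Adj g' (e.symm u') := by
      have := (he' (e g') u').1 (Or.inl hgu')
      rwa [e.symm_apply_apply] at this
    have hvg : e.symm u' ∈ zpowers g := by
      have h := (nbhd_eq_of_zpowers_eq hgg ▸ hadj : e.symm u' ∈ nbhd g)
      rwa [nbhd_isMax hg] at h
    have hsn : s ^ j ∣ orderOf g := hvo ▸ orderOf_dvd_of_mem hvg
    have hrl : r ^ k ∣ orderOf u := hgo ▸ orderOf_dvd_of_mem hgu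
    have h1 := arith_half hr hs hk hj hn (orderOf_pos g).ne' hsn hrl htot htot' hsum
    have h2 := arith_half hs hr hj hk hup (orderOf_pos u).ne' hrl hsn htot' htot hsum'
    omega

theorem exists_orderOf_of_iso (e : G ≃ H) (he : ∀ x y, Adj x y ↔ Adj (e x) (e y)) {p q : ℕ}
    (hp : p.Prime) (hq : q.Prime) (hpq : p ≠ q) {g : G} (hg : orderOf g = p * q) :
    ∃ h : H, orderOf h = p * q := by
  have hnp : ∀ m, m ≠ 0 → p * q ∣ m → ¬ IsPrimePow m := fun m hm hd hpp => by
    obtain ⟨r, i, hr, -, rfl⟩ := (isPrimePow_nat_iff _).1 hpp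
    exact hpq (((Nat.prime_dvd_prime_iff_eq hp hr).1 (hp.dvd_of_dvd_pow ((dvd_mul_right p q).trans hd))).trans
      ((Nat.prime_dvd_prime_iff_eq hq hr).1 (hq.dvd_of_dvd_pow ((dvd_mul_left q p).trans hd))).symm)
  suffices h : ∃ h : H, p * q ∣ orderOf h by
    obtain ⟨h, hh⟩ := h
    obtain ⟨w, -, hw⟩ := exists_mem_orderOf hh
    exact ⟨w, hw⟩
  have hdvd : p * q ∣ Nat.card G := hg ▸ orderOf_dvd_natCard g
  have hG := hnp _ Nat.card_pos.ne' hdvd
  have hH : ¬ IsPrimePow (Nat.card H) := by rw [← Nat.card_congr e]; exact hG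
  by_cases hNH : NoUniversal H
  · have hNG : NoUniversal G := by
      intro y hy
      by_contra hu
      push Not at hu
      have hun : ∀ a : G, (∀ z, Adj a z) → e a = 1 := by
        intro a ha
        by_contra hne
        obtain ⟨z, hz⟩ := hNH _ hne
        obtain ⟨w, rfl⟩ := e.surjective z
        exact hz ((he a w).1 (ha w))
      exact hy (e.injective ((hun y hu).trans (hun 1 fun z => Or.inl (one_mem _)).symm))
    have he1 : e 1 = 1 := by
      by_contra hne
      obtain ⟨z, hz⟩ := hNH _ hne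
      obtain ⟨w, rfl⟩ := e.surjective z
      exact hz ((he 1 w).1 (Or.inl (one_mem _)))
    obtain ⟨m, hgm, hm⟩ := exists_isMax g
    have hdm : p * q ∣ orderOf m := hg ▸ orderOf_dvd_of_mem hgm
    have hm1 : 1 < orderOf m := by
      have := Nat.le_of_dvd (orderOf_pos m) hdm
      have := Nat.mul_le_mul hp.two_le hq.two_le
      omega
    obtain ⟨h, hh⟩ := orderOf_preserved e he hNG hNH he1 hm (hnp _ (orderOf_pos m).ne' hdm) hm1
    exact ⟨h, hh ▸ hdm⟩
  · simp only [NoUniversal, not_forall, not_exists, not_not] at hNH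
    obtain ⟨y, hy, hu⟩ := hNH
    exact ⟨y, by rw [orderOf_eq_card_of_universal hH hy hu, ← Nat.card_congr e]; exact hdvd⟩

end CfsgLib.ClassSizes.PowerGraph
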