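import Mathlib

/-!
A fixed-point-free linear map of prime order `q` on a finite vector space over `ZMod p`.
-/

namespace CfsgLib.ClassSizes.PrimeLinear

open Polynomial

variable {p q : ℕ} [Fact p.Prime] [Fact q.Prime] {V : Type*} [AddCommGroup V] [Module (ZMod p) V]

theorem sum_pow_eq_zero (T : Module.End (ZMod p) V) (hT : T ^ q = 1) (hfix : ∀ v, T v = v → v = 0) :
    aeval T (cyclotomic q (ZMod p)) = 0 := by
  rw [cyclotomic_prime, map_sum]
  simp only [map_pow, aeval_X]
  refine LinearMap.ext fun v => hfix _ ?_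
  have h : T * ∑ i ∈ Finset.range q, T ^ i = ∑ i ∈ Finset.range q, T ^ i := by
    rw [Finset.mul_sum]
    calc ∑ i ∈ Finset.range q, T * T ^ i = ∑ i ∈ Finset.range q, T ^ (i + 1) := by simp_rw [pow_succ']
      _ = _ := by
        have h1 := Finset.sum_range_succ (fun i => T ^ i) q
        rw [Finset.sum_range_succ', hT, pow_zero] at h1
        exact add_right_cancel h1
  exact LinearMap.congr_fun h v

theorem map_aeval {T T' : Module.End (ZMod p) V} (S : V →ₗ[ZMod p] V) (h : ∀ w, S (T w) = T' (S w))
    (f : (ZMod p)[X]) (w : V) : S (aeval T f w) = aeval T' f (S w) := by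
  induction f using Polynomial.induction_on' with
  | add f g hf hg => simp [hf, hg]
  | monomial n a =>
    simp only [aeval_monomial, Module.algebraMap_end_eq_smul_id, Module.End.mul_apply, LinearMap.smul_apply,
      LinearMap.id_apply, map_smul]
    congr 1
    induction n generalizing w with
    | zero => simp
    | succ n ih => rw [pow_succ, pow_succ, Module.End.mul_apply, Module.End.mul_apply, ih, h]

theorem exists_pow_inv {i : ℕ} (hi : ¬ q ∣ i) : ∃ k : ℕ, ∀ (M : Type _) [Monoid M] (t : M), t ^ q = 1 → (t ^ i) ^ k = t := by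
  obtain ⟨k, hk⟩ := Nat.exists_mul_mod_eq_one_of_coprime
    (((Fact.out : q.Prime).coprime_iff_not_dvd).2 hi).symm (Fact.out : q.Prime).one_lt
  refine ⟨k, fun M _ t ht => ?_⟩
  rw [← pow_mul, pow_eq_pow_mod _ ht, hk.2, pow_one]

/-- If a group of semilinear symmetries of `T` is transitive on non-zero vectors and induces every
power of `T`, then `p` is a primitive root modulo `q`. -/
theorem orderOf_eq_sub_one (hpq : p ≠ q) [Finite V] [Nontrivial V] (T : Module.End (ZMod p) V)
    (hT : T ^ q = 1) (hfix : ∀ v, T v = v → v = 0)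
    (htrans : ∀ v u : V, v ≠ 0 → u ≠ 0 → ∃ (i : ℕ) (S : V →ₗ[ZMod p] V),
      ¬ q ∣ i ∧ S v = u ∧ ∀ w, S (T w) = (T ^ i) (S w))
    (hpow : ∀ i : ℕ, ¬ q ∣ i → ∃ S : V ≃ₗ[ZMod p] V, ∀ w, S (T w) = (T ^ i) (S w)) :
    orderOf (p : ZMod q) = q - 1 := by
  have hq := (Fact.out : q.Prime)
  have hp := (Fact.out : p.Prime)
  -- an irreducible factor of the cyclotomic polynomial with non-zero kernel
  obtain ⟨m, hmirr, hmdvd, v₀, hv₀, hmv₀⟩ : ∃ m : (ZMod p)[X], Irreducible m ∧
      m ∣ cyclotomic q (ZMod p) ∧ ∃ v : V, v ≠ 0 ∧ aeval T m v = 0 := by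
    by_contra! h
    have hinj : ∀ f : (ZMod p)[X], f ∣ cyclotomic q (ZMod p) → Function.Injective (aeval T f) := by
      intro f
      induction f using UniqueFactorizationMonoid.induction_on_prime with
      | h₁ => intro h0; exact absurd (zero_dvd_iff.1 h0) (cyclotomic_ne_zero q _)
      | h₂ u hu =>
        intro _
        obtain ⟨g, hg⟩ := hu.exists_left_inv
        intro a b hab
        have := congrArg (aeval T g) hab
        rwa [← Module.End.mul_apply, ← Module.End.mul_apply, ← map_mul, hg, map_one] at this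
      | h₃ f r hf hr ih =>
        intro hd a b hab
        rw [mul_comm] at hd
        refine ih ((Dvd.intro _ rfl).trans hd) (sub_eq_zero.1 ?_)
        by_contra hne
        refine h r hr.irreducible ((Dvd.intro_left _ rfl).trans hd) _ hne ?_
        rw [map_sub, ← Module.End.mul_apply, ← Module.End.mul_apply, ← map_mul, hab, sub_self]
    obtain ⟨v, hv⟩ := exists_ne (0 : V)
    exact hv (hinj _ dvd_rfl (by rw [sum_pow_eq_zero T hT hfix]; rfl))
  set W : ℕ → Submodule (ZMod p) V := fun i => LinearMap.ker (aeval (T ^ i) m)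
  have hcover : ∀ u : V, u ≠ 0 → ∃ i, ¬ q ∣ i ∧ u ∈ W i := by
    intro u hu
    obtain ⟨i, S, hi, rfl, hS⟩ := htrans v₀ u hv₀ hu
    exact ⟨i, hi, by show aeval (T ^ i) m (S v₀) = 0; rw [← map_aeval S hS, hmv₀, map_zero]⟩
  -- two of these kernels are equal or independent
  have hsep : ∀ i j, ¬ q ∣ i → ∀ u, u ≠ 0 → u ∈ W i → u ∈ W j → W i ≤ W j := by
    intro i j hi u hu hui huj w hw
    obtain ⟨k, hk⟩ := exists_pow_inv (q := q) hi
    set f := m.comp (X ^ (k * j))
    have hf : aeval (T ^ i) f = aeval (T ^ j) m := by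
      rw [aeval_comp, map_pow, aeval_X, pow_mul, hk _ T hT]
    have hdvd : m ∣ f := by
      by_contra hnd
      obtain ⟨a, b, hab⟩ := (hmirr.coprime_iff_not_dvd).2 hnd
      apply hu
      have hui' : aeval (T ^ i) m u = 0 := hui
      have hfu : aeval (T ^ i) f u = 0 := by rw [hf]; exact huj
      have := LinearMap.congr_fun (congrArg (aeval (T ^ i)) hab) u
      rw [map_add, map_mul, map_mul, map_one, LinearMap.add_apply, Module.End.mul_apply,
        Module.End.mul_apply, hui', hfu, map_zero, map_zero, add_zero] at this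
      exact this.symm
    obtain ⟨r, hr⟩ := hdvd
    show aeval (T ^ j) m w = 0
    rw [← hf, hr, mul_comm, map_mul, Module.End.mul_apply, (show aeval (T ^ i) m w = 0 from hw), map_zero]
  have hcomm : ∀ i k (u : V), u ∈ W k → aeval (T ^ i) m u ∈ W k := by
    intro i k u hu
    show aeval (T ^ k) m (aeval (T ^ i) m u) = 0
    have hc : Commute (aeval (T ^ k) m) (aeval (T ^ i) m) := by
      rw [show aeval (T ^ k) m = aeval T (m.comp (X ^ k)) by rw [aeval_comp, map_pow, aeval_X],
        show aeval (T ^ i) m = aeval T (m.comp (X ^ i)) by rw [aeval_comp, map_pow, aeval_X]]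
      exact (Commute.all _ _).map (aeval T)
    rw [← Module.End.mul_apply, hc.eq, Module.End.mul_apply, (show aeval (T ^ k) m u = 0 from hu), map_zero]
  have hone : ¬ q ∣ 1 := hq.not_dvd_one
  have hall : ∀ u : V, u ∈ W 1 := by
    intro u
    by_contra hu
    have hu0 : u ≠ 0 := fun e => hu (e ▸ zero_mem _)
    have hv1 : v₀ ∈ W 1 := by show aeval (T ^ 1) m v₀ = 0; rw [pow_one]; exact hmv₀
    obtain ⟨j, hj, huj⟩ := hcover u hu0
    have hadd : v₀ + u ≠ 0 := fun e => hu (by rw [eq_neg_of_add_eq_zero_right e]; exact neg_mem hv1)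
    obtain ⟨k, hk, hk'⟩ := hcover _ hadd
    by_cases hzero : aeval (T ^ 1) m u = 0
    · exact hu hzero
    have hmem : aeval (T ^ 1) m u ∈ W k := by
      have := hcomm 1 k _ hk'
      rwa [map_add, (show aeval (T ^ 1) m v₀ = 0 from hv1), zero_add] at this
    have hmemj : aeval (T ^ 1) m u ∈ W j := hcomm 1 j u huj
    have hukj : u ∈ W k := hsep j k hj _ hzero hmemj hmem huj
    have hv0k : v₀ ∈ W k := by simpa using sub_mem hk' hukj
    exact hu (hsep k 1 hk v₀ hv₀ hv0k hv1 hukj)
  have hm0 : aeval T m = 0 := LinearMap.ext fun u => by simpa [W] using hall u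
  -- every power of a root is a root
  have hroots : ∀ i : ℕ, ¬ q ∣ i → m ∣ m.comp (X ^ i) := by
    intro i hi
    obtain ⟨S, hS⟩ := hpow i hi
    have h2 : aeval (T ^ i) m = 0 := LinearMap.ext fun u => by
      have := map_aeval S.toLinearMap hS m (S.symm u)
      rw [hm0] at this
      simpa using this.symm
    by_contra hnd
    obtain ⟨a, b, hab⟩ := (hmirr.coprime_iff_not_dvd).2 hnd
    have h := congrArg (aeval T) hab
    rw [map_add, map_mul, map_mul, aeval_comp, map_pow, aeval_X, hm0, h2, mul_zero, mul_zero, add_zero, map_one] at h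
    obtain ⟨v, hv⟩ := exists_ne (0 : V)
    exact hv (LinearMap.congr_fun h.symm v)
  have hdeg : q - 1 ≤ m.natDegree := by
    have : Fact (Irreducible m) := ⟨hmirr⟩
    set K := AdjoinRoot m
    have hq0 : (q : K) ≠ 0 := by
      rw [← map_natCast (algebraMap (ZMod p) K), Ne, map_eq_zero, ZMod.natCast_eq_zero_iff]
      exact fun h => hpq ((Nat.prime_dvd_prime_iff_eq hp hq).1 h)
    have : NeZero (q : K) := ⟨hq0⟩
    have hζ : IsPrimitiveRoot (AdjoinRoot.root m) q := by
      rw [← isRoot_cyclotomic_iff]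
      have := map_dvd (mapRingHom (algebraMap (ZMod p) K)) hmdvd
      rw [coe_mapRingHom, map_cyclotomic] at this
      exact (AdjoinRoot.isRoot_root m).dvd this
    set M := m.map (algebraMap (ZMod p) K)
    have hroot : ∀ i ∈ Finset.Ico 1 q, M.IsRoot (AdjoinRoot.root m ^ i) := by
      intro i hi
      rw [Finset.mem_Ico] at hi
      obtain ⟨r, hr⟩ := hroots i (fun h => by have := Nat.le_of_dvd (by omega) h; omega)
      rw [IsRoot.def, eval_map_algebraMap]
      have := congrArg (aeval (AdjoinRoot.root m)) hr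
      rwa [aeval_comp, map_pow, aeval_X, map_mul, AdjoinRoot.aeval_eq, AdjoinRoot.mk_self, zero_mul] at this
    classical
    have hsub : (Finset.Ico 1 q).image (fun i => AdjoinRoot.root m ^ i) ⊆ M.roots.toFinset := by
      intro x hx
      obtain ⟨i, hi, rfl⟩ := Finset.mem_image.1 hx
      rw [Multiset.mem_toFinset, mem_roots (map_ne_zero hmirr.ne_zero)]
      exact hroot i hi
    have h1 := (Finset.card_le_card hsub).trans ((Multiset.toFinset_card_le _).trans (card_roots' _))
    rw [Finset.card_image_of_injOn, Nat.card_Ico, natDegree_map] at h1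
    · exact h1
    · intro a ha b hb hab
      simp only [Finset.coe_Ico, Set.mem_Ico] at ha hb
      exact hζ.pow_inj ha.2 hb.2 hab
  have hord := natDegree_of_dvd_cyclotomic_of_irreducible (K := ZMod p) (p := p) (f := 1) (by simp)
    ((Nat.coprime_primes hp hq).2 hpq) hmdvd hmirr
  rw [← orderOf_units, ZMod.coe_unitOfCoprime, pow_one] at hord
  have hle : orderOf (p : ZMod q) ≤ q - 1 := by
    have hne : (p : ZMod q) ≠ 0 := by
      rw [Ne, ZMod.natCast_eq_zero_iff]
      exact fun h => hpq ((Nat.prime_dvd_prime_iff_eq hq hp).1 h).symm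
    exact Nat.le_of_dvd (Nat.sub_pos_of_lt hq.one_lt) (orderOf_dvd_of_pow_eq_one (ZMod.pow_card_sub_one_eq_one hne))
  omega

/-- When `p` is a primitive root modulo `q`, a fixed-point-free map of order `q` has centralizer
transitive on non-zero vectors, and is conjugate to all its powers. -/
theorem exists_symmetry (hpq : p ≠ q) (hord : orderOf (p : ZMod q) = q - 1) [Finite V]
    (T : Module.End (ZMod p) V) (hT : T ^ q = 1) (hfix : ∀ v, T v = v → v = 0) :
    (∀ v u : V, v ≠ 0 → u ≠ 0 → ∃ S : V ≃+ V, S v = u ∧ ∀ w, S (T w) = T (S w)) ∧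
    (∀ i : ℕ, ¬ q ∣ i → ∃ S : V ≃+ V, ∀ w, S (T w) = (T ^ i) (S w)) := by
  have hq := (Fact.out : q.Prime)
  have hp := (Fact.out : p.Prime)
  have hnd : ¬ p ∣ q := fun h => hpq ((Nat.prime_dvd_prime_iff_eq hp hq).1 h)
  set Φ := cyclotomic q (ZMod p) with hΦ
  have hirr : Irreducible Φ := by
    refine ZMod.irreducible_of_dvd_cyclotomic_of_natDegree hnd dvd_rfl ?_
    rw [← orderOf_units, ZMod.coe_unitOfCoprime, hord, hΦ, natDegree_cyclotomic, Nat.totient_prime hq]
  have : Fact (Irreducible Φ) := ⟨hirr⟩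
  set K := AdjoinRoot Φ
  let φ : K →+* Module.End (ZMod p) V := Ideal.Quotient.lift (Ideal.span {Φ})
    (aeval T : (ZMod p)[X] →ₐ[ZMod p] Module.End (ZMod p) V).toRingHom (by
      intro a ha
      obtain ⟨r, rfl⟩ := Ideal.mem_span_singleton'.1 ha
      show aeval T (r * Φ) = 0
      rw [map_mul, sum_pow_eq_zero T hT hfix, mul_zero])
  let _ : Module K V := Module.compHom V φ
  set ζ := AdjoinRoot.root Φ
  have hφζ : φ ζ = T := aeval_X T
  have hζv : ∀ w : V, ζ • w = T w := fun w => LinearMap.congr_fun hφζ w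
  have : Module.Finite K V := Module.Finite.of_finite
  refine ⟨fun v u hv hu => ?_, ?_⟩
  · classical
    have hv' : LinearIndepOn K id ({v} : Set V) := LinearIndepOn.singleton hv
    have hu' : LinearIndepOn K id ({u} : Set V) := LinearIndepOn.singleton hu
    let b := Module.Basis.extend hv'
    let b' := Module.Basis.extend hu'
    have hvm : v ∈ hv'.extend (Set.subset_univ _) := hv'.subset_extend _ (Set.mem_singleton v)
    have hum : u ∈ hu'.extend (Set.subset_univ _) := hu'.subset_extend _ (Set.mem_singleton u)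
    let e₀ := b.indexEquiv b'
    let e := e₀.trans (Equiv.swap (e₀ ⟨v, hvm⟩) ⟨u, hum⟩)
    let S := b.equiv b' e
    refine ⟨S.toAddEquiv, ?_, fun w => ?_⟩
    · show S v = u
      have hb : b ⟨v, hvm⟩ = v := Module.Basis.extend_apply_self hv' _
      have hb' : b' ⟨u, hum⟩ = u := Module.Basis.extend_apply_self hu' _
      conv_lhs => rw [← hb]
      rw [Module.Basis.equiv_apply]
      simp [e, hb']
    · show S (T w) = T (S w)
      rw [← hζv, ← hζv, map_smul]
  · intro i hi
    have hne : (p : ZMod q) ≠ 0 := by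
      rw [Ne, ZMod.natCast_eq_zero_iff]
      exact fun h => hpq ((Nat.prime_dvd_prime_iff_eq hq hp).1 h).symm
    have hi0 : (i : ZMod q) ≠ 0 := by rwa [Ne, ZMod.natCast_eq_zero_iff]
    -- the powers of p exhaust the non-zero residues
    have hmem : Units.mk0 _ hi0 ∈ Subgroup.zpowers (Units.mk0 _ hne) := by
      have : Subgroup.zpowers (Units.mk0 _ hne) = ⊤ := by
        apply Subgroup.eq_top_of_card_eq
        rw [Nat.card_zpowers, ← orderOf_units, Units.val_mk0, hord, Nat.card_eq_fintype_card, ZMod.card_units]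
      rw [this]; exact Subgroup.mem_top _
    obtain ⟨k, hk⟩ := mem_powers_iff_mem_zpowers.2 hmem
    have hk' : (p ^ k) % q = i % q := by
      rw [← ZMod.natCast_eq_natCast_iff']
      push_cast
      simpa using congrArg Units.val hk
    have hζq : ζ ^ q = 1 := by
      have h := congrArg (AdjoinRoot.mk Φ) (cyclotomic_prime_mul_X_sub_one (ZMod p) q)
      rw [map_mul, ← hΦ, AdjoinRoot.mk_self, zero_mul, map_sub, map_pow, map_one, AdjoinRoot.mk_X] at h
      exact (sub_eq_zero.1 h.symm)
    have : CharP K p := charP_of_injective_algebraMap (algebraMap (ZMod p) K).injective p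
    let σ : K →+* K := iterateFrobenius K p k
    have hσζ : σ ζ = ζ ^ i := by
      show iterateFrobenius K p k ζ = _
      rw [iterateFrobenius_def, pow_eq_pow_mod _ hζq, hk', ← pow_eq_pow_mod _ hζq]
    let b := Module.Free.chooseBasis K V
    have : Fintype (Module.Free.ChooseBasisIndex K V) := Module.Free.ChooseBasisIndex.fintype K V
    let f : V →+ V :=
      { toFun := fun w => b.equivFun.symm (fun j => σ (b.equivFun w j))
        map_zero' := by simp [Pi.zero_def.symm]
        map_add' := fun x y => by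
          rw [← map_add]; congr 1; funext j; simp }
    have hinj : Function.Injective f := by
      intro x y h
      have h' := b.equivFun.symm.injective h
      exact b.equivFun.injective (funext fun j => σ.injective (congrFun h' j))
    refine ⟨AddEquiv.ofBijective f ⟨hinj, Finite.injective_iff_surjective.1 hinj⟩, fun w => ?_⟩
    show f (T w) = (T ^ i) (f w)
    have hTi : ∀ x : V, (T ^ i) x = (ζ ^ i) • x := fun x => by
      show _ = φ (ζ ^ i) x
      rw [map_pow, hφζ]
    rw [hTi, ← hζv]
    show b.equivFun.symm _ = (ζ ^ i) • b.equivFun.symm _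
    rw [← map_smul]
    congr 1
    funext j
    rw [map_smul, Pi.smul_apply, Pi.smul_apply, smul_eq_mul, smul_eq_mul, map_mul, hσζ]

end CfsgLib.ClassSizes.PrimeLinear
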