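import Mathlib

/-!
Two primes `p < q` in `(m/2, m]` with `q ≥ p + 3`, for `m ≥ 17`.
-/

namespace CfsgLib.ClassSizes

theorem sq_le_two_pow (k : ℕ) (hk : 16 ≤ k) : (4 * k + 4) * (4 * k + 4) ≤ 2 ^ k := by
  induction k, hk using Nat.le_induction with
  | base => norm_num
  | succ k hk ih => rw [pow_succ]; nlinarith

theorem centralBinom_le_of_few_primes (n : ℕ) (hn : 2 < n) :
    Nat.centralBinom n ≤ (2 * n) ^ Nat.sqrt (2 * n) * 4 ^ (2 * n / 3) *
      (2 * n) ^ ((Finset.Ioc n (2 * n)).filter Nat.Prime).card := by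
  have n2_pos : 1 ≤ 2 * n := by omega
  let f x := x ^ n.centralBinom.factorization x
  set T := (Finset.Ioc n (2 * n)).filter Nat.Prime with hT
  set S := (Finset.range (2 * n / 3 + 1)).filter Nat.Prime with hS
  have hdisj : Disjoint S T := by
    rw [Finset.disjoint_left]
    intro x h1 h2
    simp only [hS, hT, Finset.mem_filter, Finset.mem_range, Finset.mem_Ioc] at h1 h2
    omega
  have hsub : S ∪ T ⊆ Finset.range (2 * n + 1) := by
    intro x hx
    simp only [hS, hT, Finset.mem_union, Finset.mem_filter, Finset.mem_range, Finset.mem_Ioc] at hx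
    simp only [Finset.mem_range]
    omega
  have hprod : Nat.centralBinom n = (∏ x ∈ S, f x) * ∏ x ∈ T, f x := by
    rw [← Finset.prod_union hdisj]
    refine (Eq.trans ?_ n.prod_pow_factorization_centralBinom).symm
    refine Finset.prod_subset hsub fun x hx h2x => ?_
    simp only [f]
    by_cases hxp : x.Prime
    · simp only [hS, hT, Finset.mem_union, Finset.mem_filter, Finset.mem_range, Finset.mem_Ioc, hxp,
        and_true, not_or] at hx h2x
      rw [Nat.factorization_centralBinom_of_two_mul_self_lt_three_mul (by omega) (by omega) (by omega),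
        pow_zero]
    · rw [Nat.factorization_eq_zero_of_not_prime n.centralBinom hxp, pow_zero]
  rw [hprod]
  refine mul_le_mul' ?_ ?_
  · rw [← Finset.prod_filter_mul_prod_filter_not S (· ≤ Nat.sqrt (2 * n))]
    apply mul_le_mul'
    · refine (Finset.prod_le_prod' fun p _ => (?_ : f p ≤ 2 * n)).trans ?_
      · exact Nat.pow_factorization_choose_le (by omega)
      rw [Finset.prod_const]
      refine pow_right_mono₀ n2_pos ((Finset.card_le_card (t := Finset.Icc 1 (Nat.sqrt (2 * n)))
        fun x hx => ?_).trans (by simp))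
      obtain ⟨h1, h2⟩ := Finset.mem_filter.1 hx
      exact Finset.mem_Icc.mpr ⟨(Finset.mem_filter.1 h1).2.one_lt.le, h2⟩
    · refine le_trans ?_ (primorial_le_four_pow (2 * n / 3))
      refine (Finset.prod_le_prod' fun p hp => (?_ : f p ≤ p)).trans ?_
      · obtain ⟨h1, h2⟩ := Finset.mem_filter.1 hp
        refine (pow_right_mono₀ (Finset.mem_filter.1 h1).2.one_lt.le ?_).trans (pow_one p).le
        exact Nat.factorization_choose_le_one (Nat.sqrt_lt'.mp <| not_le.1 h2)
      refine Finset.prod_le_prod_of_subset_of_one_le' (Finset.filter_subset _ _) ?_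
      exact fun p hp _ => (Finset.mem_filter.1 hp).2.one_lt.le
  · refine (Finset.prod_le_prod' fun p _ => (?_ : f p ≤ 2 * n)).trans ?_
    · exact Nat.pow_factorization_choose_le (by omega)
    rw [Finset.prod_const]

theorem three_le_card_primes (n : ℕ) (hn : 2048 ≤ n) :
    3 ≤ ((Finset.Ioc n (2 * n)).filter Nat.Prime).card := by
  by_contra hlt
  set s := Nat.sqrt (2 * n) with hs
  have hs1 : 2 * n < (s + 1) * (s + 1) := Nat.lt_succ_sqrt _
  have hs2 : s * s ≤ 2 * n := Nat.sqrt_le _
  have hs64 : 64 ≤ s := Nat.le_sqrt.2 (by omega)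
  have hk : 2 * n ≤ 2 ^ (s / 4) := by
    refine hs1.le.trans (le_trans ?_ (sq_le_two_pow (s / 4) (by omega)))
    exact Nat.mul_le_mul (by omega) (by omega)
  have h1 : n * Nat.centralBinom n ≤ 4 ^ n := by
    calc n * Nat.centralBinom n
        ≤ (2 * n) * ((2 * n) ^ s * 4 ^ (2 * n / 3) * (2 * n) ^ 2) := by
          refine Nat.mul_le_mul (by omega) ((centralBinom_le_of_few_primes n (by omega)).trans ?_)
          exact Nat.mul_le_mul_left _ (Nat.pow_le_pow_right (by omega) (by omega))
      _ = (2 * n) ^ (s + 3) * 4 ^ (2 * n / 3) := by ring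
      _ ≤ 4 ^ (n - 2 * n / 3) * 4 ^ (2 * n / 3) := by
          refine Nat.mul_le_mul_right _ ((Nat.pow_le_pow_left hk _).trans ?_)
          rw [← pow_mul, show (4 : ℕ) = 2 ^ 2 by norm_num, ← pow_mul]
          refine Nat.pow_le_pow_right (by norm_num) ?_
          have ha : 4 * (s / 4) ≤ s := Nat.mul_div_le s 4
          have hb : 3 * (2 * n / 3) ≤ 2 * n := Nat.mul_div_le _ _
          have hc : 4 * (s / 4 * (s + 3)) ≤ s * (s + 3) := by
            rw [← mul_assoc]; exact Nat.mul_le_mul_right _ ha
          have hd : 64 * s ≤ s * s := Nat.mul_le_mul_right _ hs64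
          have he : n ≤ 3 * (n - 2 * n / 3) := by omega
          generalize n - 2 * n / 3 = M at he ⊢
          generalize s / 4 * (s + 3) = K at hc ⊢
          nlinarith
      _ = 4 ^ n := by rw [← pow_add]; congr 1; omega
  have h2 := Nat.four_pow_lt_mul_centralBinom n (by omega)
  omega

theorem exists_prime_pair (m : ℕ) (hm : 17 ≤ m) :
    ∃ p q : ℕ, p.Prime ∧ q.Prime ∧ m < 2 * p ∧ p + 3 ≤ q ∧ q ≤ m := by
  by_cases h1 : m < 26
  · exact ⟨13, 17, by norm_num, by norm_num, by omega, by norm_num, by omega⟩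
  by_cases h2 : m < 38
  · exact ⟨19, 23, by norm_num, by norm_num, by omega, by norm_num, by omega⟩
  by_cases h3 : m < 62
  · exact ⟨31, 37, by norm_num, by norm_num, by omega, by norm_num, by omega⟩
  by_cases h4 : m < 106
  · exact ⟨53, 61, by norm_num, by norm_num, by omega, by norm_num, by omega⟩
  by_cases h5 : m < 194
  · exact ⟨97, 103, by norm_num, by norm_num, by omega, by norm_num, by omega⟩
  by_cases h6 : m < 362
  · exact ⟨181, 193, by norm_num, by norm_num, by omega, by norm_num, by omega⟩
  by_cases h7 : m < 706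
  · exact ⟨353, 359, by norm_num, by norm_num, by omega, by norm_num, by omega⟩
  by_cases h8 : m < 1382
  · exact ⟨691, 701, by norm_num, by norm_num, by omega, by norm_num, by omega⟩
  by_cases h9 : m < 2746
  · exact ⟨1373, 1381, by norm_num, by norm_num, by omega, by norm_num, by omega⟩
  by_cases h10 : m < 5462
  · exact ⟨2731, 2741, by norm_num, by norm_num, by omega, by norm_num, by omega⟩
  set T := (Finset.Ioc (m / 2) (2 * (m / 2))).filter Nat.Prime with hT
  have h3le : 3 ≤ T.card := three_le_card_primes (m / 2) (by omega)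
  have hne : T.Nonempty := Finset.card_pos.1 (by omega)
  have hp := T.min'_mem hne
  have hq := T.max'_mem hne
  have hspan : T ⊆ Finset.Icc (T.min' hne) (T.max' hne) := fun x hx =>
    Finset.mem_Icc.2 ⟨T.min'_le x hx, T.le_max' x hx⟩
  set p := T.min' hne
  set q := T.max' hne
  simp only [hT, Finset.mem_filter, Finset.mem_Ioc] at hp hq
  refine ⟨p, q, hp.2, hq.2, by omega, ?_, by omega⟩
  have hpo : Odd p := hp.2.odd_of_ne_two (by omega)
  have hodd : T ⊆ (Finset.Icc p q).filter Odd := fun x hx => by
    refine Finset.mem_filter.2 ⟨hspan hx, ?_⟩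
    simp only [hT, Finset.mem_filter, Finset.mem_Ioc] at hx
    exact hx.2.odd_of_ne_two (by omega)
  by_contra hlt
  have hsub : (Finset.Icc p q).filter Odd ⊆ {p, p + 2} := by
    intro x hx
    simp only [Finset.mem_filter, Finset.mem_Icc] at hx
    simp only [Finset.mem_insert, Finset.mem_singleton]
    obtain ⟨a, ha⟩ := hx.2
    obtain ⟨b, hb⟩ := hpo
    omega
  have := (Finset.card_le_card (hodd.trans hsub)).trans Finset.card_le_two
  omega

end CfsgLib.ClassSizes
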