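import Mathlib
import Cfsg.Agent.Lib.PGroups.Basic

/-!
Groups acting on abelian groups with all orbits of `p`-power length: a Sylow `p`-subgroup has the
same orbits, and a perfect such group preserves no decomposition.
-/

set_option autoImplicit false
set_option linter.style.haveILetI false

namespace CfsgLib.ClassSizes.PrimePowerOrbits

open scoped Pointwise
open Subgroup MulAction

variable {H : Type*} [Group H] {V : Type*} [AddCommGroup V] [DistribMulAction H V]

/-- all orbits have `p`-power length -/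
def OrbitsPPow (H V : Type*) [Group H] [MulAction H V] (p : ℕ) : Prop :=
  ∀ v : V, ∃ k, (stabilizer H v).index = p ^ k

/-- `P` acts irreducibly -/
def Irr (V : Type*) [AddCommGroup V] [DistribMulAction H V] (P : Subgroup H) : Prop :=
  ∀ W : AddSubgroup V, (∀ g ∈ P, ∀ w ∈ W, g • w ∈ W) → W = ⊥ ∨ W = ⊤

/-- `P` has the orbits of the whole group -/
def SameOrbits (V : Type*) [MulAction H V] (P : Subgroup H) : Prop :=
  ∀ (h : H) (v : V), ∃ g ∈ P, h • v = g • v

theorem hom_eq_one_of_perfect (hperf : _root_.commutator H = ⊤) {A : Type*} [CommGroup A] (f : H →* A) (h : H) :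
    f h = 1 := by
  have := Abelianization.commutator_subset_ker f (x := h) (by rw [hperf]; exact mem_top h)
  exact MonoidHom.mem_ker.1 this

theorem sameOrbits_of_sylow [Finite H] {p : ℕ} [hp : Fact p.Prime] (P : Sylow p H)
    (horb : OrbitsPPow H V p) : SameOrbits V (P : Subgroup H) := by
  classical
  intro h v
  obtain ⟨k, hk⟩ := horb v
  set S := stabilizer H v with hS
  have hsub : orbit (P : Subgroup H) v ⊆ orbit H v := by
    rintro _ ⟨g, rfl⟩
    exact ⟨(g : H), rfl⟩
  have hst : stabilizer (P : Subgroup H) v = S.subgroupOf P := rfl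
  have h1 : Nat.card ↥(S ⊓ (P : Subgroup H)) * (stabilizer (P : Subgroup H) v).index
      = Nat.card (P : Subgroup H) := by
    rw [hst, ← Nat.card_congr (subgroupOfEquivOfLe (inf_le_right : S ⊓ (P : Subgroup H) ≤ P)).toEquiv,
      inf_subgroupOf_right, card_mul_index]
  obtain ⟨t, ht⟩ := IsPGroup.iff_card.1 (P.isPGroup'.to_le inf_le_right : IsPGroup p (S ⊓ (P : Subgroup H) : Subgroup H))
  have h2 : t ≤ (Nat.card S).factorization p :=
    (hp.out.pow_dvd_iff_le_factorization Nat.card_pos.ne').1 (ht ▸ card_dvd_of_le inf_le_left)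
  have h4 : (Nat.card H).factorization p = k + (Nat.card S).factorization p := by
    rw [← S.index_mul_card, hk, Nat.factorization_mul (pow_ne_zero _ hp.out.ne_zero) Nat.card_pos.ne',
      Finsupp.add_apply, hp.out.factorization_pow, Finsupp.single_eq_same]
  have hge : p ^ k ≤ (stabilizer (P : Subgroup H) v).index := by
    refine Nat.le_of_mul_le_mul_left ?_ (pow_pos hp.out.pos t)
    rw [ht] at h1
    rw [h1, P.card_eq_multiplicity, h4, ← pow_add]
    exact Nat.pow_le_pow_right hp.out.pos (by omega)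
  have heq : orbit (P : Subgroup H) v = orbit H v := by
    refine Set.eq_of_subset_of_ncard_le hsub ?_ (Set.finite_range _)
    rwa [← index_stabilizer, ← index_stabilizer, hk]
  obtain ⟨g, hg⟩ : h • v ∈ orbit (P : Subgroup H) v := heq ▸ mem_orbit v h
  exact ⟨g, g.2, hg.symm⟩

theorem SameOrbits.smul_mem {P : Subgroup H} (hso : SameOrbits V P) {W : AddSubgroup V}
    (hW : ∀ g ∈ P, ∀ w ∈ W, g • w ∈ W) (h : H) {w : V} (hw : w ∈ W) : h • w ∈ W := by
  obtain ⟨g, hg, e⟩ := hso h w
  exact e ▸ hW g hg w hw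

/-- A perfect group having the orbits of a transitive `p`-subgroup on all subsets acts on one point. -/
theorem subsingleton_of_subsets {p : ℕ} [hp : Fact p.Prime] [Finite H] (hperf : _root_.commutator H = ⊤)
    {P : Subgroup H} (hP : IsPGroup p P) {ι : Type*} [Finite ι] [MulAction H ι]
    (htr : ∀ i j : ι, ∃ g ∈ P, g • i = j) (hset : ∀ (h : H) (S : Set ι), ∃ g ∈ P, h • S = g • S) :
    Subsingleton ι := by
  classical
  by_contra hns
  rw [not_subsingleton_iff_nontrivial] at hns
  obtain ⟨i₀, i₁, hne⟩ := exists_pair_ne ι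
  have htop : stabilizer P i₀ ≠ ⊤ := by
    intro ht
    obtain ⟨g, hg, e⟩ := htr i₀ i₁
    have : (⟨g, hg⟩ : P) ∈ stabilizer P i₀ := ht ▸ mem_top _
    exact hne ((mem_stabilizer_iff.1 this).symm.trans e)
  obtain ⟨M, hM, hle⟩ := (eq_top_or_exists_le_coatom (stabilizer P i₀)).resolve_left htop
  haveI := CfsgLib.PGroups.normal_of_isCoatom' hP hM
  have hMi := CfsgLib.PGroups.index_of_isCoatom hP hM
  let e : P ⧸ M ≃* Multiplicative (ZMod p) :=
    mulEquivOfPrimeCardEq (p := p) (by rw [← hMi]; rfl) (by simp)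
  let χ : P → ZMod p := fun g => Multiplicative.toAdd (e (g : P ⧸ M))
  have χmul : ∀ g g' : P, χ (g * g') = χ g + χ g' := fun g g' => by
    show Multiplicative.toAdd (e ((g * g' : P) : P ⧸ M)) = _
    rw [QuotientGroup.mk_mul, map_mul, toAdd_mul]
  have χsurj : Function.Surjective χ := fun t => by
    obtain ⟨g, hg⟩ := QuotientGroup.mk_surjective (e.symm (Multiplicative.ofAdd t))
    exact ⟨g, by show Multiplicative.toAdd (e (g : P ⧸ M)) = t; rw [hg, e.apply_symm_apply]; rfl⟩
  have htr' : ∀ i : ι, ∃ g : P, g • i₀ = i := fun i => by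
    obtain ⟨g, hg, e⟩ := htr i₀ i; exact ⟨⟨g, hg⟩, e⟩
  choose rep hrep using htr'
  let β : ι → ZMod p := fun i => χ (rep i)
  have hβ : ∀ g : P, β (g • i₀) = χ g := by
    intro g
    have hm : g⁻¹ * rep (g • i₀) ∈ M := hle (by
      rw [mem_stabilizer_iff, mul_smul, hrep, inv_smul_smul])
    have hq : (g : P ⧸ M) = (rep (g • i₀) : P ⧸ M) := QuotientGroup.eq.2 hm
    show Multiplicative.toAdd (e (rep (g • i₀) : P ⧸ M)) = Multiplicative.toAdd (e (g : P ⧸ M))
    rw [hq]
  have hβsmul : ∀ (g : P) (i : ι), β (g • i) = χ g + β i := by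
    intro g i
    conv_lhs => rw [← hrep i]
    rw [← mul_smul, hβ, χmul]
  have hβsurj : Function.Surjective β := fun t => by
    obtain ⟨g, hg⟩ := χsurj t; exact ⟨g • i₀, by rw [hβ, hg]⟩
  have key : ∀ (h : H) (S : Set ι), ∃ c : ZMod p, ∀ i ∈ S, ∃ s ∈ S, β (h • i) = c + β s := by
    intro h S
    obtain ⟨g, hg, e⟩ := hset h S
    refine ⟨χ ⟨g, hg⟩, fun i hi => ?_⟩
    have : h • i ∈ g • S := e ▸ Set.smul_mem_smul_set hi
    obtain ⟨s, hs, hse⟩ := this
    refine ⟨s, hs, ?_⟩
    rw [← hse]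
    exact hβsmul ⟨g, hg⟩ s
  choose c hc using key
  let σ : H → ZMod p → ZMod p := fun h t => c h {i | β i = t} + t
  have hσ : ∀ (h : H) (i : ι), β (h • i) = σ h (β i) := by
    intro h i
    obtain ⟨s, hs, e⟩ := hc h {j | β j = β i} i rfl
    rw [e, show β s = β i from hs]
  have σinj : ∀ h, Function.Injective (σ h) := fun h => Finite.injective_iff_surjective.2 fun t => by
    obtain ⟨i, hi⟩ := hβsurj t
    exact ⟨β (h⁻¹ • i), by rw [← hσ, smul_inv_smul, hi]⟩
  have σmul : ∀ h h' t, σ (h * h') t = σ h (σ h' t) := by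
    intro h h' t
    obtain ⟨i, rfl⟩ := hβsurj t
    rw [← hσ, ← hσ, ← hσ, mul_smul]
  have σone : ∀ t, σ 1 t = t := by
    intro t
    obtain ⟨i, rfl⟩ := hβsurj t
    rw [← hσ, one_smul]
  have hd : ∀ h t, σ h (t + 1) - σ h t = 1 ∨ σ h (t + 1) - σ h t = -1 := by
    intro h t
    set S : Set ι := {i | β i = t ∨ β i = t + 1}
    obtain ⟨i, hi⟩ := hβsurj t
    obtain ⟨j, hj⟩ := hβsurj (t + 1)
    obtain ⟨s, hs, e⟩ := hc h S i (Or.inl hi)
    obtain ⟨s', hs', e'⟩ := hc h S j (Or.inr hj)
    rw [hσ, hi] at e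
    rw [hσ, hj] at e'
    have hne' : σ h (t + 1) ≠ σ h t := fun e => by simpa using σinj h e
    rcases hs with hs | hs <;> rcases hs' with hs' | hs' <;>
      simp only [hs, hs'] at e e' <;> rw [e, e'] at hne' ⊢
    · exact absurd rfl hne'
    · exact Or.inl (by ring)
    · exact Or.inr (by ring)
    · exact absurd rfl hne'
  let ε : H → ZMod p := fun h => σ h 1 - σ h 0
  have hdc : ∀ h t, σ h (t + 1 + 1) - σ h (t + 1) = σ h (t + 1) - σ h t := by
    intro h t
    have h2 : σ h (t + 1 + 1) = σ h t → (2 : ZMod p) = 0 := fun e => by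
      have := σinj h e
      linear_combination this
    rcases hd h t with e | e <;> rcases hd h (t + 1) with e' | e'
    · rw [e, e']
    · have := h2 (by linear_combination e + e'); rw [e, e']; linear_combination -this
    · have := h2 (by linear_combination e + e'); rw [e, e']; linear_combination this
    · rw [e, e']
  have haff : ∀ h t, σ h t = σ h 0 + t * ε h := by
    intro h
    have : ∀ n : ℕ, σ h (n : ZMod p) = σ h 0 + n * ε h ∧ σ h ((n : ZMod p) + 1) - σ h n = ε h := by
      intro n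
      induction n with
      | zero => simp [ε]
      | succ n ih =>
        push_cast
        exact ⟨by linear_combination ih.1 + ih.2, by rw [hdc, ih.2]⟩
    intro t
    rw [← ZMod.natCast_zmod_val t]
    exact (this t.val).1
  have εmul : ∀ h h', ε (h * h') = ε h * ε h' := by
    intro h h'
    show σ (h * h') 1 - σ (h * h') 0 = _
    rw [σmul, σmul, haff h (σ h' 1), haff h (σ h' 0)]
    show _ = ε h * (σ h' 1 - σ h' 0)
    ring
  let εhom : H →* ZMod p := { toFun := ε, map_one' := by simp [ε, σone], map_mul' := εmul }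
  have hε : ∀ h, ε h = 1 := fun h => by
    have := hom_eq_one_of_perfect hperf εhom.toHomUnits h
    exact congrArg Units.val this
  let chom : H →* Multiplicative (ZMod p) :=
    { toFun := fun h => Multiplicative.ofAdd (σ h 0)
      map_one' := by simp [σone]
      map_mul' := fun h h' => by
        rw [← ofAdd_add, σmul, haff h (σ h' 0), hε, mul_one] }
  have hc0 : ∀ h, σ h 0 = 0 := fun h => Multiplicative.ofAdd.injective
    ((hom_eq_one_of_perfect hperf chom h).trans ofAdd_zero.symm)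
  obtain ⟨g, hg⟩ := χsurj 1
  have := hβsmul g i₀
  rw [Subgroup.smul_def, hσ, haff, hc0, hε, hg] at this
  exact one_ne_zero (α := ZMod p) (by linear_combination -this)

/-- A perfect group with the orbits of an irreducible `p`-subgroup `P` has no decomposition permuted by `P`. -/
theorem no_decomposition {p : ℕ} [hp : Fact p.Prime] [Finite H] (hperf : _root_.commutator H = ⊤)
    {P : Subgroup H} (hP : IsPGroup p P) (hso : SameOrbits V P) (hirr : Irr V P)
    {ι : Type*} [Fintype ι] (W : ι → AddSubgroup V) (hne : ∀ i, W i ≠ ⊥)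
    (hind : ∀ f : ι → V, (∀ i, f i ∈ W i) → ∑ i, f i = 0 → ∀ i, f i = 0)
    (hperm : ∀ g ∈ P, ∀ i, ∃ j, ∀ w ∈ W i, g • w ∈ W j) : Subsingleton ι := by
  classical
  have huniq : ∀ {i j : ι} {w : V}, w ∈ W i → w ∈ W j → w ≠ 0 → i = j := by
    intro i j w hi hj hw
    by_contra hne'
    have := hind (fun k => if k = i then w else if k = j then -w else 0)
      (fun k => by
        split_ifs with h1 h2
        · exact h1 ▸ hi
        · exact h2 ▸ neg_mem hj
        · exact zero_mem _)
      (by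
        rw [← Finset.sum_erase_add _ _ (Finset.mem_univ i),
          Finset.sum_eq_single j (fun k hk hkj => by simp [(Finset.mem_erase.1 hk).1, hkj])
            (fun hj' => absurd (Finset.mem_erase.2 ⟨Ne.symm hne', Finset.mem_univ j⟩) hj')]
        simp [Ne.symm hne'])
      i
    exact hw (by simpa using this)
  have hmap : ∀ (h : H) (i : ι), ∃ j, ∀ w ∈ W i, h • w ∈ W j := by
    intro h i
    have hsingle : ∀ w ∈ W i, ∃ j, h • w ∈ W j := fun w hw => by
      obtain ⟨g, hg, e⟩ := hso h w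
      obtain ⟨j, hj⟩ := hperm g hg i
      exact ⟨j, e ▸ hj w hw⟩
    obtain ⟨w₀, hw₀, hw₀0⟩ := (AddSubgroup.ne_bot_iff_exists_ne_zero.1 (hne i)) |> fun ⟨⟨w, hw⟩, h0⟩ =>
      (⟨w, hw, fun e => h0 (Subtype.ext e)⟩ : ∃ w, w ∈ W i ∧ w ≠ 0)
    obtain ⟨j, hj⟩ := hsingle w₀ hw₀
    refine ⟨j, fun w hw => ?_⟩
    obtain ⟨k, hk⟩ := hsingle w hw
    by_contra hnj
    have hkj : k ≠ j := fun e => hnj (e ▸ hk)
    obtain ⟨l, hl⟩ := hsingle (w₀ + w) (add_mem hw₀ hw)
    rw [smul_add] at hl
    -- the two components cannot combine into one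
    have hl' : l = j ∨ l ≠ j := em _
    rcases hl' with rfl | hlj
    · exact hnj (by simpa using sub_mem hl hj)
    · have := hind (fun m => (if m = j then h • w₀ else 0) + (if m = k then h • w else 0)
        + (if m = l then -(h • w₀ + h • w) else 0))
        (fun m => by
          refine add_mem (add_mem ?_ ?_) ?_ <;> split_ifs with e <;>
            first | exact zero_mem _ | exact e ▸ hj | exact e ▸ hk | exact e ▸ neg_mem hl)
        (by rw [Finset.sum_add_distrib, Finset.sum_add_distrib]; simp) j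
      rw [if_pos rfl, if_neg hkj.symm, if_neg (Ne.symm hlj), add_zero, add_zero] at this
      exact hw₀0 ((smul_eq_zero_iff_eq h).1 this)
  choose σ hσ using hmap
  have hpick : ∀ i, ∃ w ∈ W i, w ≠ (0 : V) := fun i => by
    obtain ⟨⟨w, hw⟩, h0⟩ := AddSubgroup.ne_bot_iff_exists_ne_zero.1 (hne i)
    exact ⟨w, hw, fun e => h0 (Subtype.ext e)⟩
  choose w₁ hw₁ hw₁0 using hpick
  have hnz : ∀ (h : H) i, h • w₁ i ≠ 0 := fun h i e => hw₁0 i ((smul_eq_zero_iff_eq h).1 e)
  letI : SMul H ι := ⟨σ⟩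
  letI : MulAction H ι :=
    { one_smul := fun i => show σ 1 i = i from
        (huniq (hw₁ i) (one_smul H (w₁ i) ▸ hσ 1 i _ (hw₁ i)) (hw₁0 i)).symm
      mul_smul := fun h h' i => show σ (h * h') i = σ h (σ h' i) from huniq (hσ (h * h') i _ (hw₁ i))
        ((mul_smul h h' (w₁ i)).symm ▸ hσ h _ _ (hσ h' i _ (hw₁ i))) (hnz _ i) }
  have hmemsmul : ∀ (h : H) i, ∀ w ∈ W i, h • w ∈ W (h • i) := hσ
  refine subsingleton_of_subsets hperf hP (fun i j => ?_) (fun h S => ?_)
  · let O : Set ι := {k | ∃ g ∈ P, g • i = k}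
    let U : AddSubgroup V :=
      { carrier := {v | ∃ f : ι → V, (∀ k, f k ∈ W k) ∧ (∀ k, k ∉ O → f k = 0) ∧ ∑ k, f k = v}
        zero_mem' := ⟨0, fun k => zero_mem _, fun k _ => rfl, by simp⟩
        add_mem' := by
          rintro _ _ ⟨f, hf, hf0, rfl⟩ ⟨f', hf', hf0', rfl⟩
          exact ⟨f + f', fun k => add_mem (hf k) (hf' k), fun k hk => by simp [hf0 k hk, hf0' k hk],
            by simp [Finset.sum_add_distrib]⟩
        neg_mem' := by
          rintro _ ⟨f, hf, hf0, rfl⟩
          exact ⟨-f, fun k => neg_mem (hf k), fun k hk => by simp [hf0 k hk], by simp⟩ }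
    have hU : ∀ g ∈ P, ∀ v ∈ U, g • v ∈ U := by
      rintro g hg _ ⟨f, hf, hf0, rfl⟩
      refine ⟨fun k => g • f (g⁻¹ • k), fun k => by simpa using hmemsmul g _ _ (hf (g⁻¹ • k)),
        fun k hk => ?_, ?_⟩
      · dsimp only
        rw [hf0 _ fun ⟨g', hg', e⟩ => hk ⟨g * g', mul_mem hg hg', by rw [mul_smul, e, smul_inv_smul]⟩,
          smul_zero]
      · rw [Finset.smul_sum]
        exact Equiv.sum_comp (MulAction.toPerm g⁻¹ : Equiv.Perm ι) (fun k => g • f k)
    have hmem : ∀ k ∈ O, w₁ k ∈ U := fun k hk =>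
      ⟨fun m => if m = k then w₁ k else 0, fun m => by
        dsimp only; split_ifs with e; exact e ▸ hw₁ k; exact zero_mem _,
       fun m hm => by dsimp only; rw [if_neg]; rintro rfl; exact hm hk, by simp⟩
    have hUtop : U = ⊤ := (hirr U hU).resolve_left fun e =>
      hw₁0 i ((AddSubgroup.mem_bot).1 (e ▸ hmem i ⟨1, one_mem P, one_smul H i⟩))
    by_contra hj
    obtain ⟨f, hf, hf0, hfs⟩ : w₁ j ∈ U := hUtop ▸ AddSubgroup.mem_top _
    have hjO : j ∉ O := fun ⟨g, hg, e⟩ => hj ⟨g, hg, e⟩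
    have := hind (fun m => f m - if m = j then w₁ j else 0) (fun m => by
      refine sub_mem (hf m) ?_
      split_ifs with e
      · exact e ▸ hw₁ j
      · exact zero_mem _) (by rw [Finset.sum_sub_distrib, hfs]; simp) j
    rw [if_pos rfl, hf0 j hjO, zero_sub, neg_eq_zero] at this
    exact hw₁0 j this
  · let v : V := ∑ i, if i ∈ S then w₁ i else 0
    obtain ⟨g, hg, e⟩ := hso h v
    refine ⟨g, hg, Set.ext fun k => ?_⟩
    let f : H → ι → V := fun h k => if h⁻¹ • k ∈ S then h • w₁ (h⁻¹ • k) else 0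
    have hfm : ∀ h k, f h k ∈ W k := fun h k => by
      dsimp only [f]; split_ifs
      · simpa using hmemsmul h _ _ (hw₁ (h⁻¹ • k))
      · exact zero_mem _
    have hfs : ∀ h : H, ∑ k, f h k = h • v := fun h => by
      rw [Finset.smul_sum]
      refine (Finset.sum_congr rfl fun k _ => ?_).trans
        (Equiv.sum_comp (MulAction.toPerm h⁻¹ : Equiv.Perm ι) fun k => h • if k ∈ S then w₁ k else 0)
      simp only [f, MulAction.toPerm_apply]
      split_ifs <;> simp
    have heq := hind (fun k => f h k - f g k) (fun k => sub_mem (hfm h k) (hfm g k))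
      (by rw [Finset.sum_sub_distrib, hfs, hfs, e, sub_self]) k
    rw [sub_eq_zero] at heq
    simp only [Set.mem_smul_set_iff_inv_smul_mem]
    by_cases h1 : h⁻¹ • k ∈ S <;> by_cases h2 : g⁻¹ • k ∈ S
    · exact iff_of_true h1 h2
    · simp only [f, if_pos h1, if_neg h2] at heq; exact absurd heq (hnz _ _)
    · simp only [f, if_neg h1, if_pos h2] at heq; exact absurd heq.symm (hnz _ _)
    · exact iff_of_false h1 h2

/-- fixed points of a subgroup -/
def fixBy (V : Type*) [AddCommGroup V] [DistribMulAction H V] (L : Subgroup H) : AddSubgroup V where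
  carrier := {v | ∀ e ∈ L, e • v = v}
  zero_mem' := fun e _ => smul_zero e
  add_mem' := fun ha hb e he => by rw [smul_add, ha e he, hb e he]
  neg_mem' := fun ha e he => by rw [smul_neg, ha e he]

/-- A perfect group with the orbits of an irreducible `p`-subgroup `P`: `P` normalises no elementary
abelian subgroup of order `p²` of itself. -/
theorem no_normal_square {p : ℕ} [hp : Fact p.Prime] [Finite H] [Nontrivial V]
    [FaithfulSMul H V] (hperf : _root_.commutator H = ⊤) {q : ℕ} (hqV : ∀ v : V, q • v = 0) (hpq : p.Coprime q)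
    {P : Subgroup H} (hP : IsPGroup p P) (hso : SameOrbits V P) (hirr : Irr V P) {E : Subgroup H}
    (hEn : ∀ g ∈ P, ∀ e ∈ E, g * e * g⁻¹ ∈ E) (hEc : ∀ a ∈ E, ∀ b ∈ E, a * b = b * a)
    (hEp : ∀ e ∈ E, e ^ p = 1) (hE : Nat.card E = p ^ 2) : False := by
  classical
  have hpV : ∀ {v : V}, p • v = 0 → v = 0 := fun {v} h => by
    rw [← AddMonoid.addOrderOf_eq_one_iff]
    exact Nat.dvd_one.1 (hpq.gcd_eq_one ▸
      Nat.dvd_gcd (addOrderOf_dvd_iff_nsmul_eq_zero.2 h) (addOrderOf_dvd_iff_nsmul_eq_zero.2 (hqV v)))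
  have hcard : ∀ L : Subgroup H, fixBy V L = ⊤ → L = ⊥ := fun L hL => by
    refine (Subgroup.eq_bot_iff_forall _).2 fun e he => eq_of_smul_eq_smul fun v : V => ?_
    rw [one_smul]
    exact (hL ▸ AddSubgroup.mem_top v : v ∈ fixBy V L) e he
  have hconj : ∀ g ∈ P, ∀ (L : Subgroup H) (w : V), w ∈ fixBy V L →
      g • w ∈ fixBy V (L.map (MulAut.conj g).toMonoidHom) := by
    rintro g hg L w hw _ ⟨e, he, rfl⟩
    show (g * e * g⁻¹) • g • w = g • w
    rw [← mul_smul, inv_mul_cancel_right, mul_smul, hw e he]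
  have hCE : fixBy V E = ⊥ := (hirr (fixBy V E) fun g hg w hw e he => by
      have h1 : g⁻¹ * e * g ∈ E := by simpa using hEn g⁻¹ (inv_mem hg) e he
      calc e • g • w = g • ((g⁻¹ * e * g) • w) := by rw [← mul_smul, ← mul_smul]; group
        _ = g • w := by rw [hw _ h1]).resolve_right fun h => by
      have := hcard E h
      rw [this, Subgroup.card_bot] at hE
      exact (Nat.one_lt_pow two_ne_zero hp.out.one_lt).ne hE
  let ι := {L : Subgroup H // L ≤ E ∧ Nat.card L = p ∧ fixBy V L ≠ ⊥}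
  haveI : Fintype ι := Fintype.ofFinite _
  have hperm : ∀ g ∈ P, ∀ L : ι, ∃ L' : ι, ∀ w ∈ fixBy V L.1, g • w ∈ fixBy V L'.1 := by
    intro g hg L
    refine ⟨⟨L.1.map (MulAut.conj g).toMonoidHom, ?_, ?_, ?_⟩, fun w hw => hconj g hg _ w hw⟩
    · rintro _ ⟨e, he, rfl⟩
      exact hEn g hg e (L.2.1 he)
    · rw [← Nat.card_congr (L.1.equivMapOfInjective _ (MulAut.conj g).injective).toEquiv, L.2.2.1]
    · intro h
      refine L.2.2.2 ((AddSubgroup.eq_bot_iff_forall _).2 fun w hw => ?_)
      exact (smul_eq_zero_iff_eq g).1 (AddSubgroup.mem_bot.1 (h ▸ hconj g hg _ w hw))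
  have hind : ∀ f : ι → V, (∀ L, f L ∈ fixBy V L.1) → ∑ L, f L = 0 → ∀ L, f L = 0 := by
    intro f hf hsum L₀
    haveI : Fintype L₀.1 := Fintype.ofFinite _
    let T : V → V := fun v => ∑ e : L₀.1, (e : H) • v
    have hT0 : T (f L₀) = p • f L₀ := by
      show ∑ e : L₀.1, (e : H) • f L₀ = _
      rw [Finset.sum_congr rfl fun (e : L₀.1) _ => hf L₀ _ e.2, Finset.sum_const, Finset.card_univ,
        ← Nat.card_eq_fintype_card, L₀.2.2.1]
    have hTne : ∀ L, L ≠ L₀ → T (f L) = 0 := by
      intro L hL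
      have hfix : ∀ e ∈ L₀.1 ⊔ L.1, e • T (f L) = T (f L) := by
        have : L₀.1 ⊔ L.1 ≤ stabilizer H (T (f L)) := by
          refine sup_le (fun e he => ?_) (fun e he => ?_) <;> rw [mem_stabilizer_iff] <;>
            simp only [T, Finset.smul_sum, ← mul_smul]
          · exact Equiv.sum_comp (Equiv.mulLeft (⟨e, he⟩ : L₀.1)) fun x : L₀.1 => (x : H) • f L
          · refine Finset.sum_congr rfl fun x _ => ?_
            rw [hEc e (L.2.1 he) x (L₀.2.1 x.2), mul_smul, hf L e he]
        exact fun e he => mem_stabilizer_iff.1 (this he)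
      have hsup : L₀.1 ⊔ L.1 = E := by
        refine eq_of_le_of_card_ge (sup_le L₀.2.1 L.2.1) ?_
        have hd : Nat.card ↥(L₀.1 ⊔ L.1) ∣ p ^ 2 := hE ▸ card_dvd_of_le (sup_le L₀.2.1 L.2.1)
        obtain ⟨j, hj, hje⟩ := (Nat.dvd_prime_pow hp.out).1 hd
        rw [hE, hje]
        refine Nat.pow_le_pow_right hp.out.pos ?_
        by_contra hlt
        have h1 : Nat.card ↥(L₀.1 ⊔ L.1) ≤ p := hje ▸ (Nat.pow_le_pow_right hp.out.pos
          (show j ≤ 1 by omega)).trans (pow_one p).le
        have a1 := eq_of_le_of_card_ge (le_sup_left : L₀.1 ≤ L₀.1 ⊔ L.1) (L₀.2.2.1.symm ▸ h1)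
        have a2 := eq_of_le_of_card_ge (le_sup_right : L.1 ≤ L₀.1 ⊔ L.1) (L.2.2.1.symm ▸ h1)
        exact hL (Subtype.ext (a2.trans a1.symm))
      exact AddSubgroup.mem_bot.1 (hCE ▸ (hsup ▸ hfix : T (f L) ∈ fixBy V E))
    have : T (∑ L, f L) = p • f L₀ := by
      show ∑ e : L₀.1, (e : H) • ∑ L, f L = _
      simp only [Finset.smul_sum]
      rw [Finset.sum_comm, Finset.sum_eq_single L₀ (fun L _ hL => hTne L hL)
        (fun h => absurd (Finset.mem_univ _) h)]
      exact hT0
    rw [hsum] at this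
    exact hpV (this.symm.trans (by simp [T]))
  haveI hsub := no_decomposition hperf hP hso hirr (fun L : ι => fixBy V L.1) (fun L => L.2.2.2) hind hperm
  have hne : Nonempty ι := by
    by_contra hne
    have hfpf : ∀ e ∈ E, e ≠ 1 → ∀ v : V, e • v = v → v = 0 := by
      intro e he he1 v hv
      by_contra hv0
      refine hne ⟨⟨zpowers e, zpowers_le.2 he, ?_, ?_⟩⟩
      · rw [Nat.card_zpowers, orderOf_eq_prime (hEp e he) he1]
      · intro h
        refine hv0 (AddSubgroup.mem_bot.1 (h ▸ (fun x hx => ?_ : v ∈ fixBy V (zpowers e))))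
        exact mem_stabilizer_iff.1 (zpowers_le.2 (mem_stabilizer_iff.2 hv) hx)
    have hs : ∀ e ∈ E, e ≠ 1 → ∀ v : V, ∑ j ∈ Finset.range p, e ^ j • v = 0 := by
      intro e he he1 v
      refine hfpf e he he1 _ ?_
      rw [Finset.smul_sum]
      simp only [← mul_smul, ← pow_succ']
      have h1 := Finset.sum_range_succ' (fun j => e ^ j • v) p
      rw [Finset.sum_range_succ, hEp e he, pow_zero] at h1
      exact (add_right_cancel h1).symm
    obtain ⟨a, haE, ha1⟩ : ∃ a ∈ E, a ≠ 1 := by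
      by_contra! h
      rw [(Subgroup.eq_bot_iff_forall _).2 h, Subgroup.card_bot] at hE
      exact (Nat.one_lt_pow two_ne_zero hp.out.one_lt).ne hE
    obtain ⟨b, hbE, hb⟩ : ∃ b ∈ E, b ∉ zpowers a := by
      by_contra! h
      have := Nat.card_congr (Equiv.setCongr (congrArg SetLike.coe (le_antisymm h (zpowers_le.2 haE))))
      simp only [SetLike.coe_sort_coe] at this
      rw [hE, Nat.card_zpowers, orderOf_eq_prime (hEp a haE) ha1] at this
      nlinarith [hp.out.two_le]
    obtain ⟨v, hv⟩ := exists_ne (0 : V)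
    have hzero : ∑ k ∈ Finset.range p, ∑ j ∈ Finset.range p, (a ^ k * b) ^ j • v = 0 :=
      Finset.sum_eq_zero fun k _ => hs _ (mul_mem (pow_mem haE k) hbE) (fun e => hb (by
        rw [show b = (a ^ k)⁻¹ from eq_inv_of_mul_eq_one_right e]
        exact inv_mem (pow_mem (mem_zpowers a) k))) v
    rw [Finset.sum_comm] at hzero
    have hval : ∀ j < p, ∑ k ∈ Finset.range p, (a ^ k * b) ^ j • v = if j = 0 then p • v else 0 := by
      intro j hj
      split_ifs with h0
      · simp [h0]
      · have haj : a ^ j ≠ 1 := by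
          intro e
          have := orderOf_dvd_iff_pow_eq_one.2 e
          rw [orderOf_eq_prime (hEp a haE) ha1] at this
          exact absurd (Nat.le_of_dvd (by omega) this) (by omega)
        refine (Finset.sum_congr rfl fun k _ => ?_).trans (hs _ (pow_mem haE j) haj (b ^ j • v))
        rw [Commute.mul_pow (hEc _ (pow_mem haE k) _ hbE), mul_smul, ← pow_mul, mul_comm, pow_mul]
    rw [Finset.sum_congr rfl fun j hj => hval j (Finset.mem_range.1 hj),
      Finset.sum_ite_eq' (Finset.range p) 0, if_pos (Finset.mem_range.2 hp.out.pos)] at hzero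
    exact hv (hpV hzero)
  obtain ⟨L⟩ := hne
  have htop : fixBy V L.1 = ⊤ := (hirr _ fun g hg w hw => by
    obtain ⟨L', hL'⟩ := hperm g hg L
    obtain rfl : L = L' := Subsingleton.elim _ _
    exact hL' w hw).resolve_left L.2.2.2
  have := L.2.2.1
  rw [hcard _ htop, Subgroup.card_bot] at this
  exact hp.out.ne_one this.symm

end CfsgLib.ClassSizes.PrimePowerOrbits
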