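import Mathlib
import Cfsg.Agent.Lib.ClassSizes.Kulakoff

/-!
Schur's theorem on permutation groups with a regular cyclic subgroup of prime power order `p ^ a`,
`a ≥ 2`: either a proper nontrivial subgroup of the cyclic group gives a block, or the point
stabiliser is transitive on the other points.
-/

set_option autoImplicit false

namespace CfsgLib.ClassSizes.RegularCyclic

open scoped IsMulCommutative

variable {H O : Type*} [Group H] [MulAction H O] {C : Subgroup H} {x : O}

/-- same orbit of the stabiliser, read on `C` -/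
def Rel (C : Subgroup H) (x : O) (u v : C) : Prop :=
  ∃ h ∈ MulAction.stabilizer H x, h • (u : H) • x = (v : H) • x

theorem Rel.refl (u : C) : Rel C x u u := ⟨1, one_mem _, one_smul H _⟩

theorem Rel.symm {u v : C} (h : Rel C x u v) : Rel C x v u := by
  obtain ⟨g, hg, e⟩ := h
  exact ⟨g⁻¹, inv_mem hg, by rw [← e, inv_smul_smul]⟩

theorem Rel.trans {u v w : C} (h : Rel C x u v) (h' : Rel C x v w) : Rel C x u w := by
  obtain ⟨g, hg, e⟩ := h
  obtain ⟨g', hg', e'⟩ := h'
  exact ⟨g' * g, mul_mem hg' hg, by rw [mul_smul, e, e']⟩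

theorem rel_one (hreg : Function.Bijective fun c : C => (c : H) • x) {v : C} (h : Rel C x 1 v) : v = 1 := by
  obtain ⟨g, hg, e⟩ := h
  refine hreg.1 ?_
  show (v : H) • x = ((1 : C) : H) • x
  rw [← e, Subgroup.coe_one]
  simp only [one_smul]
  exact hg

/-- a set of elements of `C` invariant under the stabiliser -/
def Inv (C : Subgroup H) (x : O) (U : Set C) : Prop := ∀ u v, Rel C x u v → u ∈ U → v ∈ U

/-- a function on `C` invariant under the stabiliser -/
def InvFun (C : Subgroup H) (x : O) {k : Type*} (f : C → k) : Prop := ∀ u v, Rel C x u v → f u = f v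

variable [Fintype C]

/-- convolution -/
noncomputable def conv {k : Type*} [CommSemiring k] (f g : C → k) : C → k := fun y => ∑ z : C, f z * g (z⁻¹ * y)

theorem InvFun.conv (hreg : Function.Bijective fun c : C => (c : H) • x) {k : Type*} [CommSemiring k]
    {f g : C → k} (hf : InvFun C x f) (hg : InvFun C x g) : InvFun C x (RegularCyclic.conv f g) := by
  rintro u v ⟨h, hh, e⟩
  have hh' : h • x = x := hh
  let π : C → C := fun z => (Equiv.ofBijective _ hreg).symm (h • (z : H) • x)
  have hπ : ∀ z, ((π z : C) : H) • x = h • (z : H) • x := fun z =>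
    (Equiv.ofBijective _ hreg).apply_symm_apply (h • (z : H) • x)
  have hπb : Function.Bijective π := (Equiv.ofBijective _ hreg).symm.bijective.comp
    ((MulAction.bijective h).comp hreg)
  show ∑ z : C, f z * g (z⁻¹ * u) = ∑ z : C, f z * g (z⁻¹ * v)
  refine Fintype.sum_bijective π hπb _ _ fun z => ?_
  congr 1
  · exact hf _ _ ⟨h, hh, (hπ z).symm⟩
  · refine hg _ _ ⟨((π z : C) : H)⁻¹ * h * (z : H), ?_, ?_⟩
    · show (((π z : C) : H)⁻¹ * h * (z : H)) • x = x
      rw [mul_smul, mul_smul, ← hπ z, inv_smul_smul]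
    · rw [Subgroup.coe_mul, Subgroup.coe_inv, mul_smul, mul_smul, mul_smul, smul_inv_smul, e, Subgroup.coe_mul,
        Subgroup.coe_inv, mul_smul]

theorem Inv.indicator {k : Type*} [Zero k] [One k] {U : Set C} (hU : Inv C x U) [DecidablePred (· ∈ U)] :
    InvFun C x (fun u => if u ∈ U then (1 : k) else 0) := by
  intro u v h
  have : u ∈ U ↔ v ∈ U := ⟨hU u v h, hU v u h.symm⟩
  simp only [this]

variable [IsMulCommutative C]

/-- multiplication by a prime preserves invariant sets -/
theorem Inv.pow_prime (hreg : Function.Bijective fun c : C => (c : H) • x) {r : ℕ} [hr : Fact r.Prime]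
    (hco : (Nat.card C).Coprime r) {U : Set C} (hU : Inv C x U) : Inv C x ((fun u => u ^ r) '' U) := by
  classical
  let coeffInv : MonoidAlgebra (ZMod r) C → Prop := fun f => InvFun C x fun y => f.coeff y
  have hmul : ∀ f g, coeffInv f → coeffInv g → coeffInv (f * g) := by
    intro f g hf hg
    have e : (fun y => (f * g).coeff y) = RegularCyclic.conv (fun y => f.coeff y) (fun y => g.coeff y) := by
      funext y
      rw [RegularCyclic.conv, MonoidAlgebra.coeff_mul, Finsupp.sum_fintype _ _ (fun i => by simp)]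
      refine Finset.sum_congr rfl fun z _ => ?_
      rw [Finsupp.sum_fintype _ _ (fun i => by simp), Finset.sum_eq_single (z⁻¹ * y)]
      · rw [if_pos (mul_inv_cancel_left z y)]
      · intro w _ hw
        rw [if_neg fun h => hw (by rw [← h, inv_mul_cancel_left])]
      · simp
    show InvFun C x _
    rw [e]
    exact hf.conv hreg hg
  let f : MonoidAlgebra (ZMod r) C := ∑ u ∈ U.toFinset, MonoidAlgebra.single u 1
  have hf : coeffInv f := by
    have e : (fun y => f.coeff y) = fun y => if y ∈ U then (1 : ZMod r) else 0 := by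
      funext y
      simp [f, MonoidAlgebra.coeff_sum, Finsupp.finset_sum_apply, Finsupp.single_apply]
    show InvFun C x _
    rw [e]
    exact hU.indicator
  have hpow : ∀ n, 1 ≤ n → coeffInv (f ^ n) := fun n hn => by
    induction n, hn using Nat.le_induction with
    | base => rwa [pow_one]
    | succ n hn ih => rw [pow_succ]; exact hmul _ _ ih hf
  haveI : CharP (MonoidAlgebra (ZMod r) C) r := charP_of_injective_algebraMap
    (RingHom.injective (algebraMap (ZMod r) (MonoidAlgebra (ZMod r) C))) r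
  have hfr : (fun y => (f ^ r).coeff y) = fun y => if y ∈ (fun u : C => u ^ r) '' U then (1 : ZMod r) else 0 := by
    funext y
    have hinj : Function.Injective fun u : C => u ^ r := (powCoprime hco).injective
    rw [show f ^ r = ∑ u ∈ U.toFinset, (MonoidAlgebra.single u (1 : ZMod r)) ^ r from sum_pow_char r _ _]
    simp only [MonoidAlgebra.single_pow, one_pow, MonoidAlgebra.coeff_sum, MonoidAlgebra.coeff_single,
      Finsupp.finset_sum_apply, Finsupp.single_apply]
    rw [Finset.sum_boole]
    by_cases hy : y ∈ (fun u : C => u ^ r) '' U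
    · obtain ⟨u, hu, rfl⟩ := hy
      rw [if_pos ⟨u, hu, rfl⟩, show U.toFinset.filter (fun w => w ^ r = u ^ r) = {u} by
        ext w; simp only [Finset.mem_filter, Set.mem_toFinset, Finset.mem_singleton]
        exact ⟨fun h => hinj h.2, fun h => by rw [h]; exact ⟨hu, rfl⟩⟩]
      simp
    · rw [if_neg hy, show U.toFinset.filter (fun w => w ^ r = y) = ∅ by
        ext w; simp only [Finset.mem_filter, Set.mem_toFinset, Finset.notMem_empty, iff_false, not_and]
        exact fun hw h => hy ⟨w, hw, h⟩]
      simp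
  intro u v huv hu
  have := hpow r hr.out.one_le u v huv
  simp only [congrFun hfr u, congrFun hfr v] at this
  simp only [if_pos hu] at this
  by_contra hv
  rw [if_neg hv] at this
  exact one_ne_zero this

theorem Inv.pow (hreg : Function.Bijective fun c : C => (c : H) • x) {U : Set C} (hU : Inv C x U) :
    ∀ m : ℕ, 1 ≤ m → (Nat.card C).Coprime m → Inv C x ((fun u => u ^ m) '' U) := by
  intro m
  induction m using Nat.strong_induction_on with
  | _ m ih =>
    intro hm hco
    rcases eq_or_ne m 1 with rfl | h1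
    · simpa using hU
    have hr := Nat.minFac_prime h1
    obtain ⟨k, hk⟩ := Nat.minFac_dvd m
    haveI := Fact.mk hr
    have hk1 : 1 ≤ k := by
      rcases Nat.eq_zero_or_pos k with rfl | h
      · rw [mul_zero] at hk; omega
      · exact h
    have hklt : k < m := by
      conv_rhs => rw [hk]
      exact lt_mul_of_one_lt_left (by omega) hr.one_lt
    have hcok : (Nat.card C).Coprime k := hco.coprime_dvd_right ⟨_, hk.trans (mul_comm _ _)⟩
    have h2 := (ih k hklt hk1 hcok).pow_prime hreg (r := m.minFac) (hco.coprime_dvd_right ⟨k, hk⟩)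
    have e : (fun u : C => u ^ m) '' U = (fun u : C => u ^ m.minFac) '' ((fun u : C => u ^ k) '' U) := by
      rw [Set.image_image]
      congr 1
      funext u
      rw [← pow_mul, mul_comm k, ← hk]
    rw [e]
    exact h2

theorem Rel.pow (hreg : Function.Bijective fun c : C => (c : H) • x) {u v : C} (h : Rel C x u v) {m : ℕ}
    (hm : (Nat.card C).Coprime m) : Rel C x (u ^ m) (v ^ m) := by
  rcases eq_or_ne (Nat.card C) 1 with h1 | h1
  · haveI : Subsingleton C := (Nat.card_eq_one_iff_unique.1 h1).1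
    rw [Subsingleton.elim (u ^ m) (v ^ m)]
    exact Rel.refl _
  obtain ⟨m', hm'⟩ : ∃ m' : ℕ, ∀ w : C, (w ^ m) ^ m' = w := by
    obtain ⟨m', -, hm'⟩ := Nat.exists_mul_mod_eq_one_of_coprime hm.symm (by
      have := Nat.card_pos (α := C); omega)
    refine ⟨m', fun w => ?_⟩
    rw [← pow_mul, ← pow_mod_natCard, hm', pow_one]
  have hm'1 : 1 ≤ m' ∧ (Nat.card C).Coprime m' := by
    obtain ⟨w, hw⟩ : ∃ w : C, w ≠ 1 := by
      by_contra hc
      push Not at hc
      exact h1 (Nat.card_eq_one_iff_unique.2 ⟨⟨fun a b => (hc a).trans (hc b).symm⟩, ⟨1⟩⟩)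
    refine ⟨?_, ?_⟩
    · by_contra h0
      obtain rfl : m' = 0 := by omega
      exact hw (by rw [← hm' w, pow_zero])
    · refine Nat.coprime_of_dvd fun r hr hrC hrm => ?_
      haveI := Fact.mk hr
      obtain ⟨g, hg⟩ := exists_prime_orderOf_dvd_card' r hrC
      obtain ⟨t, rfl⟩ := hrm
      have := hm' g
      rw [← pow_mul, mul_comm, mul_assoc, pow_mul, ← hg, pow_orderOf_eq_one, one_pow] at this
      rw [← this, orderOf_one] at hg
      exact hr.ne_one hg.symm
  have hU : Inv C x {w | Rel C x (u ^ m) w} := fun a b hab ha => Rel.trans ha hab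
  obtain ⟨w, hw, hwe⟩ := hU.pow hreg m' hm'1.1 hm'1.2 u v h ⟨u ^ m, Rel.refl _, hm' u⟩
  have : v ^ m = w := by
    rw [← hwe, ← pow_mul, mul_comm, pow_mul, hm']
  rw [this]
  exact hw

/-- in a cyclic group of `p`-power order the roots of unity of order `p` lie in every nontrivial subgroup -/
theorem mem_zpowers_of_pow {p a : ℕ} [hp : Fact p.Prime] [IsCyclic C] (hCc : Nat.card C = p ^ a) {t e : C}
    (ht : t ≠ 1) (he : e ^ p = 1) : e ∈ Subgroup.zpowers t := by
  rcases eq_or_ne e 1 with rfl | he1
  · exact Subgroup.one_mem _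
  obtain ⟨i, hi⟩ := IsPGroup.iff_orderOf.1 (IsPGroup.of_card hCc) t
  have hi0 : i ≠ 0 := by
    rintro rfl
    rw [pow_zero, orderOf_eq_one_iff] at hi
    exact ht hi
  have hp' := hp.out
  have ho : orderOf (t ^ p ^ (i - 1)) = p := by
    rw [orderOf_pow_of_dvd (pow_ne_zero _ hp'.ne_zero) (hi ▸ pow_dvd_pow p (Nat.sub_le i 1)), hi,
      Nat.pow_div (Nat.sub_le i 1) hp'.pos, show i - (i - 1) = 1 by omega, pow_one]
  have h := CfsgLib.ClassSizes.Kulakoff.eq_of_card_eq_of_isCyclic (H := Subgroup.zpowers (t ^ p ^ (i - 1)))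
    (K := Subgroup.zpowers e) (by rw [Nat.card_zpowers, Nat.card_zpowers, ho, orderOf_eq_prime he he1])
  have hle : Subgroup.zpowers (t ^ p ^ (i - 1)) ≤ Subgroup.zpowers t :=
    Subgroup.zpowers_le.2 (Subgroup.pow_mem _ (Subgroup.mem_zpowers t) _)
  exact hle (h ▸ Subgroup.mem_zpowers e)

/-- Schur -/
theorem block_or_transitive {p a : ℕ} [hp : Fact p.Prime] [IsCyclic C] (hCc : Nat.card C = p ^ a) (ha : 2 ≤ a)
    (hreg : Function.Bijective fun c : C => (c : H) • x) :
    (∃ B : Subgroup C, B ≠ ⊥ ∧ B ≠ ⊤ ∧ ∀ u v, Rel C x u v → u ∈ B → v ∈ B) ∨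
      ∀ u v : C, u ≠ 1 → v ≠ 1 → Rel C x u v := by
  classical
  have hp' := hp.out
  obtain ⟨z, hz⟩ := exists_prime_orderOf_dvd_card' p (hCc ▸ dvd_pow_self p (show a ≠ 0 by omega))
  have hzp : z ^ p = 1 := orderOf_dvd_iff_pow_eq_one.1 hz.dvd
  have hz1 : z ≠ 1 := by
    rintro rfl
    rw [orderOf_one] at hz
    exact hp'.ne_one hz.symm
  have hco : ∀ {m : ℕ}, ¬ p ∣ m → (Nat.card C).Coprime m := fun h => by
    rw [hCc]
    exact Nat.Coprime.pow_left a ((Nat.Prime.coprime_iff_not_dvd hp').2 h)
  have horder : ∀ {u : C} {j : ℕ}, ¬ p ∣ j → (u ^ j) ^ p = 1 → u ^ p = 1 := by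
    intro u j hj h
    rw [← orderOf_dvd_iff_pow_eq_one]
    obtain ⟨i, hi⟩ := IsPGroup.iff_orderOf.1 (IsPGroup.of_card hCc) u
    have hd : orderOf u ∣ j * p := orderOf_dvd_of_pow_eq_one (by rw [pow_mul]; exact h)
    have hcu : (orderOf u).Coprime j := hi ▸ Nat.Coprime.pow_left i ((Nat.Prime.coprime_iff_not_dvd hp').2 hj)
    exact hcu.dvd_of_dvd_mul_left hd
  -- saturation
  have sat : ∀ {t e e1 : C}, Rel C x t e → e ^ p = 1 → t ^ p ≠ 1 → e1 ^ p = 1 → Rel C x (t * e1) e := by
    intro t e e1 h he ht he1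
    have ht1 : t ≠ 1 := fun h' => ht (by rw [h', one_pow])
    obtain ⟨j, hj⟩ := (mem_powers_iff_mem_zpowers.mpr (mem_zpowers_of_pow hCc ht1 he1) : e1 ∈ Submonoid.powers t)
    have hj' : t ^ j = e1 := hj
    have hpj : p ∣ j := by
      by_contra hpj
      exact ht (horder hpj (by rw [hj', he1]))
    have := h.pow hreg (m := 1 + j) (hco fun hd => hp'.not_dvd_one ((Nat.dvd_add_left hpj).1 hd))
    rw [pow_add, pow_one, hj', pow_add, pow_one] at this
    obtain ⟨q, rfl⟩ := hpj
    rwa [pow_mul e, he, one_pow, mul_one] at this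
  let D : C → Prop := fun u => ∃ e : C, e ^ p = 1 ∧ e ≠ 1 ∧ Rel C x u e
  by_cases hW : ∃ w : C, w ≠ 1 ∧ ¬ D w
  · left
    let W : Finset C := Finset.univ.filter fun w => w ≠ 1 ∧ ¬ D w
    have hWmem : ∀ u, u ∈ W ↔ u ≠ 1 ∧ ¬ D u := fun u => by simp [W]
    have hWinv : ∀ u v, Rel C x u v → u ∈ W → v ∈ W := by
      intro u v h hu
      rw [hWmem] at hu ⊢
      refine ⟨fun hv => hu.1 (rel_one hreg (hv ▸ h).symm), fun ⟨e, he, he1, hr⟩ => hu.2 ⟨e, he, he1, h.trans hr⟩⟩
    let M : Submonoid C :=
      { carrier := {g | ∀ w ∈ W, g * w ∈ W}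
        one_mem' := fun w hw => by rwa [one_mul]
        mul_mem' := fun {g g'} hg hg' w hw => by rw [mul_assoc]; exact hg _ (hg' w hw) }
    have hMinv : ∀ {g : C}, g ∈ M → g⁻¹ ∈ M := by
      intro g hg
      have h1 : g⁻¹ = g ^ (orderOf g - 1) := inv_eq_of_mul_eq_one_right (by
        rw [← pow_succ', Nat.sub_add_cancel (orderOf_pos g), pow_orderOf_eq_one])
      rw [h1]
      exact M.pow_mem hg _
    let B : Subgroup C := { M with inv_mem' := hMinv }
    have hB : ∀ g, g ∈ B ↔ ∀ w ∈ W, g * w ∈ W := fun g => Iff.rfl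
    obtain ⟨w, hw⟩ := hW
    have hwW : w ∈ W := (hWmem w).2 hw
    refine ⟨B, fun h => ?_, fun h => ?_, ?_⟩
    · have : z ∈ B := by
        intro u hu
        rw [hWmem] at hu ⊢
        have hup : u ^ p ≠ 1 := fun h' => hu.2 ⟨u, h', hu.1, Rel.refl u⟩
        have hzu : (z * u) ^ p ≠ 1 := by rwa [mul_pow, hzp, one_mul]
        refine ⟨fun h' => hzu (by rw [h', one_pow]), fun ⟨e, he, he1, hr⟩ => hu.2 ⟨e, he, he1, ?_⟩⟩
        have := sat hr he hzu (e1 := z⁻¹) (by rw [inv_pow, hzp, inv_one])
        rwa [mul_comm z u, mul_inv_cancel_right] at this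
      rw [h, Subgroup.mem_bot] at this
      exact hz1 this
    · have := (hB w⁻¹).1 (h ▸ Subgroup.mem_top _) w hwW
      rw [inv_mul_cancel, hWmem] at this
      exact this.1 rfl
    · intro u v huv hu
      have hf : InvFun C x fun u => if u ∈ W then 1 else (0 : ℕ) := fun u v h => by
        have : u ∈ W ↔ v ∈ W := ⟨hWinv u v h, hWinv v u h.symm⟩
        simp only [this]
      have hf' : InvFun C x fun u => if u⁻¹ ∈ W then 1 else (0 : ℕ) := fun u v h => by
        have hi : Rel C x u⁻¹ v⁻¹ := by
          have e : ∀ y : C, y ^ (Nat.card C - 1) = y⁻¹ := fun y => (inv_eq_of_mul_eq_one_right (by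
            rw [← pow_succ', Nat.sub_add_cancel Nat.card_pos, pow_card_eq_one'])).symm
          have := h.pow hreg (m := Nat.card C - 1) (hco fun hd => by
            have h1 : p ∣ Nat.card C := hCc ▸ dvd_pow_self p (by omega)
            have h2 := Nat.dvd_sub h1 hd
            rw [Nat.sub_sub_self Nat.card_pos] at h2
            exact hp'.not_dvd_one h2)
          rwa [e, e] at this
        have : u⁻¹ ∈ W ↔ v⁻¹ ∈ W := ⟨hWinv _ _ hi, hWinv _ _ hi.symm⟩
        simp only [this]
      have hl : ∀ g : C, conv (fun u => if u ∈ W then 1 else (0 : ℕ)) (fun u => if u⁻¹ ∈ W then 1 else 0) g =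
          (W.filter fun z => g⁻¹ * z ∈ W).card := fun g => by
        simp only [conv, ite_mul, one_mul, zero_mul, mul_inv_rev, inv_inv]
        rw [← Finset.sum_filter, Finset.filter_univ_mem, Finset.sum_boole, Nat.cast_id]
      have hiff : ∀ g : C, g ∈ B ↔ (W.filter fun z => g⁻¹ * z ∈ W).card = W.card := fun g => by
        rw [Finset.card_filter_eq_iff, ← B.inv_mem_iff]
        exact Iff.rfl
      have := (hf.conv hreg hf') u v huv
      rw [hl, hl] at this
      rw [hiff] at hu ⊢
      rw [← this, hu]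
  · right
    push Not at hW
    by_contra hne
    push Not at hne
    obtain ⟨u0, v0, hu0, hv0, huv⟩ := hne
    let T0 : C → Finset C := fun w => Finset.univ.filter fun u => Rel C x w u
    have hd : Disjoint (T0 u0) (T0 v0) := Finset.disjoint_left.2 fun y h1 h2 => huv (by
      simp [T0] at h1 h2
      exact h1.trans h2.symm)
    have hsub : T0 u0 ∪ T0 v0 ⊆ Finset.univ.erase 1 := fun y hy => by
      simp [T0] at hy
      refine Finset.mem_erase.2 ⟨fun h => ?_, Finset.mem_univ _⟩
      subst h
      rcases hy with h | h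
      · exact hu0 (rel_one hreg h.symm)
      · exact hv0 (rel_one hreg h.symm)
    have hcard := Finset.card_le_card hsub
    rw [Finset.card_union_of_disjoint hd, Finset.card_erase_of_mem (Finset.mem_univ _), Finset.card_univ] at hcard
    obtain ⟨w, hw1, hwc⟩ : ∃ w : C, w ≠ 1 ∧ 2 * (T0 w).card ≤ Fintype.card C - 1 := by
      rcases le_total (T0 u0).card (T0 v0).card with h | h
      · exact ⟨u0, hu0, by omega⟩
      · exact ⟨v0, hv0, by omega⟩
    obtain ⟨e0, he0, he01, hwe⟩ := hW w hw1
    have hT0 : T0 w = T0 e0 := by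
      ext y
      simp [T0]
      exact ⟨fun h => hwe.symm.trans h, fun h => hwe.trans h⟩
    rw [hT0] at hwc
    set T := T0 e0 with hTdef
    have hT : ∀ y, y ∈ T ↔ Rel C x e0 y := fun y => by simp [hTdef, T0]
    have hTinv : InvFun C x fun u => if u ∈ T then 1 else (0 : ℕ) := fun u v h => by
      have : u ∈ T ↔ v ∈ T := by rw [hT, hT]; exact ⟨fun h' => h'.trans h, fun h' => h'.trans h.symm⟩
      simp only [this]
    have hinv : ∀ {u v : C}, Rel C x u v → Rel C x u⁻¹ v⁻¹ := fun {u v} h => by
      have e : ∀ y : C, y ^ (Nat.card C - 1) = y⁻¹ := fun y => (inv_eq_of_mul_eq_one_right (by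
        rw [← pow_succ', Nat.sub_add_cancel Nat.card_pos, pow_card_eq_one'])).symm
      have := h.pow hreg (m := Nat.card C - 1) (hco fun hd => by
        have h1 : p ∣ Nat.card C := hCc ▸ dvd_pow_self p (by omega)
        have h2 := Nat.dvd_sub h1 hd
        rw [Nat.sub_sub_self Nat.card_pos] at h2
        exact hp'.not_dvd_one h2)
      rwa [e, e] at this
    have hTinv' : InvFun C x fun u => if u⁻¹ ∈ T then 1 else (0 : ℕ) := fun u v h => by
      have : u⁻¹ ∈ T ↔ v⁻¹ ∈ T := by
        rw [hT, hT]; exact ⟨fun h' => h'.trans (hinv h), fun h' => h'.trans (hinv h).symm⟩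
      simp only [this]
    set lam : C → ℕ := conv (fun u => if u ∈ T then 1 else (0 : ℕ)) (fun u => if u⁻¹ ∈ T then 1 else 0) with hlam
    have hl : ∀ g : C, lam g = (T.filter fun z => g⁻¹ * z ∈ T).card := fun g => by
      simp only [hlam, conv, ite_mul, one_mul, zero_mul, mul_inv_rev, inv_inv]
      rw [← Finset.sum_filter, Finset.filter_univ_mem, Finset.sum_boole, Nat.cast_id]
    let T2 := T.filter fun t => t ^ p ≠ 1
    have hlow : ∀ g : C, g ≠ 1 → T2.card ≤ lam g := by
      intro g hg
      obtain ⟨e, he, -, hge⟩ := hW g hg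
      have e1 : lam g = lam e := (hTinv.conv hreg hTinv') g e hge
      rw [e1, hl]
      refine Finset.card_le_card fun t ht => ?_
      simp [T2] at ht
      refine Finset.mem_filter.2 ⟨ht.1, ?_⟩
      rw [hT, mul_comm]
      exact (sat ((hT t).1 ht.1).symm he0 ht.2 (e1 := e⁻¹) (by rw [inv_pow, he, inv_one])).symm
    have hsum : ∑ g : C, lam g = T.card * T.card := by
      have h2 : ∀ z : C, ∑ g : C, (if (z⁻¹ * g)⁻¹ ∈ T then 1 else (0 : ℕ)) = T.card := fun z => by
        rw [Fintype.sum_equiv (Equiv.mulLeft z⁻¹) (fun g => if (z⁻¹ * g)⁻¹ ∈ T then 1 else (0 : ℕ))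
            (fun g => if g⁻¹ ∈ T then 1 else (0 : ℕ)) fun g => rfl,
          Fintype.sum_equiv (Equiv.inv C) (fun g => if g⁻¹ ∈ T then 1 else (0 : ℕ))
            (fun g => if g ∈ T then 1 else (0 : ℕ)) fun g => rfl,
          ← Finset.sum_filter, Finset.filter_univ_mem, Finset.sum_const, smul_eq_mul, mul_one]
      simp only [hlam, conv]
      rw [Finset.sum_comm]
      simp only [← Finset.mul_sum, h2, ← Finset.sum_mul]
      rw [← Finset.sum_filter, Finset.filter_univ_mem, Finset.sum_const, smul_eq_mul, mul_one]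
    have hone : lam 1 = T.card := by
      rw [hl, Finset.filter_true_of_mem fun t ht => by rwa [inv_one, one_mul]]
    have hmain : (Fintype.card C - 1) * T2.card + T.card ≤ T.card * T.card := by
      rw [← hsum, ← Finset.sum_erase_add _ _ (Finset.mem_univ (1 : C)), hone]
      refine Nat.add_le_add_right ?_ _
      calc (Fintype.card C - 1) * T2.card = ∑ g ∈ Finset.univ.erase (1 : C), T2.card := by
            rw [Finset.sum_const, Finset.card_erase_of_mem (Finset.mem_univ _), Finset.card_univ, smul_eq_mul]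
        _ ≤ _ := Finset.sum_le_sum fun g hg => hlow g (Finset.mem_erase.1 hg).1
    let T1 := T.filter fun t => t ^ p = 1
    have hsplit : T1.card + T2.card = T.card := Finset.card_filter_add_card_filter_not _
    have hk : T1.card + 1 ≤ p := by
      have h1 : insert (1 : C) T1 ⊆ Finset.univ.filter fun t : C => t ^ p = 1 := by
        intro t ht
        rw [Finset.mem_insert] at ht
        rcases ht with rfl | ht
        · simp
        · simp [T1] at ht; simp [ht.2]
      have h2 := (Finset.card_le_card h1).trans (IsCyclic.card_pow_eq_one_le hp'.pos)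
      rw [Finset.card_insert_of_notMem fun h => he01 (rel_one hreg ((hT 1).1 (Finset.mem_filter.1 h).1).symm)] at h2
      exact h2
    have hT2 : T2 = ∅ := by
      by_contra hne'
      obtain ⟨t, ht⟩ := Finset.nonempty_iff_ne_empty.2 hne'
      simp [T2] at ht
      have hsub2 : (Finset.univ.filter fun e : C => e ∈ Subgroup.zpowers z).map (Equiv.mulLeft t).toEmbedding ⊆ T2 := by
        intro y hy
        simp only [Finset.mem_map, Finset.mem_filter, Finset.mem_univ, true_and, Equiv.coe_toEmbedding,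
          Equiv.coe_mulLeft] at hy
        obtain ⟨e, he, rfl⟩ := hy
        obtain ⟨i, rfl⟩ := he
        have hzi : (z ^ i) ^ p = 1 := by
          rw [← zpow_natCast, ← zpow_mul, mul_comm, zpow_mul, zpow_natCast, hzp, one_zpow]
        refine Finset.mem_filter.2 ⟨(hT _).2 (sat ((hT t).1 ht.1).symm he0 ht.2 hzi).symm, ?_⟩
        show (t * z ^ i) ^ p ≠ 1
        rw [mul_pow, hzi, mul_one]
        exact ht.2
      have hp2 := Finset.card_le_card hsub2
      rw [Finset.card_map, ← Fintype.card_subtype, ← Nat.card_eq_fintype_card] at hp2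
      rw [show Nat.card {e : C // e ∈ Subgroup.zpowers z} = p from (Nat.card_zpowers z).trans hz] at hp2
      have hT2pos : 0 < T.card := by omega
      have : 2 * T.card * T2.card + T.card ≤ T.card * T.card :=
        (Nat.add_le_add_right (Nat.mul_le_mul_right _ hwc) _).trans hmain
      have h3 : 2 * T2.card + 1 ≤ T.card := by
        refine Nat.le_of_mul_le_mul_left ?_ hT2pos
        linarith
      omega
    -- all of `C` has exponent `p`
    have hexp : ∀ u : C, u ^ p = 1 := by
      intro u
      rcases eq_or_ne u 1 with rfl | hu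
      · exact one_pow p
      obtain ⟨e, he, he1, hue⟩ := hW u hu
      obtain ⟨j, hj⟩ := (mem_powers_iff_mem_zpowers.mpr (mem_zpowers_of_pow hCc he1 he0) : e0 ∈ Submonoid.powers e)
      have hj' : e ^ j = e0 := hj
      have hpj : ¬ p ∣ j := by
        rintro ⟨q, rfl⟩
        rw [pow_mul, he, one_pow] at hj'
        exact he01 hj'.symm
      have h1 := hue.pow hreg (m := j) (hco hpj)
      rw [hj'] at h1
      refine horder hpj ?_
      by_contra h
      have : u ^ j ∈ T2 := Finset.mem_filter.2 ⟨(hT _).2 h1.symm, h⟩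
      rw [hT2] at this
      simp at this
    have h1 := IsCyclic.card_pow_eq_one_le (α := C) (n := p) hp'.pos
    rw [Finset.filter_true_of_mem fun u _ => hexp u, Finset.card_univ, ← Nat.card_eq_fintype_card, hCc] at h1
    have h2 : p ^ 2 ≤ p ^ a := Nat.pow_le_pow_right hp'.pos ha
    have h3 : p < p ^ 2 := by rw [pow_two]; exact lt_mul_self hp'.one_lt
    omega

end CfsgLib.ClassSizes.RegularCyclic
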