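import Mathlib
import Cfsg.Agent.Lib.ClassSizes.PrimePowerOrbitsBase
import Cfsg.Agent.Lib.ClassSizes.RegularCyclic
import Cfsg.Agent.Lib.Transfer.RankTwo
import Cfsg.Agent.Lib.Transfer.Abelian
import Cfsg.Agent.S0675
import Cfsg.Agent.Lib.Blocks.PrimePowerClass

/-!
Orbits of `p`-power length on an abelian group, `p` odd: the irreducible perfect case is impossible.
-/

set_option autoImplicit false
set_option linter.style.haveILetI false

namespace CfsgLib.ClassSizes.PrimePowerOrbits

open scoped Pointwise IsMulCommutative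
open Subgroup MulAction
open CfsgLib.ClassSizes.RegularCyclic (Rel)

variable {H : Type*} [Group H] {V : Type*} [AddCommGroup V] [DistribMulAction H V]

/-- A minimal normal abelian subgroup of a perfect group with irreducible cyclic Sylow `p`-subgroup and
`p`-power orbits is trivial. -/
theorem eq_bot_of_abelian_normal {p : ℕ} [hp : Fact p.Prime] [Finite H] [FaithfulSMul H V]
    (hperf : _root_.commutator H = ⊤) (horb : OrbitsPPow H V p) (P : Sylow p H)
    [IsCyclic (P : Subgroup H)] (N : Subgroup H) [hN : N.Normal] (hNc : IsMulCommutative N) : N = ⊥ := by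
  classical
  haveI := hNc
  by_contra hne
  obtain ⟨r, hr, hrd⟩ := Nat.exists_prime_and_dvd (mt Subgroup.card_eq_one.1 hne)
  haveI := Fact.mk hr
  obtain ⟨y, hy⟩ := exists_prime_orderOf_dvd_card' (G := N) r hrd
  let R : Subgroup H :=
    { carrier := {n | n ∈ N ∧ n ^ r = 1}
      one_mem' := ⟨one_mem N, one_pow r⟩
      mul_mem' := fun {a b} ha hb => ⟨mul_mem ha.1 hb.1, by
        have hc : Commute a b := congrArg Subtype.val (mul_comm (⟨a, ha.1⟩ : N) ⟨b, hb.1⟩)
        rw [hc.mul_pow, ha.2, hb.2, one_mul]⟩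
      inv_mem' := fun {a} ha => ⟨inv_mem ha.1, by rw [inv_pow, ha.2, inv_one]⟩ }
  haveI hRn : R.Normal := ⟨fun n hn g => ⟨hN.conj_mem n hn.1 g, by rw [conj_pow, hn.2, mul_one, mul_inv_cancel]⟩⟩
  have hyR : (y : H) ∈ R := ⟨y.2, by rw [← SubgroupClass.coe_pow, ← hy, pow_orderOf_eq_one]; rfl⟩
  have hy1 : (y : H) ≠ 1 := by
    intro e
    rw [← Subgroup.orderOf_coe, e, orderOf_one] at hy
    exact hr.ne_one hy.symm
  have hRp : IsPGroup r R := fun n => ⟨1, Subtype.ext (by simpa using n.2.2)⟩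
  by_cases hrp : r = p
  · subst hrp
    have hRP : R ≤ (P : Subgroup H) := by
      have h1 := hRp.exists_le_sylow
      obtain ⟨Q, hQ⟩ := h1
      obtain ⟨g, hg⟩ := MulAction.exists_smul_eq H Q P
      intro n hn
      rw [← hg, Sylow.coe_subgroup_smul, Subgroup.mem_pointwise_smul_iff_inv_smul_mem]
      refine hQ ?_
      simpa [MulAut.smul_def] using hRn.conj_mem n hn g⁻¹
    haveI : IsCyclic R := Subgroup.isCyclic_of_le hRP
    have hcen : R ≤ Subgroup.center H := by
      intro n hn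
      rw [Subgroup.mem_center_iff]
      intro g
      letI : CommGroup (MulAut R) := { (inferInstance : Group (MulAut R)) with
        mul_comm := fun a b => by
          obtain ⟨z, hz⟩ := IsCyclic.exists_generator (α := R)
          obtain ⟨i, hi⟩ := hz (a z)
          obtain ⟨j, hj⟩ := hz (b z)
          simp only at hi hj
          refine MulEquiv.ext fun w => ?_
          obtain ⟨m, rfl⟩ := hz w
          simp only [MulAut.mul_apply, map_zpow]
          rw [← hj, map_zpow, ← hi, map_zpow, ← hj, ← zpow_mul, ← zpow_mul, ← zpow_mul, ← zpow_mul]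
          ring_nf }
      have := congrArg (fun f : MulAut R => ((f ⟨n, hn⟩ : R) : H))
        (hom_eq_one_of_perfect hperf (MulAut.conjNormal (H := R)) g)
      simp only [MulAut.conjNormal_apply, MulAut.one_apply] at this
      exact mul_inv_eq_iff_eq_mul.1 this
    haveI : IsMulCommutative (P : Subgroup H) := IsCyclic.isMulCommutative
    have hb := CfsgLib.Transfer.inf_commutator_inf_center_eq_bot (P : Subgroup H) (by
      rw [P.card_eq_multiplicity]
      exact (hp.out.coprime_iff_not_dvd.2 P.not_dvd_index).pow_left _)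
    exact hy1 (Subgroup.mem_bot.1 (hb ▸ ⟨⟨hRP hyR, hperf ▸ mem_top _⟩, hcen hyR⟩))
  · refine hy1 (eq_of_smul_eq_smul fun v : V => ?_)
    rw [one_smul]
    obtain ⟨k, hk⟩ := horb v
    have h1 : (stabilizer H v).relIndex R ∣ p ^ k := hk ▸ CfsgLib.PrimePowerClass.relIndex_dvd_index' R _
    obtain ⟨m, hm⟩ := hRp.index ((stabilizer H v).subgroupOf R)
    have h2 : (stabilizer H v).relIndex R = 1 := by
      refine Nat.dvd_one.1 ?_
      rw [← ((Nat.coprime_primes hr hp.out).2 hrp).pow m k]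
      exact Nat.dvd_gcd (dvd_of_eq hm) h1
    exact mem_stabilizer_iff.1 (relIndex_eq_one.1 h2 hyR)

/-- the point stabiliser of a regular cyclic Sylow subgroup of prime power order is transitive on the rest -/
theorem rel_of_simple {O : Type*} [MulAction H O] [Finite H] {p a : ℕ} [hp : Fact p.Prime] (ha : 1 ≤ a)
    (hperf : _root_.commutator H = ⊤) (hsimple : ∀ N : Subgroup H, N.Normal → N = ⊥ ∨ N = ⊤)
    {C : Subgroup H} [IsCyclic C] (hCc : Nat.card C = p ^ a) {x : O}
    (hreg : Function.Bijective fun c : C => (c : H) • x) : ∀ u v : C, u ≠ 1 → v ≠ 1 → Rel C x u v := by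
  classical
  haveI : Finite O := Finite.of_surjective _ hreg.2
  haveI := Fintype.ofFinite O
  haveI := Fintype.ofFinite C
  have hCt : ∀ y : O, ∃ c : C, (c : H) • x = y := hreg.2
  rcases (show a = 1 ∨ 2 ≤ a by omega) with rfl | ha2
  · let G := (toPermHom H O).range
    have hcard : Fintype.card O = p := by
      rw [← Nat.card_eq_fintype_card, ← Nat.card_eq_of_bijective _ hreg, hCc, pow_one]
    haveI : IsPretransitive G O := ⟨fun y z => by
      obtain ⟨c, hc⟩ := hCt y
      obtain ⟨d, hd⟩ := hCt z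
      refine ⟨⟨toPermHom H O ((d : H) * (c : H)⁻¹), _, rfl⟩, ?_⟩
      show ((d : H) * (c : H)⁻¹) • y = z
      rw [← hc, ← mul_smul, inv_mul_cancel_right, hd]⟩
    rcases Cfsg.Agent.S0675.result (hcard ▸ hp.out) G with hs | h2
    · exfalso
      haveI := hs
      haveI : Nontrivial G := by
        obtain ⟨c, hc⟩ : ∃ c : C, c ≠ 1 := by
          haveI : Nontrivial C := Finite.one_lt_card_iff_nontrivial.1 (by rw [hCc, pow_one]; exact hp.out.one_lt)
          exact exists_ne 1
        refine ⟨⟨toPermHom H O c, _, rfl⟩, 1, fun e => hc (hreg.1 ?_)⟩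
        have := congrArg (fun g : G => (g : Equiv.Perm O) x) e
        simpa using this
      refine (Group.IsSolvable.commutator_lt_top_of_nontrivial G).ne ?_
      have h1 := congrArg (Subgroup.map (toPermHom H O).rangeRestrict) hperf
      rw [map_top_of_surjective _ (MonoidHom.rangeRestrict_surjective _), commutator_def, map_commutator,
        map_top_of_surjective _ (MonoidHom.rangeRestrict_surjective _), ← commutator_def] at h1
      exact h1
    · intro u v hu hv
      have hne : ∀ {w : C}, w ≠ 1 → x ≠ (w : H) • x := fun {w} hw e =>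
        hw (hreg.1 (show (w : H) • x = ((1 : C) : H) • x by rw [← e, Subgroup.coe_one, one_smul]))
      obtain ⟨⟨g, h, rfl⟩, h1, h2'⟩ := is_two_pretransitive_iff.1 h2 (hne hu) (hne hv)
      exact ⟨h, h1, h2'⟩
  · rcases RegularCyclic.block_or_transitive hCc ha2 hreg with ⟨B, hBb, hBt, hB⟩ | h
    swap
    · exact h
    exfalso
    let M : Subgroup H :=
      { carrier := {h | (∃ b ∈ B, h • x = ((b : C) : H) • x) ∧ ∃ b ∈ B, h⁻¹ • x = ((b : C) : H) • x}
        one_mem' := ⟨⟨1, one_mem B, by simp⟩, 1, one_mem B, by simp⟩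
        mul_mem' := fun {g h} hg hh => by
          have key : ∀ g h : H, (∃ b ∈ B, g • x = ((b : C) : H) • x) → (∃ b ∈ B, h • x = ((b : C) : H) • x) →
              ∃ b ∈ B, (g * h) • x = ((b : C) : H) • x := by
            rintro g h ⟨b, hb, e⟩ ⟨d, hd, e'⟩
            obtain ⟨w, hw⟩ := hCt ((((b : C) : H)⁻¹ * g) • (d : H) • x)
            have hs : ((b : H)⁻¹ * g) • x = x := by rw [mul_smul, e, inv_smul_smul]
            refine ⟨b * w, mul_mem hb (hB d w ⟨_, hs, hw.symm⟩ hd), ?_⟩
            rw [mul_smul, e', Subgroup.coe_mul, mul_smul, hw, ← mul_smul, ← mul_smul, ← mul_smul]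
            group
          exact ⟨key g h hg.1 hh.1, by rw [_root_.mul_inv_rev]; exact key _ _ hh.2 hg.2⟩
        inv_mem' := fun {g} hg => ⟨hg.2, by rw [_root_.inv_inv]; exact hg.1⟩ }
    obtain ⟨⟨b, hb⟩, hb1⟩ := (Subgroup.ne_bot_iff_exists_ne_one (H := B)).1 hBb
    have hBM : ∀ b ∈ B, ((b : C) : H) ∈ M := fun b hb =>
      ⟨⟨b, hb, rfl⟩, b⁻¹, inv_mem hb, by rw [Subgroup.coe_inv]⟩
    have hSM : ∀ s : H, s • x = x → s ∈ M := fun s hs =>
      ⟨⟨1, one_mem B, by simpa using hs⟩, 1, one_mem B, by simpa using (inv_smul_eq_iff.2 hs.symm)⟩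
    have hcore : ((b : C) : H) ∈ M.normalCore := by
      intro g
      obtain ⟨c, hc⟩ := hCt (g⁻¹ • x)
      set s := (c : H)⁻¹ * g⁻¹ with hs
      have hsx : s • x = x := by rw [hs, mul_smul, ← hc, inv_smul_smul]
      have hcb : (c : H)⁻¹ * b * c = b := by
        have h0 : ((b : C) : H) * c = (c : H) * b := congrArg Subtype.val (mul_comm b c)
        rw [mul_assoc, h0, inv_mul_cancel_left]
      have : g * b * g⁻¹ = s⁻¹ * ((b : C) : H) * s := by
        conv_rhs => rw [← hcb, hs]
        rw [show ((b : C) : H) = (c : H) * ((c : H)⁻¹ * b * c) * (c : H)⁻¹ by group, hcb]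
        group
      rw [this]
      exact mul_mem (mul_mem (inv_mem (hSM s hsx)) (hBM b hb)) (hSM s hsx)
    rcases hsimple _ M.normalCore_normal with h | h
    · rw [h, Subgroup.mem_bot] at hcore
      exact hb1 (Subtype.ext (Subtype.ext hcore))
    · refine hBt (eq_top_iff.2 fun c _ => ?_)
      have hcM : (c : H) ∈ M := M.normalCore_le (h ▸ mem_top _)
      obtain ⟨d, hd, e⟩ := hcM.1
      rwa [hreg.1 e]

/-- the transitive case is impossible -/
theorem false_of_transitive {p q a : ℕ} [hp : Fact p.Prime] [Finite H] (hp2 : p ≠ 2) (hq : q.Prime)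
    (hqH : ¬ q ∣ Nat.card H) (hqV : ∀ v : V, q • v = 0) (hpq : p ≠ q) {C : Subgroup H} [IsCyclic C]
    (hCc : Nat.card C = p ^ a) (ha : 1 ≤ a) (hso : SameOrbits V C)
    (hfpf : ∀ c : C, c ≠ 1 → ∀ v : V, (c : H) • v = v → v = 0) {x : V} (hx : x ≠ 0)
    (hrel : ∀ u v : C, u ≠ 1 → v ≠ 1 → ∃ h : H, h • x = x ∧ h • (u : H) • x = (v : H) • x) : False := by
  classical
  haveI := Fact.mk hq
  letI : Fintype C := Fintype.ofFinite C
  letI := AddCommGroup.zmodModule hqV
  have hsm : ∀ (g : H) (m : ZMod q) (v : V), g • m • v = m • g • v := fun g m v => by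
    exact ZMod.map_smul (DistribMulAction.toAddMonoidHom V g) m v
  have hsz : ∀ {m : ZMod q} {v : V}, m • v = 0 → v ≠ 0 → m = 0 := fun {m v} e hv => by
    by_contra hm
    exact hv (by rw [← inv_smul_smul₀ hm v, e, smul_zero])
  have hinj : ∀ {c d : C} {v : V}, v ≠ 0 → (c : H) • v = (d : H) • v → c = d := by
    intro c d v hv e
    by_contra hne
    refine hv (hfpf (d⁻¹ * c) (fun h => hne (inv_mul_eq_one.1 h).symm) v ?_)
    rw [Subgroup.coe_mul, Subgroup.coe_inv, mul_smul, e, inv_smul_smul]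
  have hodd : Odd (Nat.card C) := hCc ▸ (hp.out.odd_of_ne_two hp2).pow
  have hsq : ∀ u : C, u * u = 1 → u = 1 := fun u hu => by
    obtain ⟨k, hk⟩ := hodd
    have : u ^ Nat.card C = 1 := pow_card_eq_one'
    rwa [hk, pow_succ, pow_mul, sq, hu, one_pow, one_mul] at this
  haveI : Nontrivial C := Finite.one_lt_card_iff_nontrivial.1
    (by rw [hCc]; exact Nat.one_lt_pow (by omega) hp.out.one_lt)
  obtain ⟨u₁, hu₁⟩ := exists_ne (1 : C)
  -- `q` is odd: some element of even order exchanges `x` and `u x`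
  have hq2 : q ≠ 2 := by
    rintro rfl
    obtain ⟨s, hs, hs'⟩ := hrel u₁ u₁⁻¹ hu₁ (inv_ne_one.2 hu₁)
    set h := (u₁ : H) * s
    have h1 : h • x = (u₁ : H) • x := by rw [mul_smul, hs]
    have h2 : h ^ 2 • x = x := by
      rw [sq, mul_smul, h1, mul_smul, hs', Subgroup.coe_inv, smul_inv_smul]
    apply hqH
    refine dvd_trans ?_ (orderOf_dvd_natCard h)
    by_contra hev
    obtain ⟨k, hk⟩ := (Nat.not_even_iff_odd.1 (mt even_iff_two_dvd.1 hev))
    have h3 : ∀ j : ℕ, (h ^ 2) ^ j • x = x := fun j => by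
      induction j with
      | zero => simp
      | succ j ih => rw [pow_succ, mul_smul, h2, ih]
    have h4 : h = (h ^ 2) ^ (k + 1) := by
      rw [← pow_mul, show 2 * (k + 1) = orderOf h + 1 by omega, pow_succ, pow_orderOf_eq_one, one_mul]
    have h5 : h • x = x := by rw [h4]; exact h3 _
    exact hu₁ (hinj hx (by rw [← h1, h5, Subgroup.coe_one, one_smul]))
  have hC0 : ∀ v : V, ∑ c : C, (c : H) • v = 0 := by
    intro v
    refine hfpf u₁ hu₁ _ ?_
    rw [Finset.smul_sum]
    simp only [← mul_smul]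
    exact Equiv.sum_comp (Equiv.mulLeft u₁) (fun c : C => (c : H) • v)
  set v₁ := x + (u₁ : H) • x with hv₁
  have hv0 : ∀ u : C, u ≠ 1 → x + (u : H) • x ≠ 0 := by
    intro u hu e
    have e' : (u : H) • x = -x := eq_neg_of_add_eq_zero_right e
    refine hu (hsq u (hinj hx ?_))
    rw [Subgroup.coe_mul, mul_smul, e', smul_neg, e', neg_neg, Subgroup.coe_one, one_smul]
  have hπ : ∀ u : C, u ≠ 1 → ∃ c : C, x + (u : H) • x = (c : H) • v₁ := by
    intro u hu
    obtain ⟨h, h1, h2⟩ := hrel u₁ u hu₁ hu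
    obtain ⟨g, hg, e⟩ := hso h v₁
    refine ⟨⟨g, hg⟩, ?_⟩
    rw [← e, hv₁, smul_add, h1, h2]
  choose π hπ using hπ
  let S := {u : C // u ≠ 1}
  let f : S → C := fun u => π u.1 u.2
  have hfinj : Function.Injective f := by
    intro u v e
    refine Subtype.ext (hinj hx ?_)
    have := hπ u.1 u.2
    rw [show π u.1 u.2 = π v.1 v.2 from e, ← hπ v.1 v.2] at this
    exact add_left_cancel this
  have hScard : Fintype.card S + 1 = Fintype.card C := by
    have h1 : Fintype.card S = Fintype.card C - 1 := by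
      rw [Fintype.card_subtype_compl, Fintype.card_subtype_eq]
    have := Fintype.card_pos (α := C)
    omega
  obtain ⟨w, hw⟩ : ∃ w : C, ∀ c, c ≠ w ↔ c ∈ Finset.univ.image f := by
    have h1 : (Finset.univ.image f)ᶜ.card = 1 := by
      rw [Finset.card_compl, Finset.card_image_of_injective _ hfinj, Finset.card_univ]
      omega
    obtain ⟨w, hw⟩ := Finset.card_eq_one.1 h1
    refine ⟨w, fun c => ?_⟩
    have := Finset.ext_iff.1 hw c
    simp only [Finset.mem_compl, Finset.mem_singleton] at this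
    tauto
  have hfw : ∀ u, f u ≠ w := fun u => (hw _).2 (Finset.mem_image_of_mem f (Finset.mem_univ u))
  set M : ZMod q := (Nat.card C : ZMod q) with hM
  set m : ZMod q := -(M - 2) with hm
  have hsumS : ∀ g : C → V, ∑ u : S, g u.1 = (∑ c : C, g c) - g 1 := by
    intro g
    rw [← Finset.sum_erase_add _ _ (Finset.mem_univ (1 : C)), add_sub_cancel_right]
    exact (Finset.sum_subtype (Finset.univ.erase 1) (fun c => by simp) g).symm
  have hcardS : (Fintype.card S : ZMod q) = M - 1 := by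
    rw [hM, Nat.card_eq_fintype_card, ← hScard]; push_cast; ring
  have hv1eq : v₁ = m • ((w⁻¹ : C) : H) • x := by
    have h1 : ∑ u : S, (x + ((u.1 : C) : H) • x) = (M - 2) • x := by
      rw [Finset.sum_add_distrib, Finset.sum_const, Finset.card_univ, hsumS fun c => (c : H) • x, hC0,
        Subgroup.coe_one, one_smul, ← Nat.cast_smul_eq_nsmul (ZMod q), hcardS]
      module
    have h2 : ∑ u : S, (x + ((u.1 : C) : H) • x) = -((w : H) • v₁) := by
      rw [Finset.sum_congr rfl fun (u : S) _ => hπ u.1 u.2,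
        ← Finset.sum_image (f := fun c : C => (c : H) • v₁) (s := Finset.univ) (g := f) (fun a _ b _ e => hfinj e)]
      have h3 := hC0 v₁
      rw [← Finset.sum_erase_add _ _ (Finset.mem_univ w),
        show Finset.univ.erase w = Finset.univ.image f by ext c; simpa using hw c] at h3
      exact eq_neg_of_add_eq_zero_left h3
    rw [h1] at h2
    rw [Subgroup.coe_inv, ← hsm, eq_inv_smul_iff, hm, neg_smul, h2, neg_neg]
  let u' : S → S := fun u => ⟨f u * w⁻¹, fun e => hfw u (mul_inv_eq_one.1 e)⟩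
  have hu'b : Function.Bijective u' := Finite.injective_iff_bijective.1 fun a b e =>
    hfinj (mul_right_cancel (congrArg Subtype.val e))
  have hkey : ∀ u : S, x + ((u.1 : C) : H) • x = m • (((u' u).1 : C) : H) • x := by
    intro u
    rw [hπ u.1 u.2, hv1eq, hsm, ← mul_smul, ← Subgroup.coe_mul]
  have hm0 : m ≠ 0 := fun e => hv0 u₁ hu₁ (by rw [← hv₁, hv1eq, e, zero_smul])
  let inv' : S → S := fun u => ⟨u.1⁻¹, inv_ne_one.2 u.2⟩
  have hinv : ∀ u : S, (u' (inv' u)).1 = u.1⁻¹ * (u' u).1 := by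
    intro u
    refine hinj hx ((IsUnit.mk0 m hm0).smul_left_cancel.1 ?_)
    show m • (((u' (inv' u)).1 : C) : H) • x = m • ((u.1⁻¹ * (u' u).1 : C) : H) • x
    rw [← hkey, Subgroup.coe_mul, mul_smul, ← hsm, ← hkey, smul_add, ← mul_smul, Subgroup.coe_inv]
    show x + (u.1⁻¹ : C).1 • x = _
    rw [inv_mul_cancel, one_smul, Subgroup.coe_inv, add_comm]
  have hsum2 : ∀ u : S, (((u' u).1⁻¹ : C) : H) • x + (((u' (inv' u)).1⁻¹ : C) : H) • x = m • x := by
    intro u
    rw [hinv]
    have hk := hkey u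
    generalize (u' u).1 = d at hk ⊢
    have := congrArg (fun v : V => ((d⁻¹ : C) : H) • v) hk
    simp only [smul_add, hsm, ← mul_smul, ← Subgroup.coe_mul, inv_mul_cancel, Subgroup.coe_one, one_smul] at this
    rw [← this, _root_.mul_inv_rev, _root_.inv_inv]
  have hm1 : m = -1 := by
    have h1 : ∑ u : S, (((u' u).1⁻¹ : C) : H) • x = -x := by
      refine (Equiv.sum_comp (Equiv.ofBijective u' hu'b) (fun u : S => ((u.1⁻¹ : C) : H) • x)).trans ?_
      rw [hsumS fun c => ((c⁻¹ : C) : H) • x,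
        show ∑ c : C, ((c⁻¹ : C) : H) • x = 0 from (Equiv.sum_comp (Equiv.inv C) (fun c : C => (c : H) • x)).trans (hC0 x)]
      simp
    have hinvb : Function.Bijective inv' :=
      Function.Involutive.bijective fun u => Subtype.ext (_root_.inv_inv u.1)
    have h2 : ∑ u : S, (((u' (inv' u)).1⁻¹ : C) : H) • x = -x := by
      exact (Equiv.sum_comp (Equiv.ofBijective inv' hinvb) (fun u : S => (((u' u).1⁻¹ : C) : H) • x)).trans h1
    have h3 := Finset.sum_congr rfl fun (u : S) (_ : u ∈ Finset.univ) => hsum2 u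
    rw [Finset.sum_add_distrib, h1, h2, Finset.sum_const, Finset.card_univ, ← Nat.cast_smul_eq_nsmul (ZMod q),
      hcardS, smul_smul] at h3
    have h4 : ((M - 1) * m + 2) • x = 0 := by
      rw [add_smul, ← h3]; module
    have h5 : M * (M - 3) = 0 := by
      have := hsz h4 hx
      rw [hm] at this
      linear_combination -this
    have hM0 : M ≠ 0 := by
      rw [hM, hCc, Nat.cast_pow]
      refine pow_ne_zero _ fun e => hpq ?_
      exact (((Nat.prime_dvd_prime_iff_eq hq hp.out).1 ((ZMod.natCast_eq_zero_iff p q).1 e))).symm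
    rw [hm]
    linear_combination -((mul_eq_zero.1 h5).resolve_left hM0)
  have hkey' : ∀ u : S, x + ((u.1 : C) : H) • x = -((((u' u).1 : C) : H) • x) := fun u => by
    rw [hkey, hm1, neg_smul, one_smul]
  -- differences
  set d₁ := x - (u₁ : H) • x with hd₁
  have hd0 : d₁ ≠ 0 := fun e => hu₁ (hinj hx (by rw [← sub_eq_zero.1 e, Subgroup.coe_one, one_smul]))
  have hd : ∀ u : C, u ≠ 1 → ∃ c : C, x - (u : H) • x = (c : H) • d₁ := by
    intro u hu
    obtain ⟨h, h1, h2⟩ := hrel u₁ u hu₁ hu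
    obtain ⟨g, hg, e⟩ := hso h d₁
    refine ⟨⟨g, hg⟩, ?_⟩
    rw [← e, hd₁, smul_sub, h1, h2]
  obtain ⟨e₁, he₁⟩ := hd u₁ hu₁
  obtain ⟨e₂, he₂⟩ := hd (u₁ * u₁) (fun h => hu₁ (hsq u₁ h))
  have h1 : (e₂ : H) • d₁ = -((((u' ⟨u₁, hu₁⟩).1 * e₁ : C) : H) • d₁) := by
    rw [← he₂]
    have h2 : x - ((u₁ * u₁ : C) : H) • x = (x + (u₁ : H) • x) - (u₁ : H) • (x + (u₁ : H) • x) := by
      rw [smul_add, Subgroup.coe_mul, mul_smul]; abel
    have hk := hkey' ⟨u₁, hu₁⟩
    generalize (u' ⟨u₁, hu₁⟩).1 = d at hk ⊢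
    rw [h2, hk, smul_neg, Subgroup.coe_mul, mul_smul (d : H), ← he₁, smul_sub,
      ← mul_smul (u₁ : H), ← mul_smul (d : H), ← Subgroup.coe_mul, ← Subgroup.coe_mul, mul_comm u₁]
    abel
  obtain ⟨c₀, hc₀⟩ : ∃ c₀ : C, (c₀ : H) • d₁ = -d₁ := ⟨((u' ⟨u₁, hu₁⟩).1 * e₁)⁻¹ * e₂, by
    generalize (u' ⟨u₁, hu₁⟩).1 * e₁ = d at h1 ⊢
    rw [Subgroup.coe_mul, mul_smul, h1, smul_neg, Subgroup.coe_inv, inv_smul_smul]⟩
  have hc1 : c₀ = 1 := hsq c₀ (hinj hd0 (by
    rw [Subgroup.coe_mul, mul_smul, hc₀, smul_neg, hc₀, neg_neg, Subgroup.coe_one, one_smul]))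
  rw [hc1, Subgroup.coe_one, one_smul] at hc₀
  have : (2 : ZMod q) • d₁ = 0 := by rw [two_smul]; exact eq_neg_iff_add_eq_zero.1 hc₀
  have h20 : (2 : ZMod q) ≠ 0 := by
    intro e
    refine hq2 ((Nat.prime_dvd_prime_iff_eq hq Nat.prime_two).1 ((ZMod.natCast_eq_zero_iff 2 q).1 ?_))
    exact_mod_cast e
  exact h20 (hsz this hd0)

/-- The irreducible faithful perfect case for odd `p`. -/
theorem false_of_odd {p q : ℕ} [hp : Fact p.Prime] [Finite H] [Nontrivial H] [Nontrivial V] [FaithfulSMul H V]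
    (hp2 : p ≠ 2) (hperf : _root_.commutator H = ⊤) (hq : q.Prime) (hqH : ¬ q ∣ Nat.card H)
    (hqV : ∀ v : V, q • v = 0) (horb : OrbitsPPow H V p)
    (hmin : ∀ N : Subgroup H, N.Normal → N ≠ ⊤ → ⁅N, N⁆ = N → N = ⊥)
    (P : Sylow p H) (hirr : Irr V (P : Subgroup H)) : False := by
  classical
  have hso := sameOrbits_of_sylow P horb
  obtain ⟨a, hPc⟩ := IsPGroup.iff_card.1 P.isPGroup'
  have ha : 1 ≤ a := by
    rcases Nat.eq_zero_or_pos a with rfl | h
    · exfalso
      rw [pow_zero] at hPc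
      have hbot := Subgroup.card_eq_one.1 hPc
      obtain ⟨h, hh⟩ := exists_ne (1 : H)
      refine hh (eq_of_smul_eq_smul fun v : V => ?_)
      obtain ⟨g, hg, e⟩ := hso h v
      rw [e, Subgroup.mem_bot.1 (hbot ▸ hg : g ∈ (⊥ : Subgroup H))]
    · exact h
  have hpH : p ∣ Nat.card H := dvd_trans (hPc ▸ dvd_pow_self p (by omega)) (card_subgroup_dvd_card _)
  have hpq : p ≠ q := fun e => hqH (e ▸ hpH)
  haveI hcyc : IsCyclic (P : Subgroup H) := by
    by_contra hnc
    obtain ⟨A, hAn, hA, hAc⟩ := CfsgLib.Transfer.exists_normal_elementary_card_sq hp2 P.isPGroup' hnc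
    refine no_normal_square hperf hqV ((Nat.coprime_primes hp.out hq).2 hpq) P.isPGroup' hso hirr
      (E := A.map (P : Subgroup H).subtype) ?_ ?_ ?_ ?_
    · rintro g hg _ ⟨e, he, rfl⟩
      exact ⟨⟨g, hg⟩ * e * ⟨g, hg⟩⁻¹, hAn.conj_mem e he _, rfl⟩
    · rintro _ ⟨e, he, rfl⟩ _ ⟨f, hf, rfl⟩
      have := congrArg Subtype.val (hA.1.1.1 ⟨e, he⟩ ⟨f, hf⟩)
      exact congrArg Subtype.val this
    · rintro _ ⟨e, he, rfl⟩
      rw [← map_pow, hA.2 e he, map_one]
    · rw [← Nat.card_congr (A.equivMapOfInjective _ (P : Subgroup H).subtype_injective).toEquiv, hAc]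
  have hfpf : ∀ c : (P : Subgroup H), c ≠ 1 → ∀ v : V, (c : H) • v = v → v = 0 := by
    intro c hc v hv
    let W : AddSubgroup V :=
      { carrier := {v | (c : H) • v = v}
        zero_mem' := smul_zero _
        add_mem' := fun {a b} ha hb => by
          show (c : H) • (a + b) = a + b
          rw [smul_add, show (c : H) • a = a from ha, show (c : H) • b = b from hb]
        neg_mem' := fun {a} ha => by
          show (c : H) • -a = -a
          rw [smul_neg, show (c : H) • a = a from ha] }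
    rcases hirr W (fun g hg w hw => by
      show (c : H) • g • w = g • w
      rw [← mul_smul, show (c : H) * g = g * c from congrArg Subtype.val (mul_comm c ⟨g, hg⟩), mul_smul,
        show (c : H) • w = w from hw]) with h | h
    · exact AddSubgroup.mem_bot.1 (h ▸ (hv : v ∈ W))
    · refine absurd (Subtype.ext (eq_of_smul_eq_smul fun w : V => ?_)) hc
      rw [Subgroup.coe_one, one_smul]
      exact (h ▸ AddSubgroup.mem_top w : w ∈ W)
  have hsimple : ∀ N : Subgroup H, N.Normal → N = ⊥ ∨ N = ⊤ := by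
    intro K hK
    by_contra! hcon
    obtain ⟨N, ⟨hNn, hNK, hNb⟩, hminN⟩ := (Set.toFinite
      {N : Subgroup H | N.Normal ∧ N ≤ K ∧ N ≠ ⊥}).exists_minimal ⟨K, hK, le_rfl, hcon.1⟩
    have hcase : ⁅N, N⁆ = ⊥ ∨ ⁅N, N⁆ = N := by
      haveI := hNn
      by_contra! h
      exact h.2 (le_antisymm (Subgroup.commutator_le_self N)
        (hminN ⟨inferInstance, (Subgroup.commutator_le_self N).trans hNK, h.1⟩
          (Subgroup.commutator_le_self N)))
    rcases hcase with hc | hc
    · haveI := hNn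
      exact hNb (eq_bot_of_abelian_normal hperf horb P N
        (Subgroup.le_centralizer_iff_isMulCommutative.1 (commutator_eq_bot_iff_le_centralizer.1 hc)))
    · exact hNb (hmin N hNn (fun e => hcon.2 (eq_top_iff.2 (e ▸ hNK))) hc)
  obtain ⟨x, hx⟩ := exists_ne (0 : V)
  let x₀ : orbit H x := ⟨x, mem_orbit_self x⟩
  have hreg : Function.Bijective fun c : (P : Subgroup H) => (c : H) • x₀ := by
    constructor
    · intro c d e
      have e' : (c : H) • x = (d : H) • x := congrArg Subtype.val e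
      by_contra hne
      refine hx (hfpf (d⁻¹ * c) (fun h => hne (inv_mul_eq_one.1 h).symm) x ?_)
      rw [Subgroup.coe_mul, Subgroup.coe_inv, mul_smul, e', inv_smul_smul]
    · rintro ⟨_, h, rfl⟩
      obtain ⟨g, hg, e⟩ := hso h x
      exact ⟨⟨g, hg⟩, Subtype.ext e.symm⟩
  refine false_of_transitive hp2 hq hqH hqV hpq hPc ha hso hfpf hx fun u v hu hv => ?_
  obtain ⟨h, h1, h2⟩ := rel_of_simple ha hperf hsimple hPc hreg u v hu hv
  exact ⟨h, congrArg Subtype.val (mem_stabilizer_iff.1 h1), congrArg Subtype.val h2⟩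

end CfsgLib.ClassSizes.PrimePowerOrbits
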