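import Mathlib
import Cfsg.Agent.Lib.ClassSizes.PrimePowerOrbitsBase
import Cfsg.Agent.Lib.TwoGroups.CyclicNormalAbelian
import Cfsg.Agent.Lib.Transfer.NormalAbelian
import Cfsg.Agent.Lib.Core.Nilpotent

/-!
Orbits of `2`-power length on an abelian group: the irreducible perfect case is impossible.
-/

set_option autoImplicit false
set_option linter.style.haveILetI false

namespace CfsgLib.ClassSizes.PrimePowerOrbits

open scoped Pointwise IsMulCommutative
open Subgroup MulAction

variable {H : Type*} [Group H] {V : Type*} [AddCommGroup V] [DistribMulAction H V]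

theorem sylow_ne_bot_of_orbits [Finite H] [Nontrivial H] [FaithfulSMul H V] {p : ℕ} [Fact p.Prime]
    (P : Sylow p H) (horb : OrbitsPPow H V p) : (P : Subgroup H) ≠ ⊥ := by
  intro hbot
  obtain ⟨h, hh⟩ := exists_ne (1 : H)
  refine hh (eq_of_smul_eq_smul fun v : V => ?_)
  obtain ⟨g, hg, e⟩ := sameOrbits_of_sylow P horb h v
  rw [e, Subgroup.mem_bot.1 (hbot ▸ hg : g ∈ (⊥ : Subgroup H))]

/-- a `2`-group has a self-centralising cyclic subgroup of index two acting by residues `3 mod 4`, if it is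
non-cyclic and all its normal abelian subgroups are cyclic -/
theorem exists_cyclic_index_two {P : Type*} [Group P] [Finite P] (hP : IsPGroup 2 P) (hnc : ¬ IsCyclic P)
    (hn : ∀ A : Subgroup P, A.Normal → IsMulCommutative A → IsCyclic A) :
    ∃ (a b : P) (n r : ℕ), 2 ≤ n ∧ orderOf a = 2 ^ n ∧ (zpowers a).Normal ∧ b ∉ zpowers a ∧
      b * b ∈ zpowers a ∧ (∀ g : P, g ∈ zpowers a ∨ ∃ e ∈ zpowers a, g = e * b) ∧
      b * a * b⁻¹ = a ^ r ∧ (r : ZMod (2 ^ n)) * r = 1 ∧ ∃ s : ZMod (2 ^ n), (r : ZMod (2 ^ n)) = -1 + 4 * s := by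
  obtain ⟨A, hAn, hAc, hAself⟩ := CfsgLib.PGroups.exists_selfCentralizing' hP
  obtain ⟨a, ha⟩ := (Subgroup.isCyclic_iff_exists_zpowers_eq_top A).1 (hn A hAn hAc)
  obtain ⟨n, hord⟩ := IsPGroup.iff_orderOf.1 hP a
  have h : CfsgLib.TwoGroups.CycNA.Setup 2 n a := ⟨hP, hn, hord, ha ▸ hAn, fun g hg => by
    rw [ha, ← hAself, mem_centralizer_iff]
    intro y hy
    rw [SetLike.mem_coe, ← ha, mem_zpowers_iff] at hy
    obtain ⟨k, rfl⟩ := hy
    exact ((Commute.zpow_right (mul_inv_eq_iff_eq_mul.1 hg : Commute g a) k)).eq.symm⟩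
  obtain ⟨b, hb⟩ : ∃ g : P, g ∉ zpowers a := by
    by_contra hno
    push Not at hno
    exact hnc ⟨⟨a, hno⟩⟩
  have hn1 : 1 ≤ n := by
    by_contra hn0
    obtain rfl : n = 0 := by omega
    haveI : Subsingleton (ZMod (2 ^ 0)) := by rw [pow_zero]; infer_instance
    exact hb ((h.mem_iff b).2 (Subsingleton.elim _ _))
  haveI : NeZero (2 ^ n) := ⟨pow_ne_zero _ two_ne_zero⟩
  have htwo : ((2 : ℕ) : ZMod (2 ^ n)) = 2 := Nat.cast_two
  have hact : ∀ g : P, g ∉ zpowers a → ¬ CfsgLib.TwoGroups.CycNA.Near 2 n (h.act g) := fun g hg hnear =>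
    hg ((h.mem_iff g).2 (h.act_eq_one_of_near hnear))
  have hd : 2 ∣ 2 ^ n := dvd_pow_self 2 (by omega)
  -- residues of elements outside `⟨a⟩` are `3` modulo `4`
  have hres : ∀ g : P, g ∉ zpowers a → ∃ s, h.act g = -1 + 4 * s := by
    intro g hg
    obtain ⟨k, hk⟩ := hP g
    have h1 : h.act g ^ 2 ^ k = 1 := by rw [← h.act_pow, hk, h.act_one]
    rcases CfsgLib.TwoGroups.CycNA.isUnit_or_eq_p_mul hn1 (h.act g - 1) with hu | ⟨t, ht⟩
    · exfalso
      have hu' : IsUnit (ZMod.castHom hd (ZMod 2) (h.act g - 1)) := hu.map _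
      have h2 : ZMod.castHom hd (ZMod 2) (h.act g) ^ 2 ^ k = 1 := by rw [← map_pow, h1, map_one]
      rw [ZMod.pow_card_pow] at h2
      rw [map_sub, map_one, h2, sub_self] at hu'
      exact not_isUnit_zero hu'
    · rw [htwo] at ht
      rcases CfsgLib.TwoGroups.CycNA.isUnit_or_eq_p_mul hn1 (t + 1) with hu | ⟨s, hs⟩
      · exfalso
        rcases CfsgLib.TwoGroups.CycNA.isUnit_or_eq_p_mul hn1 t with hu' | ⟨s, hs⟩
        · have e1 := hu.map (ZMod.castHom hd (ZMod 2))
          have e2 := hu'.map (ZMod.castHom hd (ZMod 2))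
          rw [map_add, map_one] at e1
          revert e1 e2
          generalize ZMod.castHom hd (ZMod 2) t = x
          rcases CfsgLib.TwoGroups.CycNA.zmod_two_cases x with rfl | rfl
          · exact fun _ e => not_isUnit_zero e
          · exact fun e _ => not_isUnit_zero (M₀ := ZMod 2)
              (by rwa [show (1 : ZMod 2) + 1 = 0 from rfl] at e)
        · exact hact g hg ⟨t, by rw [htwo]; exact ht, fun _ => ⟨s, by rw [← htwo]; exact hs⟩⟩
      · exact ⟨s, by rw [htwo] at hs; linear_combination ht + 2 * hs⟩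
  have hmul : ∀ g g' : P, g ∉ zpowers a → g' ∉ zpowers a → g * g' ∈ zpowers a := by
    intro g g' hg hg'
    obtain ⟨s, hs⟩ := hres g hg
    obtain ⟨s', hs'⟩ := hres g' hg'
    refine (h.mem_iff _).2 (h.act_eq_one_of_near ⟨-2 * s - 2 * s' + 8 * s * s', ?_, fun _ =>
      ⟨-s - s' + 4 * s * s', by ring⟩⟩)
    rw [h.act_mul, hs, hs', Nat.cast_two]
    ring
  obtain ⟨s, hs⟩ := hres b hb
  have hn2 : 2 ≤ n := by
    by_contra hlt
    obtain rfl : n = 1 := by omega
    refine hb ((h.mem_iff b).2 ?_)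
    rw [hs]
    generalize s = x
    revert x
    decide
  refine ⟨a, b, n, (h.act b).val, hn2, hord, ha ▸ hAn, hb, hmul b b hb hb, fun g => ?_, ?_, ?_,
    ⟨s, by rw [ZMod.natCast_zmod_val, hs]⟩⟩
  · by_cases hg : g ∈ zpowers a
    · exact Or.inl hg
    · exact Or.inr ⟨g * b⁻¹, hmul g b⁻¹ hg (fun e => hb (inv_mem_iff.1 e)), (inv_mul_cancel_right g b).symm⟩
  · exact h.act_spec b
  · rw [ZMod.natCast_zmod_val, ← h.act_mul]
    exact (h.mem_iff _).1 (hmul b b hb hb)

/-- linear algebra for an element `a'` acting irreducibly and an element inducing an odd power of Frobenius -/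
theorem false_of_field {q : ℕ} [Fact q.Prime] [Finite H] [Finite V] [Nontrivial H] [Nontrivial V] [FaithfulSMul H V]
    [Module (ZMod q) V] [SMulCommClass H (ZMod q) V]
    (hperf : _root_.commutator H = ⊤) (hq2 : q ≠ 2) (hqH : ¬ q ∣ Nat.card H) (hqV : ∀ v : V, q • v = 0)
    (horb : OrbitsPPow H V 2) {a' b' : H} {n r : ℕ} (hn2 : 2 ≤ n) (hord : orderOf a' = 2 ^ n)
    (hba' : b' * a' * b'⁻¹ = a' ^ r) (hr1 : (r : ZMod (2 ^ n)) * r = 1) {s : ZMod (2 ^ n)}
    (hrs : (r : ZMod (2 ^ n)) = -1 + 4 * s)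
    (hairr : ∀ W : AddSubgroup V, (∀ w ∈ W, a' • w ∈ W) → W = ⊥ ∨ W = ⊤) : False := by
  classical
  haveI : Fact (Nat.Prime 2) := ⟨Nat.prime_two⟩
  have hq := (Fact.out : q.Prime)
  haveI : SMulCommClass (ZMod q) H V := SMulCommClass.symm _ _ _
  let ρ : H →* Module.End (ZMod q) V := DistribMulAction.toModuleEnd (ZMod q) V
  have hρ : ∀ (g : H) (v : V), ρ g v = g • v := fun g v => rfl
  have hρinj : Function.Injective ρ := fun g g' e => eq_of_smul_eq_smul fun v : V => by
    rw [← hρ, ← hρ, e]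
  let R := Algebra.adjoin (ZMod q) ({ρ a'} : Set (Module.End (ZMod q) V))
  haveI hRc : IsMulCommutative R := Algebra.isMulCommutative_adjoin (ZMod q) (by
    rintro x rfl y rfl; rfl)
  letI : CommRing R := { (inferInstance : Ring R) with mul_comm := hRc.1.1 }
  have hαR : ρ a' ∈ R := Algebra.subset_adjoin rfl
  let α : R := ⟨ρ a', hαR⟩
  haveI : Nontrivial R := ⟨0, 1, fun e => by
    obtain ⟨v, hv⟩ := exists_ne (0 : V)
    exact hv (LinearMap.congr_fun (congrArg Subtype.val e) v).symm⟩
  haveI : NoZeroDivisors R := ⟨fun {x y} hxy => by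
    by_contra! h
    let W : AddSubgroup V := (LinearMap.ker (x : Module.End (ZMod q) V)).toAddSubgroup
    have hx : ∀ v, (x : Module.End (ZMod q) V) (a' • v) = a' • (x : Module.End (ZMod q) V) v := fun v =>
      LinearMap.congr_fun (congrArg Subtype.val (mul_comm x α)) v
    rcases hairr W (fun w hw => by
      show (x : Module.End (ZMod q) V) (a' • w) = 0
      rw [hx, show (x : Module.End (ZMod q) V) w = 0 from hw, smul_zero]) with hW | hW
    · refine h.2 (Subtype.ext (LinearMap.ext fun v => ?_))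
      have h1 : (x : Module.End (ZMod q) V) ((y : Module.End (ZMod q) V) v) = 0 :=
        LinearMap.congr_fun (congrArg Subtype.val hxy) v
      exact AddSubgroup.mem_bot.1 (hW ▸ (h1 : (y : Module.End (ZMod q) V) v ∈ W))
    · exact h.1 (Subtype.ext (LinearMap.ext fun v => (hW ▸ AddSubgroup.mem_top v : v ∈ W)))⟩
  haveI : IsDomain R := NoZeroDivisors.to_isDomain R
  haveI : Finite (Module.End (ZMod q) V) := Finite.of_injective _ DFunLike.coe_injective
  haveI : Fintype R := Fintype.ofFinite _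
  letI : Field R := Fintype.fieldOfDomain R
  haveI : CharP R q := charP_of_injective_algebraMap (algebraMap (ZMod q) R).injective q
  let conj : Module.End (ZMod q) V →ₐ[ZMod q] Module.End (ZMod q) V :=
    AlgHom.ofLinearMap
      { toFun := fun f => ρ b' * f * ρ b'⁻¹
        map_add' := fun f g => by rw [mul_add, add_mul]
        map_smul' := fun m f => by simp }
      (by show ρ b' * 1 * ρ b'⁻¹ = 1; rw [mul_one, ← map_mul, mul_inv_cancel, map_one])
      (fun f g => by
        show ρ b' * (f * g) * ρ b'⁻¹ = ρ b' * f * ρ b'⁻¹ * (ρ b' * g * ρ b'⁻¹)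
        have h1 : ρ b'⁻¹ * ρ b' = 1 := by rw [← map_mul, inv_mul_cancel, map_one]
        simp only [mul_assoc]
        rw [← mul_assoc (ρ b'⁻¹) (ρ b'), h1, one_mul])
  have hconja : conj (ρ a') = ρ a' ^ r := by
    show ρ b' * ρ a' * ρ b'⁻¹ = _
    rw [← map_mul, ← map_mul, hba', map_pow]
  have hconjR : ∀ x : R, conj x ∈ R := fun x => by
    refine (show R.map conj ≤ R from ?_) ⟨x, x.2, rfl⟩
    rw [show R.map conj = Algebra.adjoin (ZMod q) (conj '' {ρ a'}) from AlgHom.map_adjoin conj _,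
      Algebra.adjoin_le_iff, Set.image_singleton, Set.singleton_subset_iff, hconja]
    exact pow_mem hαR r
  let φ : R →ₐ[ZMod q] R := (conj.comp R.val).codRestrict R hconjR
  obtain ⟨i, hi⟩ := (FiniteField.bijective_frobeniusAlgHom_pow (ZMod q) R).2 φ
  have hqr : (q : ZMod (2 ^ n)) ^ (i : ℕ) = r := by
    have h1 := DFunLike.congr_fun hi α
    simp only [AlgHom.coe_pow, FiniteField.coe_frobeniusAlgHom, pow_iterate, ZMod.card] at h1
    have h2 : ρ a' ^ (q ^ (i : ℕ)) = ρ a' ^ r := by
      rw [← hconja]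
      exact congrArg Subtype.val h1
    rw [← map_pow, ← map_pow] at h2
    have h3 := pow_eq_pow_iff_modEq.1 (hρinj h2)
    rw [hord, ← ZMod.natCast_eq_natCast_iff] at h3
    exact_mod_cast h3
  have hiodd : Odd (i : ℕ) := by
    by_contra hi'
    obtain ⟨j, hj⟩ := Nat.not_odd_iff_even.1 hi'
    rw [hj, pow_add, hrs] at hqr
    have hd : 4 ∣ 2 ^ n := (pow_dvd_pow 2 hn2 : 2 ^ 2 ∣ 2 ^ n)
    have := congrArg (ZMod.castHom hd (ZMod 4)) hqr
    simp only [map_mul, map_add, map_neg, map_one, map_ofNat] at this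
    revert this
    generalize ZMod.castHom hd (ZMod 4) ((q : ZMod (2 ^ n)) ^ j) = x
    generalize ZMod.castHom hd (ZMod 4) s = y
    revert x y
    decide
  have hq2i : (q : ZMod (2 ^ n)) ^ 2 = 1 := by
    haveI : NeZero (2 ^ n) := ⟨pow_ne_zero _ two_ne_zero⟩
    have hcop : q.Coprime (2 ^ n) := ((Nat.coprime_primes hq Nat.prime_two).2 hq2).pow_right n
    let u := ZMod.unitOfCoprime q hcop
    have h1 : u ^ (2 * (i : ℕ)) = 1 := Units.ext (by
      rw [Units.val_pow_eq_pow_val, ZMod.coe_unitOfCoprime, mul_comm, pow_mul, hqr, sq, hr1, Units.val_one])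
    have h2 : u ^ (2 ^ n) = 1 := by
      have e : Nat.totient (2 ^ n) * 2 = 2 ^ n := by
        rw [Nat.totient_prime_pow Nat.prime_two (by omega), show 2 - 1 = 1 from rfl, mul_one, ← pow_succ,
          Nat.sub_add_cancel (by omega : 1 ≤ n)]
      have e' : u ^ (Nat.totient (2 ^ n) * 2) = 1 := by rw [pow_mul, ZMod.pow_totient, one_pow]
      exact (congrArg (u ^ ·) e).symm.trans e'
    have h3 := pow_gcd_eq_one.2 ⟨h1, h2⟩
    have h4 : Nat.gcd (2 * (i : ℕ)) (2 ^ n) ∣ 2 := by
      have hco : (i : ℕ).Coprime (2 ^ n) := (Nat.coprime_two_right.2 hiodd).pow_right n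
      rw [Nat.Coprime.gcd_mul_right_cancel 2 hco]
      exact Nat.gcd_dvd_left _ _
    obtain ⟨c, hc⟩ := h4
    have h5 : u ^ 2 = 1 := (congrArg (u ^ ·) hc).trans (by rw [pow_mul, h3, one_pow])
    have := congrArg Units.val h5
    rwa [Units.val_pow_eq_pow_val, ZMod.coe_unitOfCoprime, Units.val_one] at this
  have hfix : ∀ x : R, x ^ q ^ 2 = x := by
    let ψ : R →ₐ[ZMod q] R := FiniteField.frobeniusAlgHom (ZMod q) R ^ 2
    have hψ : ∀ x, ψ x = x ^ q ^ 2 := fun x => by
      simp only [ψ, AlgHom.coe_pow, FiniteField.coe_frobeniusAlgHom, pow_iterate, ZMod.card]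
    have haq : a' ^ q ^ 2 = a' := by
      conv_rhs => rw [← pow_one a']
      rw [pow_eq_pow_iff_modEq, hord,
        ← ZMod.natCast_eq_natCast_iff]
      exact_mod_cast hq2i
    intro x
    rw [← hψ]
    obtain ⟨x, hx⟩ := x
    induction hx using Algebra.adjoin_induction with
    | mem y hy =>
      obtain rfl := Set.mem_singleton_iff.1 hy
      rw [hψ]
      refine Subtype.ext ?_
      rw [SubmonoidClass.coe_pow, ← map_pow, haq]
    | algebraMap m => exact ψ.commutes m
    | add x y hx hy ihx ihy => exact (map_add ψ ⟨x, hx⟩ ⟨y, hy⟩).trans (by rw [ihx, ihy])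
    | mul x y hx hy ihx ihy => exact (map_mul ψ ⟨x, hx⟩ ⟨y, hy⟩).trans (by rw [ihx, ihy])
  have hRcard : Nat.card R ≤ q ^ 2 := by
    rw [Nat.card_eq_fintype_card]
    have hne := FiniteField.X_pow_card_pow_sub_X_natDegree_eq R (p := q) two_ne_zero hq.one_lt
    have hp0 : (Polynomial.X ^ q ^ 2 - Polynomial.X : Polynomial R) ≠ 0 := fun e => by
      rw [e, Polynomial.natDegree_zero] at hne
      exact (pow_ne_zero 2 hq.ne_zero) hne.symm
    calc Fintype.card R ≤ (Polynomial.X ^ q ^ 2 - Polynomial.X : Polynomial R).roots.toFinset.card :=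
          Finset.card_le_card fun x _ => by simp [hp0, hfix]
      _ ≤ _ := Multiset.toFinset_card_le _
      _ ≤ _ := (Polynomial.card_roots' _).trans hne.le
  obtain ⟨v₀, hv₀⟩ := exists_ne (0 : V)
  have hsurj : Function.Surjective fun x : R => (x : Module.End (ZMod q) V) v₀ := by
    let W : AddSubgroup V :=
      { carrier := Set.range fun x : R => (x : Module.End (ZMod q) V) v₀
        zero_mem' := ⟨0, rfl⟩
        add_mem' := by
          rintro _ _ ⟨x, rfl⟩ ⟨y, rfl⟩
          exact ⟨x + y, rfl⟩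
        neg_mem' := by
          rintro _ ⟨x, rfl⟩
          exact ⟨-x, rfl⟩ }
    rcases hairr W (by rintro _ ⟨x, rfl⟩; exact ⟨α * x, rfl⟩) with h | h
    · exact absurd (AddSubgroup.mem_bot.1 (h ▸ ⟨1, rfl⟩ : v₀ ∈ _)) hv₀
    · exact fun v => (h ▸ AddSubgroup.mem_top v : v ∈ W)
  haveI : Module.Finite (ZMod q) V := Module.Finite.of_finite
  have hdim : Module.finrank (ZMod q) V ≤ 2 := by
    have h := (Nat.card_le_card_of_surjective _ hsurj).trans hRcard
    rw [Module.natCard_eq_pow_finrank (K := ZMod q) (V := V), Nat.card_zmod] at h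
    exact (Nat.pow_le_pow_iff_right hq.one_lt).1 h
  have hdim0 : 0 < Module.finrank (ZMod q) V := Module.finrank_pos
  -- stabilisers are trivial
  have hdet : ∀ g, LinearMap.det (ρ g) = 1 := fun g =>
    congrArg Units.val (hom_eq_one_of_perfect hperf ((LinearMap.det.comp ρ).toHomUnits) g)
  have hstab : ∀ g : H, g • v₀ = v₀ → g = 1 := by
    intro g hg
    set f := ρ g with hf
    have hfv : f v₀ = v₀ := hg
    have hCH := LinearMap.aeval_self_charpoly f
    have hmon := LinearMap.charpoly_monic f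
    have hdeg := LinearMap.charpoly_natDegree f
    have hc0 := LinearMap.det_eq_sign_charpoly_coeff f
    rw [hdet g] at hc0
    have hD : (f - 1) * (f - 1) = 0 := by
      rcases (show Module.finrank (ZMod q) V = 1 ∨ Module.finrank (ZMod q) V = 2 by omega) with h1 | h2
      · rw [h1] at hdeg hc0
        have e := Polynomial.eq_X_add_C_of_natDegree_le_one hdeg.le
        have hl : f.charpoly.coeff 1 = 1 := hdeg ▸ hmon.coeff_natDegree
        rw [hl, Polynomial.C_1, one_mul] at e
        have h0 : f.charpoly.coeff 0 = -1 := by linear_combination hc0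
        rw [e, h0, map_add, Polynomial.aeval_X, Polynomial.aeval_C, map_neg, map_one, ← sub_eq_add_neg] at hCH
        rw [hCH, zero_mul]
      · rw [h2] at hdeg hc0
        have e := f.charpoly.as_sum_range_C_mul_X_pow
        rw [hdeg, Finset.sum_range_succ, Finset.sum_range_succ, Finset.sum_range_one,
          show f.charpoly.coeff 2 = 1 from hdeg ▸ hmon.coeff_natDegree,
          show f.charpoly.coeff 0 = 1 by linear_combination -hc0] at e
        rw [e] at hCH
        simp only [map_add, map_mul, map_pow, Polynomial.aeval_X, Polynomial.aeval_C, Polynomial.C_1, map_one,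
          pow_zero, pow_one, mul_one, one_mul] at hCH
        have h3 : (1 + f.charpoly.coeff 1 + 1) • v₀ = 0 := by
          have := LinearMap.congr_fun hCH v₀
          simp only [LinearMap.add_apply, Module.End.mul_apply, Module.algebraMap_end_apply, pow_two, hfv,
            Module.End.one_apply, LinearMap.zero_apply] at this
          rw [add_smul, add_smul, one_smul, this]
        have h4 : f.charpoly.coeff 1 = -2 := by
          by_contra hne
          have h5 : (1 + f.charpoly.coeff 1 + 1) ≠ 0 := fun e0 => hne (by linear_combination e0)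
          exact hv₀ (by rw [← inv_smul_smul₀ h5 v₀, h3, smul_zero])
        rw [h4, map_neg, map_ofNat] at hCH
        rw [← hCH]
        noncomm_ring
    have hpow : ∀ k : ℕ, f ^ k = 1 + k • (f - 1) := by
      intro k
      induction k with
      | zero => simp
      | succ k ih =>
        rw [pow_succ, ih, succ_nsmul, add_mul, one_mul, smul_mul_assoc,
          show (f - 1) * f = f - 1 + (f - 1) * (f - 1) by noncomm_ring, hD, add_zero]
        abel
    have hgq : g ^ q = 1 := hρinj (by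
      rw [map_pow, map_one, ← hf, hpow q]
      refine add_eq_left.2 (LinearMap.ext fun v => ?_)
      rw [LinearMap.smul_apply, hqV, LinearMap.zero_apply])
    by_contra hg1
    exact hqH ((orderOf_eq_prime hgq hg1) ▸ orderOf_dvd_natCard g)
  obtain ⟨k, hk⟩ := horb v₀
  rw [(eq_bot_iff_forall _).2 fun g hg => hstab g (mem_stabilizer_iff.1 hg), Subgroup.index_bot] at hk
  haveI := (IsPGroup.of_card hk).isNilpotent
  exact (Group.IsSolvable.commutator_lt_top_of_nontrivial H).ne hperf

/-- The irreducible faithful perfect case for `p = 2`. -/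
theorem false_of_two {q : ℕ} [Finite H] [Finite V] [Nontrivial H] [Nontrivial V] [FaithfulSMul H V]
    (hperf : _root_.commutator H = ⊤) (hq : q.Prime) (hqH : ¬ q ∣ Nat.card H) (hqV : ∀ v : V, q • v = 0)
    (horb : OrbitsPPow H V 2) (P : Sylow 2 H) (hirr : Irr V (P : Subgroup H)) : False := by
  classical
  haveI : Fact (Nat.Prime 2) := ⟨Nat.prime_two⟩
  haveI := Fact.mk hq
  have hso := sameOrbits_of_sylow P horb
  have hPb := sylow_ne_bot_of_orbits P horb
  have hPc : 2 ∣ Nat.card (P : Subgroup H) := by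
    obtain ⟨a, ha⟩ := IsPGroup.iff_card.1 P.isPGroup'
    rcases Nat.eq_zero_or_pos a with rfl | h
    · exact absurd (Subgroup.card_eq_one.1 (by rwa [pow_zero] at ha)) hPb
    · exact ha ▸ dvd_pow_self 2 (by omega)
  have h2H : 2 ∣ Nat.card H := hPc.trans (card_subgroup_dvd_card _)
  have hq2 : q ≠ 2 := fun e => hqH (e ▸ h2H)
  have hnc : ¬ IsCyclic (P : Subgroup H) := by
    intro hc
    have hle := IsCyclic.normalizer_le_centralizer ((Nat.minFac_eq_two_iff _).2 h2H) hc
    have h1 := MonoidHom.ker_transferSylow_isComplement' P hle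
    haveI : IsMulCommutative (P : Subgroup H) := IsCyclic.isMulCommutative
    have hk : (MonoidHom.transferSylow P hle).ker = ⊤ :=
      eq_top_iff.2 fun g _ => MonoidHom.mem_ker.2 (hom_eq_one_of_perfect hperf _ g)
    exact hPb (isComplement'_top_left.1 (hk ▸ h1))
  have hcyc : ∀ A : Subgroup (P : Subgroup H), A.Normal → IsMulCommutative A → IsCyclic A := by
    intro A hAn hAc
    by_contra hA
    obtain ⟨r, hr, E, hEA, hexp, hcard⟩ := CfsgLib.Core.exists_elementary_of_not_isCyclic A hA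
    obtain rfl : r = 2 := by
      obtain ⟨e, he, he1⟩ : ∃ e ∈ E, e ≠ 1 := by
        by_contra! hE
        rw [(Subgroup.eq_bot_iff_forall _).2 hE, Subgroup.card_bot] at hcard
        nlinarith [hr.two_le]
      obtain ⟨k, hk⟩ := IsPGroup.iff_orderOf.1 P.isPGroup' e
      have h1 : orderOf e = r := by
        haveI := Fact.mk hr
        exact orderOf_eq_prime (hexp e he) he1
      exact (Nat.prime_dvd_prime_iff_eq hr Nat.prime_two).1 (hr.dvd_of_dvd_pow (dvd_of_eq (h1.symm.trans hk)))
    have hcomm : ∀ x ∈ A, ∀ y ∈ A, x * y = y * x := fun x hx y hy =>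
      congrArg Subtype.val (hAc.1.1 ⟨x, hx⟩ ⟨y, hy⟩)
    let Ω : Subgroup (P : Subgroup H) :=
      { carrier := {x | x ∈ A ∧ x ^ 2 = 1}
        one_mem' := ⟨one_mem A, one_pow 2⟩
        mul_mem' := fun {x y} hx hy => ⟨mul_mem hx.1 hy.1, by
          rw [(show Commute x y from hcomm x hx.1 y hy.1).mul_pow, hx.2, hy.2, one_mul]⟩
        inv_mem' := fun {x} hx => ⟨inv_mem hx.1, by rw [inv_pow, hx.2, inv_one]⟩ }
    haveI : Ω.Normal := ⟨fun x hx g =>
      ⟨hAn.conj_mem x hx.1 g, by rw [conj_pow, hx.2, mul_one, mul_inv_cancel]⟩⟩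
    obtain ⟨B, hBn, hBΩ, hBc, -⟩ := CfsgLib.Transfer.exists_normal_card P.isPGroup' Ω 2
      (hcard.trans (Nat.le_of_dvd Nat.card_pos (card_dvd_of_le fun x hx => ⟨hEA hx, hexp x hx⟩)))
    refine no_normal_square (p := 2) hperf hqV ((Nat.coprime_primes Nat.prime_two hq).2 (Ne.symm hq2))
      P.isPGroup' hso hirr (E := B.map (P : Subgroup H).subtype) ?_ ?_ ?_ ?_
    · rintro g hg _ ⟨e, he, rfl⟩
      exact ⟨⟨g, hg⟩ * e * ⟨g, hg⟩⁻¹, hBn.conj_mem e he _, rfl⟩
    · rintro _ ⟨e, he, rfl⟩ _ ⟨f, hf, rfl⟩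
      exact congrArg Subtype.val (hcomm e (hBΩ he).1 f (hBΩ hf).1)
    · rintro _ ⟨e, he, rfl⟩
      rw [← map_pow, (hBΩ he).2, map_one]
    · rw [← Nat.card_congr (B.equivMapOfInjective _ (P : Subgroup H).subtype_injective).toEquiv, hBc]
  obtain ⟨a, b, n, r, hn2, hord, han, hb, hbb, hcov, hba, hr1, s, hrs⟩ :=
    exists_cyclic_index_two P.isPGroup' hnc hcyc
  haveI := han
  set a' : H := (a : H) with ha'
  set b' : H := (b : H) with hb'
  have hba' : b' * a' * b'⁻¹ = a' ^ r := congrArg Subtype.val hba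
  -- `⟨a⟩` is irreducible
  have hairr : ∀ W : AddSubgroup V, (∀ w ∈ W, a' • w ∈ W) → W = ⊥ ∨ W = ⊤ := by
    intro W₁ hW₁
    by_contra! hcon
    obtain ⟨W, ⟨hW0, hWW, hWa⟩, hWmin⟩ := (Set.toFinite
      {W : AddSubgroup V | W ≠ ⊥ ∧ W ≤ W₁ ∧ ∀ w ∈ W, a' • w ∈ W}).exists_minimal ⟨W₁, hcon.1, le_rfl, hW₁⟩
    have hWe : ∀ e ∈ zpowers a, ∀ w ∈ W, (e : H) • w ∈ W := by
      intro e he w hw
      rw [← mem_powers_iff_mem_zpowers] at he
      obtain ⟨k, rfl⟩ := he
      induction k with
      | zero => simpa using hw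
      | succ k ih =>
        simp only [pow_succ', Subgroup.coe_mul, mul_smul]
        exact hWa _ ih
    let W' : AddSubgroup V := W.map (DistribSMul.toAddMonoidHom V b')
    have hWe' : ∀ e ∈ zpowers a, ∀ w ∈ W', (e : H) • w ∈ W' := by
      rintro e he _ ⟨w, hw, rfl⟩
      refine ⟨((b⁻¹ * e * b : (P : Subgroup H)) : H) • w, hWe _ (by simpa using han.conj_mem e he b⁻¹) w hw, ?_⟩
      show b' • ((b⁻¹ * e * b : (P : Subgroup H)) : H) • w = (e : H) • b' • w
      rw [← mul_smul, ← mul_smul]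
      congr 1
      show (b : H) * ((b : H)⁻¹ * e * b) = e * b
      group
    have hbW : ∀ w ∈ W', b' • w ∈ W := by
      rintro _ ⟨w, hw, rfl⟩
      show b' • b' • w ∈ W
      rw [← mul_smul]
      exact hWe _ hbb w hw
    by_cases hWW' : W' = W
    · rcases hirr W (fun g hg w hw => by
        rcases hcov ⟨g, hg⟩ with he | ⟨e, he, hge⟩
        · exact hWe _ he w hw
        · rw [show g = (e : H) * b' from congrArg Subtype.val hge, mul_smul]
          exact hWe e he _ (hWW' ▸ ⟨w, hw, rfl⟩)) with h | h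
      · exact hW0 h
      · exact hcon.2 (eq_top_iff.2 (h ▸ hWW))
    have hinf : W ⊓ W' = ⊥ := by
      by_contra h
      have h1 : W ≤ W ⊓ W' := hWmin ⟨h, inf_le_left.trans hWW, fun w hw =>
        ⟨hWa w hw.1, hWe' a (mem_zpowers a) w hw.2⟩⟩ inf_le_left
      have h2 : Nat.card W' = Nat.card W :=
        (Nat.card_congr (AddSubgroup.equivMapOfInjective W (DistribSMul.toAddMonoidHom V b')
          (MulAction.injective b')).toEquiv).symm
      exact hWW' (AddSubgroup.eq_of_le_of_card_ge (h1.trans inf_le_right) h2.le).symm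
    have hne : ∀ i : Bool, (bif i then W else W') ≠ ⊥ := by
      rintro (_ | _)
      · intro h
        obtain ⟨⟨w, hw⟩, hw0⟩ := AddSubgroup.ne_bot_iff_exists_ne_zero.1 hW0
        exact hw0 (Subtype.ext ((smul_eq_zero_iff_eq b').1 (AddSubgroup.mem_bot.1 (h ▸ ⟨w, hw, rfl⟩ : b' • w ∈ _))))
      · exact hW0
    have hsub := no_decomposition hperf P.isPGroup' hso hirr (fun i : Bool => bif i then W else W') hne
      (fun f hf h0 => by
        have hf1 : f true ∈ W := hf true
        have hf2 : f false ∈ W' := hf false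
        rw [Fintype.sum_bool] at h0
        have hf3 : f true ∈ W' := by rw [eq_neg_of_add_eq_zero_left h0]; exact neg_mem hf2
        have hf4 : f true ∈ W ⊓ W' := ⟨hf1, hf3⟩
        rw [hinf] at hf4
        have h1 : f true = 0 := AddSubgroup.mem_bot.1 hf4
        rw [h1, zero_add] at h0
        rintro (_ | _)
        · exact h0
        · exact h1)
      (fun g hg i => by
        rcases hcov ⟨g, hg⟩ with he | ⟨e, he, hge⟩
        · refine ⟨i, ?_⟩
          cases i
          · exact hWe' _ he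
          · exact hWe _ he
        · refine ⟨!i, fun w hw => ?_⟩
          rw [show g = (e : H) * b' from congrArg Subtype.val hge, mul_smul]
          cases i
          · exact hWe e he _ (hbW w hw)
          · exact hWe' e he _ ⟨w, hw, rfl⟩)
    exact Bool.false_ne_true (Subsingleton.elim false true)
  letI : Module (ZMod q) V := AddCommGroup.zmodModule hqV
  haveI : SMulCommClass H (ZMod q) V := ⟨fun g m v => ZMod.map_smul (DistribSMul.toAddMonoidHom V g) m v⟩
  exact false_of_field hperf hq2 hqH hqV horb hn2 (by rw [ha', Subgroup.orderOf_coe, hord]) hba' hr1 hrs hairr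

end CfsgLib.ClassSizes.PrimePowerOrbits
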