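import Mathlib
import Cfsg.Agent.Lib.ClassSizes.PrimePowerOrbitsBase
import Cfsg.Agent.Lib.ClassSizes.PrimePowerOrbitsOdd
import Cfsg.Agent.Lib.ClassSizes.PrimePowerOrbitsTwo

/-!
A group acting coprimely and faithfully on an abelian `q`-group with all orbits of `p`-power length is
solvable.
-/

set_option autoImplicit false
set_option linter.style.haveILetI false

namespace CfsgLib.ClassSizes.PrimePowerOrbits

open scoped Pointwise
open Subgroup MulAction

universe u v

theorem orbitsPPow_subgroup {H : Type u} [Group H] [Finite H] {V : Type v} [MulAction H V] {p : ℕ}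
    [hp : Fact p.Prime] (horb : OrbitsPPow H V p) (N : Subgroup H) [N.Normal] : OrbitsPPow N V p := by
  intro v
  obtain ⟨k, hk⟩ := horb v
  obtain ⟨j, -, hj⟩ := (Nat.dvd_prime_pow hp.out).1
    (hk ▸ CfsgLib.PrimePowerClass.relIndex_dvd_index' N (stabilizer H v))
  exact ⟨j, hj⟩

/-- A perfect group acting coprimely on an abelian `q`-group with all orbits of `p`-power length acts trivially. -/
theorem trivial_of_perfect {p q : ℕ} [hp : Fact p.Prime] (hq : q.Prime) :
    ∀ (n : ℕ) {H : Type u} [Group H] [Finite H] {V : Type v} [AddCommGroup V] [Finite V] [DistribMulAction H V],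
      Nat.card H + Nat.card V = n → _root_.commutator H = ⊤ → ¬ q ∣ Nat.card H →
      (∀ v : V, ∃ m, q ^ m • v = 0) → OrbitsPPow H V p → ∀ (h : H) (v : V), h • v = v := by
  intro n
  induction n using Nat.strong_induction_on with
  | _ n ih =>
    intro H _ _ V _ _ _ hn hperf hqH hqV horb
    classical
    -- the kernel is trivial
    let K : Subgroup H := (DistribMulAction.toAddMonoidEnd H V).ker
    have hK : ∀ k ∈ K, ∀ v : V, k • v = v := fun k hk v => DFunLike.congr_fun (MonoidHom.mem_ker.1 hk) v
    by_cases hKb : K = ⊥
    swap
    · let f : H ⧸ K →* AddMonoid.End V :=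
        QuotientGroup.lift K (DistribMulAction.toAddMonoidEnd H V) le_rfl
      letI : DistribMulAction (H ⧸ K) V := DistribMulAction.compHom V f
      have hmk : ∀ (h : H) (v : V), (h : H ⧸ K) • v = h • v := fun h v => rfl
      have hlt : Nat.card (H ⧸ K) < Nat.card H := by
        have h1 : 1 < Nat.card K := (one_lt_card_iff_ne_bot K).2 hKb
        have h2 := K.card_mul_index
        rw [index_eq_card] at h2
        have h3 : 0 < Nat.card (H ⧸ K) := Nat.card_pos
        nlinarith
      have hperf' : _root_.commutator (H ⧸ K) = ⊤ := by
        have h1 := congrArg (Subgroup.map (QuotientGroup.mk' K)) hperf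
        rw [map_top_of_surjective _ (QuotientGroup.mk'_surjective K), commutator_def, map_commutator,
          map_top_of_surjective _ (QuotientGroup.mk'_surjective K), ← commutator_def] at h1
        exact h1
      have horb' : OrbitsPPow (H ⧸ K) V p := by
        intro v
        obtain ⟨k, hk⟩ := horb v
        refine ⟨k, ?_⟩
        rw [← hk, ← index_comap_of_surjective (stabilizer (H ⧸ K) v) (QuotientGroup.mk'_surjective K)]
        rfl
      intro h v
      rw [← hmk]
      exact ih _ (by omega) (H := H ⧸ K) (V := V) rfl hperf'
        (fun hd => hqH (hd.trans (card_quotient_dvd_card K))) hqV horb' _ v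
    haveI : FaithfulSMul H V := ⟨fun {g g'} e => by
      have h1 : g'⁻¹ * g ∈ K := MonoidHom.mem_ker.2 (AddMonoidHom.ext fun v => by
        show (g'⁻¹ * g) • v = v
        rw [mul_smul, e v, inv_smul_smul])
      rw [hKb, Subgroup.mem_bot, inv_mul_eq_one] at h1
      exact h1.symm⟩
    by_contra hnt
    push Not at hnt
    obtain ⟨h₀, v₀, hne⟩ := hnt
    haveI : Nontrivial H := ⟨h₀, 1, fun e => hne (by rw [e, one_smul])⟩
    have hv₀ : v₀ ≠ 0 := fun e => hne (by rw [e, smul_zero])
    haveI : Nontrivial V := ⟨v₀, 0, hv₀⟩
    obtain ⟨P⟩ : Nonempty (Sylow p H) := inferInstance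
    have hso := sameOrbits_of_sylow P horb
    have hirr : Irr V (P : Subgroup H) := by
      intro W hW
      by_contra! hcon
      have hWi : ∀ (h : H), ∀ w ∈ W, h • w ∈ W := fun h w hw => hso.smul_mem hW h hw
      have hcardV := W.card_eq_card_quotient_mul_card_addSubgroup
      have hW1 : 1 < Nat.card W := (AddSubgroup.one_lt_card_iff_ne_bot W).2 hcon.1
      have hQ1 : 1 < Nat.card (V ⧸ W) := by
        rcases Nat.lt_or_ge 1 (Nat.card (V ⧸ W)) with h | h
        · exact h
        · refine absurd (AddSubgroup.eq_top_of_le_card W ?_) hcon.2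
          rw [hcardV]; nlinarith
      letI : DistribMulAction H W :=
        { smul := fun h w => ⟨h • (w : V), hWi h w w.2⟩
          one_smul := fun w => Subtype.ext (one_smul H (w : V))
          mul_smul := fun a b w => Subtype.ext (mul_smul a b (w : V))
          smul_zero := fun a => Subtype.ext (smul_zero a)
          smul_add := fun a x y => Subtype.ext (smul_add a (x : V) (y : V)) }
      letI : DistribMulAction H (V ⧸ W) :=
        { smul := fun h => QuotientAddGroup.map W W (DistribSMul.toAddMonoidHom V h) (fun w hw => hWi h w hw)
          one_smul := fun x => QuotientAddGroup.induction_on x fun v =>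
            congrArg (fun u : V => (u : V ⧸ W)) (one_smul H v)
          mul_smul := fun a b x => QuotientAddGroup.induction_on x fun v =>
            congrArg (fun u : V => (u : V ⧸ W)) (mul_smul a b v)
          smul_zero := fun a => map_zero (QuotientAddGroup.map W W (DistribSMul.toAddMonoidHom V a) _)
          smul_add := fun a => map_add (QuotientAddGroup.map W W (DistribSMul.toAddMonoidHom V a) _) }
      have hsW : ∀ (h : H) (w : W), ((h • w : W) : V) = h • (w : V) := fun _ _ => rfl
      have hsQ : ∀ (h : H) (v : V), h • (v : V ⧸ W) = ((h • v : V) : V ⧸ W) := fun _ _ => rfl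
      have hW0 : ∀ (h : H) (w : W), h • w = w := by
        refine ih _ ?_ (H := H) (V := W) rfl hperf hqH (fun w => ?_) (fun w => ?_)
        · nlinarith
        · obtain ⟨m, hm⟩ := hqV (w : V)
          exact ⟨m, Subtype.ext (by rw [AddSubgroup.coe_nsmul, hm, AddSubgroup.coe_zero])⟩
        · obtain ⟨k, hk⟩ := horb (w : V)
          refine ⟨k, ?_⟩
          rw [← hk]
          congr 1
          ext h
          simp only [mem_stabilizer_iff, Subtype.ext_iff, hsW]
      have hQ0 : ∀ (h : H) (x : V ⧸ W), h • x = x := by
        refine ih _ ?_ (H := H) (V := V ⧸ W) rfl hperf hqH (fun x => ?_) (fun x => ?_)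
        · nlinarith
        · induction x using QuotientAddGroup.induction_on with
          | _ v =>
            obtain ⟨m, hm⟩ := hqV v
            exact ⟨m, by rw [← QuotientAddGroup.mk_nsmul, hm, QuotientAddGroup.mk_zero]⟩
        · induction x using QuotientAddGroup.induction_on with
          | _ v =>
            obtain ⟨k, hk⟩ := horb v
            have hle : stabilizer H v ≤ stabilizer H (v : V ⧸ W) := fun h hh => by
              rw [mem_stabilizer_iff, hsQ, mem_stabilizer_iff.1 hh]
            obtain ⟨j, -, hj⟩ := (Nat.dvd_prime_pow hp.out).1 (hk ▸ index_dvd_of_le hle)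
            exact ⟨j, hj⟩
      have hfix : ∀ (h : H) (w : V), w ∈ W → h • w = w := fun h w hw =>
        congrArg Subtype.val (hW0 h ⟨w, hw⟩)
      let d : H →* Multiplicative V :=
        { toFun := fun h => Multiplicative.ofAdd (h • v₀ - v₀)
          map_one' := by rw [one_smul, sub_self, ofAdd_zero]
          map_mul' := fun a b => by
            rw [← ofAdd_add]
            congr 1
            have hm : b • v₀ - v₀ ∈ W :=
              (QuotientAddGroup.eq_iff_sub_mem).1 ((hsQ b v₀).symm.trans (hQ0 b v₀))
            have := hfix a _ hm
            rw [smul_sub] at this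
            rw [mul_smul]
            linear_combination (norm := abel) this }
      have := Multiplicative.ofAdd.injective ((hom_eq_one_of_perfect hperf d h₀).trans ofAdd_zero.symm)
      exact hne (sub_eq_zero.1 this)
    have hqV1 : ∀ v : V, q • v = 0 := by
      rcases hirr (nsmulAddMonoidHom q : V →+ V).range (fun g _ w hw => by
        obtain ⟨u, rfl⟩ := hw
        exact ⟨g • u, (smul_comm g q u).symm⟩) with h | h
      · exact fun v => AddSubgroup.mem_bot.1 (h ▸ ⟨v, rfl⟩ : q • v ∈ _)
      · exfalso
        have hs : Function.Surjective (nsmulAddMonoidHom q : V →+ V) :=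
          AddMonoidHom.range_eq_top.1 h
        have hi : Function.Injective (nsmulAddMonoidHom q : V →+ V) := Finite.injective_iff_surjective.2 hs
        obtain ⟨m, hm⟩ := hqV v₀
        have hz : ∀ m : ℕ, ∀ v : V, q ^ m • v = 0 → v = 0 := by
          intro m
          induction m with
          | zero => intro v hv; simpa using hv
          | succ m ihm =>
            intro v hv
            refine ihm v (hi ?_)
            rw [map_zero]
            show q • q ^ m • v = 0
            rwa [← mul_nsmul', ← pow_succ']
        exact hv₀ (hz m v₀ hm)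
    have hmin : ∀ N : Subgroup H, N.Normal → N ≠ ⊤ → ⁅N, N⁆ = N → N = ⊥ := by
      intro N hN hNt hNN
      haveI := hN
      have hNc : _root_.commutator N = ⊤ := by
        apply map_injective N.subtype_injective
        rw [map_subtype_commutator, ← MonoidHom.range_eq_map, N.range_subtype, hNN]
      have hlt : Nat.card N < Nat.card H := (card_le_card_group N).lt_of_ne fun e => hNt (eq_top_of_card_eq N e)
      have htriv := ih _ (by omega) (H := N) (V := V) rfl hNc
        (fun hd => hqH (hd.trans (card_subgroup_dvd_card N))) hqV (orbitsPPow_subgroup horb N)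
      exact (eq_bot_iff_forall _).2 fun x hx => eq_of_smul_eq_smul fun v : V => by
        rw [one_smul]; exact htriv ⟨x, hx⟩ v
    rcases eq_or_ne p 2 with rfl | hp2
    · exact false_of_two hperf hq hqH hqV1 horb P hirr
    · exact false_of_odd hp2 hperf hq hqH hqV1 horb hmin P hirr

/-- A group acting faithfully and coprimely on an abelian `q`-group with all orbits of `p`-power length is solvable. -/
theorem isSolvable_of_orbits {p q : ℕ} [hp : Fact p.Prime] (hq : q.Prime) :
    ∀ (n : ℕ) {H : Type u} [Group H] [Finite H] {V : Type v} [AddCommGroup V] [Finite V] [DistribMulAction H V]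
      [FaithfulSMul H V], Nat.card H = n → ¬ q ∣ Nat.card H → (∀ v : V, ∃ m, q ^ m • v = 0) →
      OrbitsPPow H V p → Group.IsSolvable H := by
  intro n
  induction n using Nat.strong_induction_on with
  | _ n ih =>
    intro H _ _ V _ _ _ _ hn hqH hqV horb
    by_cases hperf : _root_.commutator H = ⊤
    · haveI : Subsingleton H := ⟨fun a b => eq_of_smul_eq_smul fun v : V => by
        rw [trivial_of_perfect hq _ rfl hperf hqH hqV horb a v, trivial_of_perfect hq _ rfl hperf hqH hqV horb b v]⟩
      exact Group.isSolvable_of_comm fun a b => Subsingleton.elim _ _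
    · have hlt : Nat.card (_root_.commutator H) < Nat.card H :=
        (card_le_card_group _).lt_of_ne fun e => hperf (eq_top_of_card_eq _ e)
      haveI : FaithfulSMul (_root_.commutator H) V := ⟨fun {a b} e => Subtype.ext (eq_of_smul_eq_smul fun v : V => e v)⟩
      have h1 : Group.IsSolvable (_root_.commutator H) := ih _ (hn ▸ hlt) rfl
        (fun hd => hqH (hd.trans (card_subgroup_dvd_card _))) hqV (orbitsPPow_subgroup horb _)
      haveI := h1
      have h2 : Group.IsSolvable (Abelianization H) := Group.isSolvable_of_comm fun a b => mul_comm a b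
      haveI := h2
      exact Group.isSolvable_of_ker_le_range (_root_.commutator H).subtype
        (Abelianization.of (G := H)) (by rw [Abelianization.ker_of, range_subtype])

end CfsgLib.ClassSizes.PrimePowerOrbits
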