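import Mathlib
import Cfsg.Prelude.Def_Solvable
import Cfsg.Agent.Lib.Core.Cores
import Cfsg.Agent.Lib.Core.Coprime
import Cfsg.Agent.Lib.Core.Hall
import Cfsg.Agent.Lib.PGroups.Basic
import Cfsg.Agent.Lib.Components.FStar
import Cfsg.Agent.Lib.Blocks.PrimePowerClass
import Cfsg.Agent.Lib.ClassSizes.PPowerClass
import Cfsg.Agent.Lib.ClassSizes.PrimePowerOrbits

/-!
`q`-Baer groups: every element of `q`-power order has a class of prime-power size.
-/

set_option autoImplicit false
set_option linter.style.haveILetI false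

namespace CfsgLib.ClassSizes.QBaer

open Subgroup
open scoped Pointwise

universe u

variable {G : Type u} [Group G] [Finite G]

/-- the index of the centralizer -/
noncomputable abbrev idx (x : G) : ℕ := (centralizer ({x} : Set G)).index

omit [Finite G] in
theorem ncard_class (x : G) : (Set.range fun g : G => g * x * g⁻¹).ncard = idx x := by
  rw [idx, centralizer_eq_comap_stabilizer]
  refine Eq.trans ?_ (index_comap_of_surjective (MulAction.stabilizer (ConjAct G) x)
    (f := (ConjAct.toConjAct : G ≃* ConjAct G).toMonoidHom) ConjAct.toConjAct.surjective).symm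
  rw [MulAction.index_stabilizer]
  congr 1

omit [Finite G] in
theorem idx_conj (g x : G) : idx (g * x * g⁻¹) = idx x := by
  rw [← ncard_class, ← ncard_class]
  congr 1
  ext y
  constructor
  · rintro ⟨h, rfl⟩; exact ⟨h * g, by group⟩
  · rintro ⟨h, rfl⟩; exact ⟨h * g⁻¹, by group⟩

theorem exists_sylow_le {r : ℕ} [hr : Fact r.Prime] {C : Subgroup G} (h : ¬ r ∣ C.index) :
    ∃ P : Sylow r G, (P : Subgroup G) ≤ C := by
  obtain ⟨S⟩ : Nonempty (Sylow r C) := inferInstance
  have hi : ¬ r ∣ ((S : Subgroup C).map C.subtype).index := by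
    rw [index_map_subtype]
    exact fun hd => (hr.out.dvd_mul.1 hd).elim S.not_dvd_index h
  exact ⟨(S.isPGroup'.map C.subtype).toSylow hi, by
    rw [IsPGroup.toSylow_coe]; exact map_subtype_le _⟩

omit [Finite G] in
theorem mem_of_centralized {q : ℕ} [Fact q.Prime] (Q : Sylow q G) {x : G} (hx : ∃ k, orderOf x = q ^ k)
    (hc : (Q : Subgroup G) ≤ centralizer ({x} : Set G)) : x ∈ (Q : Subgroup G) := by
  obtain ⟨k, hk⟩ := hx
  have h1 : IsPGroup q (zpowers x) := IsPGroup.of_card (n := k) (by rw [Nat.card_zpowers, hk])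
  have hle : zpowers x ≤ normalizer ((Q : Subgroup G) : Set G) := by
    refine zpowers_le.2 (centralizer_le_normalizer _ ?_)
    rw [mem_centralizer_iff]
    intro u hu
    exact (mem_centralizer_singleton_iff.1 (hc hu))
  have h2 := Q.is_maximal' (h1.to_sup_of_normal_right' Q.isPGroup' hle) le_sup_right
  exact h2 ▸ mem_sup_left (mem_zpowers x)

omit [Finite G] in
theorem qElement_mul {q : ℕ} [hq : Fact q.Prime] {x y : G} (hx : ∃ k, orderOf x = q ^ k)
    (hy : ∃ k, orderOf y = q ^ k) (hc : Commute x y) : ∃ k, orderOf (x * y) = q ^ k := by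
  obtain ⟨i, hi⟩ := hx
  obtain ⟨j, hj⟩ := hy
  have h1 : (x * y) ^ q ^ (i + j) = 1 := by
    rw [hc.mul_pow, pow_add, pow_mul, ← hi, pow_orderOf_eq_one, one_pow, one_mul,
      mul_comm (orderOf x), pow_mul, ← hj, pow_orderOf_eq_one, one_pow]
  obtain ⟨k, -, hk⟩ := (Nat.dvd_prime_pow hq.out).1 (orderOf_dvd_of_pow_eq_one h1)
  exact ⟨k, hk⟩

omit [Finite G] in
theorem qElement_conj {q : ℕ} {x : G} (hx : ∃ k, orderOf x = q ^ k) (g : G) :
    ∃ k, orderOf (g * x * g⁻¹) = q ^ k := by
  obtain ⟨k, hk⟩ := hx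
  exact ⟨k, (orderOf_injective (MulAut.conj g).toMonoidHom (MulAut.conj g).injective x).trans hk⟩

theorem idx_mul_dvd {x y : G} {p r a b : ℕ} (hc : Commute x y) (hp : p.Prime) (hr : r.Prime) (hpr : p ≠ r)
    (hx : idx x = p ^ a) (hy : idx y = r ^ b) : idx (x * y) ∣ p ^ a * r ^ b := by
  have h : centralizer ({x} : Set G) ⊓ centralizer {y} ≤ centralizer {x * y} := fun g hg =>
    mem_centralizer_singleton_iff.2 (Commute.mul_right (mem_centralizer_singleton_iff.1 hg.1)
      (mem_centralizer_singleton_iff.1 hg.2)).eq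
  have h1 := index_dvd_of_le h
  rwa [CfsgLib.Core.index_inf_of_coprime (by
    rw [show (centralizer ({x} : Set G)).index = p ^ a from hx, show (centralizer ({y} : Set G)).index = r ^ b from hy]
    exact ((Nat.coprime_primes hp hr).2 hpr).pow a b),
    show (centralizer ({x} : Set G)).index = p ^ a from hx, show (centralizer ({y} : Set G)).index = r ^ b from hy] at h1

/-- Commuting `q`-elements with classes of coprime prime-power sizes `p ^ a` and `r ^ b > 1`: the product does
not have a class of `p`-power size. -/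
theorem false_of_product {q p r a b c : ℕ} [hp : Fact p.Prime] [hr : Fact r.Prime] (hpr : p ≠ r) (hb : b ≠ 0)
    (hpq : p ≠ q) (hq : q.Prime) {x y : G} (hcomm : Commute x y) (hyq : ∃ k, orderOf y = q ^ k)
    (hx : idx x = p ^ a) (hy : idx y = r ^ b) (hxy : idx (x * y) = p ^ c) : False := by
  classical
  set A := centralizer ({x} : Set G) with hA
  set B := centralizer ({y} : Set G) with hB
  have hx' : A.index = p ^ a := hx
  have hy' : B.index = r ^ b := hy
  have hcop : A.index.Coprime B.index := by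
    rw [hx', hy']; exact ((Nat.coprime_primes hp.out hr.out).2 hpr).pow a b
  have hI : (A ⊓ B).index = p ^ a * r ^ b := by rw [CfsgLib.Core.index_inf_of_coprime hcop, hx', hy']
  set T := centralizer ({x * y} : Set G) with hT
  have hT' : T.index = p ^ c := hxy
  have hTA : T ⊓ A ≤ A ⊓ B := fun g hg => ⟨hg.2, mem_centralizer_singleton_iff.2 (by
    have h1 : Commute g (x * y) := mem_centralizer_singleton_iff.1 hg.1
    have h2 : Commute g x := mem_centralizer_singleton_iff.1 hg.2
    have h3 := h2.inv_right.mul_right h1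
    rwa [inv_mul_cancel_left] at h3)⟩
  have hTB : T ⊓ B ≤ A ⊓ B := fun g hg => ⟨mem_centralizer_singleton_iff.2 (by
    have h1 : Commute g (x * y) := mem_centralizer_singleton_iff.1 hg.1
    have h2 : Commute g y := mem_centralizer_singleton_iff.1 hg.2
    have h3 := h1.mul_right h2.inv_right
    rwa [mul_inv_cancel_right] at h3), hg.2⟩
  have hTd : p ^ c ∣ p ^ a * r ^ b := hxy ▸ idx_mul_dvd hcomm hp.out hr.out hpr hx hy
  have hca : c ≤ a := by
    have := (Nat.Coprime.dvd_mul_right (((Nat.coprime_primes hp.out hr.out).2 hpr).pow c b)).1 hTd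
    exact (Nat.pow_dvd_pow_iff_le_right hp.out.one_lt).1 this
  have e2 : p ^ a * r ^ b ≤ p ^ c * r ^ b := by
    rw [← hI, ← hT', ← hy']
    exact (Nat.le_of_dvd (Nat.pos_of_ne_zero index_ne_zero_of_finite) (index_dvd_of_le hTB)).trans index_inf_le
  have hac : c = a := le_antisymm hca
    ((Nat.pow_le_pow_iff_right hp.out.one_lt).1 (Nat.le_of_mul_le_mul_right e2 (pow_pos hr.out.pos b)))
  subst hac
  -- `class x * y ^ g = class (x y)`
  set X := Set.range fun g : G => g * x * g⁻¹ with hX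
  have hXy : ∀ g : G, (· * (g * y * g⁻¹)) '' X = Set.range fun h : G => h * (x * y) * h⁻¹ := by
    intro g
    refine Set.eq_of_subset_of_ncard_le ?_ ?_ (Set.finite_range _)
    · rintro _ ⟨_, ⟨h, rfl⟩, rfl⟩
      obtain ⟨u, hu, v, hv, huv⟩ := CfsgLib.Core.exists_mul_of_coprime_index hcop (h⁻¹ * g)
      refine ⟨h * u, ?_⟩
      have h1 : Commute u x := mem_centralizer_singleton_iff.1 hu
      have h2 : Commute v y := mem_centralizer_singleton_iff.1 hv
      have hg : g = h * (u * v) := by rw [← huv]; group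
      show h * u * (x * y) * (h * u)⁻¹ = h * x * h⁻¹ * (g * y * g⁻¹)
      rw [hg]
      calc h * u * (x * y) * (h * u)⁻¹ = h * (u * x) * y * u⁻¹ * h⁻¹ := by group
        _ = h * (x * u) * y * u⁻¹ * h⁻¹ := by rw [h1.eq]
        _ = h * x * u * (y * v) * v⁻¹ * u⁻¹ * h⁻¹ := by group
        _ = h * x * u * (v * y) * v⁻¹ * u⁻¹ * h⁻¹ := by rw [h2.eq]
        _ = h * x * h⁻¹ * (h * (u * v) * y * (h * (u * v))⁻¹) := by group
    · rw [Set.ncard_image_of_injective _ (mul_left_injective _), ncard_class, hX, ncard_class, hx, hxy]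
  let R : Subgroup G :=
    { carrier := {d | (· * d) '' X = X}
      one_mem' := by simp
      mul_mem' := fun {d e} hd he => by
        show (· * (d * e)) '' X = X
        rw [show (fun t : G => t * (d * e)) = (fun t => t * e) ∘ (fun t => t * d) from
          funext fun t => (mul_assoc t d e).symm, Set.image_comp, hd, he]
      inv_mem' := fun {d} hd => by
        show (· * d⁻¹) '' X = X
        conv_lhs => rw [← (hd : (· * d) '' X = X)]
        rw [← Set.image_comp]
        simp [Function.comp_def] }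
  let S := Set.range fun g : G => g * y * g⁻¹ * y⁻¹
  let D := closure S
  have hDR : D ≤ R := (closure_le R).2 (by
    rintro _ ⟨g, rfl⟩
    show (· * (g * y * g⁻¹ * y⁻¹)) '' X = X
    rw [show (fun t : G => t * (g * y * g⁻¹ * y⁻¹)) = (fun t => t * y⁻¹) ∘ (fun t => t * (g * y * g⁻¹)) from
      funext fun t => (mul_assoc t _ _).symm, Set.image_comp, hXy, ← hXy 1, ← Set.image_comp]
    simp [Function.comp_def])
  have hRp : Nat.card R ∣ p ^ c := by
    have hpre : QuotientGroup.mk ⁻¹' ((QuotientGroup.mk : G → G ⧸ R) '' X) = X := by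
      refine Set.Subset.antisymm ?_ (Set.subset_preimage_image _ _)
      rintro t ⟨t', ht', e⟩
      have hm : t'⁻¹ * t ∈ R := QuotientGroup.eq.1 e
      rw [← (hm : (· * (t'⁻¹ * t)) '' X = X)]
      exact ⟨t', ht', by group⟩
    have h1 := Nat.card_congr (QuotientGroup.preimageMkEquivSubgroupProdSet R ((QuotientGroup.mk : G → G ⧸ R) '' X))
    rw [hpre, Nat.card_prod, Nat.card_coe_set_eq, hX, ncard_class, hx] at h1
    exact Dvd.intro _ h1.symm
  have hDp : IsPGroup p D := by
    obtain ⟨k, -, hk⟩ := (Nat.dvd_prime_pow hp.out).1 ((card_dvd_of_le hDR).trans hRp)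
    exact IsPGroup.of_card hk
  haveI hDn : D.Normal := ⟨fun d hd h => by
    have hle : D ≤ D.comap (MulAut.conj h).toMonoidHom := (closure_le _).2 (by
      rintro _ ⟨g, rfl⟩
      show h * (g * y * g⁻¹ * y⁻¹) * h⁻¹ ∈ D
      rw [show h * (g * y * g⁻¹ * y⁻¹) * h⁻¹ = ((h * g) * y * (h * g)⁻¹ * y⁻¹) * (h * y * h⁻¹ * y⁻¹)⁻¹ by group]
      exact mul_mem (subset_closure ⟨h * g, rfl⟩) (inv_mem (subset_closure ⟨h, rfl⟩)))
    exact hle hd⟩
  obtain ⟨P, hP⟩ := exists_sylow_le (r := p) (C := B) (by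
    rw [hy']
    exact fun hd => hpr ((Nat.prime_dvd_prime_iff_eq hp.out hr.out).1 (hp.out.dvd_of_dvd_pow hd)))
  have hall : B = ⊤ := by
    refine eq_top_iff.2 fun g _ => ?_
    set d := g * y * g⁻¹ * y⁻¹ with hd
    have hdD : d ∈ D := subset_closure ⟨g, rfl⟩
    have hcd : Commute d y :=
      mem_centralizer_singleton_iff.1 (hP (CfsgLib.Core.pCore_le_sylow P (CfsgLib.Core.le_pCore hDp hdD)))
    obtain ⟨k, hk⟩ := hyq
    obtain ⟨j, hj⟩ := IsPGroup.iff_orderOf.1 hDp ⟨d, hdD⟩
    rw [Subgroup.orderOf_mk] at hj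
    have h1 : d ^ q ^ k = 1 := by
      have h2 : (d * y) ^ q ^ k = 1 := by
        rw [hd, inv_mul_cancel_right, conj_pow, ← hk, pow_orderOf_eq_one, mul_one, mul_inv_cancel]
      rwa [hcd.mul_pow, ← hk, pow_orderOf_eq_one, mul_one, hk] at h2
    have hd1 : d = 1 := orderOf_eq_one_iff.1 (Nat.eq_one_of_dvd_coprimes
      (((Nat.coprime_primes hp.out hq).2 hpq).pow j k) (dvd_of_eq hj) (orderOf_dvd_of_pow_eq_one h1))
    rw [hd, mul_inv_eq_one, mul_inv_eq_iff_eq_mul] at hd1
    exact mem_centralizer_singleton_iff.2 hd1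
  rw [hall, index_top] at hy'
  exact (Nat.one_lt_pow hb hr.out.one_lt).ne hy'

theorem mem_pCore_of_idx {q a : ℕ} [Fact q.Prime] {x : G} (hx : ∃ k, orderOf x = q ^ k) (hi : idx x = q ^ a) :
    x ∈ Cfsg.pCore q G := by
  rw [CfsgLib.Core.pCore_eq_iInf_sylow, mem_iInf]
  intro P
  obtain ⟨k, hk⟩ := hx
  obtain ⟨P₀, hP₀⟩ := (IsPGroup.of_card (n := k) (by rw [Nat.card_zpowers, hk]) :
    IsPGroup q (zpowers x)).exists_le_sylow
  obtain ⟨g, hg⟩ := MulAction.exists_smul_eq G P₀ P
  rw [← hg, Sylow.coe_subgroup_smul, mem_pointwise_smul_iff_inv_smul_mem]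
  simpa [MulAut.smul_def] using
    CfsgLib.ClassSizes.PPower.conj_mem_of_index (p := q) hi P₀ (hP₀ (mem_zpowers x)) g⁻¹

/-- In `W = G / O_p(G)` a `q`-element with class of `p`-power size lands in `O_q(W)`. -/
theorem mem_pCore_image {p q a : ℕ} [hp : Fact p.Prime] [Fact q.Prime] {W : Type u} [Group W] [Finite W]
    (hW : Cfsg.pCore p W = ⊥) {x : W} (hxq : ∃ k, orderOf x = q ^ k)
    (hi : (centralizer ({x} : Set W)).index = p ^ a) : x ∈ Cfsg.pCore q W := by
  set M := normalClosure ({x} : Set W) with hM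
  haveI hMn : M.Normal := normalClosure_normal
  haveI hMs : Group.IsSolvable M := CfsgLib.PrimePowerClass.isSolvable_normalClosure _ rfl hp.out hi
  have hxM : x ∈ M := subset_normalClosure rfl
  let xM : M := ⟨x, hxM⟩
  set F := Cfsg.fittingSubgroup M with hF
  have hcent : xM ∈ centralizer (F : Set M) := by
    rw [hF, CfsgLib.Core.fittingSubgroup_eq_iSup_pCore]
    have hle : (⨆ r : Nat.Primes, Cfsg.pCore (r : ℕ) M) ≤ centralizer ({xM} : Set M) := by
      refine iSup_le fun r => ?_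
      set R := (Cfsg.pCore (r : ℕ) M).map M.subtype with hR
      haveI : Fact (r : ℕ).Prime := ⟨r.2⟩
      have hRp : IsPGroup r R := (CfsgLib.Core.isPGroup_pCore _ M).map _
      haveI : R.Normal := inferInstance
      have hone : (centralizer ({x} : Set W)).relIndex R = 1 := by
        rcases eq_or_ne (r : ℕ) p with hrp | hrp
        · have : R = ⊥ := by
            rw [eq_bot_iff, ← hW]
            exact CfsgLib.Core.le_pCore (hrp ▸ hRp)
          rw [this, relIndex_bot_right]
        · obtain ⟨m, hm⟩ := hRp.index ((centralizer ({x} : Set W)).subgroupOf R)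
          refine Nat.dvd_one.1 ?_
          rw [← ((Nat.coprime_primes r.2 hp.out).2 hrp).pow m a]
          exact Nat.dvd_gcd (dvd_of_eq hm) (hi ▸ CfsgLib.PrimePowerClass.relIndex_dvd_index' R _)
      intro f hf
      rw [mem_centralizer_singleton_iff]
      exact Subtype.ext (mem_centralizer_singleton_iff.1 (relIndex_eq_one.1 hone ⟨f, hf, rfl⟩))
    rw [mem_centralizer_iff]
    intro f hf
    exact mem_centralizer_singleton_iff.1 (hle hf)
  have hxF : xM ∈ F := CfsgLib.Components.centralizer_fitting_le_of_isSolvable hcent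
  haveI : Group.IsNilpotent F := CfsgLib.Core.isNilpotent_fittingSubgroup M
  haveI : F.Characteristic := CfsgLib.Core.characteristic_fittingSubgroup M
  obtain ⟨k, hk⟩ := hxq
  have hxk : IsPGroup q (zpowers (⟨xM, hxF⟩ : F)) := IsPGroup.of_card (n := k) (by
    rw [Nat.card_zpowers, Subgroup.orderOf_mk, Subgroup.orderOf_mk, hk])
  obtain ⟨S, hS⟩ := hxk.exists_le_sylow
  haveI hSn : (S : Subgroup F).Normal := inferInstance
  haveI : (S : Subgroup F).Characteristic := Sylow.characteristic_of_normal S hSn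
  haveI h1 : ((S : Subgroup F).map F.subtype).Characteristic := Subgroup.characteristic_of_characteristic_of_characteristic
  haveI : (((S : Subgroup F).map F.subtype).map M.subtype).Normal := inferInstance
  have hmem : x ∈ ((S : Subgroup F).map F.subtype).map M.subtype :=
    ⟨xM, ⟨⟨xM, hxF⟩, hS (mem_zpowers _), rfl⟩, rfl⟩
  exact CfsgLib.Core.le_pCore ((S.isPGroup'.map _).map _) hmem

/-- If all `q`-elements lie in `O_q(G)`, the Sylow `q`-subgroup is normal. -/
theorem sylow_eq_pCore {q : ℕ} [Fact q.Prime] (Q : Sylow q G)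
    (h : ∀ x : G, (∃ k, orderOf x = q ^ k) → x ∈ Cfsg.pCore q G) : (Q : Subgroup G) = Cfsg.pCore q G := by
  refine le_antisymm (fun x hx => h x ?_) (CfsgLib.Core.pCore_le_sylow Q)
  obtain ⟨k, hk⟩ := IsPGroup.iff_orderOf.1 Q.isPGroup' ⟨x, hx⟩
  exact ⟨k, by rwa [Subgroup.orderOf_mk] at hk⟩

/-- A single prime serves for all `q`-elements. -/
theorem exists_prime {q : ℕ} [hq : Fact q.Prime]
    (hB : ∀ x : G, (∃ k : ℕ, orderOf x = q ^ k) → ∃ (r : ℕ) (a : ℕ), r.Prime ∧ idx x = r ^ a) :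
    (∀ x : G, (∃ k : ℕ, orderOf x = q ^ k) → ∃ a, idx x = q ^ a) ∨
    ∃ p : ℕ, p.Prime ∧ p ≠ q ∧ ∀ x : G, (∃ k : ℕ, orderOf x = q ^ k) → ∃ a, idx x = p ^ a := by
  classical
  by_cases hall : ∀ x : G, (∃ k : ℕ, orderOf x = q ^ k) → ∃ a, idx x = q ^ a
  · exact Or.inl hall
  push Not at hall
  obtain ⟨y, hy, hyn⟩ := hall
  obtain ⟨p, b, hp, hyi⟩ := hB y hy
  have hb : b ≠ 0 := fun e => hyn 0 (by rw [hyi, e, pow_zero, pow_zero])
  have hpq : p ≠ q := fun e => hyn b (e ▸ hyi)
  refine Or.inr ⟨p, hp, hpq, fun x hx => ?_⟩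
  obtain ⟨r, a, hr, hxi⟩ := hB x hx
  rcases Nat.eq_zero_or_pos a with rfl | ha
  · exact ⟨0, by rw [hxi, pow_zero, pow_zero]⟩
  by_contra hne
  push Not at hne
  have hrp : r ≠ p := fun e => hne a (e ▸ hxi)
  haveI := Fact.mk hp
  haveI := Fact.mk hr
  have hndvd : ∀ {t : ℕ} (n : ℕ), t.Prime → t ≠ q → ¬ q ∣ t ^ n := fun n ht htq hd =>
    htq ((Nat.prime_dvd_prime_iff_eq hq.out ht).1 (hq.out.dvd_of_dvd_pow hd)).symm
  by_cases hrq : r = q
  · -- mixed case
    subst hrq
    have hxO := mem_pCore_of_idx hx hxi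
    have hTZ : ∀ z : G, (∃ k : ℕ, orderOf z = r ^ k) → z ∈ Cfsg.pCore r G := by
      intro z hz
      obtain ⟨s, c, hs, hzi⟩ := hB z hz
      by_cases hsq : s = r
      · subst hsq; exact mem_pCore_of_idx hz hzi
      rcases Nat.eq_zero_or_pos c with rfl | hc
      · exact mem_pCore_of_idx (a := 0) hz (by rw [hzi, pow_zero, pow_zero])
      obtain ⟨Q1, hQ1⟩ := exists_sylow_le (r := r) (C := centralizer ({z} : Set G))
        (by rw [show (centralizer ({z} : Set G)).index = s ^ c from hzi]; exact hndvd c hs hsq)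
      have hxz : Commute x z :=
        mem_centralizer_singleton_iff.1 (hQ1 (CfsgLib.Core.pCore_le_sylow Q1 hxO))
      haveI := Fact.mk hs
      obtain ⟨t, d, ht, hti⟩ := hB (x * z) (qElement_mul hx hz hxz)
      rcases Nat.eq_zero_or_pos d with rfl | hd
      · exact (false_of_product (q := r) (p := s) (r := r) (c := 0) hsq ha.ne' hsq hr hxz.symm hx hzi hxi
          (by rw [← hxz.eq, hti, pow_zero, pow_zero])).elim
      have htd : t ∣ r ^ a * s ^ c :=
        (dvd_pow_self t hd.ne').trans (hti ▸ idx_mul_dvd hxz hr hs (Ne.symm hsq) hxi hzi)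
      rcases ht.dvd_mul.1 htd with h | h
      · obtain rfl := (Nat.prime_dvd_prime_iff_eq ht hr).1 (ht.dvd_of_dvd_pow h)
        have h1 := mem_pCore_of_idx (qElement_mul hx hz hxz) hti
        simpa using mul_mem (inv_mem hxO) h1
      · obtain rfl := (Nat.prime_dvd_prime_iff_eq ht hs).1 (ht.dvd_of_dvd_pow h)
        exact (false_of_product (q := r) (p := t) (r := r) hsq ha.ne' hsq hr hxz.symm hx hzi hxi
          (by rw [← hxz.eq]; exact hti)).elim
    obtain ⟨Q⟩ : Nonempty (Sylow r G) := inferInstance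
    have hQe := sylow_eq_pCore Q hTZ
    haveI hQn : (Q : Subgroup G).Normal := hQe ▸ CfsgLib.Core.normal_pCore r G
    haveI := Sylow.unique_of_normal Q hQn
    have hqmem : ∀ {u : G}, u ∈ (Q : Subgroup G) → ∃ k, orderOf u = r ^ k := fun {u} hu => by
      obtain ⟨k, hk⟩ := IsPGroup.iff_orderOf.1 Q.isPGroup' ⟨u, hu⟩
      exact ⟨k, by rwa [Subgroup.orderOf_mk] at hk⟩
    have hcentQ : ∀ {z : G} {s c : ℕ}, s.Prime → s ≠ r → idx z = s ^ c →
        (Q : Subgroup G) ≤ centralizer ({z} : Set G) := by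
      intro z s c hs hsq hzi
      obtain ⟨Q1, hQ1⟩ := exists_sylow_le (r := r) (C := centralizer ({z} : Set G))
        (by rw [show (centralizer ({z} : Set G)).index = s ^ c from hzi]; exact hndvd c hs hsq)
      rwa [Subsingleton.elim Q Q1]
    set Φ := (frattini ↥(Q : Subgroup G)).map (Q : Subgroup G).subtype with hΦ
    haveI : Φ.Normal := inferInstance
    let S1 : Subgroup G :=
      { carrier := {u | u ∈ (Q : Subgroup G) ∧ ∀ g : G, g * u * g⁻¹ * u⁻¹ ∈ Φ}
        one_mem' := ⟨one_mem _, fun g => by simp⟩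
        mul_mem' := fun {u v} hu hv => ⟨mul_mem hu.1 hv.1, fun g => by
          have h1 := hu.2 g
          have h2 := Subgroup.Normal.conj_mem (H := Φ) inferInstance _ (hv.2 g) u
          rw [show g * (u * v) * g⁻¹ * (u * v)⁻¹ =
            (g * u * g⁻¹ * u⁻¹) * (u * (g * v * g⁻¹ * v⁻¹) * u⁻¹) by group]
          exact mul_mem h1 h2⟩
        inv_mem' := fun {u} hu => ⟨inv_mem hu.1, fun g => by
          have h1 := Subgroup.Normal.conj_mem (H := Φ) inferInstance _ (inv_mem (hu.2 g)) u⁻¹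
          rw [show g * u⁻¹ * g⁻¹ * u⁻¹⁻¹ = u⁻¹ * (g * u * g⁻¹ * u⁻¹)⁻¹ * u⁻¹⁻¹ by group]
          exact h1⟩ }
    have hcov : ∀ u ∈ (Q : Subgroup G), u ∈ S1 ∨ (Q : Subgroup G) ≤ centralizer ({u} : Set G) := by
      intro u hu
      obtain ⟨s, c, hs, hui⟩ := hB u (hqmem hu)
      by_cases hsq : s = r
      swap
      · exact Or.inr (hcentQ hs hsq hui)
      left
      subst hsq
      refine ⟨hu, fun g => ?_⟩
      let C : Subgroup G :=
        { carrier := {g | g * u * g⁻¹ * u⁻¹ ∈ Φ}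
          one_mem' := by simp
          mul_mem' := fun {g h} hg hh => by
            show g * h * u * (g * h)⁻¹ * u⁻¹ ∈ Φ
            rw [show g * h * u * (g * h)⁻¹ * u⁻¹ = (g * (h * u * h⁻¹ * u⁻¹) * g⁻¹) * (g * u * g⁻¹ * u⁻¹) by group]
            exact mul_mem (Subgroup.Normal.conj_mem inferInstance _ hh g) hg
          inv_mem' := fun {g} hg => by
            show g⁻¹ * u * g⁻¹⁻¹ * u⁻¹ ∈ Φ
            rw [show g⁻¹ * u * g⁻¹⁻¹ * u⁻¹ = g⁻¹ * (g * u * g⁻¹ * u⁻¹)⁻¹ * g⁻¹⁻¹ by group]
            exact Subgroup.Normal.conj_mem inferInstance _ (inv_mem hg) g⁻¹ }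
      have h1 : centralizer ({u} : Set G) ≤ C := fun g hg => by
        show g * u * g⁻¹ * u⁻¹ ∈ Φ
        rw [mem_centralizer_singleton_iff.1 hg, mul_inv_cancel_right, mul_inv_cancel]
        exact one_mem Φ
      have h2 : (Q : Subgroup G) ≤ C := fun g hg => by
        show g * u * g⁻¹ * u⁻¹ ∈ Φ
        open scoped commutatorElement in exact ⟨⁅(⟨g, hg⟩ : (Q : Subgroup G)), ⟨u, hu⟩⁆, CfsgLib.PGroups.commutator_le_frattini' Q.isPGroup'
          (Subgroup.commutator_mem_commutator (mem_top _) (mem_top _)), rfl⟩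
      have h3 : C.index = 1 := by
        refine Nat.eq_one_of_dvd_coprimes ?_ (index_dvd_of_le h1) (index_dvd_of_le h2)
        rw [show (centralizer ({u} : Set G)).index = s ^ c from hui]
        exact (hr.coprime_iff_not_dvd.2 Q.not_dvd_index).pow_left c
      exact (index_eq_one.1 h3 ▸ mem_top g : g ∈ C)
    have hcases : (∀ u ∈ (Q : Subgroup G), u ∈ S1) ∨
        ∀ u ∈ (Q : Subgroup G), (Q : Subgroup G) ≤ centralizer ({u} : Set G) := by
      by_contra! h
      obtain ⟨⟨u, hu, hu1⟩, v, hv, hv1⟩ := h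
      have hu2 := (hcov u hu).resolve_left hu1
      have hv2 := (hcov v hv).resolve_right hv1
      rcases hcov _ (mul_mem hu hv) with h | h
      · exact hu1 (by simpa using mul_mem h (inv_mem hv2))
      · refine hv1 fun w hw => mem_centralizer_singleton_iff.2 ?_
        have e1 : Commute w u := mem_centralizer_singleton_iff.1 (hu2 hw)
        have e2 : Commute w (u * v) := mem_centralizer_singleton_iff.1 (h hw)
        have e3 := e1.inv_right.mul_right e2
        rwa [inv_mul_cancel_left] at e3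
    rcases hcases with hS | hZ
    · have hcentr : ∀ g : G, (orderOf g).Coprime r → g ∈ centralizer ((Q : Subgroup G) : Set G) := by
        intro g hg
        have hle : zpowers g ≤ normalizer ((Q : Subgroup G) : Set G) := le_normalizer_of_normal
        refine CfsgLib.Core.centralizes_of_centralizes_frattini_quotient hle ?_ ?_ (mem_zpowers g)
        · obtain ⟨n, hn⟩ := IsPGroup.iff_card.1 (Q.isPGroup'.to_subgroup (frattini ↥(Q : Subgroup G)))
          rw [Nat.card_zpowers, hn]
          exact hg.pow_right n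
        · exact fun e _ u hu => (hS u hu).2 e
      obtain ⟨P, hP⟩ : ∃ P : Sylow p G, (P : Subgroup G) ≤ centralizer ({y} : Set G) := by
        obtain ⟨P⟩ : Nonempty (Sylow p G) := inferInstance
        refine ⟨P, fun g hg => mem_centralizer_singleton_iff.2 ?_⟩
        obtain ⟨k, hk⟩ := IsPGroup.iff_orderOf.1 P.isPGroup' ⟨g, hg⟩
        rw [Subgroup.orderOf_mk] at hk
        exact (mem_centralizer_iff.1 (hcentr g (hk ▸ ((Nat.coprime_primes hp hr).2 hpq).pow_left k)) y
          (hQe ▸ hTZ y hy)).symm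
      have := index_dvd_of_le hP
      rw [show (centralizer ({y} : Set G)).index = p ^ b from hyi] at this
      exact P.not_dvd_index ((dvd_pow_self p hb).trans this)
    · have := index_dvd_of_le (hZ x (hQe ▸ hxO))
      rw [show (centralizer ({x} : Set G)).index = r ^ a from hxi] at this
      exact Q.not_dvd_index ((dvd_pow_self r ha.ne').trans this)
  · obtain ⟨Q1, hQ1⟩ := exists_sylow_le (r := q) (C := centralizer ({x} : Set G))
      (by rw [show (centralizer ({x} : Set G)).index = r ^ a from hxi]; exact hndvd a hr hrq)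
    obtain ⟨Q2, hQ2⟩ := exists_sylow_le (r := q) (C := centralizer ({y} : Set G))
      (by rw [show (centralizer ({y} : Set G)).index = p ^ b from hyi]; exact hndvd b hp hpq)
    obtain ⟨g, hg⟩ := MulAction.exists_smul_eq G Q2 Q1
    set y' := g * y * g⁻¹ with hy'
    have hy'q := qElement_conj hy g
    have hy'i : idx y' = p ^ b := (idx_conj g y).trans hyi
    have hQ1y : (Q1 : Subgroup G) ≤ centralizer ({y'} : Set G) := by
      intro u hu
      rw [← hg, Sylow.coe_subgroup_smul, mem_pointwise_smul_iff_inv_smul_mem] at hu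
      simp only [MulAut.smul_def, ← map_inv, MulAut.conj_apply, inv_inv] at hu
      have := mem_centralizer_singleton_iff.1 (hQ2 hu)
      rw [mem_centralizer_singleton_iff, hy']
      calc u * (g * y * g⁻¹) = g * ((g⁻¹ * u * g) * y) * g⁻¹ := by group
        _ = g * (y * (g⁻¹ * u * g)) * g⁻¹ := by rw [this]
        _ = g * y * g⁻¹ * u := by group
    have hxy : Commute x y' := mem_centralizer_singleton_iff.1 (hQ1y (mem_of_centralized Q1 hx hQ1))
    obtain ⟨t, d, ht, hti⟩ := hB (x * y') (qElement_mul hx hy'q hxy)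
    rcases Nat.eq_zero_or_pos d with rfl | hd
    · exact false_of_product (q := q) (p := r) (r := p) (c := 0) hrp hb hrq hq.out hxy hy'q hxi hy'i
        (by rw [hti, pow_zero, pow_zero])
    have htd : t ∣ r ^ a * p ^ b := (dvd_pow_self t hd.ne').trans (hti ▸ idx_mul_dvd hxy hr hp hrp hxi hy'i)
    rcases ht.dvd_mul.1 htd with h | h
    · obtain rfl := (Nat.prime_dvd_prime_iff_eq ht hr).1 (ht.dvd_of_dvd_pow h)
      exact false_of_product (q := q) (p := t) (r := p) hrp hb hrq hq.out hxy hy'q hxi hy'i hti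
    · obtain rfl := (Nat.prime_dvd_prime_iff_eq ht hp).1 (ht.dvd_of_dvd_pow h)
      exact false_of_product (q := q) (p := t) (r := r) hrp.symm ha.ne' hpq hq.out hxy.symm hx hy'i hxi
        (by rw [← hxy.eq]; exact hti)

/-- The case `p = q`. -/
theorem normal_and_complement {q : ℕ} [hq : Fact q.Prime]
    (h : ∀ x : G, (∃ k : ℕ, orderOf x = q ^ k) → ∃ a, idx x = q ^ a) (Q : Sylow q G) :
    (Q : Subgroup G).Normal ∧ ∃ N : Subgroup G, N.Normal ∧ N.IsComplement' (Q : Subgroup G) := by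
  have hQe := sylow_eq_pCore Q fun x hx => by
    obtain ⟨a, ha⟩ := h x hx
    exact mem_pCore_of_idx hx ha
  haveI hQn : (Q : Subgroup G).Normal := hQe ▸ CfsgLib.Core.normal_pCore q G
  refine ⟨hQn, ?_⟩
  obtain ⟨N, hN⟩ := exists_right_complement'_of_coprime Q.card_coprime_index
  have hcent : ∀ y : G, (orderOf y).Coprime q → y ∈ centralizer ((Q : Subgroup G) : Set G) :=
    CfsgLib.ClassSizes.PPower.centralized_of_class_pow _ G _ rfl hQn Q.isPGroup' fun w hw => by
      obtain ⟨k, hk⟩ := IsPGroup.iff_orderOf.1 Q.isPGroup' ⟨w, hw⟩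
      rw [Subgroup.orderOf_mk] at hk
      exact h w ⟨k, hk⟩
  refine ⟨N, ⟨fun n hn g => ?_⟩, hN.symm⟩
  obtain ⟨⟨u, v⟩, huv⟩ := hN.2 g
  simp only at huv
  rw [← huv]
  have hm : (v : G) * n * (v : G)⁻¹ ∈ N := mul_mem (mul_mem v.2 hn) (inv_mem v.2)
  have hcop : (orderOf ((v : G) * n * (v : G)⁻¹)).Coprime q := by
    have hd : orderOf ((v : G) * n * (v : G)⁻¹) ∣ (Q : Subgroup G).index :=
      (N.orderOf_dvd_natCard hm).trans (dvd_of_eq hN.symm.index_eq_card.symm)
    exact ((hq.out.coprime_iff_not_dvd.2 Q.not_dvd_index).symm).coprime_dvd_left hd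
  have hc : Commute (u : G) ((v : G) * n * (v : G)⁻¹) := mem_centralizer_iff.1 (hcent _ hcop) u u.2
  rw [show ((u : G) * (v : G)) * n * ((u : G) * (v : G))⁻¹ = (u : G) * ((v : G) * n * (v : G)⁻¹) * (u : G)⁻¹ by group,
    hc.eq, mul_inv_cancel_right]
  exact hm

/-- The case `p ≠ q`. -/
theorem of_ne {p q : ℕ} [hp : Fact p.Prime] [hq : Fact q.Prime] (hpq : p ≠ q)
    (h : ∀ x : G, (∃ k : ℕ, orderOf x = q ^ k) → ∃ a, idx x = p ^ a) (Q : Sylow q G) :
    IsMulCommutative (Q : Subgroup G) ∧ (Cfsg.pCore p G ⊔ (Q : Subgroup G)).Normal ∧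
      ∀ _h : (Cfsg.pPrimeCore q G).Normal, Group.IsSolvable (G ⧸ Cfsg.pPrimeCore q G) := by
  classical
  set K := Cfsg.pCore p G with hK
  haveI hKn : K.Normal := CfsgLib.Core.normal_pCore p G
  let π := QuotientGroup.mk' K
  have hπ : Function.Surjective π := QuotientGroup.mk'_surjective K
  have hqmem : ∀ {u : G}, u ∈ (Q : Subgroup G) → ∃ k, orderOf u = q ^ k := fun {u} hu => by
    obtain ⟨k, hk⟩ := IsPGroup.iff_orderOf.1 Q.isPGroup' ⟨u, hu⟩
    exact ⟨k, by rwa [Subgroup.orderOf_mk] at hk⟩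
  let Qb : Sylow q (G ⧸ K) := Q.mapSurjective hπ
  have hQb : (Qb : Subgroup (G ⧸ K)) = Cfsg.pCore q (G ⧸ K) := by
    refine le_antisymm ?_ (CfsgLib.Core.pCore_le_sylow Qb)
    rintro _ ⟨x, hx, rfl⟩
    obtain ⟨a, ha⟩ := h x (hqmem hx)
    obtain ⟨k, hk⟩ := hqmem hx
    have h1 : (centralizer ({π x} : Set (G ⧸ K))).index ∣ p ^ a := by
      rw [← show (centralizer ({x} : Set G)).index = p ^ a from ha]
      refine dvd_trans (index_dvd_of_le ?_) (index_map_dvd (centralizer ({x} : Set G)) hπ)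
      rintro _ ⟨c, hc, rfl⟩
      rw [mem_centralizer_singleton_iff, ← map_mul, ← map_mul, mem_centralizer_singleton_iff.1 hc]
    obtain ⟨b, -, hb⟩ := (Nat.dvd_prime_pow hp.out).1 h1
    obtain ⟨j, -, hj⟩ := (Nat.dvd_prime_pow hq.out).1 (hk ▸ orderOf_map_dvd π x)
    exact mem_pCore_image (CfsgLib.Core.pCore_quotient_pCore p G) ⟨j, hj⟩ hb
  have hQbn : (Qb : Subgroup (G ⧸ K)).Normal := hQb ▸ CfsgLib.Core.normal_pCore q (G ⧸ K)
  have hL : K ⊔ (Q : Subgroup G) = (Qb : Subgroup (G ⧸ K)).comap π := by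
    show _ = Subgroup.comap π ((Q : Subgroup G).map π)
    rw [comap_map_eq, QuotientGroup.ker_mk', sup_comm]
  have hLn : (K ⊔ (Q : Subgroup G)).Normal := hL ▸ hQbn.comap π
  haveI := Sylow.unique_of_normal Qb hQbn
  have hQc : IsMulCommutative (Q : Subgroup G) := ⟨⟨fun u v => Subtype.ext (by
    obtain ⟨a, ha⟩ := h (u : G) (hqmem u.2)
    obtain ⟨Q1, hQ1⟩ := exists_sylow_le (r := q) (C := centralizer ({(u : G)} : Set G)) (by
      rw [show (centralizer ({(u : G)} : Set G)).index = p ^ a from ha]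
      exact fun hd => hpq ((Nat.prime_dvd_prime_iff_eq hq.out hp.out).1 (hq.out.dvd_of_dvd_pow hd)).symm)
    have hv : π (v : G) ∈ (Q1.mapSurjective hπ : Subgroup (G ⧸ K)) := by
      rw [Subsingleton.elim (Q1.mapSurjective hπ) Qb]
      exact ⟨v, v.2, rfl⟩
    obtain ⟨v', hv', e⟩ := hv
    have h1 : (u : G) * v * (u : G)⁻¹ * (v : G)⁻¹ ∈ K := by
      rw [← QuotientGroup.ker_mk' K, MonoidHom.mem_ker, map_mul, map_mul, map_mul, map_inv, map_inv]
      change π (u : G) * π v * (π u)⁻¹ * (π v)⁻¹ = 1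
      rw [← e, ← map_mul π (u : G) v', ← (mem_centralizer_singleton_iff.1 (hQ1 hv') : v' * (u : G) = u * v'),
        map_mul]
      group
    have hdisj : Disjoint K (Q : Subgroup G) :=
      IsPGroup.disjoint_of_ne p q hpq K (Q : Subgroup G) (CfsgLib.Core.isPGroup_pCore p G) Q.isPGroup'
    have h2 := Subgroup.disjoint_def.1 hdisj h1
      (mul_mem (mul_mem (mul_mem u.2 v.2) (inv_mem u.2)) (inv_mem v.2))
    rw [mul_inv_eq_one, mul_inv_eq_iff_eq_mul] at h2
    exact h2)⟩⟩
  refine ⟨hQc, hLn, ?_⟩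
  intro hOn
  haveI := hOn
  set O := Cfsg.pPrimeCore q G with hO
  have hKO : K ≤ O := CfsgLib.Core.le_pPrimeCore (by
    obtain ⟨n, hn⟩ := IsPGroup.iff_card.1 (CfsgLib.Core.isPGroup_pCore p G)
    rw [hn]; exact ((Nat.coprime_primes hp.out hq.out).2 hpq).pow_left n)
  let ρ := QuotientGroup.mk' O
  have hρ : Function.Surjective ρ := QuotientGroup.mk'_surjective O
  let Qg : Sylow q (G ⧸ O) := Q.mapSurjective hρ
  set A : Subgroup (G ⧸ O) := (Qg : Subgroup (G ⧸ O)) with hA
  have hAmap : A = (K ⊔ (Q : Subgroup G)).map ρ := by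
    rw [Subgroup.map_sup, (map_eq_bot_iff K).2 (by rw [QuotientGroup.ker_mk']; exact hKO), bot_sup_eq]
    rfl
  haveI hAn : A.Normal := hAmap ▸ hLn.map ρ hρ
  haveI hAc : IsMulCommutative A := ⟨⟨by
    rintro ⟨_, u, hu, rfl⟩ ⟨_, v, hv, rfl⟩
    refine Subtype.ext ?_
    show ρ u * ρ v = ρ v * ρ u
    rw [← map_mul, ← map_mul, show u * v = v * u from congrArg Subtype.val (hQc.1.1 ⟨u, hu⟩ ⟨v, hv⟩)]⟩⟩
  let f : G ⧸ O →* MulAut A := MulAut.conjNormal
  have hker : f.ker = centralizer (A : Set (G ⧸ O)) := by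
    ext g
    rw [MonoidHom.mem_ker, mem_centralizer_iff]
    constructor
    · intro hg u hu
      have := congrArg (fun e : MulAut A => ((e ⟨u, hu⟩ : A) : G ⧸ O)) hg
      simp only [f, MulAut.conjNormal_apply, MulAut.one_apply] at this
      exact (mul_inv_eq_iff_eq_mul.1 this).symm
    · intro hg
      refine MulEquiv.ext fun u => Subtype.ext ?_
      simp only [f, MulAut.conjNormal_apply, MulAut.one_apply]
      rw [← hg u u.2, mul_inv_cancel_right]
  set C := centralizer (A : Set (G ⧸ O)) with hC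
  have hAC : A ≤ C := le_centralizer_iff_isMulCommutative.2 hAc
  haveI hCn : C.Normal := hker ▸ f.normal_ker
  have hcopA : (Nat.card A).Coprime A.index := Qg.card_coprime_index
  have hCA : C = A := by
    refine le_antisymm ?_ hAC
    have hn : (Nat.card (A.subgroupOf C)).Coprime (A.subgroupOf C).index := by
      rw [Nat.card_congr (subgroupOfEquivOfLe hAC).toEquiv]
      exact hcopA.coprime_dvd_right (relIndex_dvd_index_of_normal A C)
    obtain ⟨N, hN⟩ := exists_right_complement'_of_coprime hn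
    have hAcen : ∀ u ∈ A.subgroupOf C, ∀ w : C, u * w = w * u := fun u hu w =>
      Subtype.ext (mem_centralizer_iff.1 w.2 u hu)
    haveI hNn : N.Normal := ⟨fun m hm g => by
      obtain ⟨⟨u, v⟩, huv⟩ := hN.2 g
      simp only at huv
      rw [← huv, show ((u : C) * v) * m * ((u : C) * v)⁻¹ = (u : C) * ((v : C) * m * (v : C)⁻¹) * (u : C)⁻¹ by group,
        hAcen u u.2, mul_inv_cancel_right]
      exact mul_mem (mul_mem v.2 hm) (inv_mem v.2)⟩
    have hNq : ¬ q ∣ Nat.card N := by
      rw [← hN.symm.index_eq_card]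
      exact fun hd => Qg.not_dvd_index (hd.trans (relIndex_dvd_index_of_normal A C))
    have hNchar : N.map C.subtype ≤ Cfsg.pPrimeCore q (G ⧸ O) := by
      have h1 : N ≤ Cfsg.pPrimeCore q C :=
        CfsgLib.Core.le_pPrimeCore (hq.out.coprime_iff_not_dvd.2 hNq).symm
      exact (map_mono h1).trans (CfsgLib.Core.map_subtype_pPrimeCore_le C)
    rw [CfsgLib.Core.pPrimeCore_quotient_pPrimeCore, le_bot_iff, map_eq_bot_iff_of_injective _ C.subtype_injective]
      at hNchar
    rw [hNchar, isComplement'_bot_right, subgroupOf_eq_top] at hN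
    exact hN
  -- the action on `A`
  let H := f.range
  letI : DistribMulAction H (Additive A) :=
    { smul := fun e u => Additive.ofMul ((e : MulAut A) u.toMul)
      one_smul := fun _ => rfl
      mul_smul := fun _ _ _ => rfl
      smul_zero := fun e => congrArg Additive.ofMul (map_one (e : MulAut A))
      smul_add := fun e u v => congrArg Additive.ofMul (map_mul (e : MulAut A) u.toMul v.toMul) }
  haveI : FaithfulSMul H (Additive A) := ⟨fun {e e'} he => Subtype.ext (MulEquiv.ext fun u =>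
    congrArg Additive.toMul (he (Additive.ofMul u)))⟩
  letI : AddCommGroup (Additive A) := { (inferInstance : AddGroup (Additive A)) with
    add_comm := fun u v => congrArg Additive.ofMul (hAc.1.1 u.toMul v.toMul) }
  have hHq : ¬ q ∣ Nat.card H := by
    rw [← index_ker, hker, hCA]
    exact Qg.not_dvd_index
  have hV : ∀ v : Additive A, ∃ m, q ^ m • v = 0 := fun v => by
    obtain ⟨m, hm⟩ := Qg.isPGroup' v.toMul
    exact ⟨m, congrArg Additive.ofMul hm⟩
  have horb : CfsgLib.ClassSizes.PrimePowerOrbits.OrbitsPPow H (Additive A) p := by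
    intro v
    obtain ⟨x, hx, hxv⟩ : ∃ x ∈ (Q : Subgroup G), ρ x = ((v.toMul : A) : G ⧸ O) := (v.toMul : A).2
    obtain ⟨a, ha⟩ := h x (hqmem hx)
    let φ : G →* H := f.rangeRestrict.comp ρ
    have hφ : Function.Surjective φ := f.rangeRestrict_surjective.comp hρ
    have hle : centralizer ({x} : Set G) ≤ (MulAction.stabilizer H v).comap φ := by
      intro g hg
      rw [mem_comap, MulAction.mem_stabilizer_iff]
      refine congrArg Additive.ofMul (Subtype.ext ?_)
      show ρ g * ((v.toMul : A) : G ⧸ O) * (ρ g)⁻¹ = _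
      rw [← hxv, ← map_mul, mem_centralizer_singleton_iff.1 hg, map_mul, mul_inv_cancel_right]
      exact hxv
    have hd := index_dvd_of_le hle
    rw [index_comap_of_surjective _ hφ, show (centralizer ({x} : Set G)).index = p ^ a from ha] at hd
    obtain ⟨j, -, hj⟩ := (Nat.dvd_prime_pow hp.out).1 hd
    exact ⟨j, hj⟩
  have hHs : Group.IsSolvable H :=
    CfsgLib.ClassSizes.PrimePowerOrbits.isSolvable_of_orbits hq.out _ (H := H) (V := Additive A) rfl hHq hV horb
  have hAs : Group.IsSolvable A := Group.isSolvable_of_comm fun a b => hAc.1.1 a b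
  exact @Group.isSolvable_of_ker_le_range (G ⧸ O) _ A H _ _ A.subtype f.rangeRestrict
    (by rw [MonoidHom.ker_rangeRestrict, hker, hCA, range_subtype]) hAs hHs

/-- The `q`-Baer theorem. -/
theorem structure_theorem {q : ℕ} [hq : Fact q.Prime]
    (hB : ∀ x : G, (∃ k : ℕ, orderOf x = q ^ k) → ∃ (r : ℕ) (a : ℕ), r.Prime ∧ idx x = r ^ a) (Q : Sylow q G) :
    (∃ K L : Subgroup G, K.Normal ∧ L.Normal ∧ K ≤ L ∧ (Nat.card K).Coprime q ∧
      (∃ m : ℕ, K.relIndex L = q ^ m) ∧ L.index.Coprime q) ∧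
    ∃ p : ℕ, p.Prime ∧ (∀ x : G, (∃ k : ℕ, orderOf x = q ^ k) → ∃ a : ℕ, idx x = p ^ a) ∧
      (p = q → (Q : Subgroup G).Normal ∧ ∃ N : Subgroup G, N.Normal ∧ N.IsComplement' (Q : Subgroup G)) ∧
      (p ≠ q → IsMulCommutative (Q : Subgroup G) ∧ (Cfsg.pCore p G ⊔ (Q : Subgroup G)).Normal ∧
        ∀ _h : (Cfsg.pPrimeCore q G).Normal, Group.IsSolvable (G ⧸ Cfsg.pPrimeCore q G)) := by
  have hQidx : (Q : Subgroup G).index.Coprime q := (hq.out.coprime_iff_not_dvd.2 Q.not_dvd_index).symm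
  rcases exists_prime hB with h | ⟨p, hp, hpq, h⟩
  · refine ⟨⟨⊥, (Q : Subgroup G), inferInstance, (normal_and_complement h Q).1, bot_le, ?_, ?_, hQidx⟩,
      q, hq.out, h, fun _ => normal_and_complement h Q, fun e => absurd rfl e⟩
    · rw [Subgroup.card_bot]; exact Nat.coprime_one_left q
    · obtain ⟨m, hm⟩ := IsPGroup.iff_card.1 Q.isPGroup'
      exact ⟨m, by rw [relIndex_bot_left, hm]⟩
  · haveI := Fact.mk hp
    have hne := of_ne hpq h Q
    refine ⟨⟨Cfsg.pCore p G, Cfsg.pCore p G ⊔ (Q : Subgroup G), CfsgLib.Core.normal_pCore p G, hne.2.1,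
      le_sup_left, ?_, ?_, ?_⟩, p, hp, h, fun e => absurd e hpq, fun _ => hne⟩
    · obtain ⟨n, hn⟩ := IsPGroup.iff_card.1 (CfsgLib.Core.isPGroup_pCore p G)
      rw [hn]; exact ((Nat.coprime_primes hp hq.out).2 hpq).pow_left n
    · haveI := CfsgLib.Core.normal_pCore p G
      rw [relIndex_sup_left]
      obtain ⟨m, hm⟩ := Q.isPGroup'.index ((Cfsg.pCore p G).subgroupOf (Q : Subgroup G))
      exact ⟨m, hm⟩
    · exact hQidx.coprime_dvd_left (index_dvd_of_le le_sup_right)

end CfsgLib.ClassSizes.QBaer
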