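import Mathlib
import Cfsg.Prelude.Def_PLocal
import Cfsg.Agent.Lib.PGroups.Basic

/-!
Regular `p`-groups: equal powers, commuting powers, omega subgroups.
-/

set_option linter.style.haveILetI false

namespace CfsgLib.ClassSizes

open Subgroup
open scoped commutatorElement

variable {G : Type*} [Group G] [Finite G] {p : ℕ} [Fact p.Prime]

/-- A generator together with the derived subgroup is proper in a non-abelian `p`-group. -/
theorem zpowers_sup_commutator_lt (hG : IsPGroup p G) (K : Subgroup G) (hK : ¬ IsMulCommutative K)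
    {a : G} (ha : a ∈ K) : Subgroup.zpowers a ⊔ ⁅K, K⁆ < K := by
  refine lt_of_le_of_ne (sup_le (Subgroup.zpowers_le.2 ha) (Subgroup.commutator_le_self K)) fun h => hK ?_
  have hKp : IsPGroup p K := hG.to_subgroup K
  have h1 : Subgroup.zpowers (⟨a, ha⟩ : K) ⊔ commutator K = ⊤ := by
    apply Subgroup.map_injective K.subtype_injective
    rw [Subgroup.map_sup, MonoidHom.map_zpowers, commutator_def, Subgroup.map_commutator,
      ← MonoidHom.range_eq_map, K.range_subtype]
    exact h
  have h2 : Subgroup.zpowers (⟨a, ha⟩ : K) = ⊤ := by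
    refine frattini_nongenerating ?_
    exact top_le_iff.1 (h1.ge.trans (sup_le_sup_left (CfsgLib.PGroups.commutator_le_frattini' hKp) _))
  refine ⟨⟨fun x y => ?_⟩⟩
  obtain ⟨i, rfl⟩ := Subgroup.mem_zpowers_iff.1 (h2 ▸ Subgroup.mem_top x)
  obtain ⟨j, rfl⟩ := Subgroup.mem_zpowers_iff.1 (h2 ▸ Subgroup.mem_top y)
  rw [← zpow_add, ← zpow_add, add_comm]

theorem regular_pow_eq_iff_aux (hG : Cfsg.IsRegularPGroup p G) (n : ℕ) : ∀ m : ℕ, ∀ H : Subgroup G,
    Nat.card H = m → ∀ a ∈ H, ∀ b ∈ H, a ^ p ^ n = b ^ p ^ n ↔ (a⁻¹ * b) ^ p ^ n = 1 := by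
  intro m
  induction m using Nat.strong_induction_on with
  | _ m ih =>
    intro H hm a ha b hb
    subst hm
    set q := p ^ n with hq
    have hsmall : ∀ L : Subgroup G, L < H → ∀ x ∈ L, ∀ y ∈ L, x ^ q = y ^ q ↔ (x⁻¹ * y) ^ q = 1 := by
      intro L hL x hx y hy
      refine ih (Nat.card L) ?_ L rfl x hx y hy
      exact lt_of_le_of_ne (Nat.le_of_dvd Nat.card_pos (card_dvd_of_le hL.le)) fun h =>
        hL.ne (Subgroup.eq_of_le_of_card_ge hL.le h.ge)
    set K := Subgroup.closure ({a, b} : Set G) with hK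
    have haK : a ∈ K := Subgroup.subset_closure (Set.mem_insert _ _)
    have hbK : b ∈ K := Subgroup.subset_closure (Set.mem_insert_of_mem _ rfl)
    have hKH : K ≤ H := (Subgroup.closure_le _).2 (Set.insert_subset ha (Set.singleton_subset_iff.2 hb))
    rcases hKH.lt_or_eq with hlt | heq
    · exact hsmall K hlt a haK b hbK
    rw [← heq] at hsmall
    by_cases hab : a * b = b * a
    · have hc : Commute a⁻¹ b := (show Commute a b from hab).inv_left
      rw [hc.mul_pow, inv_pow, inv_mul_eq_one]
    have hnc : ¬ IsMulCommutative K := fun h =>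
      hab (congrArg Subtype.val (h.is_comm.comm (⟨a, haK⟩ : K) ⟨b, hbK⟩))
    set C := ⁅K, K⁆ with hC
    have hCK : C < K := lt_of_le_of_lt le_sup_right (zpowers_sup_commutator_lt hG.1 K hnc haK)
    -- the elements of `C` with trivial `q`th power
    let W : Subgroup G :=
      { carrier := {x | x ∈ C ∧ x ^ q = 1}
        one_mem' := ⟨one_mem _, one_pow _⟩
        mul_mem' := fun {x y} hx hy => ⟨mul_mem hx.1 hy.1, by
          have := (hsmall C hCK x⁻¹ (inv_mem hx.1) y hy.1).1 (by rw [inv_pow, hx.2, hy.2, inv_one])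
          rwa [inv_inv] at this⟩
        inv_mem' := fun {x} hx => ⟨inv_mem hx.1, by rw [inv_pow, hx.2, inv_one]⟩ }
    have hexp : ∀ u v : G, K = Subgroup.closure ({u, v} : Set G) → ⁅u, v⁆ ^ q = 1 → ∀ x ∈ C, x ^ q = 1 := by
      intro u v huv hc
      have hu : u ∈ K := huv ▸ Subgroup.subset_closure (Set.mem_insert _ _)
      have hv : v ∈ K := huv ▸ Subgroup.subset_closure (Set.mem_insert_of_mem _ rfl)
      have hWK : W ≤ K := fun x hx => hCK.le hx.1
      haveI hCn : (C.subgroupOf K).Normal := by
        have e : C.subgroupOf K = commutator K := by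
          apply Subgroup.map_injective K.subtype_injective
          rw [Subgroup.subgroupOf_map_subtype, inf_of_le_left hCK.le, commutator_def, Subgroup.map_commutator,
            ← MonoidHom.range_eq_map, K.range_subtype]
        rw [e]
        infer_instance
      haveI : (W.subgroupOf K).Normal := ⟨fun x hx g => by
        refine ⟨(hCn.conj_mem x hx.1 g : _), ?_⟩
        change ((g : G) * x * (g : G)⁻¹) ^ q = 1
        rw [conj_pow, show ((x : G)) ^ q = 1 from hx.2, mul_one, mul_inv_cancel]⟩
      set π := QuotientGroup.mk' (W.subgroupOf K)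
      have huvW : Commute (π ⟨u, hu⟩) (π ⟨v, hv⟩) := by
        have h1 : π ⁅(⟨u, hu⟩ : K), ⟨v, hv⟩⁆ = 1 := by
          rw [QuotientGroup.mk'_apply, QuotientGroup.eq_one_iff]
          exact ⟨Subgroup.commutator_mem_commutator hu hv, hc⟩
        rw [map_commutatorElement] at h1
        exact commutatorElement_eq_one_iff_commute.1 h1
      intro x hx
      have hle : C ≤ W := by
        rw [hC, Subgroup.commutator_le]
        intro g hg h hh
        have hgen : ∀ g (hg : g ∈ K), π ⟨g, hg⟩ ∈ Subgroup.closure ({π ⟨u, hu⟩, π ⟨v, hv⟩} : Set _) := by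
          intro g hg
          have hg' : g ∈ Subgroup.closure ({u, v} : Set G) := huv.le hg
          revert hg
          induction hg' using Subgroup.closure_induction with
          | mem y hy =>
            intro hg
            apply Subgroup.subset_closure
            rcases hy with rfl | rfl
            · exact Or.inl rfl
            · exact Or.inr rfl
          | one =>
            intro hg
            rw [show (⟨1, hg⟩ : K) = 1 from rfl, map_one]
            exact one_mem _
          | mul y z hy hz ihy ihz =>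
            intro hg
            rw [show (⟨y * z, hg⟩ : K) = ⟨y, huv.ge hy⟩ * ⟨z, huv.ge hz⟩ from rfl, map_mul]
            exact mul_mem (ihy _) (ihz _)
          | inv y hy ihy =>
            intro hg
            rw [show (⟨y⁻¹, hg⟩ : K) = ⟨y, huv.ge hy⟩⁻¹ from rfl, map_inv]
            exact inv_mem (ihy _)
        haveI : IsMulCommutative (Subgroup.closure ({π ⟨u, hu⟩, π ⟨v, hv⟩} : Set _)) :=
          Subgroup.isMulCommutative_closure (by
            intro y hy z hz
            rcases hy with rfl | rfl <;> rcases hz with rfl | rfl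
            exacts [rfl, huvW.eq, huvW.eq.symm, rfl])
        have h1 : π ⁅(⟨g, hg⟩ : K), ⟨h, hh⟩⁆ = 1 := by
          rw [map_commutatorElement, commutatorElement_eq_one_iff_commute]
          exact congrArg Subtype.val (IsMulCommutative.is_comm.comm
            (⟨_, hgen g hg⟩ : Subgroup.closure ({π ⟨u, hu⟩, π ⟨v, hv⟩} : Set _)) ⟨_, hgen h hh⟩)
        rw [QuotientGroup.mk'_apply, QuotientGroup.eq_one_iff] at h1
        exact h1
      exact (hle hx).2
    have hreg : ∀ u v : G, K = Subgroup.closure ({u, v} : Set G) → (∀ x ∈ C, x ^ q = 1) →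
        (u * v) ^ q = u ^ q * v ^ q := by
      intro u v huv he
      obtain ⟨c, hc, hcq⟩ := hG.2 u v n
      rw [← huv] at hc
      have hbot : Cfsg.powerClosure p n ⁅K, K⁆ = ⊥ := by
        rw [Cfsg.powerClosure, Subgroup.closure_eq_bot_iff]
        rintro y ⟨x, hx, rfl⟩
        exact he x hx
      rw [hbot, Subgroup.mem_bot] at hc
      rw [hcq, hc, mul_one]
    constructor
    · intro hpow
      have hK' : K = Subgroup.closure ({a⁻¹, b} : Set G) := by
        refine le_antisymm ((Subgroup.closure_le _).2 ?_) ((Subgroup.closure_le _).2 ?_)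
        · refine Set.insert_subset ?_ (Set.singleton_subset_iff.2 (Subgroup.subset_closure (Set.mem_insert_of_mem _ rfl)))
          have := inv_mem (Subgroup.subset_closure (Set.mem_insert a⁻¹ {b}) : a⁻¹ ∈ Subgroup.closure ({a⁻¹, b} : Set G))
          rwa [inv_inv] at this
        · exact Set.insert_subset (inv_mem haK) (Set.singleton_subset_iff.2 hbK)
      have hL := zpowers_sup_commutator_lt hG.1 K hnc haK
      have hc : ⁅a⁻¹, b⁆ ^ q = 1 := by
        have h1 := (hsmall _ hL a (Subgroup.mem_sup_left (Subgroup.mem_zpowers a)) (b * a * b⁻¹) (by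
            have : b * a * b⁻¹ = ⁅b, a⁆ * a := by rw [commutatorElement_def]; group
            rw [this]
            exact mul_mem (Subgroup.mem_sup_right (Subgroup.commutator_mem_commutator hbK haK))
              (Subgroup.mem_sup_left (Subgroup.mem_zpowers a)))).1 (by
          rw [conj_pow, hpow]; group)
        have e : ⁅a⁻¹, b⁆ = a⁻¹ * (b * a * b⁻¹) := by rw [commutatorElement_def]; group
        rw [e, h1]
      rw [hreg a⁻¹ b hK' (hexp a⁻¹ b hK' hc), inv_pow, hpow, inv_mul_cancel]
    · intro hpow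
      set u := a⁻¹ * b with hu
      have huK : u ∈ K := mul_mem (inv_mem haK) hbK
      have hK' : K = Subgroup.closure ({a, u} : Set G) := by
        refine le_antisymm ((Subgroup.closure_le _).2 ?_) ((Subgroup.closure_le _).2 ?_)
        · refine Set.insert_subset (Subgroup.subset_closure (Set.mem_insert _ _)) (Set.singleton_subset_iff.2 ?_)
          have : b = a * u := by rw [hu]; group
          rw [this]
          exact mul_mem (Subgroup.subset_closure (Set.mem_insert _ _)) (Subgroup.subset_closure (Set.mem_insert_of_mem _ rfl))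
        · exact Set.insert_subset haK (Set.singleton_subset_iff.2 huK)
      have hL := zpowers_sup_commutator_lt hG.1 K hnc huK
      have hc : ⁅a, u⁆ ^ q = 1 := by
        have h1 := (hsmall _ hL (a * u * a⁻¹)⁻¹ (inv_mem (by
            have : a * u * a⁻¹ = ⁅a, u⁆ * u := by rw [commutatorElement_def]; group
            rw [this]
            exact mul_mem (Subgroup.mem_sup_right (Subgroup.commutator_mem_commutator haK huK))
              (Subgroup.mem_sup_left (Subgroup.mem_zpowers u)))) u⁻¹
            (inv_mem (Subgroup.mem_sup_left (Subgroup.mem_zpowers u)))).1 (by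
          rw [inv_pow, inv_pow, conj_pow, hpow]; group)
        have e : ⁅a, u⁆ = (a * u * a⁻¹)⁻¹⁻¹ * u⁻¹ := by rw [commutatorElement_def]; group
        rw [e, h1]
      have := hreg a u hK' (hexp a u hK' hc)
      rw [hpow, mul_one] at this
      rw [← this, hu]
      group

theorem regular_pow_eq_iff (hG : Cfsg.IsRegularPGroup p G) (a b : G) (n : ℕ) :
    a ^ p ^ n = b ^ p ^ n ↔ (a⁻¹ * b) ^ p ^ n = 1 :=
  regular_pow_eq_iff_aux hG n _ ⊤ rfl a (Subgroup.mem_top _) b (Subgroup.mem_top _)

theorem regular_pow_eq_iff' (hG : Cfsg.IsRegularPGroup p G) (a b : G) (n : ℕ) :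
    a ^ p ^ n = b ^ p ^ n ↔ (a * b⁻¹) ^ p ^ n = 1 := by
  have h := regular_pow_eq_iff hG a⁻¹ b⁻¹ n
  rw [inv_inv, inv_pow, inv_pow, inv_inj] at h
  exact h

/-- The omega subgroup of a regular `p`-group. -/
def regularOmega (hG : Cfsg.IsRegularPGroup p G) (n : ℕ) : Subgroup G where
  carrier := {x | x ^ p ^ n = 1}
  one_mem' := one_pow _
  mul_mem' := fun {x y} (hx : x ^ p ^ n = 1) (hy : y ^ p ^ n = 1) => by
    have := (regular_pow_eq_iff hG x⁻¹ y n).1 (by rw [inv_pow, hx, hy, inv_one])
    rwa [inv_inv] at this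
  inv_mem' := fun {x} (hx : x ^ p ^ n = 1) => by
    change x⁻¹ ^ p ^ n = 1
    rw [inv_pow, hx, inv_one]

theorem regularOmega_characteristic (hG : Cfsg.IsRegularPGroup p G) (n : ℕ) :
    (regularOmega hG n).Characteristic :=
  Subgroup.characteristic_iff_le_comap.2 fun e x (hx : x ^ p ^ n = 1) => by
    change e x ^ p ^ n = 1
    rw [← map_pow, hx, map_one]

theorem regular_pow_commute_iff (hG : Cfsg.IsRegularPGroup p G) (a b : G) (n : ℕ) :
    a ^ p ^ n * b = b * a ^ p ^ n ↔ (a⁻¹ * b⁻¹ * a * b) ^ p ^ n = 1 := by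
  have h := regular_pow_eq_iff hG a (b⁻¹ * a * b) n
  rw [show (b⁻¹ * a * b) ^ p ^ n = b⁻¹ * a ^ p ^ n * b by
    rw [show b⁻¹ * a * b = b⁻¹ * a * b⁻¹⁻¹ by group, conj_pow]; group] at h
  rw [show a⁻¹ * b⁻¹ * a * b = a⁻¹ * (b⁻¹ * a * b) by group, ← h]
  rw [eq_comm, mul_assoc, ← eq_inv_mul_iff_mul_eq (a := a ^ p ^ n)]

end CfsgLib.ClassSizes
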