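import Mathlib
import Cfsg.Agent.Lib.ClassSizes.RegularTwoMain

/-!
Two sizes of classes of `p`-regular elements: the direct product conclusion.
-/

set_option autoImplicit false
set_option linter.style.haveILetI false
set_option linter.unusedSectionVars false

namespace CfsgLib.ClassSizes.RegularTwo

open Subgroup

universe u

variable {G : Type u} [Group G] [Finite G]

/-- if all primes besides `p` and `q` have only central elements then a `{p,q}`-group splits off -/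
theorem split_of_central {p q : ℕ} (hp : p.Prime) (hq : q.Prime) (hne : q ≠ p)
    (h : ∀ r : ℕ, r.Prime → r ≠ p → r ≠ q → ¬ Act G r) :
    ∃ (_ : Fact p.Prime) (_ : Fact q.Prime) (P : Sylow p G) (Q : Sylow q G) (A : Subgroup G),
      A ≤ center G ∧ Nat.card ↥((P : Subgroup G) ⊔ (Q : Subgroup G)) = Nat.card P * Nat.card Q ∧
      ((P : Subgroup G) ⊔ (Q : Subgroup G)).Normal ∧
      ((P : Subgroup G) ⊔ (Q : Subgroup G)) ⊓ A = ⊥ ∧ ((P : Subgroup G) ⊔ (Q : Subgroup G)) ⊔ A = ⊤ := by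
  haveI fp := Fact.mk hp
  haveI fq := Fact.mk hq
  let A : Subgroup G :=
    { carrier := {z | z ∈ center G ∧ (orderOf z).Coprime (p * q)}
      one_mem' := ⟨one_mem _, by simp⟩
      mul_mem' := fun {a b} ha hb => ⟨mul_mem ha.1 hb.1, (Nat.Coprime.mul_left ha.2 hb.2).coprime_dvd_left
        (show Commute a b from (Subgroup.mem_center_iff.1 hb.1 a)).orderOf_mul_dvd_mul_orderOf⟩
      inv_mem' := fun {a} ha => ⟨inv_mem ha.1, by rw [orderOf_inv]; exact ha.2⟩ }
  have hA : A ≤ center G := fun z hz => hz.1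
  haveI hAn : A.Normal := ⟨fun z hz g => by
    rwa [Subgroup.mem_center_iff.1 hz.1 g, mul_inv_cancel_right]⟩
  have hidx : ∀ r : ℕ, r.Prime → r ∣ A.index → r = p ∨ r = q := by
    intro r hr hd
    by_contra hcon
    push Not at hcon
    haveI := Fact.mk hr
    obtain ⟨R⟩ : Nonempty (Sylow r G) := inferInstance
    refine R.not_dvd_index (hd.trans (index_dvd_of_le fun z hz => ?_))
    obtain ⟨k, hk⟩ := IsPGroup.iff_orderOf.1 R.isPGroup' ⟨z, hz⟩
    rw [Subgroup.orderOf_mk] at hk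
    refine ⟨?_, ?_⟩
    · by_contra hzc
      exact h r hr hcon.1 hcon.2 ⟨z, hzc, k, hk⟩
    · rw [hk]
      exact Nat.Coprime.pow_left k (Nat.Coprime.mul_right ((Nat.coprime_primes hr hp).2 hcon.1)
        ((Nat.coprime_primes hr hq).2 hcon.2))
  have hcA : ∀ r : ℕ, r.Prime → r ∣ Nat.card A → r ≠ p ∧ r ≠ q := by
    intro r hr hd
    haveI := Fact.mk hr
    obtain ⟨⟨z, hz⟩, hzo⟩ := exists_prime_orderOf_dvd_card' (G := A) r hd
    rw [Subgroup.orderOf_mk] at hzo
    have hco : r.Coprime (p * q) := hzo ▸ hz.2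
    exact ⟨fun e => hr.coprime_iff_not_dvd.1 hco (e ▸ dvd_mul_right p q),
      fun e => hr.coprime_iff_not_dvd.1 hco (e ▸ dvd_mul_left q p)⟩
  have hcop : (Nat.card A).Coprime A.index := Nat.coprime_of_dvd fun r hr h1 h2 =>
    (hidx r hr h2).elim (hcA r hr h1).1 (hcA r hr h1).2
  obtain ⟨K, hK⟩ := exists_right_complement'_of_coprime hcop
  haveI hKn : K.Normal := ⟨fun k hk g => by
    obtain ⟨⟨⟨a, ha⟩, ⟨k', hk'⟩⟩, rfl⟩ := hK.2 g
    show a * k' * k * (a * k')⁻¹ ∈ K
    rw [show a * k' * k * (a * k')⁻¹ = a * (k' * k * k'⁻¹) * a⁻¹ by group,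
      ← Subgroup.mem_center_iff.1 (hA ha) (k' * k * k'⁻¹), mul_inv_cancel_right]
    exact mul_mem (mul_mem hk' hk) (inv_mem hk')⟩
  have hKcard : Nat.card K = A.index := hK.symm.index_eq_card.symm
  have hKidx : K.index = Nat.card A := hK.index_eq_card
  have hle : ∀ (r : ℕ) [Fact r.Prime] (R : Sylow r G), r = p ∨ r = q → (R : Subgroup G) ≤ K := by
    intro r _ R hrpq z hz
    obtain ⟨k, hk⟩ := IsPGroup.iff_orderOf.1 R.isPGroup' ⟨z, hz⟩
    rw [Subgroup.orderOf_mk] at hk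
    have h1 : orderOf (QuotientGroup.mk' K z) ∣ r ^ k := hk ▸ orderOf_map_dvd _ z
    have h2 : orderOf (QuotientGroup.mk' K z) ∣ Nat.card A := by
      rw [← hKidx, Subgroup.index_eq_card]
      exact orderOf_dvd_natCard _
    have h3 : (r ^ k).Coprime (Nat.card A) := Nat.Coprime.pow_left k ((Fact.out : r.Prime).coprime_iff_not_dvd.2
      fun hd => hrpq.elim (hcA r Fact.out hd).1 (hcA r Fact.out hd).2)
    exact (QuotientGroup.eq_one_iff z).1 (orderOf_eq_one_iff.1 (Nat.eq_one_of_dvd_coprimes h3 h1 h2))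
  obtain ⟨P⟩ : Nonempty (Sylow p G) := inferInstance
  obtain ⟨Q⟩ : Nonempty (Sylow q G) := inferInstance
  have hsupK : (P : Subgroup G) ⊔ (Q : Subgroup G) ≤ K := sup_le (hle p P (Or.inl rfl)) (hle q Q (Or.inr rfl))
  have hPQ : Nat.card (P : Subgroup G) * Nat.card (Q : Subgroup G) ∣
      Nat.card ↥((P : Subgroup G) ⊔ (Q : Subgroup G)) := by
    refine Nat.Coprime.mul_dvd_of_dvd_of_dvd ?_ (card_dvd_of_le le_sup_left) (card_dvd_of_le le_sup_right)
    obtain ⟨i, hi⟩ := P.isPGroup'.exists_card_eq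
    obtain ⟨j, hj⟩ := Q.isPGroup'.exists_card_eq
    rw [hi, hj]
    exact Nat.Coprime.pow i j ((Nat.coprime_primes hp hq).2 (Ne.symm hne))
  have hKdvd : Nat.card K ∣ Nat.card (P : Subgroup G) * Nat.card (Q : Subgroup G) := by
    refine (Nat.dvd_iff_prime_pow_dvd_dvd _ _).2 fun r k hr hd => ?_
    rcases Nat.eq_zero_or_pos k with rfl | hk0
    · simp
    have hG : r ^ k ∣ Nat.card G := hd.trans (card_subgroup_dvd_card K)
    rcases hidx r hr (hKcard ▸ (dvd_pow_self r hk0.ne').trans hd) with rfl | rfl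
    · exact dvd_mul_of_dvd_left (P.pow_dvd_card_of_pow_dvd_card hG) _
    · exact dvd_mul_of_dvd_right (Q.pow_dvd_card_of_pow_dvd_card hG) _
  have heq : (P : Subgroup G) ⊔ (Q : Subgroup G) = K :=
    eq_of_le_of_card_ge hsupK (Nat.le_of_dvd Nat.card_pos (hKdvd.trans hPQ))
  refine ⟨fp, fq, P, Q, A, hA, ?_, heq ▸ hKn, ?_, ?_⟩
  · exact Nat.dvd_antisymm ((card_dvd_of_le hsupK).trans hKdvd) hPQ
  · rw [heq]; exact hK.symm.disjoint.eq_bot
  · rw [heq]; exact hK.symm.sup_eq_top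

end CfsgLib.ClassSizes.RegularTwo
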