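import Cfsg.Agent.Lib.ClassSizes.TwoSizes
import Cfsg.Agent.Lib.ClassSizes.PPowerClass
import Cfsg.Agent.Lib.Orders.OrderConjugate
import Cfsg.Agent.Lib.Core.Coprime

/-!
# Groups with the class sizes of a nilpotent group
-/

set_option autoImplicit false
set_option linter.all false

namespace CfsgLib.ClassSizes.SameSizes

open Subgroup
open scoped Pointwise

universe u v

variable {G : Type u} [Group G] [Finite G] {H : Type v} [Group H] [Finite H]

/-- The index of the centraliser. -/
noncomputable abbrev cIdx (x : G) : ℕ := (centralizer ({x} : Set G)).index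

/-- The hypothesis: as many classes of each size. -/
def Same (G : Type u) (H : Type v) [Group G] [Group H] : Prop :=
  ∀ k : ℕ, Nat.card {C : ConjClasses G // Nat.card C.carrier = k} =
    Nat.card {C : ConjClasses H // Nat.card C.carrier = k}

theorem sigma_equiv {K : Type*} [Group K] [Finite K] (P : ℕ → Prop) :
    Nonempty ({x : K // P (cIdx x)} ≃ Σ C : {C : ConjClasses K // P (Nat.card C.carrier)}, C.1.carrier) :=
  ⟨{ toFun := fun x => ⟨⟨ConjClasses.mk x.1, by rw [CfsgLib.Orders.card_carrier_eq_index]; exact x.2⟩,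
        ⟨x.1, ConjClasses.mem_carrier_mk⟩⟩
     invFun := fun t => ⟨t.2.1, by
        have h1 := t.1.2
        rw [← (ConjClasses.mem_carrier_iff_mk_eq.1 t.2.2 : ConjClasses.mk t.2.1 = t.1.1)] at h1
        rw [CfsgLib.Orders.card_carrier_eq_index] at h1
        exact h1⟩
     left_inv := fun x => rfl
     right_inv := fun t => by
        obtain ⟨⟨C, hC⟩, y, hy⟩ := t
        obtain rfl : ConjClasses.mk y = C := ConjClasses.mem_carrier_iff_mk_eq.1 hy
        rfl }⟩

theorem card_cIdx_one {K : Type*} [Group K] [Finite K] : Nat.card {x : K // cIdx x = 1} = Nat.card (center K) :=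
  Nat.card_congr (Equiv.subtypeEquivRight fun x => TwoSizes.index_one_iff)

theorem Same.card_eq (h : Same G H) (P : ℕ → Prop) :
    Nat.card {x : G // P (cIdx x)} = Nat.card {x : H // P (cIdx x)} := by
  classical
  obtain ⟨eG⟩ := sigma_equiv (K := G) P
  obtain ⟨eH⟩ := sigma_equiv (K := H) P
  let e : ConjClasses G ≃ ConjClasses H := Equiv.ofFiberEquiv (f := fun C : ConjClasses G => Nat.card C.carrier)
    (g := fun C : ConjClasses H => Nat.card C.carrier) fun k =>
      Classical.choice (Finite.card_eq.1 (h k))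
  have he : ∀ C, Nat.card (e C).carrier = Nat.card C.carrier := fun C =>
    Equiv.ofFiberEquiv_map (f := fun C : ConjClasses G => Nat.card C.carrier)
      (g := fun C : ConjClasses H => Nat.card C.carrier) _ C
  refine Nat.card_congr (eG.trans (Equiv.trans ?_ eH.symm))
  exact Equiv.sigmaCongr (e.subtypeEquiv fun C => by rw [he]) fun C =>
    Classical.choice (Finite.card_eq.1 (he C.1).symm)

theorem Same.card_group (h : Same G H) : Nat.card G = Nat.card H := by
  have := h.card_eq fun _ => True
  rwa [Nat.card_congr (Equiv.subtypeUnivEquiv fun _ => trivial),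
    Nat.card_congr (Equiv.subtypeUnivEquiv fun _ => trivial)] at this

theorem Same.card_center (h : Same G H) : Nat.card (center G) = Nat.card (center H) := by
  rw [← card_cIdx_one (K := G), ← card_cIdx_one (K := H)]
  exact h.card_eq fun k => k = 1

/-- Central elements of prime power order lie in the Sylow subgroups. -/
theorem card_inf_center {q : ℕ} [Fact q.Prime] (Q : Sylow q G) :
    Nat.card ((Q : Subgroup G) ⊓ center G : Subgroup G) = q ^ (Nat.card (center G)).factorization q := by
  obtain ⟨R⟩ : Nonempty (Sylow q (center G)) := inferInstance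
  set R' := (R : Subgroup (center G)).map (center G).subtype with hR
  haveI : R'.Normal := ⟨fun n hn g => by
    rw [mem_center_iff.1 (map_subtype_le _ hn) g, mul_inv_cancel_right]; exact hn⟩
  have hRQ : R' ≤ Q := by
    have hp : IsPGroup q (R' ⊔ (Q : Subgroup G) : Subgroup G) := (R.2.map _).to_sup_of_normal_left Q.2
    exact le_sup_left.trans (Q.is_maximal' hp le_sup_right).le
  have hcardR : Nat.card R' = q ^ (Nat.card (center G)).factorization q := by
    rw [← R.card_eq_multiplicity]
    exact (Nat.card_congr ((R : Subgroup (center G)).equivMapOfInjective _ (center G).subtype_injective).toEquiv).symm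
  refine Nat.dvd_antisymm ?_ (hcardR ▸ card_dvd_of_le (le_inf hRQ (map_subtype_le _)))
  obtain ⟨t, ht⟩ := IsPGroup.iff_card.1 (Q.2.to_le inf_le_left :
    IsPGroup q ((Q : Subgroup G) ⊓ center G : Subgroup G))
  rw [ht]
  refine Nat.pow_dvd_pow q (((Fact.out : q.Prime).pow_dvd_iff_le_factorization Nat.card_pos.ne').1 ?_)
  rw [← ht]
  exact card_dvd_of_le inf_le_right

/-- Centres of Sylow subgroups are central. -/
def CentralCentres (G : Type u) [Group G] : Prop :=
  ∀ (q : ℕ) [Fact q.Prime] (Q : Sylow q G), ∀ x ∈ (Q : Subgroup G), x ∈ centralizer ((Q : Subgroup G) : Set G) → x ∈ center G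

theorem mem_sup_core (hc : CentralCentres G) {p : ℕ} [Fact p.Prime] (P : Sylow p G) {x : G}
    (hx : ∀ q : ℕ, q.Prime → q ∣ cIdx x → q = p) : x ∈ (P : Subgroup G).normalCore ⊔ center G := by
  refine TwoSizes.mem_of_primary _ x fun y hy q k hq hyo => ?_
  haveI := Fact.mk hq
  have hdvd : cIdx y ∣ cIdx x := index_dvd_of_le (TwoSizes.centralizer_le_of_mem hy)
  have hy' : ∀ r : ℕ, r.Prime → r ∣ cIdx y → r = p := fun r hr hd => hx r hr (hd.trans hdvd)
  rcases eq_or_ne q p with rfl | hqp
  · refine mem_sup_left fun g => ?_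
    obtain ⟨a, ha⟩ : ∃ a, cIdx y = q ^ a :=
      ⟨_, Nat.eq_prime_pow_of_unique_prime_dvd index_ne_zero_of_finite fun {r} hr hd => hy' r hr hd⟩
    have hyp : IsPGroup q (zpowers y) := IsPGroup.of_card (n := k) (by rw [Nat.card_zpowers, hyo])
    obtain ⟨P', hP'⟩ := hyp.exists_le_sylow
    obtain ⟨t, rfl⟩ := MulAction.exists_smul_eq G P' P
    show g * y * g⁻¹ ∈ (MulAut.conj t • (P' : Subgroup G) : Subgroup G)
    rw [mem_pointwise_smul_iff_inv_smul_mem, ← map_inv, MulAut.smul_def, MulAut.conj_apply, inv_inv]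
    rw [show t⁻¹ * (g * y * g⁻¹) * t = (t⁻¹ * g) * y * (t⁻¹ * g)⁻¹ by group]
    exact PPower.conj_mem_of_index ha P' (hP' (mem_zpowers y)) _
  · refine mem_sup_right ?_
    have hnd : ¬ q ∣ cIdx y := fun h => hqp (hy' q hq h)
    obtain ⟨S⟩ : Nonempty (Sylow q (centralizer ({y} : Set G))) := inferInstance
    set S' := (S : Subgroup (centralizer ({y} : Set G))).map (centralizer ({y} : Set G)).subtype with hS
    have hS'card : Nat.card S' = q ^ (Nat.card G).factorization q := by
      rw [← Nat.card_congr ((S : Subgroup (centralizer ({y} : Set G))).equivMapOfInjective _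
          (centralizer ({y} : Set G)).subtype_injective).toEquiv, S.card_eq_multiplicity,
        ← (centralizer ({y} : Set G)).card_mul_index, Nat.factorization_mul Nat.card_pos.ne' index_ne_zero_of_finite,
        Finsupp.add_apply, Nat.factorization_eq_zero_of_not_dvd hnd, add_zero]
    let Q : Sylow q G := Sylow.ofCard S' hS'card
    have hyQ : y ∈ centralizer ((Q : Subgroup G) : Set G) := mem_centralizer_iff.2 fun s hs =>
      mem_centralizer_singleton_iff.1 (map_subtype_le _ hs)
    refine hc q Q y ?_ hyQ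
    have hyp : IsPGroup q (zpowers y) := IsPGroup.of_card (n := k) (by rw [Nat.card_zpowers, hyo])
    have hle : zpowers y ≤ normalizer ((Q : Subgroup G) : Set G) :=
      zpowers_le.2 (centralizer_le_normalizer _ hyQ)
    have h1 := hyp.inf_normalizer_sylow Q
    exact ((le_inf le_rfl hle).trans (h1.le.trans inf_le_right)) (mem_zpowers y)

section Nilpotent

variable (hH : Group.IsNilpotent H)

include hH in
theorem sylow_normal {q : ℕ} [Fact q.Prime] (Q : Sylow q H) : (Q : Subgroup H).Normal := by
  haveI := hH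
  exact ((Group.isNilpotent_of_finite_tfae (G := H)).out 0 3 rfl rfl).mp hH q inferInstance Q

include hH in
theorem commute_of_ne {q r : ℕ} (hq : q.Prime) (hr : r.Prime) (hqr : q ≠ r) {x y : H}
    (hx : ∃ k, orderOf x = q ^ k) (hy : ∃ k, orderOf y = r ^ k) : Commute x y := by
  haveI := Fact.mk hq
  haveI := Fact.mk hr
  obtain ⟨k, hk⟩ := hx
  obtain ⟨l, hl⟩ := hy
  obtain ⟨Q, hQ⟩ := (IsPGroup.of_card (n := k) (by rw [Nat.card_zpowers, hk]) : IsPGroup q (zpowers x)).exists_le_sylow
  obtain ⟨R, hR⟩ := (IsPGroup.of_card (n := l) (by rw [Nat.card_zpowers, hl]) : IsPGroup r (zpowers y)).exists_le_sylow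
  haveI := sylow_normal hH Q
  haveI := sylow_normal hH R
  exact commute_of_normal_of_disjoint _ _ inferInstance inferInstance (IsPGroup.disjoint_of_ne q r hqr _ _ Q.2 R.2)
    x y (hQ (mem_zpowers x)) (hR (mem_zpowers y))

include hH in
theorem mem_sylow_of_order {q : ℕ} [Fact q.Prime] (Q : Sylow q H) {x : H} {k : ℕ} (hx : orderOf x = q ^ k) :
    x ∈ (Q : Subgroup H) := by
  haveI := sylow_normal hH Q
  obtain ⟨Q', hQ'⟩ := (IsPGroup.of_card (n := k) (by rw [Nat.card_zpowers, hx]) : IsPGroup q (zpowers x)).exists_le_sylow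
  haveI := Sylow.unique_of_normal Q inferInstance
  rw [Subsingleton.elim Q' Q] at hQ'
  exact hQ' (mem_zpowers x)

theorem exists_order_eq {q : ℕ} [Fact q.Prime] (Q : Sylow q H) {x : H} (hx : x ∈ (Q : Subgroup H)) :
    ∃ k, orderOf x = q ^ k := by
  obtain ⟨k, hk⟩ := IsPGroup.iff_orderOf.1 Q.2 ⟨x, hx⟩
  exact ⟨k, by rwa [Subgroup.orderOf_mk] at hk⟩

include hH in
theorem centralCentres : CentralCentres H := by
  intro q _ Q x hxQ hxC
  refine mem_center_iff.2 fun g => ?_
  have : g ∈ centralizer ({x} : Set H) := TwoSizes.mem_of_primary _ g fun y _ r k hr hy => by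
    refine mem_centralizer_singleton_iff.2 ?_
    rcases eq_or_ne r q with rfl | hne
    · exact mem_centralizer_iff.1 hxC y (mem_sylow_of_order hH Q hy)
    · exact commute_of_ne hH hr Fact.out hne ⟨k, hy⟩ (exists_order_eq Q hxQ)
  exact mem_centralizer_singleton_iff.1 this

include hH in
theorem card_regular {q : ℕ} [Fact q.Prime] (Q : Sylow q H) :
    Nat.card {x : H // ¬ q ∣ cIdx x} * Nat.card (Q : Subgroup H) =
      Nat.card H * Nat.card ((Q : Subgroup H) ⊓ center H : Subgroup H) := by
  set C := centralizer ((Q : Subgroup H) : Set H) with hC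
  have hT : Nat.card {x : H // ¬ q ∣ cIdx x} = Nat.card C := by
    refine Nat.card_congr (Equiv.subtypeEquivRight fun x => ⟨fun hx => ?_, fun hx hd => ?_⟩)
    · refine mem_centralizer_iff.2 fun s hs => ?_
      obtain ⟨k, hk⟩ := exists_order_eq Q hs
      obtain ⟨S⟩ : Nonempty (Sylow q (centralizer ({x} : Set H))) := inferInstance
      have hScard : Nat.card ((S : Subgroup (centralizer ({x} : Set H))).map (centralizer ({x} : Set H)).subtype) =
          Nat.card (Q : Subgroup H) := by
        rw [← Nat.card_congr ((S : Subgroup (centralizer ({x} : Set H))).equivMapOfInjective _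
            (centralizer ({x} : Set H)).subtype_injective).toEquiv, S.card_eq_multiplicity, Q.card_eq_multiplicity,
          ← (centralizer ({x} : Set H)).card_mul_index,
          Nat.factorization_mul Nat.card_pos.ne' index_ne_zero_of_finite,
          Finsupp.add_apply, Nat.factorization_eq_zero_of_not_dvd hx, add_zero]
      have hle : (S : Subgroup (centralizer ({x} : Set H))).map (centralizer ({x} : Set H)).subtype ≤ Q := by
        rintro _ ⟨t, ht, rfl⟩
        obtain ⟨l, hl⟩ := IsPGroup.iff_orderOf.1 S.2 ⟨t, ht⟩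
        rw [Subgroup.orderOf_mk] at hl
        exact mem_sylow_of_order hH Q (show orderOf ((t : H)) = q ^ l by rw [Subgroup.orderOf_coe, hl])
      have heq := eq_of_le_of_card_ge hle hScard.ge
      exact mem_centralizer_singleton_iff.1 (map_subtype_le _ (heq ▸ hs))
    · exact Q.not_dvd_index (hd.trans (index_dvd_of_le fun s hs =>
        mem_centralizer_singleton_iff.2 (mem_centralizer_iff.1 hx s hs)))
  haveI := sylow_normal hH Q
  have hsup : (Q : Subgroup H) ⊔ C = ⊤ := by
    refine eq_top_iff.2 fun g _ => TwoSizes.mem_of_primary _ g fun y _ r k hr hy => ?_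
    rcases eq_or_ne r q with rfl | hne
    · exact mem_sup_left (mem_sylow_of_order hH Q hy)
    · exact mem_sup_right (mem_centralizer_iff.2 fun s hs =>
        (commute_of_ne hH hr Fact.out hne ⟨k, hy⟩ (exists_order_eq Q hs)).symm)
  have hinf : (Q : Subgroup H) ⊓ C = (Q : Subgroup H) ⊓ center H :=
    le_antisymm (fun x hx => ⟨hx.1, centralCentres hH q Q x hx.1 hx.2⟩)
      (inf_le_inf_left _ (center_le_centralizer _))
  have h := CfsgLib.Core.card_sup_mul_card_inf C (Q : Subgroup H) (by rw [normalizer_eq_top]; exact le_top)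
  rw [sup_comm] at h
  rw [hT]
  rw [inf_comm] at h
  first
    | (rw [hsup, hinf, Subgroup.card_top] at h; exact h.symm)
    | (rw [sup_comm, hsup, hinf, Subgroup.card_top] at h; exact h.symm)

include hH in
theorem card_special {p : ℕ} [Fact p.Prime] (P : Sylow p H) :
    Nat.card {x : H // ∀ q : ℕ, q.Prime → q ∣ cIdx x → q = p} =
      Nat.card ((P : Subgroup H) ⊔ center H : Subgroup H) := by
  haveI := sylow_normal hH P
  refine Nat.card_congr (Equiv.subtypeEquivRight fun x => ⟨fun hx => ?_, fun hx => ?_⟩)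
  · have := mem_sup_core (centralCentres hH) P hx
    rwa [normalCore_eq_self] at this
  · intro q hq hd
    by_contra hne
    haveI := Fact.mk hq
    obtain ⟨u, hu, z, hz, rfl⟩ := (mem_sup_of_normal_left).1 hx
    obtain ⟨Q⟩ : Nonempty (Sylow q H) := inferInstance
    refine Q.not_dvd_index (hd.trans (index_dvd_of_le fun s hs => mem_centralizer_singleton_iff.2 ?_))
    exact ((commute_of_ne hH hq Fact.out hne (exists_order_eq Q hs) (exists_order_eq P hu)).mul_right
      (mem_center_iff.1 hz s)).eq

end Nilpotent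

theorem Same.centralCentres (h : Same G H) (hH : Group.IsNilpotent H) : CentralCentres G := by
  classical
  intro q hqf Q x hxQ hxC
  obtain ⟨QH⟩ : Nonempty (Sylow q H) := inferInstance
  have hq := (Fact.out : q.Prime)
  set Z := (Q : Subgroup G) ⊓ center G with hZ
  haveI : Z.Normal := ⟨fun n hn g => by rw [mem_center_iff.1 hn.2 g, mul_inv_cancel_right]; exact hn⟩
  set T : Set G := {t | ¬ q ∣ cIdx t} with hT
  have hTcard : Nat.card T = Nat.card Z * (Q : Subgroup G).index := by
    have h1 : Nat.card T = Nat.card {x : H // ¬ q ∣ cIdx x} := h.card_eq fun k => ¬ q ∣ k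
    have h2 := card_regular hH QH
    rw [← h1, card_inf_center, ← h.card_center, QH.card_eq_multiplicity, ← h.card_group, ← card_inf_center Q,
      ← Q.card_eq_multiplicity, ← (Q : Subgroup G).card_mul_index] at h2
    refine Nat.eq_of_mul_eq_mul_right (Nat.card_pos (α := (Q : Subgroup G))) ?_
    rw [h2]
    ring
  have hTmul : ∀ t ∈ T, ∀ z ∈ Z, t * z ∈ T := by
    intro t ht z hz hd
    refine ht (hd.trans (index_dvd_of_le fun g hg => ?_))
    rw [mem_centralizer_singleton_iff] at hg ⊢
    exact (Commute.mul_right hg (mem_center_iff.1 hz.2 g)).eq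
  set S : Set (G ⧸ Z) := (QuotientGroup.mk : G → G ⧸ Z) '' T with hS
  have hTS : T = QuotientGroup.mk ⁻¹' S := by
    refine Set.Subset.antisymm (Set.subset_preimage_image _ _) ?_
    rintro g ⟨t, ht, htg⟩
    have := hTmul t ht _ (QuotientGroup.eq.1 htg)
    rwa [mul_inv_cancel_left] at this
  have hScard : Nat.card S = (Q : Subgroup G).index := by
    have h1 := Nat.card_congr (QuotientGroup.preimageMkEquivSubgroupProdSet Z S)
    rw [← hTS, Nat.card_prod, hTcard] at h1
    exact (Nat.eq_of_mul_eq_mul_left Nat.card_pos h1).symm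
  have hSinv : ∀ (u : G) (c : G ⧸ Z), c ∈ S → (u : G ⧸ Z) * c * (u : G ⧸ Z)⁻¹ ∈ S := by
    rintro u _ ⟨t, ht, rfl⟩
    refine ⟨u * t * u⁻¹, fun hd => ht ?_, rfl⟩
    have e : cIdx (u * t * u⁻¹) = cIdx t := by
      rw [cIdx, cIdx, ← CfsgLib.Orders.card_carrier_eq_index, ← CfsgLib.Orders.card_carrier_eq_index,
        ConjClasses.mk_eq_mk_iff_isConj.2 (isConj_iff.2 ⟨u, rfl⟩ : IsConj t (u * t * u⁻¹))]
    rwa [e] at hd
  letI : MulAction (Q : Subgroup G) S :=
    { smul := fun u c => ⟨((u : G) : G ⧸ Z) * c * ((u : G) : G ⧸ Z)⁻¹, hSinv u c c.2⟩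
      one_smul := fun c => Subtype.ext (by
        show ((((1 : (Q : Subgroup G)) : G)) : G ⧸ Z) * c * ((((1 : (Q : Subgroup G)) : G)) : G ⧸ Z)⁻¹ = c
        simp)
      mul_smul := fun a b c => Subtype.ext (by
        show (((a * b : (Q : Subgroup G)) : G) : G ⧸ Z) * c * (((a * b : (Q : Subgroup G)) : G) : G ⧸ Z)⁻¹ =
          ((a : G) : G ⧸ Z) * (((b : G) : G ⧸ Z) * c * ((b : G) : G ⧸ Z)⁻¹) * ((a : G) : G ⧸ Z)⁻¹
        rw [Subgroup.coe_mul, QuotientGroup.mk_mul]
        group) }
  have hmem : ∀ t ∈ centralizer ((Q : Subgroup G) : Set G), t ∈ T := fun t ht hd =>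
    Q.not_dvd_index (hd.trans (index_dvd_of_le fun s hs =>
      mem_centralizer_singleton_iff.2 (mem_centralizer_iff.1 ht s hs)))
  have hfix : Nat.card (MulAction.fixedPoints (Q : Subgroup G) S) =
      Nat.card ((centralizer ((Q : Subgroup G) : Set G)).map (QuotientGroup.mk' Z)) := by
    refine Nat.card_congr
      { toFun := fun c => ⟨(c : S).1, ?_⟩
        invFun := fun c => ⟨⟨c.1, ?_⟩, ?_⟩
        left_inv := fun c => rfl
        right_inv := fun c => rfl }
    · obtain ⟨⟨c, hc⟩, hcf⟩ := c
      obtain ⟨t, ht, rfl⟩ := hc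
      refine ⟨t, mem_centralizer_iff.2 fun u hu => ?_, rfl⟩
      -- the stabiliser modulo the centre
      let M : Subgroup G := (centralizer ({(t : G ⧸ Z)} : Set (G ⧸ Z))).comap (QuotientGroup.mk' Z)
      have hMu : u ∈ M := by
        show (u : G ⧸ Z) ∈ centralizer ({(t : G ⧸ Z)} : Set (G ⧸ Z))
        rw [mem_centralizer_singleton_iff]
        have h1 := congrArg Subtype.val (hcf ⟨u, hu⟩)
        exact mul_inv_eq_iff_eq_mul.1 h1
      have hcom : ∀ g : M, (g : G) * t * (g : G)⁻¹ * t⁻¹ ∈ Z := fun g => by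
        rw [← QuotientGroup.eq_one_iff]
        have h1 : ((g : G) : G ⧸ Z) * (t : G ⧸ Z) = (t : G ⧸ Z) * ((g : G) : G ⧸ Z) :=
          mem_centralizer_singleton_iff.1 g.2
        simp only [QuotientGroup.mk_mul, QuotientGroup.mk_inv]
        rw [h1]
        group
      let f : M →* Z := MonoidHom.mk' (fun g => ⟨(g : G) * t * (g : G)⁻¹ * t⁻¹, hcom g⟩) fun g g' => Subtype.ext (by
        show (g * g' : G) * t * (g * g' : G)⁻¹ * t⁻¹ = (g : G) * t * (g : G)⁻¹ * t⁻¹ * ((g' : G) * t * (g' : G)⁻¹ * t⁻¹)
        rw [mem_center_iff.1 (hcom g').2 ((g : G) * t * (g : G)⁻¹ * t⁻¹)]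
        have hc' := mem_center_iff.1 (hcom g').2 (g : G)
        calc (g * g' : G) * t * (g * g' : G)⁻¹ * t⁻¹
            = (g : G) * ((g' : G) * t * (g' : G)⁻¹ * t⁻¹) * t * (g : G)⁻¹ * t⁻¹ := by group
          _ = _ := by rw [hc']; group)
      have hker : f.ker = (centralizer ({t} : Set G)).subgroupOf M := by
        ext g
        rw [MonoidHom.mem_ker, mem_subgroupOf, mem_centralizer_singleton_iff]
        constructor
        · intro h1
          have h2 := congrArg Subtype.val h1
          exact mul_inv_eq_iff_eq_mul.1 (mul_inv_eq_one.1 h2)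
        · intro h1
          refine Subtype.ext ?_
          show (g : G) * t * (g : G)⁻¹ * t⁻¹ = 1
          rw [h1]; group
      have hCM : centralizer ({t} : Set G) ≤ M := fun g hg => by
        show (g : G ⧸ Z) ∈ centralizer ({(t : G ⧸ Z)} : Set (G ⧸ Z))
        rw [mem_centralizer_singleton_iff, ← QuotientGroup.mk_mul, ← QuotientGroup.mk_mul,
          mem_centralizer_singleton_iff.1 hg]
      have h1 : (centralizer ({t} : Set G)).relIndex M ∣ Nat.card Z := by
        rw [Subgroup.relIndex, ← hker, index_ker]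
        exact card_subgroup_dvd_card f.range
      have h2 : (centralizer ({t} : Set G)).relIndex M ∣ cIdx t :=
        Dvd.intro _ (relIndex_mul_index hCM)
      obtain ⟨k, hk⟩ := IsPGroup.iff_card.1 (Q.2.to_le inf_le_left : IsPGroup q Z)
      rw [hk] at h1
      obtain ⟨j, hj, hje⟩ := (Nat.dvd_prime_pow hq).1 h1
      rcases j with - | j
      · rw [pow_zero, relIndex_eq_one] at hje
        exact mem_centralizer_singleton_iff.1 (hje hMu)
      · exact absurd ((dvd_pow_self q (by omega)).trans (hje ▸ h2)) ht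
    · obtain ⟨c, t, ht, rfl⟩ := c
      exact ⟨t, hmem t ht, rfl⟩
    · intro u
      refine Subtype.ext ?_
      obtain ⟨c, t, ht, rfl⟩ := c
      show ((u : G) : G ⧸ Z) * (t : G ⧸ Z) * ((u : G) : G ⧸ Z)⁻¹ = t
      rw [← QuotientGroup.mk_mul, mem_centralizer_iff.1 ht u u.2, QuotientGroup.mk_mul, mul_inv_cancel_right]
  have hmod := IsPGroup.card_modEq_card_fixedPoints (Q.2 : IsPGroup q (Q : Subgroup G)) S
  rw [hScard, hfix] at hmod
  set U := ((Q : Subgroup G) ⊓ centralizer ((Q : Subgroup G) : Set G)).map (QuotientGroup.mk' Z) with hU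
  have hU1 : Nat.card U = 1 := by
    obtain ⟨k, hk⟩ := IsPGroup.iff_card.1 ((Q.2.to_le inf_le_left :
      IsPGroup q ((Q : Subgroup G) ⊓ centralizer ((Q : Subgroup G) : Set G) : Subgroup G)).map (QuotientGroup.mk' Z))
    rcases k with - | k
    · exact hk.trans (pow_zero q)
    · exfalso
      have hd : q ∣ Nat.card ((centralizer ((Q : Subgroup G) : Set G)).map (QuotientGroup.mk' Z)) :=
        ((dvd_pow_self q (by omega)).trans hk.symm.dvd).trans (card_dvd_of_le (map_mono inf_le_right))
      exact Q.not_dvd_index (Nat.modEq_zero_iff_dvd.1 (hmod.trans (Nat.modEq_zero_iff_dvd.2 hd)))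
  have hxU : (x : G ⧸ Z) ∈ U := ⟨x, ⟨hxQ, hxC⟩, rfl⟩
  rw [card_eq_one.1 hU1, mem_bot, QuotientGroup.eq_one_iff] at hxU
  exact hxU.2

theorem isNilpotent_of_same (h : Same G H) (hH : Group.IsNilpotent H) : Group.IsNilpotent G := by
  refine ((Group.isNilpotent_of_finite_tfae (G := G)).out 0 3 rfl rfl).mpr fun p hp P => ?_
  haveI := hp
  obtain ⟨PH⟩ : Nonempty (Sylow p H) := inferInstance
  have hS : Nat.card {x : G // ∀ q : ℕ, q.Prime → q ∣ cIdx x → q = p} ≤
      Nat.card ((P : Subgroup G).normalCore ⊔ center G : Subgroup G) :=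
    Nat.card_le_card_of_injective (fun x => ⟨x.1, mem_sup_core (h.centralCentres hH) P x.2⟩)
      (fun a b hab => Subtype.ext (congrArg Subtype.val hab :))
  rw [h.card_eq (fun k => ∀ q : ℕ, q.Prime → q ∣ k → q = p), card_special hH PH] at hS
  set N := (P : Subgroup G).normalCore with hN
  have hG := CfsgLib.Core.card_sup_mul_card_inf (center G) N (by rw [normalizer_eq_top]; exact le_top)
  haveI := sylow_normal hH PH
  have hH' := CfsgLib.Core.card_sup_mul_card_inf (center H) (PH : Subgroup H) (by rw [normalizer_eq_top]; exact le_top)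
  have hinfN : N ⊓ center G = (P : Subgroup G) ⊓ center G := by
    refine le_antisymm (inf_le_inf_right _ (normalCore_le _)) fun x hx => ⟨fun g => ?_, hx.2⟩
    rw [mem_center_iff.1 hx.2 g, mul_inv_cancel_right]; exact hx.1
  rw [sup_comm (center G) N] at hG
  rw [sup_comm (center H)] at hH'
  rw [inf_comm (center G), hinfN, card_inf_center] at hG
  rw [inf_comm (center H), card_inf_center, ← h.card_center] at hH'
  have hpos : 0 < p ^ (Nat.card (center G)).factorization p := pow_pos (Fact.out : p.Prime).pos _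
  have hle : Nat.card (PH : Subgroup H) ≤ Nat.card N := by
    refine Nat.le_of_mul_le_mul_left ?_ (Nat.card_pos (α := center G))
    nlinarith [Nat.mul_le_mul_right (p ^ (Nat.card (center G)).factorization p) hS]
  rw [PH.card_eq_multiplicity, ← h.card_group, ← P.card_eq_multiplicity] at hle
  rw [← eq_of_le_of_card_ge (normalCore_le _) hle]
  infer_instance

end CfsgLib.ClassSizes.SameSizes
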