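import Mathlib
import Cfsg.Agent.Lib.Perm.SimpleCount
import Cfsg.Agent.S4304

/-!
Small cases: primitive groups of degree 6 and 7 of order divisible by large primes.
-/

set_option linter.style.haveILetI false

namespace CfsgLib.ClassSizes

open Equiv MulAction

variable {β : Type*} [Fintype β] [DecidableEq β]

/-- A normal subgroup of a primitive group whose order is not divisible by the degree is trivial. -/
theorem normal_eq_bot_of_not_dvd (K : Subgroup (Perm β)) [IsPreprimitive K β] (N : Subgroup K)
    [N.Normal] (hN : ¬ Fintype.card β ∣ Nat.card N) : N = ⊥ := by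
  classical
  rw [Subgroup.eq_bot_iff_forall]
  intro g hg
  apply Subtype.ext
  apply Equiv.ext
  intro b
  rcases IsPreprimitive.isTrivialBlock_of_isBlock (IsBlock.orbit_of_normal (N := N) b : IsBlock K _) with h | h
  · exact h (⟨⟨g, hg⟩, rfl⟩ : (g.1 b) ∈ orbit N b) (mem_orbit_self b)
  · refine absurd ?_ hN
    have h1 := MulAction.index_stabilizer N b
    rw [h, Set.ncard_univ, Nat.card_eq_fintype_card] at h1
    rw [← h1]
    exact Subgroup.index_dvd_card _

omit [DecidableEq β] in
theorem degree_dvd_card (K : Subgroup (Perm β)) [IsPretransitive K β] [Nonempty β] :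
    Fintype.card β ∣ Nat.card K := by
  rw [← Nat.card_eq_fintype_card, ← index_stabilizer_of_transitive K (Classical.arbitrary β)]
  exact Subgroup.index_dvd_card _

theorem card_subgroupOf_alternating {K : Subgroup (Perm β)} (hK : K ≤ alternatingGroup β) :
    Nat.card (K.subgroupOf (alternatingGroup β)) = Nat.card K :=
  Nat.card_congr (Subgroup.subgroupOfEquivOfLe hK).toEquiv

/-- Degree 6. -/
theorem exists_equiv_of_six (hβ : Fintype.card β = 6) (K : Subgroup (Perm β))
    (hK : K ≤ alternatingGroup β) (hprim : IsPreprimitive K β) (h3 : 3 ∣ Nat.card K) {y : Perm β}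
    (hy : y ∈ K) (hyo : orderOf y = 5) :
    ∃ d, 5 ≤ d ∧ Nonempty (K ≃* alternatingGroup (Fin d)) := by
  classical
  haveI := hprim
  haveI : Nonempty β := Fintype.card_pos_iff.1 (by omega)
  haveI : Nontrivial β := Fintype.one_lt_card_iff_nontrivial.1 (by omega)
  haveI : IsSimpleGroup (alternatingGroup β) :=
    alternatingGroup.isSimpleGroup (by rw [Nat.card_eq_fintype_card]; omega)
  have hA : Nat.card (alternatingGroup β) = 360 := by
    rw [nat_card_alternatingGroup, Nat.card_eq_fintype_card, hβ]; rfl
  have h5 : 5 ∣ Nat.card K := hyo ▸ Subgroup.orderOf_mk y hy ▸ orderOf_dvd_natCard _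
  have h6 : 6 ∣ Nat.card K := hβ ▸ degree_dvd_card K
  have h30 : 30 ∣ Nat.card K := Nat.Coprime.mul_dvd_of_dvd_of_dvd (by norm_num : Nat.Coprime 6 5) h6 h5
  set K' := K.subgroupOf (alternatingGroup β)
  have hK' : Nat.card K' = Nat.card K := card_subgroupOf_alternating hK
  have hmul : Nat.card K * K'.index = 360 := by rw [← hK', Subgroup.card_mul_index, hA]
  have hnc : ¬ IsMulCommutative (alternatingGroup β) :=
    CfsgLib.Perm.not_comm_of_not_prime (by rw [hA]; norm_num)
  by_cases htop : K' = ⊤
  · have heq : alternatingGroup β ≤ K := Subgroup.subgroupOf_eq_top.1 htop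
    refine ⟨6, by norm_num, ⟨(MulEquiv.subgroupCongr (le_antisymm hK heq)).trans
      (Equiv.altCongrHom (Fintype.equivFinOfCardEq hβ))⟩⟩
  have hdvd : 2 * 360 ∣ K'.index.factorial := hA ▸ CfsgLib.Perm.two_mul_card_dvd_factorial_index hnc K' htop
  have hk : 6 ≤ K'.index := by
    by_contra hlt
    have h1 : 720 ∣ Nat.factorial 5 := hdvd.trans (Nat.factorial_dvd_factorial (by omega))
    norm_num [Nat.factorial] at h1
  rcases hk.eq_or_lt with hk6 | hk6
  · -- index 6: a point stabilizer in another action
    refine ⟨5, le_rfl, ?_⟩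
    let Q := alternatingGroup β ⧸ K'
    haveI : Fintype Q := Fintype.ofFinite _
    let f : alternatingGroup β →* Perm Q := MulAction.toPermHom _ Q
    have hf : Function.Injective f := CfsgLib.Perm.toPermHom_quotient_injective K' htop
    let c0 : Q := ((1 : alternatingGroup β) : Q)
    let γ := {c : Q // c ≠ c0}
    have hfix : ∀ k : K', f k.1 c0 = c0 := fun k => by
      change ((k.1 * 1 : alternatingGroup β) : Q) = c0
      rw [mul_one]
      exact QuotientGroup.eq.2 (by simp [k.2])
    have hinv : ∀ k : K', ∀ c, f k.1 c ≠ c0 ↔ c ≠ c0 := fun k c => not_congr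
      ⟨fun h => (f k.1).injective (h.trans (hfix k).symm), fun h => h ▸ hfix k⟩
    let r : K' →* Perm γ :=
      { toFun := fun k => (f k.1).subtypePerm (hinv k)
        map_one' := by ext c; simp
        map_mul' := fun a b => by ext c; simp }
    have hr : Function.Injective r := by
      intro a b hab
      refine Subtype.ext (hf (Equiv.ext fun c => ?_))
      by_cases hc : c = c0
      · rw [hc, hfix a, hfix b]
      · exact congrArg Subtype.val (Equiv.ext_iff.1 hab ⟨c, hc⟩)
    have heven : r.range ≤ alternatingGroup γ := by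
      rintro _ ⟨k, rfl⟩
      rw [Perm.mem_alternatingGroup]
      refine Eq.trans (Perm.sign_subtypePerm (f k.1) (hinv k) fun c hc h => hc (h ▸ hfix k)) ?_
      exact CfsgLib.Perm.hom_comm_trivial hnc (Perm.sign.comp f) k.1
    have hγ : Fintype.card γ = 5 := by
      rw [Fintype.card_subtype_compl, Fintype.card_subtype_eq, ← Nat.card_eq_fintype_card]
      change K'.index - 1 = 5
      omega
    haveI : Nontrivial γ := Fintype.one_lt_card_iff_nontrivial.1 (by omega)
    have hcard : Nat.card r.range = Nat.card (alternatingGroup γ) := by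
      rw [← Nat.card_congr (MonoidHom.ofInjective hr).toEquiv, hK', nat_card_alternatingGroup,
        Nat.card_eq_fintype_card (α := γ), hγ]
      rw [← hk6] at hmul
      simp only [Nat.factorial]
      omega
    exact ⟨((Subgroup.subgroupOfEquivOfLe hK).symm.trans (MonoidHom.ofInjective hr)).trans
      ((MulEquiv.subgroupCongr (Subgroup.eq_of_le_of_card_ge heven hcard.ge)).trans
        (Equiv.altCongrHom (Fintype.equivFinOfCardEq hγ)))⟩
  · -- order 30: impossible
    exfalso
    have hle : Nat.card K ≤ 51 := by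
      by_contra h
      have : 52 * 7 ≤ Nat.card K * K'.index := Nat.mul_le_mul (by omega) (by omega)
      omega
    have hc30 : Nat.card K = 30 := by
      have := Nat.card_pos (α := K)
      obtain ⟨c, hc⟩ := h30
      omega
    haveI : Fact (Nat.Prime 5) := ⟨by norm_num⟩
    haveI : Fact (Nat.Prime 3) := ⟨by norm_num⟩
    let P : Sylow 5 K := default
    have hP : Nat.card (P : Subgroup K) = 5 := by
      rw [CfsgLib.Perm.sylow_card_eq P (k := 1) (m := 6) (by rw [hc30]; norm_num) (by norm_num), pow_one]
    have hn6 : Nat.card (Sylow 5 K) ∣ 6 :=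
      CfsgLib.Perm.card_sylow_dvd_of_card_eq (k := 1) (by rw [hc30]; norm_num)
    have hn1 : Nat.card (Sylow 5 K) ≠ 1 := by
      intro h
      haveI : Subsingleton (Sylow 5 K) := (Nat.card_eq_one_iff_unique.1 h).1
      haveI := P.normal_of_subsingleton
      have := normal_eq_bot_of_not_dvd K (P : Subgroup K) (by rw [hP, hβ]; norm_num)
      rw [this, Subgroup.card_bot] at hP
      omega
    have hn : Nat.card (Sylow 5 K) = 6 := by
      have hmod : Nat.card (Sylow 5 K) % 5 = 1 := card_sylow_modEq_one 5 K
      have := Nat.le_of_dvd (by norm_num) hn6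
      omega
    have hN : Subgroup.normalizer ((P : Subgroup K) : Set K) = (P : Subgroup K) := by
      have h1 := (Subgroup.normalizer ((P : Subgroup K) : Set K)).card_mul_index
      have e : (Subgroup.normalizer ((P : Subgroup K) : Set K)).index = 6 := by
        rw [← hn, P.card_eq_index_normalizer]; rfl
      rw [e, hc30] at h1
      exact (Subgroup.eq_of_le_of_card_ge Subgroup.le_normalizer (by omega)).symm
    have hNC : Subgroup.normalizer ((P : Subgroup K) : Set K) ≤ Subgroup.centralizer ((P : Subgroup K) : Set K) := by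
      rw [hN]
      haveI : IsCyclic (P : Subgroup K) := isCyclic_of_prime_card hP
      exact Subgroup.le_centralizer _
    have hcompl := MonoidHom.ker_transferSylow_isComplement' P hNC
    set L := (MonoidHom.transferSylow P hNC).ker
    have hL : Nat.card L = 6 := by
      have := hcompl.card_mul
      rw [hP, hc30] at this
      omega
    let R : Sylow 3 L := default
    have hR : Nat.card (R : Subgroup L) = 3 := by
      rw [CfsgLib.Perm.sylow_card_eq R (k := 1) (m := 2) (by rw [hL]; norm_num) (by norm_num), pow_one]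
    have hRi : (R : Subgroup L).index = 2 := by
      have := (R : Subgroup L).card_mul_index
      rw [hR, hL] at this
      omega
    haveI : (R : Subgroup L).Normal := Subgroup.normal_of_index_eq_two hRi
    haveI := Sylow.characteristic_of_normal R inferInstance
    haveI : ((R : Subgroup L).map L.subtype).Normal := ConjAct.normal_of_characteristic_of_normal
    have h1 : Nat.card ((R : Subgroup L).map L.subtype) = Nat.card (R : Subgroup L) :=
      (Nat.card_congr (Subgroup.equivMapOfInjective (R : Subgroup L) L.subtype L.subtype_injective).toEquiv).symm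
    rw [hR, normal_eq_bot_of_not_dvd K ((R : Subgroup L).map L.subtype) (by rw [h1, hβ]; norm_num),
      Subgroup.card_bot] at h1
    omega

/-- Degree 7. -/
theorem alternatingGroup_le_of_seven (hβ : Fintype.card β = 7) (K : Subgroup (Perm β))
    (hK : K ≤ alternatingGroup β) {y : Perm β} (hy : y ∈ K) (hyc : y.IsCycle)
    (hys : y.support.card = 7) (h5 : 5 ∣ Nat.card K) : alternatingGroup β ≤ K := by
  classical
  haveI : Nontrivial β := Fintype.one_lt_card_iff_nontrivial.1 (by omega)
  haveI : IsSimpleGroup (alternatingGroup β) :=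
    alternatingGroup.isSimpleGroup (by rw [Nat.card_eq_fintype_card]; omega)
  haveI h7 : Fact (Nat.Prime 7) := ⟨by norm_num⟩
  haveI : Fact (Nat.Prime 5) := ⟨by norm_num⟩
  have hA : Nat.card (alternatingGroup β) = 2520 := by
    rw [nat_card_alternatingGroup, Nat.card_eq_fintype_card, hβ]; rfl
  set K' := K.subgroupOf (alternatingGroup β) with hK'def
  have hmul : Nat.card K * K'.index = 2520 := by
    rw [← card_subgroupOf_alternating hK, ← hK'def, Subgroup.card_mul_index, hA]
  by_contra hne
  have htop : K' ≠ ⊤ := fun h => hne (Subgroup.subgroupOf_eq_top.1 h)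
  have hnc : ¬ IsMulCommutative (alternatingGroup β) :=
    CfsgLib.Perm.not_comm_of_not_prime (by rw [hA]; norm_num)
  have hdvd : 2 * 2520 ∣ K'.index.factorial := hA ▸ CfsgLib.Perm.two_mul_card_dvd_factorial_index hnc K' htop
  have hk : 7 ≤ K'.index := by
    by_contra hlt
    have h1 : 2 * 2520 ∣ Nat.factorial 6 := hdvd.trans (Nat.factorial_dvd_factorial (by omega))
    norm_num [Nat.factorial] at h1
  have hle : Nat.card K ≤ 360 := by
    by_contra h
    have : 361 * 7 ≤ Nat.card K * K'.index := Nat.mul_le_mul (by omega) hk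
    omega
  have hKd : Nat.card K ∣ 2520 := hmul ▸ dvd_mul_right _ _
  have hyo : orderOf y = 7 := by rw [hyc.orderOf, hys]
  let yk : K := ⟨y, hy⟩
  have hyk : orderOf yk = 7 := by rw [Subgroup.orderOf_mk, hyo]
  obtain ⟨P, hP⟩ := (IsPGroup.of_card (p := 7) (n := 1) (G := Subgroup.zpowers yk)
    (by rw [Nat.card_zpowers, hyk, pow_one])).exists_le_sylow
  obtain ⟨m, hm⟩ : 7 ∣ Nat.card K := hyk ▸ orderOf_dvd_natCard yk
  have hm7 : ¬ 7 ∣ m := by
    rintro ⟨c, rfl⟩
    have h1 : 49 ∣ 2520 := (Dvd.intro c (by rw [hm]; ring)).trans hKd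
    norm_num at h1
  have hPc : Nat.card (P : Subgroup K) = 7 := by
    rw [CfsgLib.Perm.sylow_card_eq P (k := 1) (by rw [hm, pow_one]) hm7, pow_one]
  have hPy : Subgroup.zpowers yk = (P : Subgroup K) :=
    Subgroup.eq_of_le_of_card_ge hP (by rw [hPc, Nat.card_zpowers, hyk])
  set N := Subgroup.normalizer ((P : Subgroup K) : Set K) with hN
  have hN5 : ¬ 5 ∣ Nat.card N := by
    intro h
    obtain ⟨⟨g, hg⟩, hgo⟩ := exists_prime_orderOf_dvd_card' (G := N) 5 h
    rw [Subgroup.orderOf_mk] at hgo
    haveI : IsCyclic (P : Subgroup K) := isCyclic_of_prime_card hPc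
    set φ := Subgroup.normalizerMonoidHom (P : Subgroup K) with hφ
    have h1 : orderOf (φ ⟨g, hg⟩) = 1 := by
      refine Nat.eq_one_of_dvd_coprimes (by norm_num : Nat.Coprime 6 5) ?_
        ((orderOf_map_dvd φ _).trans (by rw [Subgroup.orderOf_mk, hgo]))
      refine (_root_.orderOf_dvd_natCard _).trans ?_
      rw [IsCyclic.card_mulAut, hPc, Nat.totient_prime (by norm_num)]
    rw [orderOf_eq_one_iff] at h1
    have hker : (⟨g, hg⟩ : N) ∈ φ.ker := h1
    rw [hφ, Subgroup.normalizerMonoidHom_ker, Subgroup.mem_subgroupOf] at hker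
    have hcomm := Subgroup.mem_centralizer_iff.1 hker yk (hPy ▸ Subgroup.mem_zpowers yk)
    have hgc : (g : Perm β) ∈ Subgroup.centralizer {y} := by
      rw [Subgroup.mem_centralizer_iff]
      intro z hz
      rw [Set.mem_singleton_iff] at hz
      subst hz
      exact congrArg Subtype.val hcomm
    have h2 : orderOf (g : Perm β) ∣ 7 := by
      have hc : Nat.card (Subgroup.centralizer {y}) = 7 := by
        rw [Perm.nat_card_centralizer, hyc.cycleType, hys, hβ]
        simp
      rw [← hc, ← Subgroup.orderOf_mk _ hgc]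
      exact orderOf_dvd_natCard _
    rw [Subgroup.orderOf_coe, hgo] at h2
    norm_num at h2
  set n := Nat.card (Sylow 7 K) with hndef
  have hnN : n * Nat.card N = Nat.card K := by
    rw [hndef, show Nat.card (Sylow 7 K) = N.index from P.card_eq_index_normalizer, Subgroup.index_mul_card]
  have h5n : 5 ∣ n := ((by norm_num : Nat.Prime 5).dvd_mul.1 (hnN.symm ▸ h5)).resolve_right hN5
  have h7N : 7 ≤ Nat.card N := hPc ▸ Nat.le_of_dvd Nat.card_pos (Subgroup.card_dvd_of_le Subgroup.le_normalizer)
  have hn51 : n ≤ 51 := by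
    by_contra h
    have : 52 * 7 ≤ n * Nat.card N := Nat.mul_le_mul (by omega) h7N
    omega
  have hmod : n % 7 = 1 := card_sylow_modEq_one 7 K
  have hn15 : n ≠ 15 := Cfsg.Agent.S4304.result
  have hnd : n ∣ 2520 := (hnN ▸ dvd_mul_right n _ : n ∣ Nat.card K).trans hKd
  have : n = 50 := by omega
  rw [this] at hnd
  norm_num at hnd

end CfsgLib.ClassSizes
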