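import Mathlib
import Cfsg.Agent.Lib.Perm.MultiTrans

/-!
Quadruply transitive groups containing a double transposition or a product of two three-cycles
contain the alternating group; small elements in normal subgroups of symmetric groups.
-/

set_option autoImplicit false

namespace CfsgLib.ClassSizes.SmallPerm

open Equiv MulAction

variable {α : Type*} [Fintype α] [DecidableEq α]

/-- double transposition in `G` -/
theorem alt_of_double (G : Subgroup (Perm α)) (h4 : IsMultiplyPretransitive G α 4)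
    (hn : 5 ≤ Fintype.card α) {a b c e : α} (hab : a ≠ b) (hac : a ≠ c) (hae : a ≠ e) (hbc : b ≠ c)
    (hbe : b ≠ e) (hce : c ≠ e) (hd : swap a b * swap c e ∈ G) : alternatingGroup α ≤ G := by
  have h2 : IsMultiplyPretransitive G α 2 := by
    haveI := h4
    exact MulAction.isMultiplyPretransitive_of_le (n := 4) (by omega)
      (by rw [Nat.card_eq_fintype_card]; omega)
  have hprim : IsPreprimitive G α := MulAction.isPreprimitive_of_is_two_pretransitive h2
  obtain ⟨f, hf⟩ : ∃ f, f ∉ ({a, b, c, e} : Finset α) := by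
    by_contra h
    push Not at h
    have := Finset.card_le_card (s := (Finset.univ : Finset α)) (fun x _ => h x)
    rw [Finset.card_univ] at this
    have := Finset.card_le_four (a := a) (b := b) (c := c) (d := e)
    omega
  simp only [Finset.mem_insert, Finset.mem_singleton, not_or] at hf
  obtain ⟨hfa, hfb, hfc, hfe⟩ := hf
  obtain ⟨g, hg, hgx⟩ := CfsgLib.Perm.ktrans_exists h4 (by omega) le_rfl
    ⟨![a, b, c, e], by intro i j; fin_cases i <;> fin_cases j <;> simp_all [eq_comm]⟩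
    ⟨![a, b, c, f], by intro i j; fin_cases i <;> fin_cases j <;> simp_all [eq_comm]⟩
  have ga : g a = a := hgx 0
  have gb : g b = b := hgx 1
  have gc : g c = c := hgx 2
  have ge : g e = f := hgx 3
  have h' : swap a b * swap c f ∈ G := by
    have h := G.mul_mem (G.mul_mem hg hd) (G.inv_mem hg)
    have e : g * (swap a b * swap c e) * g⁻¹ = (g * swap a b * g⁻¹) * (g * swap c e * g⁻¹) := by group
    rwa [e, ← Equiv.swap_apply_apply, ← Equiv.swap_apply_apply, ga, gb, gc, ge] at h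
  have h3 := G.mul_mem (G.inv_mem hd) h'
  rw [show (swap a b * swap c e)⁻¹ * (swap a b * swap c f) = swap c e * swap c f by
    rw [mul_inv_rev, swap_inv, swap_inv, mul_assoc, ← mul_assoc (swap a b), swap_mul_self, one_mul]] at h3
  exact Equiv.Perm.alternatingGroup_le_of_isPreprimitive_of_isThreeCycle_mem hprim
    (Equiv.Perm.isThreeCycle_swap_mul_swap_same hce (Ne.symm hfc) (Ne.symm hfe)) h3

/-- product of two three-cycles in `G` -/
theorem alt_of_three_three (G : Subgroup (Perm α)) (h4 : IsMultiplyPretransitive G α 4)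
    (hn : 8 ≤ Fintype.card α) (ι : Fin 6 ↪ α) {c : Perm α} (hc : c ∈ G)
    (hc0 : ∀ i : Fin 6, c (ι i) = ι ((![1, 2, 0, 4, 5, 3] : Fin 6 → Fin 6) i))
    (hc1 : ∀ z, z ∉ Set.range ι → c z = z) : alternatingGroup α ≤ G := by
  have h2 : IsMultiplyPretransitive G α 2 := by
    haveI := h4
    exact MulAction.isMultiplyPretransitive_of_le (n := 4) (by omega)
      (by rw [Nat.card_eq_fintype_card]; omega)
  have hprim : IsPreprimitive G α := MulAction.isPreprimitive_of_is_two_pretransitive h2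
  obtain ⟨g, hg, hgx⟩ := CfsgLib.Perm.ktrans_exists h4 (by omega) le_rfl
    ⟨![ι 0, ι 1, ι 3, ι 4], by intro i j; fin_cases i <;> fin_cases j <;> simp [ι.injective.eq_iff]⟩
    ⟨![ι 0, ι 1, ι 3, ι 5], by intro i j; fin_cases i <;> fin_cases j <;> simp [ι.injective.eq_iff]⟩
  have g0 : g (ι 0) = ι 0 := hgx 0
  have g1 : g (ι 1) = ι 1 := hgx 1
  have g3 : g (ι 3) = ι 3 := hgx 2
  have g4 : g (ι 4) = ι 5 := hgx 3
  set x := g (ι 2) with hx
  set y := g (ι 5) with hy
  have hxy : x ≠ y := fun h => absurd (ι.injective (g.injective h)) (by decide)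
  have hne : ∀ (u : Fin 6) (w : α) (j : Fin 6), g (ι u) = w → j ≠ u → g (ι j) ≠ w :=
    fun u w j h1 h2 h => h2 (ι.injective (g.injective (h.trans h1.symm)))
  have hxn : x ≠ ι 0 ∧ x ≠ ι 1 ∧ x ≠ ι 3 ∧ x ≠ ι 5 :=
    ⟨hne _ _ 2 g0 (by decide), hne _ _ 2 g1 (by decide), hne _ _ 2 g3 (by decide), hne _ _ 2 g4 (by decide)⟩
  have hyn : y ≠ ι 0 ∧ y ≠ ι 1 ∧ y ≠ ι 3 ∧ y ≠ ι 5 :=
    ⟨hne _ _ 5 g0 (by decide), hne _ _ 5 g1 (by decide), hne _ _ 5 g3 (by decide), hne _ _ 5 g4 (by decide)⟩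
  -- two further points containing `x` and `y` when new
  obtain ⟨j, hji, hjx, hjy⟩ : ∃ j : Fin 8 ↪ α, (∀ i : Fin 6, j ⟨i, by omega⟩ = ι i) ∧
      (x = ι 2 ∨ x = ι 4 ∨ x = j 6) ∧ (y = ι 2 ∨ y = ι 4 ∨ y = j 7) := by
    have hfresh : ∀ s : Finset α, s.card < Fintype.card α → ∃ z, z ∉ s := fun s hs => by
      by_contra h
      push Not at h
      have := Finset.card_le_card (s := (Finset.univ : Finset α)) (fun z _ => h z)
      rw [Finset.card_univ] at this
      omega
    set R := Finset.univ.map ι with hR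
    have hRc : R.card = 6 := by rw [hR, Finset.card_map, Finset.card_univ, Fintype.card_fin]
    have hmem : ∀ z, z ∈ R ↔ ∃ i, ι i = z := fun z => by simp [hR]
    obtain ⟨u, hu, huy, hux⟩ : ∃ u, u ∉ R ∧ (y ∉ R → u ≠ y) ∧ (x ∉ R → x = u) := by
      by_cases h : x ∈ R
      · obtain ⟨z, hz⟩ := hfresh (insert y R) (by have := Finset.card_insert_le y R; omega)
        rw [Finset.mem_insert, not_or] at hz
        exact ⟨z, hz.2, fun _ => hz.1, fun h' => absurd h h'⟩
      · exact ⟨x, h, fun _ => hxy, fun _ => rfl⟩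
    obtain ⟨w, hw, hwu, hwy⟩ : ∃ w, w ∉ R ∧ w ≠ u ∧ (y ∉ R → y = w) := by
      by_cases h : y ∈ R
      · obtain ⟨z, hz⟩ := hfresh (insert u R) (by have := Finset.card_insert_le u R; omega)
        rw [Finset.mem_insert, not_or] at hz
        exact ⟨z, hz.2, hz.1, fun h' => absurd h h'⟩
      · exact ⟨y, h, fun e => huy h e.symm, fun _ => rfl⟩
    have hu' : ∀ i, ι i ≠ u := fun i e => hu ((hmem u).2 ⟨i, e⟩)
    have hw' : ∀ i, ι i ≠ w := fun i e => hw ((hmem w).2 ⟨i, e⟩)
    refine ⟨⟨![ι 0, ι 1, ι 2, ι 3, ι 4, ι 5, u, w], ?_⟩, fun i => ?_, ?_, ?_⟩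
    · intro a b
      fin_cases a <;> fin_cases b <;>
        simp [ι.injective.eq_iff, hu', hw', fun i => (hu' i).symm, fun i => (hw' i).symm, hwu, hwu.symm]
    · fin_cases i <;> rfl
    · by_cases h : x ∈ R
      · obtain ⟨i, hi⟩ := (hmem x).1 h
        obtain ⟨e0, e1, e3, e5⟩ := hxn
        fin_cases i
        all_goals first
          | exact absurd hi.symm e0 | exact absurd hi.symm e1 | exact absurd hi.symm e3
          | exact absurd hi.symm e5 | exact Or.inl hi.symm | exact Or.inr (Or.inl hi.symm)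
      · exact Or.inr (Or.inr (hux h))
    · by_cases h : y ∈ R
      · obtain ⟨i, hi⟩ := (hmem y).1 h
        obtain ⟨e0, e1, e3, e5⟩ := hyn
        fin_cases i
        all_goals first
          | exact absurd hi.symm e0 | exact absurd hi.symm e1 | exact absurd hi.symm e3
          | exact absurd hi.symm e5 | exact Or.inl hi.symm | exact Or.inr (Or.inl hi.symm)
      · exact Or.inr (Or.inr (hwy h))
  -- `c` and its conjugate are images of permutations of eight letters
  obtain ⟨X, hX⟩ : ∃ X : Fin 8, x = j X ∧ (X = 2 ∨ X = 4 ∨ X = 6) := by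
    rcases hjx with h | h | h
    · exact ⟨2, by rw [h, ← hji 2]; rfl, by simp⟩
    · exact ⟨4, by rw [h, ← hji 4]; rfl, by simp⟩
    · exact ⟨6, h, by simp⟩
  obtain ⟨Y, hY⟩ : ∃ Y : Fin 8, y = j Y ∧ (Y = 2 ∨ Y = 4 ∨ Y = 7) := by
    rcases hjy with h | h | h
    · exact ⟨2, by rw [h, ← hji 2]; rfl, by simp⟩
    · exact ⟨4, by rw [h, ← hji 4]; rfl, by simp⟩
    · exact ⟨7, h, by simp⟩
  have hXY : X ≠ Y := fun h => hxy (by rw [hX.1, hY.1, h])
  let C₀ : Perm (Fin 8) := swap 0 1 * swap 1 2 * (swap 3 4 * swap 4 5)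
  let D₀ : Perm (Fin 8) := swap 0 1 * swap 1 X * (swap 3 5 * swap 5 Y)
  let v := Equiv.Perm.viaEmbeddingHom j
  have hsw : ∀ a b : Fin 8, v (swap a b) = swap (j a) (j b) := by
    intro a b
    ext z
    show (swap a b).viaEmbedding j z = _
    by_cases hz : z ∈ Set.range j
    · obtain ⟨i, rfl⟩ := hz
      rw [Equiv.Perm.viaEmbedding_apply, j.injective.swap_apply]
    · rw [Equiv.Perm.viaEmbedding_apply_of_notMem _ _ _ hz, Equiv.swap_apply_of_ne_of_ne
        (fun h => hz ⟨a, h.symm⟩) (fun h => hz ⟨b, h.symm⟩)]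
  have hι : ι 0 = j 0 ∧ ι 1 = j 1 ∧ ι 2 = j 2 ∧ ι 3 = j 3 ∧ ι 4 = j 4 ∧ ι 5 = j 5 :=
    ⟨(hji 0).symm, (hji 1).symm, (hji 2).symm, (hji 3).symm, (hji 4).symm, (hji 5).symm⟩
  have hceq : c = swap (ι 0) (ι 1) * swap (ι 1) (ι 2) * (swap (ι 3) (ι 4) * swap (ι 4) (ι 5)) := by
    ext z
    by_cases hz : z ∈ Set.range ι
    · obtain ⟨i, rfl⟩ := hz
      rw [hc0 i]
      simp only [Equiv.Perm.mul_apply, ι.injective.swap_apply]
      congr 1
      fin_cases i <;> decide
    · rw [hc1 z hz]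
      have hn : ∀ i, z ≠ ι i := fun i h => hz ⟨i, h.symm⟩
      simp [Equiv.swap_apply_of_ne_of_ne, hn]
  have hC : v C₀ ∈ G := by
    obtain ⟨i0, i1, i2, i3, i4, i5⟩ := hι
    simp only [C₀, map_mul, hsw, ← i0, ← i1, ← i2, ← i3, ← i4, ← i5]
    rw [← hceq]
    exact hc
  have hD : v D₀ ∈ G := by
    obtain ⟨i0, i1, i2, i3, i4, i5⟩ := hι
    simp only [D₀, map_mul, hsw, ← i0, ← i1, ← i3, ← i5, ← hX.1, ← hY.1]
    have h := G.mul_mem (G.mul_mem hg hc) (G.inv_mem hg)
    rw [hceq] at h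
    have e : ∀ a b a' b' : Perm α, g * (a * b * (a' * b')) * g⁻¹ =
        (g * a * g⁻¹) * (g * b * g⁻¹) * ((g * a' * g⁻¹) * (g * b' * g⁻¹)) := fun a b a' b' => by group
    rw [e, ← Equiv.swap_apply_apply, ← Equiv.swap_apply_apply, ← Equiv.swap_apply_apply,
      ← Equiv.swap_apply_apply, g0, g1, g3, g4] at h
    exact h
  have htc : ∀ (W : Perm (Fin 8)) (a b e : Fin 8), a ≠ b → a ≠ e → b ≠ e → v W ∈ G →
      W = swap a b * swap a e → alternatingGroup α ≤ G := by
    intro W a b e hab hae hbe hW hEq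
    rw [hEq, map_mul, hsw, hsw] at hW
    exact Equiv.Perm.alternatingGroup_le_of_isPreprimitive_of_isThreeCycle_mem hprim
      (Equiv.Perm.isThreeCycle_swap_mul_swap_same (j.injective.ne hab) (j.injective.ne hae) (j.injective.ne hbe)) hW
  have hdt : ∀ (W : Perm (Fin 8)) (a b e f : Fin 8), ([a, b, e, f] : List (Fin 8)).Nodup → v W ∈ G →
      W = swap a b * swap e f → alternatingGroup α ≤ G := by
    intro W a b e f hnd hW hEq
    simp only [List.nodup_cons, List.mem_cons, List.not_mem_nil, or_false, not_or, List.nodup_nil,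
      not_false_eq_true, and_true] at hnd
    obtain ⟨⟨hab, hae, haf⟩, ⟨hbe, hbf⟩, hef⟩ := hnd
    rw [hEq, map_mul, hsw, hsw] at hW
    exact alt_of_double G h4 (by omega) (j.injective.ne hab) (j.injective.ne hae) (j.injective.ne haf)
      (j.injective.ne hbe) (j.injective.ne hbf) (j.injective.ne hef) hW
  have hcd : v (C₀ * D₀) ∈ G := by rw [map_mul]; exact G.mul_mem hC hD
  have hccd : v (C₀ * C₀ * D₀) ∈ G := by
    rw [map_mul, map_mul]; exact G.mul_mem (G.mul_mem hC hC) hD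
  have hcdcd : v (C₀ * D₀ * (C₀ * D₀)) ∈ G := by rw [map_mul]; exact G.mul_mem hcd hcd
  have hccdcd : v (C₀ * C₀ * D₀ * (C₀ * D₀)) ∈ G := by rw [map_mul]; exact G.mul_mem hccd hcd
  rcases hX.2 with rfl | rfl | rfl <;> rcases hY.2 with rfl | rfl | rfl
  · exact absurd rfl hXY
  · exact htc _ 0 1 2 (by decide) (by decide) (by decide) hcd (by decide)
  · exact hdt _ 3 4 5 7 (by decide) hccd (by decide)
  · exact hdt _ 0 5 3 4 (by decide) hccdcd (by decide)
  · exact absurd rfl hXY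
  · exact hdt _ 1 7 4 5 (by decide) hcdcd (by decide)
  · exact hdt _ 0 4 2 5 (by decide) hcdcd (by decide)
  · exact hdt _ 0 2 1 6 (by decide) hcd (by decide)
  · exact htc _ 4 5 7 (by decide) (by decide) (by decide) hcdcd (by decide)

variable {β : Type*} [DecidableEq β]

/-- A nontrivial normal subgroup of a symmetric group on at least 3 points contains a three-cycle
or a double transposition; with at least 4 points, a double transposition. -/
theorem exists_small_of_normal [Fintype β] (h3 : 3 ≤ Fintype.card β) (J : Subgroup (Perm β)) [J.Normal]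
    (hJ : J ≠ ⊥) :
    (∃ a b c : β, a ≠ b ∧ a ≠ c ∧ b ≠ c ∧ swap a b * swap a c ∈ J) ∧ Fintype.card β = 3 ∨
    ∃ a b c e : β, a ≠ b ∧ a ≠ c ∧ a ≠ e ∧ b ≠ c ∧ b ≠ e ∧ c ≠ e ∧ swap a b * swap c e ∈ J := by
  obtain ⟨⟨σ, hσ⟩, hσ1⟩ := Subgroup.ne_bot_iff_exists_ne_one.1 hJ
  obtain ⟨a, ha⟩ : ∃ a, σ a ≠ a := by
    by_contra h
    push Not at h
    exact hσ1 (Subtype.ext (Equiv.ext h))
  obtain ⟨c, hc⟩ : ∃ c, c ∉ ({a, σ a} : Finset β) := by
    by_contra h
    push Not at h
    have := Finset.card_le_card (s := (Finset.univ : Finset β)) (fun x _ => h x)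
    rw [Finset.card_univ] at this
    have := Finset.card_le_two (a := a) (b := σ a)
    omega
  simp only [Finset.mem_insert, Finset.mem_singleton, not_or] at hc
  obtain ⟨hca, hcb⟩ := hc
  have hmem : swap (σ a) (σ c) * swap a c ∈ J := by
    have h := J.mul_mem hσ ((inferInstance : J.Normal).conj_mem σ⁻¹ (J.inv_mem hσ) (swap a c))
    rwa [show σ * (swap a c * σ⁻¹ * (swap a c)⁻¹) = σ * swap a c * σ⁻¹ * swap a c by
      rw [swap_inv, mul_assoc, mul_assoc, mul_assoc], ← Equiv.swap_apply_apply] at h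
  have hbc : σ a ≠ σ c := fun h => hca (σ.injective h).symm
  have hTC : (∃ x y z : β, x ≠ y ∧ x ≠ z ∧ y ≠ z ∧ swap x y * swap x z ∈ J) ∨
      ∃ x y z e : β, x ≠ y ∧ x ≠ z ∧ x ≠ e ∧ y ≠ z ∧ y ≠ e ∧ z ≠ e ∧ swap x y * swap z e ∈ J := by
    by_cases h1 : σ c = a
    · left
      exact ⟨a, σ a, c, Ne.symm ha, Ne.symm hca, Ne.symm hcb, by rwa [h1, Equiv.swap_comm (σ a) a] at hmem⟩
    by_cases h2 : σ c = c
    · left
      refine ⟨c, σ a, a, hcb, hca, ha, ?_⟩
      rwa [h2, Equiv.swap_comm (σ a) c, Equiv.swap_comm a c] at hmem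
    · right
      exact ⟨σ a, σ c, a, c, hbc, ha, Ne.symm hcb, h1, h2, Ne.symm hca, hmem⟩
  rcases hTC with ⟨x, y, z, hxy, hxz, hyz, h⟩ | h
  swap
  · exact Or.inr h
  by_cases h4 : Fintype.card β = 3
  · exact Or.inl ⟨⟨x, y, z, hxy, hxz, hyz, h⟩, h4⟩
  obtain ⟨d, hd⟩ : ∃ d, d ∉ ({x, y, z} : Finset β) := by
    by_contra h'
    push Not at h'
    have := Finset.card_le_card (s := (Finset.univ : Finset β)) (fun x _ => h' x)
    rw [Finset.card_univ] at this
    have := Finset.card_le_three (a := x) (b := y) (c := z)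
    omega
  simp only [Finset.mem_insert, Finset.mem_singleton, not_or] at hd
  obtain ⟨hdx, hdy, hdz⟩ := hd
  right
  -- `(x z y) (x d y) = (x d)(z y)`-type product
  have hconj : swap x y * swap x d ∈ J := by
    have hh := (inferInstance : J.Normal).conj_mem _ h (swap z d)
    rw [show swap z d * (swap x y * swap x z) * (swap z d)⁻¹ =
      (swap z d * swap x y * (swap z d)⁻¹) * (swap z d * swap x z * (swap z d)⁻¹) by group,
      ← Equiv.swap_apply_apply, ← Equiv.swap_apply_apply, Equiv.swap_apply_left,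
      Equiv.swap_apply_of_ne_of_ne hxz (Ne.symm hdx), Equiv.swap_apply_of_ne_of_ne hyz (Ne.symm hdy)] at hh
    exact hh
  refine ⟨x, z, y, d, hxz, hxy, Ne.symm hdx, Ne.symm hyz, Ne.symm hdz, Ne.symm hdy, ?_⟩
  have hp := J.mul_mem h hconj
  have e : swap x y * swap x z * (swap x y * swap x d) = swap y z * swap x d := by
    rw [← mul_assoc]
    congr 1
    rw [show swap x y * swap x z * swap x y = swap x y * swap x z * (swap x y)⁻¹ by rw [swap_inv],
      ← Equiv.swap_apply_apply, Equiv.swap_apply_left, Equiv.swap_apply_of_ne_of_ne (Ne.symm hxz) (Ne.symm hyz)]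
  rw [e] at hp
  have hh := (inferInstance : J.Normal).conj_mem _ hp (swap y x)
  rwa [show swap y x * (swap y z * swap x d) * (swap y x)⁻¹ =
      (swap y x * swap y z * (swap y x)⁻¹) * (swap y x * swap x d * (swap y x)⁻¹) by group,
    ← Equiv.swap_apply_apply, ← Equiv.swap_apply_apply, Equiv.swap_apply_left, Equiv.swap_apply_right,
    Equiv.swap_apply_of_ne_of_ne (Ne.symm hyz) (Ne.symm hxz), Equiv.swap_apply_of_ne_of_ne hdy hdx] at hh

/-- An abelian normal subgroup of a symmetric group on at least 5 points is trivial. -/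
theorem eq_bot_of_comm_normal [Fintype β] (h5 : 5 ≤ Fintype.card β) (J : Subgroup (Perm β)) [J.Normal]
    (hJ : ∀ x ∈ J, ∀ y ∈ J, x * y = y * x) : J = ⊥ := by
  by_contra hne
  rcases exists_small_of_normal (by omega) J hne with ⟨-, h⟩ | ⟨a, b, c, e, hab, hac, hae, hbc, hbe, hce, h⟩
  · omega
  obtain ⟨f, hf⟩ : ∃ f, f ∉ ({a, b, c, e} : Finset β) := by
    by_contra h'
    push Not at h'
    have := Finset.card_le_card (s := (Finset.univ : Finset β)) (fun x _ => h' x)
    rw [Finset.card_univ] at this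
    have := Finset.card_le_four (a := a) (b := b) (c := c) (d := e)
    omega
  simp only [Finset.mem_insert, Finset.mem_singleton, not_or] at hf
  obtain ⟨hfa, hfb, hfc, hfe⟩ := hf
  have h' : swap a b * swap c f ∈ J := by
    have hh := (inferInstance : J.Normal).conj_mem _ h (swap e f)
    rwa [show swap e f * (swap a b * swap c e) * (swap e f)⁻¹ =
      (swap e f * swap a b * (swap e f)⁻¹) * (swap e f * swap c e * (swap e f)⁻¹) by group,
      ← Equiv.swap_apply_apply, ← Equiv.swap_apply_apply, Equiv.swap_apply_left,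
      Equiv.swap_apply_of_ne_of_ne hae (Ne.symm hfa), Equiv.swap_apply_of_ne_of_ne hbe (Ne.symm hfb),
      Equiv.swap_apply_of_ne_of_ne hce (Ne.symm hfc)] at hh
  have hEq := congrArg (fun σ : Perm β => σ e) (hJ _ h _ h')
  have e1 : (swap a b * swap c f) e = e := by
    rw [Equiv.Perm.mul_apply, Equiv.swap_apply_of_ne_of_ne (Ne.symm hce) (Ne.symm hfe),
      Equiv.swap_apply_of_ne_of_ne (Ne.symm hae) (Ne.symm hbe)]
  have e2 : (swap a b * swap c e) e = c := by
    rw [Equiv.Perm.mul_apply, Equiv.swap_apply_right,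
      Equiv.swap_apply_of_ne_of_ne (Ne.symm hac) (Ne.symm hbc)]
  have e3 : (swap a b * swap c f) c = f := by
    rw [Equiv.Perm.mul_apply, Equiv.swap_apply_left, Equiv.swap_apply_of_ne_of_ne hfa hfb]
  simp only [Equiv.Perm.mul_apply] at hEq e1 e2 e3
  rw [e1, e2, e3] at hEq
  exact hfc hEq.symm

end CfsgLib.ClassSizes.SmallPerm
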