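import Cfsg.Agent.Lib.Core.Cores
import Cfsg.Agent.Lib.Core.Nilpotent
import Cfsg.Agent.Lib.Components.Radicals
import Cfsg.Agent.Lib.Transfer.Conj
import Mathlib.Combinatorics.Enumerative.IncidenceAlgebra
import Mathlib.GroupTheory.IsSubnormal

/-!
# Subnormalizers of p-subgroups

`Snz p H` is the set of `g` normalizing some `p`-subgroup above `H`, equivalently the `g` with
`H` subnormal in `⟨H, g⟩`; `card_snz` is Casolo's formula.
-/

set_option autoImplicit false
set_option linter.all false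

namespace CfsgLib.ClassSizes.Subnormalizer

open Subgroup

universe u

/-- The subnormalizer of a `p`-subgroup. -/
def Snz {G : Type u} [Group G] (p : ℕ) (H : Subgroup G) : Set G :=
  {g | ∃ M : Subgroup G, IsPGroup p M ∧ H ≤ M ∧ g ∈ Subgroup.normalizer (M : Set G)}

section Basics

variable {G : Type u} [Group G] [Finite G] {p : ℕ}

theorem isSubnormal_iff_mem_snz [Fact p.Prime] {H : Subgroup G} (hH : IsPGroup p H) (g : G) :
    (H.subgroupOf (H ⊔ zpowers g)).IsSubnormal ↔ g ∈ Snz p H := by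
  have hHK : H ≤ H ⊔ zpowers g := le_sup_left
  have hgK : g ∈ H ⊔ zpowers g := mem_sup_right (mem_zpowers g)
  constructor
  · intro h
    set K := H ⊔ zpowers g with hK
    have hle : H.subgroupOf K ≤ Cfsg.pCore p K :=
      CfsgLib.Components.subnormal_pGroup_le_pCore h hH.comap_subtype
    refine ⟨(Cfsg.pCore p K).map K.subtype, (CfsgLib.Core.isPGroup_pCore p K).map _, ?_, ?_⟩
    · intro x hx
      exact ⟨⟨x, hHK hx⟩, hle hx, rfl⟩
    · refine le_normalizer_map K.subtype (H := Cfsg.pCore p K) ⟨⟨g, hgK⟩, ?_, rfl⟩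
      rw [normalizer_eq_top_iff.2 inferInstance]
      trivial
  · rintro ⟨M, hM, hHM, hg⟩
    set K := H ⊔ zpowers g with hK
    have hKN : K ≤ Subgroup.normalizer (M : Set G) := sup_le (hHM.trans le_normalizer) (zpowers_le.2 hg)
    haveI : (M.subgroupOf K).Normal := normal_subgroupOf_of_le_normalizer hKN
    haveI : Group.IsNilpotent (M.subgroupOf K) := (hM.comap_subtype).isNilpotent
    exact Subgroup.IsSubnormal.trans (H := H.subgroupOf K) (K := M.subgroupOf K)
      (fun x hx => hHM hx) (CfsgLib.Core.isSubnormal_of_isNilpotent _)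
      (Normal.isSubnormal inferInstance)

theorem mem_snz_subgroupOf {R N : Subgroup G} (hRN : R ≤ N) (g : N) :
    g ∈ Snz p (R.subgroupOf N) ↔ (g : G) ∈ Snz p R := by
  constructor
  · rintro ⟨M, hM, hRM, hg⟩
    exact ⟨M.map N.subtype, hM.map _, fun x hx => ⟨⟨x, hRN hx⟩, hRM hx, rfl⟩,
      le_normalizer_map N.subtype ⟨g, hg, rfl⟩⟩
  · rintro ⟨M, hM, hRM, hg⟩
    exact ⟨M.subgroupOf N, hM.comap_subtype, fun x hx => hRM hx,
      le_normalizer_comap N.subtype hg⟩

end Basics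

open Finset in
theorem card_snz_aux (p : ℕ) [Fact p.Prime] (n : ℕ) : ∀ {G : Type u} [Group G] [Finite G],
    Nat.card G = n → ∀ H : Subgroup G, IsPGroup p H →
      (Nat.card (Snz p H) : ℤ) * Nat.card (Sylow p G) =
        Nat.card {Q : Sylow p G // H ≤ (Q : Subgroup G)} * Nat.card G := by
  classical
  induction n using Nat.strong_induction_on with
  | _ n ihG => ?_
  intro G _ _ hn H
  induction hk : Nat.card G - Nat.card H using Nat.strong_induction_on generalizing H with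
  | _ k ihH => ?_
  subst hk
  intro hH
  set N := Subgroup.normalizer (H : Set G) with hN
  by_cases hNtop : N = ⊤
  · haveI : H.Normal := normalizer_eq_top_iff.1 hNtop
    have h1 : Nat.card (Snz p H) = Nat.card G := Nat.card_congr <| Equiv.subtypeUnivEquiv
      fun g => ⟨H, hH, le_rfl, (show g ∈ N by rw [hNtop]; trivial)⟩
    have h2 : Nat.card {Q : Sylow p G // H ≤ (Q : Subgroup G)} = Nat.card (Sylow p G) :=
      Nat.card_congr <| Equiv.subtypeUnivEquiv fun Q =>
        (CfsgLib.Core.le_pCore hH).trans (CfsgLib.Core.pCore_le_sylow Q)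
    rw [h1, h2, mul_comm]
  by_cases hmax : ∀ B : Subgroup G, IsPGroup p B → H ≤ B → B = H
  · obtain ⟨Q₀, hQ₀⟩ := hH.exists_le_sylow
    have hQH : (Q₀ : Subgroup G) = H := hmax _ Q₀.2 hQ₀
    have h1 : Nat.card (Snz p H) = Nat.card N := Nat.card_congr <| Equiv.subtypeEquivRight fun g =>
      ⟨fun ⟨M, hM, hHM, hg⟩ => by rw [hmax M hM hHM] at hg; exact hg, fun hg => ⟨H, hH, le_rfl, hg⟩⟩
    haveI : Subsingleton {Q : Sylow p G // H ≤ (Q : Subgroup G)} :=
      ⟨fun a b => Subtype.ext (Sylow.ext ((hmax _ a.1.2 a.2).trans (hmax _ b.1.2 b.2).symm))⟩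
    haveI : Nonempty {Q : Sylow p G // H ≤ (Q : Subgroup G)} := ⟨⟨Q₀, hQ₀⟩⟩
    have h2 : Nat.card {Q : Sylow p G // H ≤ (Q : Subgroup G)} = 1 :=
      Nat.card_eq_one_iff_unique.2 ⟨inferInstance, inferInstance⟩
    have h3 : Nat.card (Sylow p G) = N.index := by
      rw [Q₀.card_eq_index_normalizer, hN, ← hQH]; rfl
    rw [h1, h2, Nat.cast_one, one_mul, h3]
    exact_mod_cast N.card_mul_index
  push Not at hmax
  obtain ⟨B, hBp, hHB, hBne⟩ := hmax
  letI := Fintype.ofFinite (Subgroup G)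
  letI := Fintype.ofFinite G
  letI : LocallyFiniteOrder (Subgroup G) := Fintype.toLocallyFiniteOrder
  set μ : Subgroup G → ℤ := fun R => IncidenceAlgebra.mu ℤ H R with hμ
  set Ω : Finset (Subgroup G) := univ.filter (fun R => IsPGroup p R ∧ H ≤ R) with hΩ
  have hmem : ∀ R, R ∈ Ω ↔ IsPGroup p R ∧ H ≤ R := fun R => by simp [hΩ]
  have hIcc : ∀ T : Subgroup G, IsPGroup p T → H < T → ∑ R ∈ Ω with R ≤ T, μ R = 0 := by
    intro T hT hlt
    have h1 : Ω.filter (fun R => R ≤ T) = Finset.Icc H T := by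
      ext R
      simp only [Finset.mem_filter, hmem, Finset.mem_Icc]
      exact ⟨fun h => ⟨h.1.2, h.2⟩, fun h => ⟨⟨hT.to_le h.2, h.1⟩, h.2⟩⟩
    rw [h1]
    simpa [hμ, hlt.ne] using IncidenceAlgebra.sum_Icc_mu_right (𝕜 := ℤ) H T
  -- subgroups outside the normalizer do not contribute
  have houtN : ∀ R ∈ Ω, ¬ R ≤ N → μ R = 0 := by
    intro R
    induction hc : Nat.card R using Nat.strong_induction_on generalizing R with
    | _ c ihc => ?_
    subst hc
    intro hR hRN
    rw [hmem] at hR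
    have hlt : H < R := lt_of_le_of_ne hR.2 fun h => hRN (h ▸ le_normalizer)
    have h2 : H < R ⊓ N := CfsgLib.Transfer.lt_inf_normalizer hR.1 hlt
    have hsum := hIcc R hR.1 hlt
    rw [← Finset.sum_filter_add_sum_filter_not _ (fun T => T ≤ N)] at hsum
    have h3 : ∑ T ∈ (Ω.filter (fun T => T ≤ R)).filter (fun T => T ≤ N), μ T = 0 := by
      rw [Finset.filter_filter]
      simpa [le_inf_iff] using hIcc (R ⊓ N) (hR.1.to_le inf_le_left) h2
    rw [h3, zero_add, Finset.sum_eq_single R] at hsum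
    · exact hsum
    · intro T hT hTR
      simp only [Finset.mem_filter] at hT
      exact ihc _ (CfsgLib.Transfer.card_lt_of_lt (lt_of_le_of_ne hT.1.2 hTR)) T rfl hT.1.1 hT.2
    · intro h
      exact absurd (by simp [hmem, hR, hRN]) h
  -- fibres of joining with a fixed subgroup
  have hweisner : ∀ R₀ : Subgroup G, H < R₀ → ∀ T : Subgroup G, IsPGroup p T → R₀ ≤ T →
      ∑ R ∈ Ω with R ⊔ R₀ = T, μ R = 0 := by
    intro R₀ hR₀ T
    induction hc : Nat.card T using Nat.strong_induction_on generalizing T with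
    | _ c ihc => ?_
    subst hc
    intro hT hle
    have hsum := hIcc T hT (lt_of_lt_of_le hR₀ hle)
    rw [← Finset.sum_fiberwise_of_maps_to (g := fun R => R ⊔ R₀) (t := Finset.Icc R₀ T)
      (fun R hR => Finset.mem_Icc.2 ⟨le_sup_right, sup_le (Finset.mem_filter.1 hR).2 hle⟩),
      Finset.sum_eq_single T] at hsum
    · rw [Finset.filter_filter] at hsum
      rw [← hsum]
      refine Finset.sum_congr (Finset.filter_congr fun R _ => ?_) fun _ _ => rfl
      exact ⟨fun h => ⟨le_sup_left.trans h.le, h⟩, fun h => h.2⟩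
    · intro U hU hne
      rw [Finset.mem_Icc] at hU
      have := ihc _ (CfsgLib.Transfer.card_lt_of_lt (lt_of_le_of_ne hU.2 hne)) U rfl (hT.to_le hU.2) hU.1
      rw [Finset.filter_filter, ← this]
      refine Finset.sum_congr (Finset.filter_congr fun R _ => ?_) fun _ _ => rfl
      exact ⟨fun h => h.2, fun h => ⟨(le_sup_left.trans h.le).trans hU.2, h⟩⟩
    · intro h
      exact absurd (Finset.mem_Icc.2 ⟨hle, le_rfl⟩) h
  -- contribution of a single element
  have hterm : ∀ g, (∑ R ∈ Ω, if g ∈ Snz p R then μ R else 0) =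
      if g ∈ N then ∑ R ∈ Ω with R ≤ N, (if g ∈ Snz p R then μ R else 0) else 0 := by
    intro g
    by_cases hg : g ∈ N
    · rw [if_pos hg, Finset.sum_filter (p := fun R => R ≤ N)]
      refine Finset.sum_congr rfl fun R hR => ?_
      by_cases hRN : R ≤ N
      · rw [if_pos hRN]
      · rw [if_neg hRN, houtN R hR hRN, ite_self]
    rw [if_neg hg, ← Finset.sum_filter]
    set S := {M : Subgroup G | IsPGroup p M ∧ H ≤ M ∧ g ∈ Subgroup.normalizer (M : Set G)} with hS
    rcases S.eq_empty_or_nonempty with he | ⟨M₀, hM₀⟩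
    · refine Finset.sum_eq_zero fun R hR => absurd hR ?_
      rw [Finset.mem_filter, not_and]
      rintro hR' ⟨M, hM, hRM, hgM⟩
      exact (he ▸ (show M ∈ S from ⟨hM, ((hmem R).1 hR').2.trans hRM, hgM⟩) : M ∈ (∅ : Set _)).elim
    set R₀ := sInf S with hR₀
    have hR₀p : IsPGroup p R₀ := hM₀.1.to_le (sInf_le hM₀)
    have hHR₀ : H ≤ R₀ := le_sInf fun M hM => hM.2.1
    have hgR₀ : g ∈ Subgroup.normalizer (R₀ : Set G) := by
      rw [mem_normalizer_iff]
      intro x
      simp only [hR₀, Subgroup.mem_sInf]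
      exact forall₂_congr fun M hM => mem_normalizer_iff.1 hM.2.2 x
    have hlt : H < R₀ := lt_of_le_of_ne hHR₀ fun h => hg (by rw [hN, h]; exact hgR₀)
    rw [← Finset.sum_fiberwise_of_maps_to (g := fun R => R ⊔ R₀)
      (t := (Ω.filter fun R => g ∈ Snz p R).image fun R => R ⊔ R₀)
      (fun R hR => Finset.mem_image_of_mem _ hR)]
    refine Finset.sum_eq_zero fun T hT => ?_
    obtain ⟨R, hR, rfl⟩ := Finset.mem_image.1 hT
    rw [Finset.mem_filter, hmem] at hR
    obtain ⟨⟨hRp, hHR⟩, M, hM, hRM, hgM⟩ := hR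
    have hR₀M : R₀ ≤ M := sInf_le ⟨hM, hHR.trans hRM, hgM⟩
    rw [← hweisner R₀ hlt (R ⊔ R₀) (hM.to_le (sup_le hRM hR₀M)) le_sup_right, Finset.filter_filter]
    refine Finset.sum_congr (Finset.filter_congr fun R' _ => ?_) fun _ _ => rfl
    exact ⟨fun h => h.2, fun h => ⟨⟨M, hM, (le_sup_left.trans h.le).trans (sup_le hRM hR₀M), hgM⟩, h⟩⟩
  -- the two vanishing sums
  have hcount : ∀ (S : Set G), (Nat.card S : ℤ) = ∑ g : G, if g ∈ S then 1 else 0 := by
    intro S
    rw [Nat.card_coe_set_eq, Set.ncard_eq_toFinset_card', Finset.sum_boole, Nat.cast_inj]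
    exact congrArg Finset.card (by ext; simp)
  have htot : ∑ R ∈ Ω, μ R * (Nat.card (Snz p R) : ℤ) = 0 := by
    have h1 : ∑ R ∈ Ω, μ R * (Nat.card (Snz p R) : ℤ) =
        ∑ R ∈ Ω with R ≤ N, μ R * (Nat.card (Snz p (R.subgroupOf N)) : ℤ) := by
      have h2 : ∀ R, μ R * (Nat.card (Snz p R) : ℤ) = ∑ g : G, if g ∈ Snz p R then μ R else 0 := by
        intro R; rw [hcount, Finset.mul_sum]; simp
      simp_rw [h2]
      rw [Finset.sum_comm]
      simp_rw [hterm]
      have h3 : ∀ R ∈ Ω.filter (fun R => R ≤ N), μ R * (Nat.card (Snz p (R.subgroupOf N)) : ℤ) =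
          ∑ g : G, if g ∈ N then (if g ∈ Snz p R then μ R else 0) else 0 := by
        intro R hR
        have hRN : R ≤ N := (Finset.mem_filter.1 hR).2
        have h4 : Nat.card (Snz p (R.subgroupOf N)) = Nat.card ({g | g ∈ N ∧ g ∈ Snz p R} : Set G) :=
          Nat.card_congr
            { toFun := fun x => ⟨x.1.1, x.1.2, (mem_snz_subgroupOf hRN x.1).1 x.2⟩
              invFun := fun x => ⟨⟨x.1, x.2.1⟩, (mem_snz_subgroupOf hRN ⟨x.1, x.2.1⟩).2 x.2.2⟩
              left_inv := fun x => rfl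
              right_inv := fun x => rfl }
        rw [h4, hcount, Finset.mul_sum]
        refine Finset.sum_congr rfl fun g _ => ?_
        by_cases ha : g ∈ N <;> by_cases hb : g ∈ Snz p R <;> simp [ha, hb]
      rw [Finset.sum_congr rfl h3, Finset.sum_comm]
      refine Finset.sum_congr rfl fun g _ => ?_
      by_cases ha : g ∈ N <;> simp [ha]
    rw [h1]
    have hlt : Nat.card N < n := hn ▸ CfsgLib.Components.card_lt_of_ne_top hNtop
    have hne : (Nat.card (Sylow p N) : ℤ) ≠ 0 := by exact_mod_cast Nat.card_pos.ne'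
    refine (mul_eq_zero.1 ?_).resolve_right hne
    rw [Finset.sum_mul]
    have h5 : ∀ R ∈ Ω.filter (fun R => R ≤ N),
        μ R * (Nat.card (Snz p (R.subgroupOf N)) : ℤ) * (Nat.card (Sylow p N) : ℤ) =
          (∑ Q : Sylow p N, if R.subgroupOf N ≤ (Q : Subgroup N) then μ R else 0) * Nat.card N := by
      intro R hR
      rw [mul_assoc, ihG _ hlt rfl (R.subgroupOf N) ((hmem R).1 (Finset.mem_filter.1 hR).1).1.comap_subtype,
        ← mul_assoc]
      congr 1
      rw [Nat.card_eq_fintype_card, Fintype.card_subtype, Finset.sum_ite, Finset.sum_const_zero,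
        add_zero, Finset.sum_const, nsmul_eq_mul, mul_comm]
    rw [Finset.sum_congr rfl h5, ← Finset.sum_mul, Finset.sum_comm]
    refine mul_eq_zero_of_left (Finset.sum_eq_zero fun Q _ => ?_) _
    haveI : (H.subgroupOf N).Normal := normal_subgroupOf_of_le_normalizer le_rfl
    have hHQ : H.subgroupOf N ≤ (Q : Subgroup N) :=
      (CfsgLib.Core.le_pCore (N := H.subgroupOf N) hH.comap_subtype).trans (CfsgLib.Core.pCore_le_sylow Q)
    have hlt' : H < (Q : Subgroup N).map N.subtype := by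
      refine lt_of_le_of_ne (fun x hx => ⟨⟨x, le_normalizer hx⟩, hHQ hx, rfl⟩) fun h => ?_
      have h6 : H < B ⊓ N := CfsgLib.Transfer.lt_inf_normalizer hBp (lt_of_le_of_ne hHB hBne.symm)
      have h7 : (B ⊓ N).subgroupOf N = (Q : Subgroup N) :=
        Q.is_maximal' (hBp.to_le inf_le_left).comap_subtype fun x hx => by
          have : (x : G) ∈ H := h ▸ mem_map_of_mem _ hx
          exact h6.le this
      apply h6.ne
      rw [h, ← h7, subgroupOf_map_subtype, inf_assoc, inf_idem]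
    rw [← Finset.sum_filter, Finset.filter_filter]
    refine Eq.trans ?_ (hIcc _ (Q.2.map N.subtype) hlt')
    refine Finset.sum_congr (Finset.filter_congr fun R _ => ⟨?_, ?_⟩) fun _ _ => rfl
    · rintro ⟨hRN, hRQ⟩ x hx
      exact ⟨⟨x, hRN hx⟩, hRQ hx, rfl⟩
    · intro hR
      refine ⟨hR.trans (map_subtype_le _), fun x hx => ?_⟩
      obtain ⟨y, hy, hyx⟩ := hR hx
      rwa [← Subtype.ext hyx]
  have hlam : ∑ R ∈ Ω, μ R * (Nat.card {Q : Sylow p G // R ≤ (Q : Subgroup G)} : ℤ) = 0 := by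
    have h5 : ∀ R ∈ Ω, μ R * (Nat.card {Q : Sylow p G // R ≤ (Q : Subgroup G)} : ℤ) =
        ∑ Q : Sylow p G, if R ≤ (Q : Subgroup G) then μ R else 0 := by
      intro R _
      rw [Nat.card_eq_fintype_card, Fintype.card_subtype, Finset.sum_ite, Finset.sum_const_zero,
        add_zero, Finset.sum_const, nsmul_eq_mul, mul_comm]
    rw [Finset.sum_congr rfl h5, Finset.sum_comm]
    refine Finset.sum_eq_zero fun Q _ => ?_
    rw [← Finset.sum_filter]
    by_cases hHQ : H ≤ (Q : Subgroup G)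
    · refine hIcc _ Q.2 (lt_of_le_of_ne hHQ fun h => hBne ?_)
      rw [h] at hHB ⊢
      exact Q.is_maximal' hBp hHB
    · exact Finset.sum_eq_zero fun R hR =>
        absurd (((hmem R).1 (Finset.mem_filter.1 hR).1).2.trans (Finset.mem_filter.1 hR).2) hHQ
  have hfin : ∑ R ∈ Ω, μ R * ((Nat.card (Snz p R) : ℤ) * Nat.card (Sylow p G) -
      Nat.card {Q : Sylow p G // R ≤ (Q : Subgroup G)} * Nat.card G) = 0 := by
    simp_rw [mul_sub, ← mul_assoc]
    rw [Finset.sum_sub_distrib, ← Finset.sum_mul, ← Finset.sum_mul, htot, hlam, zero_mul, zero_mul, sub_zero]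
  rw [Finset.sum_eq_single H] at hfin
  · rw [hμ] at hfin
    simpa [IncidenceAlgebra.mu_self, sub_eq_zero] using hfin
  · intro R hR hne
    have hlt := CfsgLib.Transfer.card_lt_of_lt (lt_of_le_of_ne ((hmem R).1 hR).2 (Ne.symm hne))
    have := ihH _ (by have := Subgroup.card_le_card_group R; omega) R rfl ((hmem R).1 hR).1
    rw [this, sub_self, mul_zero]
  · exact fun h => absurd ((hmem H).2 ⟨hH, le_rfl⟩) h

/-- Casolo's formula for the subnormalizer of a `p`-subgroup. -/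
theorem card_snz {G : Type u} [Group G] [Finite G] {p : ℕ} [Fact p.Prime] {H : Subgroup G}
    (hH : IsPGroup p H) (P : Sylow p G) :
    Nat.card (Snz p H) = Nat.card {Q : Sylow p G // H ≤ (Q : Subgroup G)} *
      Nat.card (Subgroup.normalizer ((P : Subgroup G) : Set G)) := by
  have h := card_snz_aux p (Nat.card G) rfl H hH
  have h2 := (Subgroup.normalizer ((P : Subgroup G) : Set G)).card_mul_index
  have h4 : Nat.card (Sylow p G) = (Subgroup.normalizer ((P : Subgroup G) : Set G)).index :=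
    P.card_eq_index_normalizer.trans rfl
  rw [← h4] at h2
  have h3 : Nat.card (Snz p H) * Nat.card (Sylow p G) =
      Nat.card {Q : Sylow p G // H ≤ (Q : Subgroup G)} * Nat.card G := by exact_mod_cast h
  rw [← h2, ← mul_assoc] at h3
  exact Nat.eq_of_mul_eq_mul_right Nat.card_pos h3

/-- A `p`-radical subgroup above `H` contains the intersection of the Sylow subgroups above `H`. -/
theorem sInf_sylow_le {G : Type u} [Group G] [Finite G] {p : ℕ} [Fact p.Prime] {H R : Subgroup G}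
    (hHR : H ≤ R)
    (hR : (Cfsg.pCore p (Subgroup.normalizer (R : Set G))).map (Subgroup.normalizer (R : Set G)).subtype = R) :
    sInf {K : Subgroup G | ∃ Q : Sylow p G, H ≤ (Q : Subgroup G) ∧ K = (Q : Subgroup G)} ≤ R := by
  set N := Subgroup.normalizer (R : Set G) with hN
  have hRp : IsPGroup p R := hR ▸ (CfsgLib.Core.isPGroup_pCore p N).map _
  obtain ⟨Q₀, hQ₀⟩ := hRp.exists_le_sylow
  set Y := sInf {K : Subgroup G | ∃ Q : Sylow p G, R ≤ (Q : Subgroup G) ∧ K = (Q : Subgroup G)} with hY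
  have hRY : R ≤ Y := le_sInf (by rintro _ ⟨Q, hQ, rfl⟩; exact hQ)
  have hYp : IsPGroup p Y := Q₀.2.to_le (sInf_le ⟨Q₀, hQ₀, rfl⟩)
  have hstep : ∀ g ∈ N, ∀ x ∈ Y, g * x * g⁻¹ ∈ Y := by
    intro g hg x hx
    rw [hY, Subgroup.mem_sInf] at hx ⊢
    rintro _ ⟨Q, hQ, rfl⟩
    have h1 : R ≤ ((g⁻¹ • Q : Sylow p G) : Subgroup G) := fun r hr =>
      CfsgLib.Transfer.mem_inv_smul_sylow.2 (hQ ((mem_normalizer_iff.1 hg r).1 hr))
    exact CfsgLib.Transfer.mem_inv_smul_sylow.1 (hx _ ⟨_, h1, rfl⟩)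
  have hle : Y ⊓ N ≤ R := by
    haveI : ((Y ⊓ N).subgroupOf N).Normal := ⟨fun x hx g => ⟨hstep g g.2 x hx.1, (g * x * g⁻¹).2⟩⟩
    have h1 := CfsgLib.Core.le_pCore (p := p) (hYp.to_le inf_le_left).comap_subtype (N := (Y ⊓ N).subgroupOf N)
    intro x hx
    rw [← hR]
    exact ⟨⟨x, hx.2⟩, h1 hx, rfl⟩
  have hYR : Y = R := by
    by_contra hne
    exact absurd hle (not_le_of_gt (CfsgLib.Transfer.lt_inf_normalizer hYp (lt_of_le_of_ne hRY (Ne.symm hne))))
  calc sInf {K : Subgroup G | ∃ Q : Sylow p G, H ≤ (Q : Subgroup G) ∧ K = (Q : Subgroup G)} ≤ Y :=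
        sInf_le_sInf (by rintro _ ⟨Q, hQ, rfl⟩; exact ⟨Q, hHR.trans hQ, rfl⟩)
    _ = R := hYR

/-- An element of the subnormalizer normalizes a radical `p`-subgroup above `H`. -/
theorem exists_radical {G : Type u} [Group G] [Finite G] {p : ℕ} [Fact p.Prime] {H : Subgroup G}
    {g : G} (hg : g ∈ Snz p H) : ∃ R : Subgroup G, H ≤ R ∧
      (Cfsg.pCore p (Subgroup.normalizer (R : Set G))).map (Subgroup.normalizer (R : Set G)).subtype = R ∧
      g ∈ Subgroup.normalizer (R : Set G) := by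
  obtain ⟨M, hM⟩ := hg
  obtain ⟨R, hMR, hmax⟩ := Set.Finite.exists_le_maximal (Set.toFinite
    {M : Subgroup G | IsPGroup p M ∧ H ≤ M ∧ g ∈ Subgroup.normalizer (M : Set G)}) hM
  obtain ⟨hRp, hHR, hgR⟩ := hmax.1
  set N := Subgroup.normalizer (R : Set G) with hN
  set R' := (Cfsg.pCore p N).map N.subtype with hR'
  have hle : R ≤ R' := by
    haveI : (R.subgroupOf N).Normal := normal_subgroupOf_of_le_normalizer le_rfl
    exact fun x hx => ⟨⟨x, le_normalizer hx⟩, CfsgLib.Core.le_pCore (N := R.subgroupOf N) hRp.comap_subtype hx, rfl⟩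
  refine ⟨R, hHR, le_antisymm (hmax.2 ⟨(CfsgLib.Core.isPGroup_pCore p N).map _, hHR.trans hle, ?_⟩ hle) hle, hgR⟩
  refine le_normalizer_map N.subtype (H := Cfsg.pCore p N) ⟨⟨g, hgR⟩, ?_, rfl⟩
  rw [normalizer_eq_top_iff.2 inferInstance]
  trivial

theorem mem_normalizer_sup {G : Type u} [Group G] [Finite G] {A B : Subgroup G} {g : G}
    (hA : g ∈ Subgroup.normalizer (A : Set G)) (hB : g ∈ Subgroup.normalizer (B : Set G)) :
    g ∈ Subgroup.normalizer ((A ⊔ B : Subgroup G) : Set G) := by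
  rw [← CfsgLib.Transfer.map_conj_eq_self_iff] at hA hB ⊢
  rw [Subgroup.map_sup, hA, hB]

theorem card_sup_of_inf_eq_bot {G : Type u} [Group G] [Finite G] {N R : Subgroup G} [N.Normal]
    (h : R ⊓ N = ⊥) : Nat.card (N ⊔ R : Subgroup G) = Nat.card N * Nat.card R := by
  have h2 : N.subgroupOf R = ⊥ := by rw [subgroupOf_eq_bot, disjoint_iff, inf_comm]; exact h
  rw [← Subgroup.card_mul_index (N.subgroupOf (N ⊔ R)),
    Nat.card_congr (subgroupOfEquivOfLe (le_sup_left : N ≤ N ⊔ R)).toEquiv, ← relIndex, sup_comm,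
    relIndex_sup_right, relIndex, h2, index_bot]

/-- The subnormalizer of `H` taken modulo `N`. -/
def SnzMod {G : Type u} [Group G] (p : ℕ) (N H : Subgroup G) : Set G :=
  {g | ∃ X : Subgroup G, N ≤ X ∧ H ≤ X ∧ g ∈ Subgroup.normalizer (X : Set G) ∧ ∃ k : ℕ, N.relIndex X = p ^ k}

theorem snzMod_bot {G : Type u} [Group G] [Finite G] {p : ℕ} [Fact p.Prime] (H : Subgroup G) :
    SnzMod p ⊥ H = Snz p H := by
  ext g
  constructor
  · rintro ⟨X, -, hHX, hg, k, hk⟩
    rw [relIndex_bot_left] at hk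
    exact ⟨X, IsPGroup.of_card hk, hHX, hg⟩
  · rintro ⟨X, hX, hHX, hg⟩
    obtain ⟨k, hk⟩ := IsPGroup.iff_card.1 hX
    exact ⟨X, bot_le, hHX, hg, k, by rwa [relIndex_bot_left]⟩

theorem snzMod_eq_of_pGroup {G : Type u} [Group G] [Finite G] {p : ℕ} [Fact p.Prime] {N H : Subgroup G}
    [N.Normal] (hN : IsPGroup p N) (hH : IsPGroup p H) : SnzMod p N H = Snz p H := by
  ext g
  constructor
  · rintro ⟨X, hNX, hHX, hg, k, hk⟩
    obtain ⟨l, hl⟩ := IsPGroup.iff_card.1 hN
    refine ⟨X, IsPGroup.of_card (n := l + k) ?_, hHX, hg⟩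
    rw [← Subgroup.card_mul_index (N.subgroupOf X), Nat.card_congr (subgroupOfEquivOfLe hNX).toEquiv, hl,
      ← relIndex, hk, pow_add]
  · rintro ⟨M, hM, hHM, hg⟩
    obtain ⟨k, hk⟩ := IsPGroup.iff_card.1 (CfsgLib.Components.isPGroup_sup (A := N) (B := M)
      ((le_top : M ≤ ⊤).trans (normalizer_eq_top_iff.2 inferInstance).ge) hN hM)
    obtain ⟨j, -, hj⟩ := (Nat.dvd_prime_pow (Fact.out : p.Prime)).1
      (hk ▸ relIndex_dvd_card N (N ⊔ M))
    refine ⟨N ⊔ M, le_sup_left, hHM.trans le_sup_right, ?_, j, hj⟩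
    refine mem_normalizer_sup ?_ hg
    rw [normalizer_eq_top_iff.2 inferInstance]
    trivial

theorem card_eq_mul {α : Type*} {β : Type*} [Finite α] [Finite β] (f : α → β) (c : ℕ)
    (h : ∀ b, Nat.card {a // f a = b} = c) : Nat.card α = Nat.card β * c := by
  haveI := Fintype.ofFinite β
  rw [Nat.card_congr (Equiv.sigmaFiberEquiv f).symm, Nat.card_sigma]
  simp [h, Nat.card_eq_fintype_card]

theorem card_preimage_mk {G : Type u} [Group G] (N : Subgroup G) [N.Normal] (S : Set (G ⧸ N)) :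
    Nat.card (QuotientGroup.mk' N ⁻¹' S : Set G) = Nat.card N * Nat.card S := by
  rw [← Nat.card_prod]
  exact Nat.card_congr (QuotientGroup.preimageMkEquivSubgroupProdSet N S)

/-- Passing through a normal `p'`-subgroup. -/
theorem card_snz_mul_card {G : Type u} [Group G] [Finite G] {p : ℕ} [Fact p.Prime] (N H : Subgroup G)
    [N.Normal] (hN : (Nat.card N).Coprime p) (hH : IsPGroup p H) :
    Nat.card (Snz p H) * Nat.card N =
      Nat.card (SnzMod p N H) * Nat.card (N ⊓ Subgroup.centralizer (H : Set G) : Subgroup G) := by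
  classical
  set π := QuotientGroup.mk' N with hπ
  set T := SnzMod p N H with hT
  have hNn : ∀ X : Subgroup G, N ≤ X → N ≤ Subgroup.normalizer (X : Set G) := fun X h => h.trans le_normalizer
  have hTinv : π ⁻¹' (π '' T) = T := by
    refine Set.Subset.antisymm ?_ (Set.subset_preimage_image _ _)
    rintro g ⟨g₀, ⟨X, hNX, hHX, hg₀, hk⟩, hgg⟩
    refine ⟨X, hNX, hHX, ?_, hk⟩
    have h := mul_mem hg₀ (hNn X hNX (QuotientGroup.eq.1 hgg))
    rwa [mul_inv_cancel_left] at h
  have hTcard : Nat.card T = Nat.card N * Nat.card (π '' T) := by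
    rw [← card_preimage_mk, hTinv]
  have hsub : ∀ g ∈ Snz p H, g ∈ T := by
    rintro g ⟨M, hM, hHM, hg⟩
    refine ⟨N ⊔ M, le_sup_left, hHM.trans le_sup_right,
      mem_normalizer_sup (by rw [normalizer_eq_top_iff.2 inferInstance]; trivial) hg, ?_⟩
    rw [sup_comm, relIndex_sup_right]
    obtain ⟨k, hk⟩ := IsPGroup.iff_card.1 hM
    obtain ⟨j, -, hj⟩ := (Nat.dvd_prime_pow (Fact.out : p.Prime)).1 (hk ▸ relIndex_dvd_card N M)
    exact ⟨j, hj⟩
  let f : Snz p H → (π '' T : Set (G ⧸ N)) := fun g => ⟨π g, g, hsub g g.2, rfl⟩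
  have hf : ∀ q, Nat.card {g // f g = q} = Nat.card (N ⊓ Subgroup.centralizer (H : Set G) : Subgroup G) := by
    intro q
    obtain ⟨g₀, hg₀, hq⟩ := q.2
    set 𝒳 := {X : Subgroup G | N ≤ X ∧ H ≤ X ∧ g₀ ∈ Subgroup.normalizer (X : Set G)} with h𝒳
    set X := sInf 𝒳 with hX
    obtain ⟨X₁, hNX₁, hHX₁, hgX₁, k₁, hk₁⟩ := hg₀
    have hXX₁ : X ≤ X₁ := sInf_le ⟨hNX₁, hHX₁, hgX₁⟩
    have hNX : N ≤ X := le_sInf fun Y hY => hY.1
    have hHX : H ≤ X := le_sInf fun Y hY => hY.2.1
    have hgX : g₀ ∈ Subgroup.normalizer (X : Set G) := by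
      rw [mem_normalizer_iff]
      intro x
      simp only [hX, Subgroup.mem_sInf]
      exact forall₂_congr fun M hM => mem_normalizer_iff.1 hM.2.2 x
    obtain ⟨k, -, hk⟩ := (Nat.dvd_prime_pow (Fact.out : p.Prime)).1
      (hk₁ ▸ (Dvd.intro _ (relIndex_mul_relIndex N X X₁ hNX hXX₁) : N.relIndex X ∣ N.relIndex X₁))
    have hcardX : Nat.card X = Nat.card N * p ^ k := by
      rw [← Subgroup.card_mul_index (N.subgroupOf X), Nat.card_congr (subgroupOfEquivOfLe hNX).toEquiv,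
        ← relIndex, hk]
    have hinf : ∀ R : Subgroup G, IsPGroup p R → R ⊓ N = ⊥ := by
      intro R hR
      obtain ⟨l, hl⟩ := IsPGroup.iff_card.1 hR
      exact inf_eq_bot_of_coprime (hl ▸ (hN.symm.pow_left l))
    let C := {R : Subgroup G // H ≤ R ∧ R ≤ X ∧ Nat.card R = p ^ k}
    have hCp : ∀ R : C, IsPGroup p R.1 := fun R => IsPGroup.of_card R.2.2.2
    have hCX : ∀ R : C, N ⊔ R.1 = X := by
      intro R
      refine eq_of_le_of_card_ge (sup_le hNX R.2.2.1) ?_
      rw [card_sup_of_inf_eq_bot (hinf _ (hCp R)), hcardX]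
      exact Nat.mul_le_mul_left _ R.2.2.2.ge
    have hdec : ∀ R : C, ∀ x ∈ X, ∃ m ∈ N, ∃ r ∈ R.1, x = m * r := by
      intro R x hx
      rw [← hCX R, ← SetLike.mem_coe, normal_mul, Set.mem_mul] at hx
      obtain ⟨m, hm, r, hr, rfl⟩ := hx
      exact ⟨m, hm, r, hr, rfl⟩
    have hRi : ∀ R : C, ¬ p ∣ R.1.relIndex X := by
      intro R hd
      have h1 : Nat.card R.1 * R.1.relIndex X = Nat.card X := by
        rw [← Subgroup.card_mul_index (R.1.subgroupOf X), Nat.card_congr (subgroupOfEquivOfLe R.2.2.1).toEquiv]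
        rfl
      rw [R.2.2.2, hcardX, mul_comm (Nat.card N)] at h1
      rw [Nat.eq_of_mul_eq_mul_left (pow_pos (Fact.out : p.Prime).pos k) h1] at hd
      exact (Fact.out : p.Prime).coprime_iff_not_dvd.1 hN.symm hd
    have hcent : ∀ R : C, N ⊓ Subgroup.normalizer (R.1 : Set G) ≤ N ⊓ Subgroup.centralizer (R.1 : Set G) := by
      rintro R n ⟨hn, hnR⟩
      refine ⟨hn, mem_centralizer_iff.2 fun r hr => ?_⟩
      have h1 : r * (n * r⁻¹ * n⁻¹) ∈ R.1 ⊓ N := Subgroup.mem_inf.2 ⟨mul_mem hr ((mem_normalizer_iff.1 hnR _).1 (inv_mem hr)),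
        by
          rw [← mul_assoc, ← mul_assoc]
          exact mul_mem (Normal.conj_mem inferInstance n hn r) (inv_mem hn)⟩
      rw [hinf _ (hCp R), mem_bot, mul_eq_one_iff_eq_inv] at h1
      conv_lhs => rw [h1]
      group
    -- `C_N(H)` is transitive on the complements above `H`
    have horbit : ∀ R : C, Nat.card (N ⊓ Subgroup.centralizer (H : Set G) : Subgroup G) =
        Nat.card C * Nat.card (N ⊓ Subgroup.normalizer (R.1 : Set G) : Subgroup G) := by
      intro R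
      have hmap : ∀ c : (N ⊓ Subgroup.centralizer (H : Set G) : Subgroup G),
          H ≤ R.1.map (MulAut.conj (c : G)).toMonoidHom ∧ R.1.map (MulAut.conj (c : G)).toMonoidHom ≤ X ∧
            Nat.card (R.1.map (MulAut.conj (c : G)).toMonoidHom) = p ^ k := by
        rintro ⟨c, hcN, hcH⟩
        refine ⟨fun x hx => CfsgLib.Transfer.mem_map_conj.2 ?_, ?_, ?_⟩
        · rw [mul_assoc, mem_centralizer_iff.1 hcH x hx, inv_mul_cancel_left]
          exact R.2.1 hx
        · rintro _ ⟨r, hr, rfl⟩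
          exact mul_mem (mul_mem (hNX hcN) (R.2.2.1 hr)) (inv_mem (hNX hcN))
        · rw [CfsgLib.Transfer.card_map_conj, R.2.2.2]
      refine card_eq_mul (fun c => (⟨_, hmap c⟩ : C)) _ ?_
      intro R'
      obtain ⟨x, hx, hxR⟩ := CfsgLib.Transfer.exists_conj_le (hCp R') (hRi R') R.2.2.1 (hCp R)
      obtain ⟨m, hm, r, hr, rfl⟩ := hdec R' x hx
      have hmR : R.1.map (MulAut.conj m⁻¹).toMonoidHom = R'.1 := by
        refine eq_of_le_of_card_ge ?_ (by rw [CfsgLib.Transfer.card_map_conj, R.2.2.2, R'.2.2.2])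
        rintro _ ⟨y, hy, rfl⟩
        have h1 := mul_mem (mul_mem hr (hxR y hy)) (inv_mem hr)
        show m⁻¹ * y * m⁻¹⁻¹ ∈ R'.1
        convert h1 using 1
        group
      have hmH : m⁻¹ ∈ Subgroup.centralizer (H : Set G) := by
        rw [mem_centralizer_iff]
        intro h hh
        have h1 : m⁻¹ * h * m * h⁻¹ ∈ R'.1 ⊓ N := Subgroup.mem_inf.2 ⟨mul_mem (by
            rw [← hmR]; exact ⟨h, R.2.1 hh, by simp⟩) (inv_mem (R'.2.1 hh)), by
          have : m⁻¹ * h * m * h⁻¹ = m⁻¹ * (h * m * h⁻¹) := by group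
          rw [this]
          exact mul_mem (inv_mem hm) (Normal.conj_mem inferInstance m hm h)⟩
        rw [hinf _ (hCp R'), mem_bot, mul_inv_eq_one] at h1
        conv_lhs => rw [← h1]
        group
      refine Nat.card_congr
        { toFun := fun c => ⟨m * (c.1 : G), Subgroup.mem_inf.2 ⟨mul_mem hm c.1.2.1, ?_⟩⟩
          invFun := fun n => ⟨⟨m⁻¹ * n.1, Subgroup.mem_inf.2 ⟨mul_mem (inv_mem hm) n.2.1,
            mul_mem hmH ((centralizer_le (show (H : Set G) ⊆ R.1 from R.2.1)) (hcent R n.2).2)⟩⟩, Subtype.ext ?_⟩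
          left_inv := fun c => Subtype.ext (Subtype.ext (inv_mul_cancel_left _ _))
          right_inv := fun n => Subtype.ext (mul_inv_cancel_left _ _) }
      · refine CfsgLib.Transfer.map_conj_eq_self_iff.1 ?_
        have h1 : R.1.map (MulAut.conj (c.1 : G)).toMonoidHom = R.1.map (MulAut.conj m⁻¹).toMonoidHom :=
          (congrArg Subtype.val c.2).trans hmR.symm
        ext y
        rw [CfsgLib.Transfer.mem_map_conj]
        have h2 := SetLike.ext_iff.1 h1 (m⁻¹ * y * m)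
        rw [CfsgLib.Transfer.mem_map_conj, CfsgLib.Transfer.mem_map_conj] at h2
        convert h2 using 2 <;> group
      · ext y
        rw [CfsgLib.Transfer.mem_map_conj, ← hmR, CfsgLib.Transfer.mem_map_conj,
          mem_normalizer_iff.1 n.2.2 ((m⁻¹ * (n.1 : G))⁻¹ * y * (m⁻¹ * (n.1 : G)))]
        refine Iff.of_eq (congrArg (· ∈ R.1) ?_)
        group
    -- each element of the fibre normalizes exactly one complement
    have hunique : ∀ g : {g // f g = q},
        ∃! R : C, ((g.1 : Snz p H) : G) ∈ Subgroup.normalizer (R.1 : Set G) := by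
      rintro ⟨⟨g, hg⟩, hgq⟩
      have hgg : g₀⁻¹ * g ∈ N := QuotientGroup.eq.1 (hq.trans (congrArg Subtype.val hgq).symm)
      set 𝒮 := {M : Subgroup G | IsPGroup p M ∧ H ≤ M ∧ g ∈ Subgroup.normalizer (M : Set G)} with h𝒮
      set R₀ := sInf 𝒮 with hR₀
      obtain ⟨M₀, hM₀⟩ : ∃ M, M ∈ 𝒮 := hg
      have hR₀p : IsPGroup p R₀ := hM₀.1.to_le (sInf_le hM₀)
      have hHR₀ : H ≤ R₀ := le_sInf fun M hM => hM.2.1
      have hgR₀ : g ∈ Subgroup.normalizer (R₀ : Set G) := by
        rw [mem_normalizer_iff]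
        intro x
        simp only [hR₀, Subgroup.mem_sInf]
        exact forall₂_congr fun M hM => mem_normalizer_iff.1 hM.2.2 x
      have hgX' : g ∈ Subgroup.normalizer (X : Set G) := by
        have h := mul_mem hgX (hNn X hNX hgg)
        rwa [mul_inv_cancel_left] at h
      have hR₀X : R₀ ≤ X := by
        have h1 : M₀ ⊓ X ∈ 𝒮 := ⟨hM₀.1.to_le inf_le_left, le_inf hM₀.2.1 hHX,
          CfsgLib.Transfer.normalizer_le_normalizer_inf ⟨hM₀.2.2, hgX'⟩⟩
        exact (sInf_le h1).trans inf_le_right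
      have hXle : X ≤ N ⊔ R₀ := by
        refine sInf_le ⟨le_sup_left, hHR₀.trans le_sup_right, ?_⟩
        have h := mul_mem (mem_normalizer_sup (A := N) (B := R₀)
          (by rw [normalizer_eq_top_iff.2 inferInstance]; trivial) hgR₀)
          (hNn (N ⊔ R₀) le_sup_left (inv_mem hgg))
        rwa [mul_inv_rev, inv_inv, mul_inv_cancel_left] at h
      have hcardR₀ : Nat.card R₀ = p ^ k := by
        have h1 := card_sup_of_inf_eq_bot (N := N) (hinf _ hR₀p)
        rw [le_antisymm (sup_le hNX hR₀X) hXle, hcardX] at h1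
        exact (Nat.eq_of_mul_eq_mul_left Nat.card_pos h1).symm
      refine ⟨⟨R₀, hHR₀, hR₀X, hcardR₀⟩, hgR₀, fun R hR => Subtype.ext ?_⟩
      exact (eq_of_le_of_card_ge (sInf_le (show R.1 ∈ 𝒮 from ⟨hCp R, R.2.1, hR⟩)) (by rw [R.2.2.2]; exact hcardR₀.ge)).symm
    choose Φ hΦ hΦu using hunique
    obtain ⟨R₁⟩ : Nonempty C := by
      obtain ⟨S, hHS, hSX, hSp, hSi⟩ := CfsgLib.Transfer.exists_sylow_of_le hHX hH
      refine ⟨⟨S, hHS, hSX, ?_⟩⟩
      obtain ⟨l, hl⟩ := IsPGroup.iff_card.1 hSp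
      have h1 : Nat.card S * S.relIndex X = Nat.card X := by
        rw [← Subgroup.card_mul_index (S.subgroupOf X), Nat.card_congr (subgroupOfEquivOfLe hSX).toEquiv]
        rfl
      rw [hl, hcardX, mul_comm (Nat.card N)] at h1
      rw [hl]
      refine Nat.dvd_antisymm ?_ ?_
      · exact (hN.symm.pow_left l).dvd_of_dvd_mul_right (Dvd.intro _ h1)
      · exact (((Fact.out : p.Prime).coprime_iff_not_dvd.2 hSi).pow_left k).dvd_of_dvd_mul_right
          (Dvd.intro _ h1.symm)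
    rw [horbit R₁]
    refine card_eq_mul Φ _ fun R => ?_
    obtain ⟨w, hw, hwq⟩ : ∃ w, w ∈ Subgroup.normalizer (R.1 : Set G) ∧ g₀⁻¹ * w ∈ N := by
      have hS : R.1.map (MulAut.conj g₀⁻¹).toMonoidHom ≤ X := by
        rintro _ ⟨r, hr, rfl⟩
        show g₀⁻¹ * r * g₀⁻¹⁻¹ ∈ X
        exact (mem_normalizer_iff.1 (inv_mem hgX) r).1 (R.2.2.1 hr)
      obtain ⟨x, hx, hxR⟩ := CfsgLib.Transfer.exists_conj_le (hCp R) (hRi R) hS ((hCp R).map _)
      obtain ⟨m, hm, r, hr, rfl⟩ := hdec R x hx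
      refine ⟨g₀ * m, ?_, by rwa [inv_mul_cancel_left]⟩
      rw [← inv_mem_iff, ← CfsgLib.Transfer.map_conj_eq_self_iff]
      refine eq_of_le_of_card_ge ?_ (CfsgLib.Transfer.card_map_conj _ _).ge
      rintro _ ⟨y, hy, rfl⟩
      have h1 := mul_mem (mul_mem hr (hxR _ (mem_map_of_mem _ hy))) (inv_mem hr)
      show (g₀ * m)⁻¹ * y * (g₀ * m)⁻¹⁻¹ ∈ R.1
      convert h1 using 1
      show _ = r * ((m * r)⁻¹ * (g₀⁻¹ * y * g₀⁻¹⁻¹) * (m * r)) * r⁻¹
      group
    refine Eq.trans (Nat.card_congr (β := ↥(N ⊓ Subgroup.normalizer (R.1 : Set G)))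
      { toFun := fun a => ⟨w⁻¹ * ((a.1.1 : Snz p H) : G), Subgroup.mem_inf.2 ⟨?_, ?_⟩⟩
        invFun := fun n => ⟨⟨⟨w * n.1, ⟨R.1, hCp R, R.2.1, mul_mem hw n.2.2⟩⟩, Subtype.ext ?_⟩, ?_⟩
        left_inv := fun a => Subtype.ext (Subtype.ext (Subtype.ext (mul_inv_cancel_left _ _)))
        right_inv := fun n => Subtype.ext (inv_mul_cancel_left _ _) }) ?_
    · have h1 : g₀⁻¹ * ((a.1.1 : Snz p H) : G) ∈ N := QuotientGroup.eq.1 (hq.trans (congrArg Subtype.val a.1.2).symm)
      have h2 := mul_mem (inv_mem hwq) h1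
      rwa [mul_inv_rev, inv_inv, mul_assoc, mul_inv_cancel_left] at h2
    · have h1 := hΦ a.1
      rw [a.2] at h1
      exact mul_mem (inv_mem hw) h1
    · refine ((QuotientGroup.eq.2 ?_ : π g₀ = π (w * n.1)).symm).trans hq
      rw [← mul_assoc]
      exact mul_mem hwq n.2.1
    · exact (hΦu _ R (mul_mem hw n.2.2)).symm
    · refine Nat.eq_of_mul_eq_mul_left (show 0 < Nat.card C from ?_) ((horbit R).symm.trans (horbit R₁))
      haveI : Nonempty C := ⟨R⟩
      exact Nat.card_pos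
  rw [card_eq_mul f _ hf, hTcard]
  ring

theorem preimage_snzMod {G : Type u} [Group G] (p : ℕ) (M N H : Subgroup G) [M.Normal] (hMN : M ≤ N) :
    QuotientGroup.mk' M ⁻¹' SnzMod p (N.map (QuotientGroup.mk' M)) (H.map (QuotientGroup.mk' M)) =
      SnzMod p N H := by
  set π := QuotientGroup.mk' M
  have hs : Function.Surjective π := QuotientGroup.mk'_surjective M
  have hrel : ∀ X : Subgroup (G ⧸ M), N.relIndex (X.comap π) = (N.map π).relIndex X := by
    intro X
    have h1 := relIndex_comap (N.map π) π (X.comap π)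
    rw [comap_map_eq, QuotientGroup.ker_mk', sup_eq_left.2 hMN, map_comap_eq_self_of_surjective hs] at h1
    exact h1
  ext g
  constructor
  · rintro ⟨X, hNX, hHX, hg, k, hk⟩
    exact ⟨X.comap π, map_le_iff_le_comap.1 hNX, map_le_iff_le_comap.1 hHX,
      le_normalizer_comap π hg, k, (hrel X).trans hk⟩
  · rintro ⟨X, hNX, hHX, hg, k, hk⟩
    refine ⟨X.map π, map_mono hNX, map_mono hHX, le_normalizer_map π ⟨g, hg, rfl⟩, k, ?_⟩
    rw [← hrel, comap_map_eq, QuotientGroup.ker_mk', sup_eq_left.2 (hMN.trans hNX), hk]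


end CfsgLib.ClassSizes.Subnormalizer
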