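import Mathlib
import Cfsg.Agent.Lib.Perm.SimpleCount
import Cfsg.Agent.Lib.ClassSizes.Jordan

/-!
A primitive group of degree 13 containing an 11-cycle, made of even permutations, is alternating.
-/

set_option linter.style.haveILetI false

namespace CfsgLib.ClassSizes

open Equiv MulAction

variable {β : Type*} [Fintype β] [DecidableEq β]

/-- Elements of order 5 do not occur. -/
theorem not_five_dvd_thirteen (hβ : Fintype.card β = 13) (K : Subgroup (Perm β))
    (h3t : IsMultiplyPretransitive K β 3) (hprim : IsPreprimitive K β)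
    (hne : ¬ alternatingGroup β ≤ K) : ¬ 5 ∣ Nat.card K := by
  classical
  haveI : Fact (Nat.Prime 5) := ⟨by norm_num⟩
  haveI : Fact (Nat.Prime 3) := ⟨by norm_num⟩
  intro h5
  have hsupp : ∀ w : Perm β, w ∈ K → orderOf w = 5 → w.cycleType = Multiset.replicate 2 5 := by
    intro w hw hwo
    obtain ⟨k, hk⟩ := Perm.cycleType_prime_order (σ := w) (by rw [hwo]; norm_num)
    rw [hwo] at hk
    have hle : w.support.card ≤ 13 := hβ ▸ Finset.card_le_univ _
    rw [← Perm.sum_cycleType, hk, Multiset.sum_replicate, smul_eq_mul] at hle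
    have hk1 : k ≠ 0 := by
      rintro rfl
      refine hne (alternatingGroup_le_of_primeCycle K hprim (by norm_num : Nat.Prime 5)
        (by rw [hβ]; norm_num) (g := w) ?_ ?_ hw)
      · rw [← Perm.card_cycleType_eq_one, hk]; simp
      · rw [← Perm.sum_cycleType, hk]; simp
    rw [hk]
    congr 1
    omega
  have hsupp' : ∀ w : Perm β, w ∈ K → orderOf w = 5 → w.support.card = 10 := by
    intro w hw hwo
    rw [← Perm.sum_cycleType, hsupp w hw hwo]; rfl
  obtain ⟨z, hzo⟩ := exists_prime_orderOf_dvd_card' (G := K) 5 h5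
  have hzo' : orderOf (z : Perm β) = 5 := by rw [Subgroup.orderOf_coe, hzo]
  set T := (z : Perm β).supportᶜ with hT
  have hTc : T.card = 3 := by rw [hT, Finset.card_compl, hsupp' _ z.2 hzo', hβ]
  have hzT : ∀ {t}, t ∈ T → (z : Perm β) t = t := fun {t} ht => by
    rwa [hT, Finset.mem_compl, Perm.notMem_support] at ht
  set F := fixingSubgroup K (T : Set β) with hF
  have hFmem : ∀ {g : K}, g ∈ F ↔ ∀ t ∈ T, (g : Perm β) t = t := fun {g} => by
    rw [hF, mem_fixingSubgroup_iff]; rfl
  have hzF : z ∈ F := hFmem.2 fun t ht => hzT ht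
  have hSyl : ∀ P : Sylow 5 F, Nat.card (P : Subgroup F) = 5 := by
    intro P
    obtain ⟨a, ha⟩ := IsPGroup.iff_card.1 P.isPGroup'
    have ha0 : a ≠ 0 := by
      intro h
      refine P.ne_bot_of_dvd_card ?_ (Subgroup.eq_bot_of_card_eq _ (by rw [ha, h, pow_zero]))
      rw [← hzo, ← Subgroup.orderOf_mk z hzF]
      exact orderOf_dvd_natCard _
    suffices a < 2 by
      obtain rfl : a = 1 := by omega
      rw [ha, pow_one]
    by_contra ha2
    obtain ⟨b, hb⟩ : (z : Perm β).support.Nonempty := Finset.card_pos.1 (by rw [hsupp' _ z.2 hzo']; norm_num)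
    set S := MulAction.stabilizer (P : Subgroup F) b
    have hS : 5 ∣ Nat.card S := by
      obtain ⟨c, -, hc⟩ := (Nat.dvd_prime_pow (by norm_num : Nat.Prime 5)).1 (ha ▸ Subgroup.card_subgroup_dvd_card S)
      rw [hc]
      refine dvd_pow_self 5 fun h => ?_
      rw [h, pow_zero] at hc
      have h1 := S.card_mul_index
      rw [hc, one_mul, ha, MulAction.index_stabilizer] at h1
      have h2 : (orbit (P : Subgroup F) b).ncard ≤ 13 := by
        refine (Set.ncard_le_ncard (Set.subset_univ _)).trans ?_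
        rw [Set.ncard_univ, Nat.card_eq_fintype_card, hβ]
      have h3 : 5 ^ 2 ≤ 5 ^ a := Nat.pow_le_pow_right (by norm_num) (by omega)
      omega
    obtain ⟨w, hw⟩ := exists_prime_orderOf_dvd_card' (G := S) 5 hS
    have hwo : orderOf (((w.1.1 : F) : K) : Perm β) = 5 := by
      rw [Subgroup.orderOf_coe, Subgroup.orderOf_coe, Subgroup.orderOf_coe, Subgroup.orderOf_coe, hw]
    have hsub : (((w.1.1 : F) : K) : Perm β).support ⊆ ((insert b T)ᶜ : Finset β) := by
      intro t ht
      rw [Finset.mem_compl, Finset.mem_insert]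
      rintro (rfl | h)
      · exact Perm.mem_support.1 ht (MulAction.mem_stabilizer_iff.1 w.2)
      · exact Perm.mem_support.1 ht (hFmem.1 w.1.1.2 t h)
    have := Finset.card_le_card hsub
    rw [hsupp' _ ((w.1.1 : F) : K).2 hwo, Finset.card_compl, hβ, Finset.card_insert_of_notMem
      (fun h => Perm.mem_support.1 hb (hzT h)), hTc] at this
    omega
  -- every permutation of `T` is induced by the normalizer of `z`
  have hlift : ∀ e e' : Fin 3 ↪ β, (∀ i, e i ∈ T) → (∀ i, e' i ∈ T) →
      ∃ g : K, (∀ i, (g : Perm β) (e i) = e' i) ∧ ∃ m : ℕ, g * z * g⁻¹ = z ^ m := by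
    intro e e' he he'
    obtain ⟨k, hk⟩ := h3t.exists_smul_eq e e'
    have hk' : ∀ i, (k : Perm β) (e i) = e' i := fun i => congrArg (fun f : Fin 3 ↪ β => f i) hk
    have hsurj : ∀ t ∈ T, ∃ i, e' i = t := by
      have h1 : Finset.univ.map e' = T := Finset.eq_of_subset_of_card_le
        (fun t ht => by obtain ⟨i, -, rfl⟩ := Finset.mem_map.1 ht; exact he' i)
        (by rw [Finset.card_map, Finset.card_fin, hTc])
      intro t ht
      rw [← h1] at ht
      obtain ⟨i, -, hi⟩ := Finset.mem_map.1 ht
      exact ⟨i, hi⟩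
    have hkF : k * z * k⁻¹ ∈ F := by
      refine hFmem.2 fun t ht => ?_
      obtain ⟨i, rfl⟩ := hsurj t ht
      have hback : (k : Perm β)⁻¹ (e' i) = e i := Perm.inv_eq_iff_eq.2 (hk' i).symm
      simp only [Subgroup.coe_mul, Subgroup.coe_inv, Perm.mul_apply, hback, hzT (he i), hk' i]
    have hsyl : ∀ w : F, orderOf w = 5 → ∃ P : Sylow 5 F, Subgroup.zpowers w = (P : Subgroup F) := by
      intro w hw
      obtain ⟨P, hP⟩ := (IsPGroup.of_card (p := 5) (n := 1) (G := Subgroup.zpowers w)
        (by rw [Nat.card_zpowers, hw, pow_one])).exists_le_sylow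
      exact ⟨P, Subgroup.eq_of_le_of_card_ge hP (by rw [hSyl, Nat.card_zpowers, hw])⟩
    obtain ⟨P, hP⟩ := hsyl ⟨z, hzF⟩ (by rw [Subgroup.orderOf_mk, hzo])
    obtain ⟨Q, hQ⟩ := hsyl ⟨k * z * k⁻¹, hkF⟩ (by
      rw [Subgroup.orderOf_mk, ← MulAut.conj_apply, MulEquiv.orderOf_eq, hzo])
    obtain ⟨f, hf⟩ := MulAction.exists_smul_eq F Q P
    refine ⟨(f : K) * k, fun i => ?_, ?_⟩
    · rw [Subgroup.coe_mul, Perm.mul_apply, hk' i]
      exact hFmem.1 f.2 _ (he' i)
    · have h1 : f * ⟨k * z * k⁻¹, hkF⟩ * f⁻¹ ∈ (P : Subgroup F) := by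
        rw [← hf, Sylow.coe_subgroup_smul, ← MulAut.conj_apply]
        exact Subgroup.smul_mem_pointwise_smul _ (MulAut.conj f) _ (hQ ▸ Subgroup.mem_zpowers _)
      rw [← hP, ← mem_powers_iff_mem_zpowers] at h1
      obtain ⟨m, hm⟩ := h1
      refine ⟨m, ?_⟩
      have h2 := congrArg Subtype.val hm
      simp only [Subgroup.coe_pow, Subgroup.coe_mul, Subgroup.coe_inv] at h2
      rw [h2]
      group
  -- a 3-element centralizing `z` and moving `T`
  let e0 : Fin 3 ↪ β := (Finset.equivFinOfCardEq hTc).symm.toEmbedding.trans (Function.Embedding.subtype _)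
  have he0 : ∀ i, e0 i ∈ T := fun i => ((Finset.equivFinOfCardEq hTc).symm i).2
  obtain ⟨a, ha, i, hi⟩ := hlift e0 ((Equiv.swap (0 : Fin 3) 1).toEmbedding.trans e0) he0 (fun _ => he0 _)
  obtain ⟨b, hb, j, hj⟩ := hlift e0 ((Equiv.swap (1 : Fin 3) 2).toEmbedding.trans e0) he0 (fun _ => he0 _)
  simp only [Function.Embedding.trans_apply, Equiv.coe_toEmbedding] at ha hb
  set g := (b * a)⁻¹ * (a * b) with hg
  have hgz : g * z = z * g := by
    have e1 : (a * b) * z * (a * b)⁻¹ = z ^ (i * j) := by
      calc (a * b) * z * (a * b)⁻¹ = a * (b * z * b⁻¹) * a⁻¹ := by group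
        _ = z ^ (i * j) := by rw [hj, ← conj_pow, hi, ← pow_mul]
    have e2 : (b * a) * z * (b * a)⁻¹ = z ^ (i * j) := by
      calc (b * a) * z * (b * a)⁻¹ = b * (a * z * a⁻¹) * b⁻¹ := by group
        _ = z ^ (i * j) := by rw [hi, ← conj_pow, hj, ← pow_mul, mul_comm]
    calc g * z = (b * a)⁻¹ * ((a * b) * z * (a * b)⁻¹) * (a * b) := by rw [hg]; group
      _ = (b * a)⁻¹ * ((b * a) * z * (b * a)⁻¹) * (a * b) := by rw [e1, e2]
      _ = z * g := by rw [hg]; group
  have hgT : ∀ i, (g : Perm β) (e0 i) =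
      e0 (((Equiv.swap (1 : Fin 3) 2 * Equiv.swap 0 1 : Perm (Fin 3))⁻¹) ((Equiv.swap (0 : Fin 3) 1 * Equiv.swap 1 2 : Perm (Fin 3)) i)) := by
    intro i
    rw [hg, Subgroup.coe_mul, Perm.mul_apply, Subgroup.coe_inv, Perm.inv_eq_iff_eq, Subgroup.coe_mul,
      Subgroup.coe_mul, Perm.mul_apply, Perm.mul_apply, hb, ha, ha, hb]
    congr 1
    revert i
    decide
  obtain ⟨A, m, hm, hgm⟩ := Nat.exists_eq_pow_mul_and_not_dvd (orderOf_pos g).ne' 3 (by norm_num)
  have hm0 : m ≠ 0 := fun h => hm (h ▸ dvd_zero 3)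
  set u := g ^ m with hu
  have huo : orderOf u = 3 ^ A := by
    rw [hu, orderOf_pow_of_dvd hm0 (by rw [hgm]; exact dvd_mul_left _ _), hgm,
      Nat.mul_div_cancel _ (Nat.pos_of_ne_zero hm0)]
  set c : Perm (Fin 3) := (Equiv.swap (1 : Fin 3) 2 * Equiv.swap 0 1)⁻¹ * (Equiv.swap (0 : Fin 3) 1 * Equiv.swap 1 2) with hc
  have hpowT : ∀ (n : ℕ) i, ((g ^ n : K) : Perm β) (e0 i) = e0 ((c ^ n) i) := by
    intro n
    induction n with
    | zero => intro i; simp
    | succ n ih =>
      intro i
      rw [pow_succ, Subgroup.coe_mul, Perm.mul_apply, hgT, ih, pow_succ, Perm.mul_apply]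
      congr 2
  have huT : ∀ i, (u : Perm β) (e0 i) ≠ e0 i := by
    intro i h
    rw [hu, hpowT, e0.injective.eq_iff] at h
    have h3 : c ^ 3 = 1 := by rw [hc]; decide
    rw [← Nat.mod_add_div m 3, pow_add, pow_mul, h3, one_pow, mul_one] at h
    rcases (by omega : m % 3 = 1 ∨ m % 3 = 2) with h' | h' <;> rw [h', hc] at h <;> revert i <;> decide
  have hucomm : Commute (u : Perm β) (z : Perm β) := by
    have h1 : Commute g z := hgz
    exact congrArg Subtype.val (h1.pow_left m).eq
  have hu3 : orderOf (u : Perm β) = 3 := by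
    have h1 : orderOf (u : Perm β) ∣ 300 := by
      have hmem : (u : Perm β) ∈ Subgroup.centralizer {(z : Perm β)} := by
        rw [Subgroup.mem_centralizer_iff]
        rintro w rfl
        exact hucomm.eq.symm
      have hc300 : Nat.card (Subgroup.centralizer {(z : Perm β)}) = 300 := by
        rw [Perm.nat_card_centralizer, hsupp _ z.2 hzo', hβ]
        rfl
      rw [← hc300, ← Subgroup.orderOf_mk _ hmem]
      exact orderOf_dvd_natCard _
    rw [Subgroup.orderOf_coe, huo] at h1
    rw [Subgroup.orderOf_coe, huo]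
    rcases A with _ | _ | A
    · rw [pow_zero, orderOf_eq_one_iff] at huo
      exact absurd (by rw [huo]; rfl) (huT 0)
    · rfl
    · exact absurd ((pow_dvd_pow 3 (by omega : 2 ≤ A + 2)).trans h1) (by norm_num)
  obtain ⟨k, hk⟩ := Perm.cycleType_prime_order (σ := (u : Perm β)) (by rw [hu3]; norm_num)
  rw [hu3] at hk
  set U := (u : Perm β).support with hU
  have hUc : U.card = (k + 1) * 3 := by
    rw [hU, ← Perm.sum_cycleType, hk, Multiset.sum_replicate, smul_eq_mul]
  have hTU : T ⊆ U := by
    intro t ht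
    have h1 : Finset.univ.map e0 = T := Finset.eq_of_subset_of_card_le
      (fun t ht => by obtain ⟨i, -, rfl⟩ := Finset.mem_map.1 ht; exact he0 i)
      (by rw [Finset.card_map, Finset.card_fin, hTc])
    rw [← h1] at ht
    obtain ⟨i, -, rfl⟩ := Finset.mem_map.1 ht
    exact Perm.mem_support.2 (huT i)
  have h5U : 5 ∣ (U \ T).card := by
    by_contra hnd
    have hinv : ∀ t, (z : Perm β) t ∈ U \ T ↔ t ∈ U \ T := by
      intro t
      rw [Finset.mem_sdiff, Finset.mem_sdiff, hU, Perm.mem_support, Perm.mem_support, hT, Finset.mem_compl,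
        Finset.mem_compl, Perm.apply_mem_support, ← Perm.mul_apply, hucomm.eq, Perm.mul_apply,
        (z : Perm β).injective.ne_iff]
    let τ : Perm {t // t ∈ U \ T} := (z : Perm β).subtypePerm hinv
    obtain ⟨⟨t, ht⟩, htfix⟩ := Perm.exists_fixed_point_of_prime (n := 1) (p := 5)
      (by rwa [Fintype.card_coe]) (σ := τ) (by
        rw [pow_one]
        ext t
        have hz5 : (z : Perm β) ^ 5 = 1 := by
          have h0 := pow_orderOf_eq_one (z : Perm β)
          rwa [hzo'] at h0
        simp [τ, hz5])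
    have h1 : (z : Perm β) t = t := congrArg Subtype.val htfix
    rw [Finset.mem_sdiff, hT, Finset.mem_compl, not_not, Perm.mem_support] at ht
    exact Perm.mem_support.1 ht.2 h1
  have hle13 : U.card ≤ 13 := hβ ▸ Finset.card_le_univ _
  have hk0 : k = 0 := by
    have h1 := Finset.card_sdiff_add_card_eq_card hTU
    omega
  subst hk0
  refine hne (alternatingGroup_le_of_primeCycle K hprim (by norm_num : Nat.Prime 3)
    (by rw [hβ]; norm_num) (g := (u : Perm β)) ?_ ?_ u.2)
  · rw [← Perm.card_cycleType_eq_one, hk]; simp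
  · rw [← hU, hUc]

/-- A primitive group of even permutations of degree 13 with an 11-cycle is alternating. -/
theorem alternatingGroup_le_of_thirteen (hβ : Fintype.card β = 13) (K : Subgroup (Perm β))
    (hK : K ≤ alternatingGroup β) (hprim : IsPreprimitive K β) {x : Perm β} (hx : x ∈ K)
    (hxc : x.IsCycle) (hxs : x.support.card = 11) : alternatingGroup β ≤ K := by
  classical
  haveI : Fact (Nat.Prime 11) := ⟨by norm_num⟩
  haveI : Fact (Nat.Prime 3) := ⟨by norm_num⟩
  by_contra hne
  set s : Set β := ((x.support : Set β))ᶜ with hs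
  have hsc : s.ncard = 1 + 1 := by
    rw [hs, Set.ncard_compl, Set.ncard_coe_finset, hxs, Nat.card_eq_fintype_card, hβ]
  have htr2 : IsPretransitive (fixingSubgroup K s) (SubMulAction.ofFixingSubgroup K s) :=
    Equiv.Perm.isPretransitive_of_isCycle_mem hxc hx
  have hprimF : IsPreprimitive (fixingSubgroup K s) (SubMulAction.ofFixingSubgroup K s) := by
    apply IsPreprimitive.of_prime_card
    convert! (by norm_num : Nat.Prime 11)
    rw [Nat.card_eq_fintype_card, Fintype.card_subtype, ← hxs]
    apply congr_arg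
    ext t
    simp [SubMulAction.mem_ofFixingSubgroup_iff, s]
  have h3t : IsMultiplyPretransitive K β 3 :=
    (hprim.isMultiplyPreprimitive (s := s) (n := 1) hsc (by rw [Nat.card_eq_fintype_card, hβ]; norm_num)
      hprimF).isMultiplyPretransitive
  have h5 := not_five_dvd_thirteen hβ K h3t hprim hne
  have hfix : ∀ {t}, t ∉ x.support → x t = t := fun {t} ht => Perm.notMem_support.1 ht
  obtain ⟨v0, v1, hv01, hv⟩ := Finset.card_eq_two.1
    (show (x.supportᶜ).card = 2 by rw [Finset.card_compl, hxs, hβ])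
  have hmem : ∀ t, t ∉ x.support ↔ t = v0 ∨ t = v1 := fun t => by
    rw [← Finset.mem_compl, hv]; simp
  set F := fixingSubgroup K s with hF
  have hFmem : ∀ {g : K}, g ∈ F ↔ ∀ t, t ∉ x.support → (g : Perm β) t = t := fun {g} => by
    rw [hF, mem_fixingSubgroup_iff]
    simp [s]
    rfl
  set xk : K := ⟨x, hx⟩ with hxk
  have hxo : orderOf x = 11 := by rw [hxc.orderOf, hxs]
  have hxko : orderOf xk = 11 := by rw [hxk, Subgroup.orderOf_mk, hxo]
  have hxF : xk ∈ F := hFmem.2 fun t ht => hfix ht
  have h11 : ∀ (L : Subgroup K), ¬ 11 ^ 2 ∣ Nat.card L := by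
    intro L h
    have h1 : 11 ^ 2 ∣ Nat.card (Perm β) :=
      (h.trans (Subgroup.card_subgroup_dvd_card L)).trans (Subgroup.card_subgroup_dvd_card K)
    rw [Nat.card_perm, Nat.card_eq_fintype_card, hβ] at h1
    norm_num [Nat.factorial] at h1
  have hsyl : ∀ (L : Subgroup K) (w : L), orderOf w = 11 →
      ∃ P : Sylow 11 L, Subgroup.zpowers w = (P : Subgroup L) ∧ Nat.card (P : Subgroup L) = 11 := by
    intro L w hw
    obtain ⟨P, hP⟩ := (IsPGroup.of_card (p := 11) (n := 1) (G := Subgroup.zpowers w)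
      (by rw [Nat.card_zpowers, hw, pow_one])).exists_le_sylow
    obtain ⟨a, ha⟩ := IsPGroup.iff_card.1 P.isPGroup'
    have h1 : 11 ∣ 11 ^ a := by
      have := Subgroup.card_dvd_of_le hP
      rw [Nat.card_zpowers, hw] at this
      rwa [← ha]
    have ha1 : a ≤ 1 := by
      by_contra h
      exact h11 L ((pow_dvd_pow 11 (by omega : 2 ≤ a)).trans (ha ▸ Subgroup.card_subgroup_dvd_card _))
    have hPc : Nat.card (P : Subgroup L) = 11 := by
      interval_cases a
      · norm_num at h1
      · rw [ha, pow_one]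
    exact ⟨P, Subgroup.eq_of_le_of_card_ge hP (by rw [hPc, Nat.card_zpowers, hw]), hPc⟩
  -- elements of `F` normalizing `x` centralize it
  obtain ⟨P, hP, hPc⟩ := hsyl F ⟨xk, hxF⟩ (by rw [Subgroup.orderOf_mk, hxko])
  haveI : IsCyclic (P : Subgroup F) := isCyclic_of_prime_card hPc
  have hNC : Subgroup.normalizer ((P : Subgroup F) : Set F) ≤
      Subgroup.centralizer ((P : Subgroup F) : Set F) := by
    intro g hg
    rw [← hP, Subgroup.zpowers_eq_closure, Subgroup.centralizer_closure, Subgroup.mem_centralizer_singleton_iff]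
    have h1 := (Subgroup.mem_normalizer_iff.1 hg ⟨xk, hxF⟩).1 (hP ▸ Subgroup.mem_zpowers _)
    rw [← hP, ← mem_powers_iff_mem_zpowers] at h1
    obtain ⟨i, hi⟩ := h1
    set G := ((g : K) : Perm β) with hG
    have hi' : G * x * G⁻¹ = x ^ i := by
      have := congrArg (fun w : F => ((w : K) : Perm β)) hi
      simpa [hxk, hG] using this.symm
    have hsq : x ^ (i * i) = x := by
      have hn : orderOf (Subgroup.normalizerMonoidHom (P : Subgroup F) ⟨g, hg⟩) ∣ 2 := by
        set o := orderOf (Subgroup.normalizerMonoidHom (P : Subgroup F) ⟨g, hg⟩)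
        have h10 : o ∣ 10 := by
          refine (_root_.orderOf_dvd_natCard _).trans ?_
          rw [IsCyclic.card_mulAut, hPc, Nat.totient_prime (by norm_num)]
        have hoK : o ∣ Nat.card K :=
          (orderOf_map_dvd _ _).trans ((_root_.orderOf_dvd_natCard _).trans
            ((Subgroup.card_subgroup_dvd_card _).trans (Subgroup.card_subgroup_dvd_card _)))
        have h5o : Nat.Coprime o 5 :=
          ((Nat.Prime.coprime_iff_not_dvd (by norm_num)).2 fun h => h5 (h.trans hoK)).symm
        exact h5o.dvd_of_dvd_mul_right (show o ∣ 2 * 5 from h10)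
      rw [orderOf_dvd_iff_pow_eq_one, ← map_pow, ← MonoidHom.mem_ker, Subgroup.normalizerMonoidHom_ker,
        Subgroup.mem_subgroupOf] at hn
      have h2 := Subgroup.mem_centralizer_iff.1 hn ⟨xk, hxF⟩ (hP ▸ Subgroup.mem_zpowers _)
      have h3 : x * G ^ 2 = G ^ 2 * x := by
        have := congrArg (fun w : F => ((w : K) : Perm β)) h2
        simpa [hxk, hG] using this
      have h4 : G ^ 2 * x * (G ^ 2)⁻¹ = x := by rw [← h3]; group
      calc x ^ (i * i) = G * (G * x * G⁻¹) * G⁻¹ := by rw [hi', ← conj_pow, hi', ← pow_mul]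
        _ = G ^ 2 * x * (G ^ 2)⁻¹ := by rw [sq]; group
        _ = x := h4
    have hcase : x ^ i = x ∨ x ^ i = x⁻¹ := by
      have h1 : (i * i) ≡ 1 [MOD 11] := by
        rw [← hxo, ← pow_eq_pow_iff_modEq, hsq, pow_one]
      have h2 : (i : ZMod 11) * i = 1 := by
        have := (ZMod.natCast_eq_natCast_iff _ _ _).2 h1
        push_cast at this
        exact this
      rcases mul_self_eq_one_iff.1 h2 with h | h
      · left
        have h' : i ≡ 1 [MOD orderOf x] := hxo ▸ (ZMod.natCast_eq_natCast_iff _ _ _).1 (by rw [h, Nat.cast_one])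
        rw [pow_eq_pow_iff_modEq.2 h', pow_one]
      · right
        have h' : ((i + 1 : ℕ) : ZMod 11) = ((0 : ℕ) : ZMod 11) := by push_cast; rw [h]; ring
        have h'' : i + 1 ≡ 0 [MOD orderOf x] := hxo ▸ (ZMod.natCast_eq_natCast_iff _ _ _).1 h'
        rw [eq_inv_iff_mul_eq_one, ← pow_succ, pow_eq_pow_iff_modEq.2 h'', pow_zero]
    rcases hcase with h | h
    · apply Subtype.ext
      apply Subtype.ext
      change G * x = x * G
      rw [h] at hi'
      calc G * x = G * x * G⁻¹ * G := by group
        _ = x * G := by rw [hi']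
    -- inversion: an odd permutation
    exfalso
    rw [h] at hi'
    have hGx : ∀ n : ℕ, G * x ^ n = (x⁻¹) ^ n * G := fun n => by
      rw [← hi', conj_pow]; group
    have hGfix : ∀ t, t ∉ x.support → G t = t := fun t ht => hFmem.1 g.2 t ht
    obtain ⟨a, ha⟩ : x.support.Nonempty := Finset.card_pos.1 (by rw [hxs]; norm_num)
    have hGa : G a ∈ x.support := by
      by_contra h
      have := hGfix _ h
      exact h ((G.injective this).symm ▸ ha)
    obtain ⟨k, hk⟩ := hxc.exists_pow_eq (Perm.mem_support.1 ha) (Perm.mem_support.1 hGa)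
    set a0 := (x ^ (6 * k)) a with ha0def
    have ha0 : G a0 = a0 := by
      rw [ha0def, ← Perm.mul_apply, hGx, Perm.mul_apply, ← hk, ← Perm.mul_apply, inv_pow]
      congr 1
      rw [inv_mul_eq_iff_eq_mul, ← pow_add, pow_eq_pow_iff_modEq, hxo]
      unfold Nat.ModEq
      omega
    have ha0s : a0 ∈ x.support := Perm.pow_apply_mem_support.2 ha
    have horb : ∀ t ∈ x.support, ∃ n : ℕ, (x ^ n) a0 = t := fun t ht =>
      hxc.exists_pow_eq (Perm.mem_support.1 ha0s) (Perm.mem_support.1 ht)
    have hGG : G * G = 1 := by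
      apply Equiv.ext
      intro t
      rw [Perm.mul_apply, Perm.one_apply]
      by_cases ht : t ∈ x.support
      · obtain ⟨n, rfl⟩ := horb t ht
        rw [← Perm.mul_apply G (x ^ n), hGx, Perm.mul_apply, ha0, inv_pow]
        have h1 : G * (x ^ n)⁻¹ = x ^ n * G := by
          have := hGx n
          rw [inv_pow] at this
          calc G * (x ^ n)⁻¹ = x ^ n * ((x ^ n)⁻¹ * G) * (x ^ n)⁻¹ := by group
            _ = x ^ n * G := by rw [← this]; group
        rw [← Perm.mul_apply, h1, Perm.mul_apply, ha0]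
      · rw [hGfix t ht, hGfix t ht]
    have hsup : G.support = x.support.erase a0 := by
      ext t
      rw [Perm.mem_support, Finset.mem_erase]
      constructor
      · intro h
        refine ⟨fun e => h (e ▸ ha0), ?_⟩
        by_contra h'
        exact h (hGfix t h')
      · rintro ⟨hne', ht⟩ h
        obtain ⟨n, rfl⟩ := horb t ht
        rw [← Perm.mul_apply, hGx, Perm.mul_apply, ha0, inv_pow, Perm.inv_eq_iff_eq, ← Perm.mul_apply,
          ← pow_add] at h
        apply hne'
        have hdvd : 11 ∣ n + n := by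
          by_contra hnd
          have hco : Nat.Coprime (n + n) (orderOf x) :=
            hxo ▸ ((Nat.Prime.coprime_iff_not_dvd (by norm_num)).2 hnd).symm
          have hs' : a0 ∈ (x ^ (n + n)).support := by
            rw [Perm.support_pow_coprime hco]; exact ha0s
          exact Perm.mem_support.1 hs' h.symm
        have : x ^ n = 1 := orderOf_dvd_iff_pow_eq_one.1 (hxo ▸ (by omega : 11 ∣ n))
        rw [this, Perm.one_apply]
    have hG1 : G ≠ 1 := fun e => by
      have := congrArg Finset.card hsup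
      rw [e, Perm.support_one, Finset.card_empty, Finset.card_erase_of_mem ha0s, hxs] at this
      omega
    have hGo : orderOf G = 2 := orderOf_eq_prime (by rw [sq, hGG]) hG1
    obtain ⟨l, hl⟩ := Perm.cycleType_prime_order (σ := G) (by rw [hGo]; norm_num)
    rw [hGo] at hl
    have hcard : (l + 1) * 2 = 10 := by
      have := congrArg Finset.card hsup
      rw [← Perm.sum_cycleType, hl, Multiset.sum_replicate, smul_eq_mul, Finset.card_erase_of_mem ha0s,
        hxs] at this
      exact this
    have hsign : Perm.sign G = 1 := hK (g : K).2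
    rw [Perm.sign_of_cycleType, hl, show l = 4 by omega] at hsign
    exact absurd hsign (by decide)
  -- the fixing subgroup has order 11
  have hFc : Nat.card F = 11 := by
    have hcompl := MonoidHom.ker_transferSylow_isComplement' P hNC
    set L := (MonoidHom.transferSylow P hNC).ker
    have hL : L = ⊥ := by
      rw [Subgroup.eq_bot_iff_forall]
      intro g hg
      apply Subtype.ext
      apply Subtype.ext
      apply Equiv.ext
      intro b
      by_cases hb : b ∈ x.support
      · have hb' : b ∈ SubMulAction.ofFixingSubgroup K s := by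
          simp [SubMulAction.mem_ofFixingSubgroup_iff, s, hb]
        set b' : SubMulAction.ofFixingSubgroup K s := ⟨b, hb'⟩
        rcases IsPreprimitive.isTrivialBlock_of_isBlock
          (IsBlock.orbit_of_normal (N := L) b' : IsBlock F _) with h | h
        · exact congrArg Subtype.val (h (⟨⟨g, hg⟩, rfl⟩ : g • b' ∈ orbit L b') (mem_orbit_self b'))
        · exfalso
          have h1 := MulAction.index_stabilizer L b'
          rw [h, Set.ncard_univ] at h1
          have h2 : Nat.card (SubMulAction.ofFixingSubgroup K s) = 11 := by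
            rw [Nat.card_eq_fintype_card, Fintype.card_subtype, ← hxs]
            apply congr_arg
            ext t
            simp [SubMulAction.mem_ofFixingSubgroup_iff, s]
          rw [h2] at h1
          have h3 : 11 ∣ Nat.card L := h1 ▸ Subgroup.index_dvd_card _
          refine h11 F ?_
          rw [← hcompl.card_mul_card, hPc, sq]
          exact mul_dvd_mul h3 dvd_rfl
      · exact hFmem.1 g.2 b hb
    have := hcompl.card_mul_card
    rw [hL, Subgroup.card_bot, one_mul, hPc] at this
    exact this.symm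
  -- the stabilizer of `v0` has order 132
  set S := MulAction.stabilizer K v0 with hS
  have hSmem : ∀ {g : K}, g ∈ S ↔ (g : Perm β) v0 = v0 := fun {g} => MulAction.mem_stabilizer_iff
  have h2t : IsMultiplyPretransitive K β 2 :=
    MulAction.isMultiplyPretransitive_of_le (n := 3) (by omega) (by rw [Nat.card_eq_fintype_card, hβ]; norm_num)
  have hSc : Nat.card S = 12 * 11 := by
    have h1 : (MulAction.stabilizer S v1).index = 12 := by
      rw [MulAction.index_stabilizer]
      have horb : orbit S v1 = {v0}ᶜ := by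
        ext t
        rw [Set.mem_compl_iff, Set.mem_singleton_iff]
        constructor
        · rintro ⟨⟨g, hg⟩, rfl⟩ h
          exact hv01 ((g : Perm β).injective ((hSmem.1 hg).trans (show (g : Perm β) v1 = v0 from h).symm))
        · intro ht
          obtain ⟨g, hg⟩ := MulAction.is_two_pretransitive_iff.1 h2t hv01 (Ne.symm ht)
          exact ⟨⟨g, hSmem.2 hg.1⟩, hg.2⟩
      rw [horb, Set.ncard_compl, Set.ncard_singleton, Nat.card_eq_fintype_card, hβ]
    have h2 : Nat.card (MulAction.stabilizer S v1) = 11 := by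
      rw [← hFc]
      refine Nat.card_congr
        { toFun := fun g => ⟨g.1.1, hFmem.2 fun t ht => ?_⟩
          invFun := fun g => ⟨⟨g.1, hSmem.2 (hFmem.1 g.2 v0 ((hmem _).2 (Or.inl rfl)))⟩,
            MulAction.mem_stabilizer_iff.2 (hFmem.1 g.2 v1 ((hmem _).2 (Or.inr rfl)))⟩
          left_inv := fun g => rfl
          right_inv := fun g => rfl }
      rcases (hmem t).1 ht with rfl | rfl
      · exact hSmem.1 g.1.2
      · exact MulAction.mem_stabilizer_iff.1 g.2
    rw [← (MulAction.stabilizer S v1).card_mul_index, h1, h2]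
  have hxS : xk ∈ S := hSmem.2 (hfix ((hmem _).2 (Or.inl rfl)))
  obtain ⟨Q, hQ, hQc⟩ := hsyl S ⟨xk, hxS⟩ (by rw [Subgroup.orderOf_mk, hxko])
  have hNQ : Subgroup.normalizer ((Q : Subgroup S) : Set S) = (Q : Subgroup S) := by
    refine le_antisymm (fun g hg => ?_) Subgroup.le_normalizer
    have hw := (Subgroup.mem_normalizer_iff.1 (Subgroup.inv_mem _ hg) ⟨xk, hxS⟩).1 (hQ ▸ Subgroup.mem_zpowers _)
    rw [← hQ, ← mem_powers_iff_mem_zpowers, inv_inv] at hw
    obtain ⟨i, hi⟩ := hw
    have hi' : ((g : K) : Perm β)⁻¹ * x * ((g : K) : Perm β) = x ^ i := by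
      have := congrArg (fun w : S => ((w : K) : Perm β)) hi
      simpa [hxk] using this.symm
    have hg1 : ((g : K) : Perm β) v1 = v1 := by
      by_contra hne'
      have hsupp : ((g : K) : Perm β) v1 ∈ x.support := by
        by_contra h
        rcases (hmem _).1 h with e | e
        · exact hv01 ((g : K).1.injective ((hSmem.1 g.2).trans e.symm))
        · exact hne' e
      apply Perm.mem_support.1 hsupp
      have hx1 : (x ^ i) v1 = v1 :=
        Perm.pow_apply_eq_self_of_apply_eq_self (hfix ((hmem _).2 (Or.inr rfl))) i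
      rw [← hi', Perm.mul_apply, Perm.mul_apply, Perm.inv_eq_iff_eq] at hx1
      exact hx1
    have hgF : (g : K) ∈ F := hFmem.2 fun t ht => by
      rcases (hmem t).1 ht with rfl | rfl
      · exact hSmem.1 g.2
      · exact hg1
    have hgz : (⟨(g : K), hgF⟩ : F) ∈ Subgroup.zpowers (⟨xk, hxF⟩ : F) := by
      rw [Subgroup.eq_top_of_card_eq (Subgroup.zpowers (⟨xk, hxF⟩ : F))
        (by rw [Nat.card_zpowers, Subgroup.orderOf_mk, hxko, hFc])]
      exact Subgroup.mem_top _
    obtain ⟨n, hn⟩ := hgz
    rw [← hQ]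
    exact ⟨n, Subtype.ext (by simpa using congrArg Subtype.val hn)⟩
  haveI : IsCyclic (Q : Subgroup S) := isCyclic_of_prime_card hQc
  have hQC : Subgroup.normalizer (Q : Set S) ≤ Subgroup.centralizer (Q : Set S) := by
    change Subgroup.normalizer ((Q : Subgroup S) : Set S) ≤ Subgroup.centralizer ((Q : Subgroup S) : Set S)
    rw [hNQ]
    exact Subgroup.le_centralizer _
  have hcompl := MonoidHom.ker_transferSylow_isComplement' Q hQC
  set L := (MonoidHom.transferSylow Q hQC).ker
  have hL : Nat.card L = 12 := by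
    have := hcompl.card_mul_card
    rw [hQc, hSc] at this
    omega
  have hn3 : Nat.card (Sylow 3 S) ∣ 44 :=
    CfsgLib.Perm.card_sylow_dvd_of_card_eq (k := 1) (by rw [hSc]; norm_num)
  have hmod : Nat.card (Sylow 3 S) % 3 = 1 := card_sylow_modEq_one 3 S
  have hle : ∀ R : Sylow 3 S, (R : Subgroup S) ≤ L := by
    intro R r hr
    have hrd : orderOf (MonoidHom.transferSylow Q hQC r) ∣ 1 := by
      have hR : Nat.card (R : Subgroup S) = 3 := by
        rw [CfsgLib.Perm.sylow_card_eq R (k := 1) (m := 44) (by rw [hSc]; norm_num) (by norm_num), pow_one]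
      have h1 : orderOf r ∣ 3 := by rw [← hR, ← Subgroup.orderOf_mk r hr]; exact orderOf_dvd_natCard _
      have h2 := (orderOf_map_dvd (MonoidHom.transferSylow Q hQC) r).trans h1
      have h3 := hQc ▸ orderOf_dvd_natCard
        (MonoidHom.transferSylow Q hQC r)
      exact Nat.dvd_gcd h2 h3
    exact MonoidHom.mem_ker.2 (orderOf_eq_one_iff.1 (Nat.dvd_one.1 hrd))
  have hn3L : Nat.card (Sylow 3 S) ≤ 4 := by
    have h1 : Nat.card (Sylow 3 S) ≤ Nat.card (Sylow 3 L) := by
      refine Nat.card_le_card_of_injective (fun R => R.subtype (hle R)) fun R R' h => ?_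
      exact Sylow.subtype_injective h
    exact h1.trans (Nat.le_of_dvd (by norm_num)
      (CfsgLib.Perm.card_sylow_dvd_of_card_eq (k := 1) (by rw [hL]; norm_num)))
  have hn3' : Nat.card (Sylow 3 S) ∣ 4 := by
    have := Nat.card_pos (α := Sylow 3 S)
    interval_cases h : Nat.card (Sylow 3 S) <;> omega
  let R : Sylow 3 S := default
  have hR : Nat.card (R : Subgroup S) = 3 := by
    rw [CfsgLib.Perm.sylow_card_eq R (k := 1) (m := 44) (by rw [hSc]; norm_num) (by norm_num), pow_one]
  set N := Subgroup.normalizer ((R : Subgroup S) : Set S) with hN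
  have h11N : 11 ∣ Nat.card N := by
    have h1 : Nat.card N * Nat.card (Sylow 3 S) = 132 := by
      rw [show Nat.card (Sylow 3 S) = N.index from R.card_eq_index_normalizer, Subgroup.card_mul_index, hSc]
    exact ((by norm_num : Nat.Prime 11).dvd_mul.1 (show 11 ∣ Nat.card N * Nat.card (Sylow 3 S) by
      rw [h1]; norm_num)).resolve_right fun h => by have := h.trans hn3'; norm_num at this
  obtain ⟨⟨w, hw⟩, hwo⟩ := exists_prime_orderOf_dvd_card' (G := N) 11 h11N
  rw [Subgroup.orderOf_mk] at hwo
  obtain ⟨W, hW, hWc⟩ := hsyl S w hwo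
  haveI : IsCyclic (R : Subgroup S) := isCyclic_of_prime_card hR
  obtain ⟨r, hr⟩ := exists_prime_orderOf_dvd_card' (G := (R : Subgroup S)) 3 (by rw [hR])
  have hcomm : (r : S) * w = w * r := by
    set φ := Subgroup.normalizerMonoidHom (R : Subgroup S) with hφ
    have h1 : orderOf (φ ⟨w, hw⟩) = 1 := by
      refine Nat.eq_one_of_dvd_coprimes (by norm_num : Nat.Coprime 2 11) ?_
        ((orderOf_map_dvd φ _).trans (by rw [Subgroup.orderOf_mk, hwo]))
      refine (_root_.orderOf_dvd_natCard _).trans ?_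
      rw [IsCyclic.card_mulAut, hR, Nat.totient_prime (by norm_num)]
    rw [orderOf_eq_one_iff] at h1
    have hker : (⟨w, hw⟩ : N) ∈ φ.ker := h1
    rw [hφ, Subgroup.normalizerMonoidHom_ker, Subgroup.mem_subgroupOf] at hker
    exact Subgroup.mem_centralizer_iff.1 hker r r.2
  have hrN : (r : S) ∈ Subgroup.normalizer ((W : Subgroup S) : Set S) := by
    refine Subgroup.centralizer_le_normalizer _ ?_
    rw [← hW, Subgroup.zpowers_eq_closure, Subgroup.centralizer_closure, Subgroup.mem_centralizer_singleton_iff]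
    exact hcomm
  have hWN : Nat.card (Subgroup.normalizer ((W : Subgroup S) : Set S)) = 11 := by
    have e1 : Nat.card (Sylow 11 S) = (Subgroup.normalizer ((W : Subgroup S) : Set S)).index :=
      W.card_eq_index_normalizer
    have e2 : Nat.card (Sylow 11 S) = (Subgroup.normalizer ((Q : Subgroup S) : Set S)).index :=
      Q.card_eq_index_normalizer
    rw [hNQ] at e2
    have h1 := (Subgroup.normalizer ((W : Subgroup S) : Set S)).card_mul_index
    have h2 := (Q : Subgroup S).card_mul_index
    rw [← e1] at h1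
    rw [← e2, hQc, hSc] at h2
    rw [hSc] at h1
    nlinarith
  have h3 : 3 ∣ 11 := by
    rw [← hWN, ← hr, ← Subgroup.orderOf_coe, ← Subgroup.orderOf_mk _ hrN]
    exact orderOf_dvd_natCard _
  norm_num at h3

end CfsgLib.ClassSizes
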