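import Cfsg.Agent.Lib.Classical.Dickson.Classify
import Cfsg.Agent.Lib.Classical.PSLTwoSimple
import Cfsg.Agent.Lib.Classical.LinearOrder
import Cfsg.Agent.Lib.Perm.SimpleCount

/-!
# Normalisers in `PSL(2,13)` and `SL(2,13)`
-/

set_option autoImplicit false
set_option linter.all false

namespace CfsgLib.ClassSizes.Thirteen

open Subgroup Matrix
open scoped MatrixGroups Pointwise commutatorElement

/-- The group-theoretic data of `PSL(2,13)`. -/
structure Data (K : Type*) [Group K] where
  u : K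
  c : K
  w : K
  card : Nat.card K = 1092
  simple : IsSimpleGroup K
  max : ∀ M : Subgroup K, IsCoatom M → Nat.card M = 78 ∨ Nat.card M = 12 ∨ Nat.card M = 14
  u_ord : orderOf u = 13
  c_ord : orderOf c = 6
  conj_u : c * u * c⁻¹ ∈ zpowers u
  w_ne : w ≠ 1
  w_sq : w ^ 2 = 1
  conj_c : w * c * w⁻¹ = c⁻¹

namespace Data

variable {K : Type*} [Group K] (D : Data K)

include D in
theorem finite : Finite K := Nat.finite_of_card_ne_zero (by rw [D.card]; norm_num)

include D in
theorem le_max {H : Subgroup K} (hH : H ≠ ⊤) : ∃ M : Subgroup K, IsCoatom M ∧ H ≤ M := by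
  haveI := D.finite
  exact (eq_top_or_exists_le_coatom H).resolve_left hH

include D in
theorem coatom_of_card {M : Subgroup K} (hM : Nat.card M = 78 ∨ Nat.card M = 12 ∨ Nat.card M = 14) : IsCoatom M := by
  haveI := D.finite
  have hne : M ≠ ⊤ := fun h => by rw [h, Subgroup.card_top, D.card] at hM; omega
  obtain ⟨L, hL, hle⟩ := D.le_max hne
  have hd := card_dvd_of_le hle
  have : Nat.card M = Nat.card L := by
    rcases hM with h | h | h <;> rcases D.max L hL with h' | h' | h' <;> rw [h, h'] at hd ⊢ <;> norm_num at hd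
  rwa [eq_of_le_of_card_ge hle this.ge]

include D in
theorem card_sylow {q : ℕ} [Fact q.Prime] {m : ℕ} (P : Sylow q K) (hm : 1092 = q ^ 1 * m) (hqm : ¬ q ∣ m) :
    Nat.card (P : Subgroup K) = q := by
  haveI := D.finite
  exact (CfsgLib.Perm.sylow_card_eq P (k := 1) (m := m) (by rw [D.card, hm]) hqm).trans (pow_one q)

include D in
theorem normal_cases {N : Subgroup K} (hN : N.Normal) : N = ⊥ ∨ N = ⊤ := by
  haveI := D.simple
  exact hN.eq_bot_or_eq_top

include D in
theorem sylow_not_one {q : ℕ} [Fact q.Prime] {m : ℕ} (hm : 1092 = q ^ 1 * m) (hqm : ¬ q ∣ m) :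
    Nat.card (Sylow q K) ≠ 1 := by
  haveI := D.finite
  intro h1
  obtain ⟨P⟩ : Nonempty (Sylow q K) := inferInstance
  haveI := (Nat.card_eq_one_iff_unique.1 h1).1
  haveI : (P : Subgroup K).Characteristic := P.characteristic_of_subsingleton
  have hP := D.card_sylow P hm hqm
  have hq := (Fact.out : q.Prime)
  rcases D.normal_cases (inferInstance : (P : Subgroup K).Normal) with h | h
  · rw [h, Subgroup.card_bot] at hP; exact hq.one_lt.ne hP
  · rw [h, Subgroup.card_top, D.card] at hP; subst hP; norm_num at hq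

include D in
theorem normalizer_sylow13 (P : Sylow 13 K) [Fact (Nat.Prime 13)] :
    Nat.card (normalizer ((P : Subgroup K) : Set K)) = 78 := by
  haveI := D.finite
  have h1 := D.sylow_not_one (q := 13) (m := 84) (by norm_num) (by norm_num)
  have hd : Nat.card (Sylow 13 K) ∣ 84 := CfsgLib.Perm.card_sylow_dvd_of_card_eq (k := 1) (by rw [D.card]; norm_num)
  have hmod : Nat.card (Sylow 13 K) % 13 = 1 := card_sylow_modEq_one 13 K
  have key : ∀ n ∈ Nat.divisors 84, n % 13 = 1 → n ≠ 1 → n = 14 := by decide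
  have hn := key _ (Nat.mem_divisors.2 ⟨hd, by norm_num⟩) hmod h1
  have hidx : (normalizer ((P : Subgroup K) : Set K)).index = _ := (Sylow.card_eq_index_normalizer P).symm.trans hn
  have := (normalizer ((P : Subgroup K) : Set K)).card_mul_index
  rw [hidx, D.card] at this
  omega

include D in
theorem normalizer_sylow7 (P : Sylow 7 K) [Fact (Nat.Prime 7)] :
    Nat.card (normalizer ((P : Subgroup K) : Set K)) = 14 := by
  haveI := D.finite
  have h1 := D.sylow_not_one (q := 7) (m := 156) (by norm_num) (by norm_num)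
  have hd : Nat.card (Sylow 7 K) ∣ 156 := CfsgLib.Perm.card_sylow_dvd_of_card_eq (k := 1) (by rw [D.card]; norm_num)
  have hmod : Nat.card (Sylow 7 K) % 7 = 1 := card_sylow_modEq_one 7 K
  have key : ∀ n ∈ Nat.divisors 156, n % 7 = 1 → n ≠ 1 → n = 78 := by decide
  have hn := key _ (Nat.mem_divisors.2 ⟨hd, by norm_num⟩) hmod h1
  have hidx : (normalizer ((P : Subgroup K) : Set K)).index = _ := (Sylow.card_eq_index_normalizer P).symm.trans hn
  have := (normalizer ((P : Subgroup K) : Set K)).card_mul_index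
  rw [hidx, D.card] at this
  omega

/-- The dihedral subgroup of order twelve. -/
def dih : Subgroup K := zpowers D.c ⊔ zpowers D.w

include D in
theorem card_dih : Nat.card D.dih = 12 := by
  haveI := D.finite
  have hn : zpowers D.w ≤ normalizer (zpowers D.c : Set K) := by
    rw [zpowers_le]
    refine mem_normalizer_fintype fun a ha => ?_
    obtain ⟨i, rfl⟩ := mem_zpowers_iff.1 ha
    show D.w * D.c ^ i * D.w⁻¹ ∈ zpowers D.c
    rw [← conj_zpow, D.conj_c]
    exact zpow_mem (inv_mem (mem_zpowers D.c)) i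
  have h := CfsgLib.Core.card_sup_mul_card_inf (zpowers D.w) (zpowers D.c) hn
  have hinf : zpowers D.w ⊓ zpowers D.c = ⊥ := by
    rw [eq_bot_iff]
    rintro x ⟨hxw, hxc⟩
    rw [mem_bot]
    by_contra hx
    have hw2 : orderOf D.w = 2 := orderOf_eq_prime D.w_sq D.w_ne
    have hwc : D.w ∈ zpowers D.c := by
      have heq : zpowers x = zpowers D.w := by
        refine eq_of_le_of_card_ge (zpowers_le.2 hxw) ?_
        rw [Nat.card_zpowers, Nat.card_zpowers, hw2]
        have : orderOf x ≠ 1 := fun h => hx (orderOf_eq_one_iff.1 h)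
        have := orderOf_pos x
        omega
      exact (zpowers_le.2 hxc) (heq.symm ▸ mem_zpowers D.w)
    obtain ⟨i, hi⟩ := mem_zpowers_iff.1 hwc
    have hcc : D.w * D.c * D.w⁻¹ = D.c := by rw [← hi]; group
    rw [D.conj_c] at hcc
    have : D.c ^ 2 = 1 := by rw [pow_two]; nth_rw 1 [← hcc]; exact inv_mul_cancel _
    have := orderOf_dvd_of_pow_eq_one this
    rw [D.c_ord] at this
    norm_num at this
  rw [hinf, Subgroup.card_bot, mul_one, Nat.card_zpowers, Nat.card_zpowers, orderOf_eq_prime D.w_sq D.w_ne,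
    D.c_ord] at h
  rw [dih, sup_comm]
  convert h using 1

/-- A conjugate of a subgroup lying in the normaliser gives a maximal subgroup inside. -/
def Good (H : Subgroup K) : Prop :=
  ∃ M : Subgroup K, M ≤ normalizer (H : Set K) ∧ (Nat.card M = 78 ∨ Nat.card M = 12 ∨ Nat.card M = 14)

include D in
theorem exists_conj_le {g : K} {R : Subgroup K} (hR : D.dih ≤ normalizer (R : Set K)) :
    ∃ M : Subgroup K, M ≤ normalizer ((R.map (MulAut.conj g).toMonoidHom : Subgroup K) : Set K) ∧ Nat.card M = 12 := by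
  refine ⟨D.dih.map (MulAut.conj g).toMonoidHom, ?_, ?_⟩
  · exact (map_mono hR).trans (map_equiv_normalizer_eq R (MulAut.conj g)).le
  · rw [← D.card_dih]
    exact (Nat.card_congr (D.dih.equivMapOfInjective _ (MulAut.conj g).injective).toEquiv).symm

include D in
theorem normalizer_three (R : Subgroup K) (hR : Nat.card R = 3) :
    Nat.card (normalizer (R : Set K)) = 12 := by
  haveI := D.finite
  haveI : Fact (Nat.Prime 3) := ⟨Nat.prime_three⟩
  have hc2 : orderOf (D.c ^ 2) = 3 := by rw [orderOf_pow, D.c_ord]; norm_num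
  have hdn : D.dih ≤ normalizer (zpowers (D.c ^ 2) : Set K) := by
    refine sup_le (zpowers_le.2 ?_) (zpowers_le.2 ?_) <;> refine mem_normalizer_fintype fun a ha => ?_ <;>
      obtain ⟨i, rfl⟩ := mem_zpowers_iff.1 ha
    · show D.c * (D.c ^ 2) ^ i * D.c⁻¹ ∈ zpowers (D.c ^ 2)
      rw [← conj_zpow, show D.c * D.c ^ 2 * D.c⁻¹ = D.c ^ 2 by group]
      exact zpow_mem (mem_zpowers _) i
    · show D.w * (D.c ^ 2) ^ i * D.w⁻¹ ∈ zpowers (D.c ^ 2)
      rw [← conj_zpow, ← conj_pow, D.conj_c, inv_pow]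
      exact zpow_mem (inv_mem (mem_zpowers _)) i
  let S₀ : Sylow 3 K := Sylow.ofCard (zpowers (D.c ^ 2)) (by
    rw [Nat.card_zpowers, hc2, D.card, show (1092 : ℕ) = 3 ^ 1 * 364 by norm_num,
      Nat.factorization_mul (by norm_num) (by norm_num), Finsupp.add_apply,
      Nat.prime_three.factorization_pow, Finsupp.single_eq_same,
      Nat.factorization_eq_zero_of_not_dvd (by norm_num : ¬ 3 ∣ 364)]
    norm_num)
  let S₁ : Sylow 3 K := Sylow.ofCard R (by
    rw [hR, D.card, show (1092 : ℕ) = 3 ^ 1 * 364 by norm_num,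
      Nat.factorization_mul (by norm_num) (by norm_num), Finsupp.add_apply,
      Nat.prime_three.factorization_pow, Finsupp.single_eq_same,
      Nat.factorization_eq_zero_of_not_dvd (by norm_num : ¬ 3 ∣ 364)]
    norm_num)
  obtain ⟨g, hg⟩ := MulAction.exists_smul_eq K S₀ S₁
  have hgR : (zpowers (D.c ^ 2)).map (MulAut.conj g).toMonoidHom = R := by
    have h := congrArg (fun S : Sylow 3 K => (S : Subgroup K)) hg
    exact h
  obtain ⟨M, hM, hM12⟩ := D.exists_conj_le (g := g) hdn
  rw [hgR] at hM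
  have hne : normalizer (R : Set K) ≠ ⊤ := fun h => by
    rcases D.normal_cases (normalizer_eq_top_iff.1 h) with e | e
    · rw [e, Subgroup.card_bot] at hR; omega
    · rw [e, Subgroup.card_top, D.card] at hR; omega
  have hMc := D.coatom_of_card (Or.inr (Or.inl hM12))
  rw [← (hMc.le_iff.1 hM).resolve_left hne] at hM12
  exact hM12

include D in
theorem normalizer_four (V : Subgroup K) (hV : Nat.card V = 4) :
    ∀ t ∈ V, ∀ s ∈ V, t ≠ 1 → s ≠ 1 → IsConj t s ∧ 12 ∣ Nat.card (normalizer (V : Set K)) := by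
  haveI := D.finite
  haveI : Fact (Nat.Prime 2) := ⟨Nat.prime_two⟩
  let P : Sylow 2 K := Sylow.ofCard V (by
    rw [hV, D.card, show (1092 : ℕ) = 2 ^ 2 * 273 by norm_num,
      Nat.factorization_mul (by norm_num) (by norm_num), Finsupp.add_apply,
      Nat.prime_two.factorization_pow, Finsupp.single_eq_same,
      Nat.factorization_eq_zero_of_not_dvd (by norm_num : ¬ 2 ∣ 273)]
    norm_num)
  have hnc : ¬ normalizer ((P : Subgroup K) : Set K) ≤ centralizer ((P : Subgroup K) : Set K) := by
    intro hle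
    have hcomp := MonoidHom.ker_transferSylow_isComplement' P hle
    have hidx : (MonoidHom.transferSylow P hle).ker.index = 4 := hcomp.symm.index_eq_card.trans hV
    rcases D.normal_cases (MonoidHom.normal_ker (MonoidHom.transferSylow P hle)) with e | e
    · rw [e, index_bot, D.card] at hidx; omega
    · rw [e, index_top] at hidx; omega
  haveI : IsMulCommutative V := by
    have := IsPGroup.commutative_of_card_eq_prime_sq (p := 2) (G := V) (by rw [hV]; norm_num)
    exact ⟨⟨this⟩⟩
  have hCV : V ≤ centralizer (V : Set K) := le_centralizer V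
  have hne : normalizer (V : Set K) ≠ ⊤ := fun h => by
    rcases D.normal_cases (normalizer_eq_top_iff.1 h) with e | e
    · rw [e, Subgroup.card_bot] at hV; omega
    · rw [e, Subgroup.card_top, D.card] at hV; omega
  obtain ⟨M, hM, hle⟩ := D.le_max hne
  have hVN : V ≤ normalizer (V : Set K) := le_normalizer
  have h4 : 4 ∣ Nat.card (normalizer (V : Set K)) := hV ▸ card_dvd_of_le hVN
  have hd := card_dvd_of_le hle
  have hN4 : Nat.card (normalizer (V : Set K)) ≠ 4 := by
    intro h
    apply hnc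
    show normalizer (V : Set K) ≤ centralizer (V : Set K)
    rw [← eq_of_le_of_card_ge hVN (by rw [h, hV])]
    exact hCV
  have hN : Nat.card (normalizer (V : Set K)) = 12 := by
    rcases D.max M hM with h | h | h <;> rw [h] at hd
    · have h' := h4.trans hd; norm_num at h'
    · obtain ⟨j, hj⟩ := h4
      have := Nat.le_of_dvd (by norm_num) hd
      rw [hj] at hd hN4 this ⊢
      have : j ≤ 3 := by omega
      interval_cases j <;> first | omega | (norm_num at hd)
    · have h' := h4.trans hd; norm_num at h'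
  obtain ⟨g, hgN, hgC⟩ : ∃ g ∈ normalizer (V : Set K), g ∉ centralizer (V : Set K) := by
    by_contra h
    push Not at h
    exact hnc h
  -- an element of order three moving the involutions
  obtain ⟨e, he⟩ := exists_prime_orderOf_dvd_card' (G := normalizer (V : Set K)) (hp := ⟨Nat.prime_three⟩) 3 (by rw [hN]; norm_num)
  have heC : (e : K) ∉ centralizer (V : Set K) := by
    intro hec
    apply hgC
    have : zpowers (e : K) ⊔ V = normalizer (V : Set K) := by
      refine eq_of_le_of_card_ge (sup_le (zpowers_le.2 e.2) hVN) ?_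
      rw [hN]
      refine Nat.le_of_dvd Nat.card_pos ?_
      have h3 : 3 ∣ Nat.card (zpowers (e : K) ⊔ V : Subgroup K) := by
        rw [← he, ← Subgroup.orderOf_coe]
        exact Subgroup.orderOf_dvd_natCard _ (mem_sup_left (mem_zpowers _))
      have h4' : 4 ∣ Nat.card (zpowers (e : K) ⊔ V : Subgroup K) := hV ▸ card_dvd_of_le le_sup_right
      exact Nat.Coprime.mul_dvd_of_dvd_of_dvd (by norm_num : Nat.Coprime 3 4) h3 h4'
    exact (sup_le (zpowers_le.2 hec) hCV) (this.symm ▸ hgN)
  intro t ht s hs ht1 hs1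
  refine ⟨?_, by rw [hN]⟩
  obtain ⟨ex, hex⟩ : ∃ ex : K, ex = (e : K) := ⟨_, rfl⟩
  have hexN : ex ∈ normalizer (V : Set K) := hex ▸ e.2
  have hex3 : ex ^ 3 = 1 := by rw [hex, ← Subgroup.coe_pow, ← he, pow_orderOf_eq_one, Subgroup.coe_one]
  rw [← hex] at heC
  have hconj : ∀ a ∈ V, ex * a * ex⁻¹ ∈ V := fun a ha => (mem_normalizer_iff.1 hexN a).1 ha
  letI : Fintype V := Fintype.ofFinite V
  have hcard : Fintype.card V = 4 := by rw [← Nat.card_eq_fintype_card]; exact hV
  have hsq : ∀ a ∈ V, a * a = 1 := by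
    intro a ha
    have ho : orderOf a ∣ 2 ^ 2 := by
      have h := Subgroup.orderOf_dvd_natCard V ha
      rwa [hV] at h
    obtain ⟨k, hk, hka⟩ := (Nat.dvd_prime_pow Nat.prime_two).1 ho
    rcases (show k ≤ 1 ∨ k = 2 by omega) with hk1 | rfl
    · rw [← pow_two, ← orderOf_dvd_iff_pow_eq_one, hka]
      exact (pow_dvd_pow 2 hk1).trans (by norm_num)
    · exfalso
      have hVc : zpowers a = V := eq_of_le_of_card_ge (zpowers_le.2 ha) (by rw [Nat.card_zpowers, hka, hV]; norm_num)
      haveI : IsCyclic (P : Subgroup K) := by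
        show IsCyclic V
        rw [← hVc]; infer_instance
      exact hnc (IsCyclic.normalizer_le_centralizer (P := P) ((Nat.minFac_eq_two_iff _).2 ⟨546, D.card⟩) inferInstance)
  -- a fixed non trivial element would make `ex` centralise `V`
  have hfree : ∀ a ∈ V, a ≠ 1 → ex * a * ex⁻¹ ≠ a := by
    intro a ha ha1 hfix
    apply heC
    refine mem_centralizer_iff.2 fun b hb => ?_
    by_cases hb1 : b = 1
    · simp [hb1]
    by_cases hba : b = a
    · rw [hba]; exact (mul_inv_eq_iff_eq_mul.1 hfix).symm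
    have h1 := hconj b hb
    have hab : a * b ≠ 1 := fun h => hba (mul_left_cancel (h.trans (hsq a ha).symm))
    have hsplit : ∀ x ∈ V, x = 1 ∨ x = a ∨ x = b ∨ x = a * b := by
      intro x hx
      by_contra hh
      simp only [not_or] at hh
      classical
      have hsub : ({⟨1, one_mem V⟩, ⟨a, ha⟩, ⟨b, hb⟩, ⟨a * b, mul_mem ha hb⟩, ⟨x, hx⟩} : Finset V).card ≤ 4 :=
        hcard ▸ Finset.card_le_univ _
      rw [Finset.card_insert_of_notMem, Finset.card_insert_of_notMem, Finset.card_insert_of_notMem,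
        Finset.card_insert_of_notMem, Finset.card_singleton] at hsub
      · omega
      · simp only [Finset.mem_singleton, Subtype.mk.injEq]; exact fun h => hh.2.2.2 h.symm
      · simp only [Finset.mem_insert, Finset.mem_singleton, Subtype.mk.injEq, not_or]
        exact ⟨fun h => ha1 (mul_eq_right.1 h.symm), fun h => hh.2.2.1 h.symm⟩
      · simp only [Finset.mem_insert, Finset.mem_singleton, Subtype.mk.injEq, not_or]
        exact ⟨Ne.symm hba, fun h => hb1 (mul_eq_left.1 h.symm), fun h => hh.2.1 h.symm⟩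
      · simp only [Finset.mem_insert, Finset.mem_singleton, Subtype.mk.injEq, not_or]
        exact ⟨Ne.symm ha1, Ne.symm hb1, Ne.symm hab, fun h => hh.1 h.symm⟩
    rcases hsplit _ h1 with h | h | h | h
    · exact absurd (conj_eq_one_iff.1 h) hb1
    · exfalso
      exact hba (mul_left_cancel (mul_right_cancel (h.trans hfix.symm)))
    · exact (mul_inv_eq_iff_eq_mul.1 h).symm
    · exfalso
      have h2 : ex * (ex * b * ex⁻¹) * ex⁻¹ = b := by
        rw [h, show ex * (a * b) * ex⁻¹ = (ex * a * ex⁻¹) * (ex * b * ex⁻¹) by group, hfix, h,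
          ← mul_assoc, hsq a ha, one_mul]
      have h3 : ex * b * ex⁻¹ = b := by
        conv_rhs => rw [← show ex ^ 3 * b * (ex ^ 3)⁻¹ = b by rw [hex3]; group]
        conv_lhs => rw [← h2]
        rw [pow_three']
        group
      exact ha1 (mul_eq_right.1 (h.symm.trans h3))
  -- the orbit of `t`
  classical
  have htt : (ex * t * ex⁻¹) ∈ V := hconj t ht
  have httt : ex * (ex * t * ex⁻¹) * ex⁻¹ ∈ V := hconj _ htt
  have hne1 : ex * t * ex⁻¹ ≠ 1 := fun h => ht1 (conj_eq_one_iff.1 h)
  have hne2 : ex * (ex * t * ex⁻¹) * ex⁻¹ ≠ 1 := fun h => hne1 (conj_eq_one_iff.1 h)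
  have hd1 := hfree t ht ht1
  have hd2 := hfree _ htt hne1
  have hd3 : ex * (ex * t * ex⁻¹) * ex⁻¹ ≠ t := by
    intro h
    apply hd1
    have : ex ^ 3 * t * (ex ^ 3)⁻¹ = ex * t * ex⁻¹ := by
      conv_rhs => rw [← h]
      rw [pow_three']
      group
    rw [hex3] at this
    simpa using this.symm
  by_contra hnot
  have hsub : ({⟨1, one_mem V⟩, ⟨t, ht⟩, ⟨_, htt⟩, ⟨_, httt⟩, ⟨s, hs⟩} : Finset V).card ≤ 4 :=
    hcard ▸ Finset.card_le_univ _
  rw [Finset.card_insert_of_notMem, Finset.card_insert_of_notMem, Finset.card_insert_of_notMem,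
    Finset.card_insert_of_notMem, Finset.card_singleton] at hsub
  · omega
  · simp only [Finset.mem_singleton, Subtype.mk.injEq]
    intro h
    exact hnot (isConj_iff.2 ⟨ex * ex, by rw [← h]; group⟩)
  · simp only [Finset.mem_insert, Finset.mem_singleton, Subtype.mk.injEq, not_or]
    exact ⟨Ne.symm hd2, fun h => hnot (isConj_iff.2 ⟨ex, h⟩)⟩
  · simp only [Finset.mem_insert, Finset.mem_singleton, Subtype.mk.injEq, not_or]
    exact ⟨Ne.symm hd1, Ne.symm hd3, fun h => hnot (h ▸ IsConj.refl t)⟩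
  · simp only [Finset.mem_insert, Finset.mem_singleton, Subtype.mk.injEq, not_or]
    exact ⟨Ne.symm ht1, Ne.symm hne1, Ne.symm hne2, Ne.symm hs1⟩

include D in
theorem exists_le_dihedral_centralizer (t : K) (ht : orderOf t = 2) :
    ∃ M : Subgroup K, M ≤ centralizer ({t} : Set K) ∧ Nat.card M = 12 := by
  haveI := D.finite
  haveI : Fact (Nat.Prime 2) := ⟨Nat.prime_two⟩
  set t₀ := D.c ^ 3 with ht₀
  have ho₀ : orderOf t₀ = 2 := by rw [ht₀, orderOf_pow, D.c_ord]; norm_num
  have hT : ∀ x : K, orderOf x = 2 → ∃ T : Sylow 2 K, x ∈ (T : Subgroup K) := by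
    intro x hx
    obtain ⟨T, hT⟩ := (IsPGroup.of_card (p := 2) (n := 1) (by rw [Nat.card_zpowers, hx, pow_one]) :
      IsPGroup 2 (zpowers x)).exists_le_sylow
    exact ⟨T, hT (mem_zpowers x)⟩
  obtain ⟨T, hTt⟩ := hT t ht
  obtain ⟨T₀, hTt₀⟩ := hT t₀ ho₀
  obtain ⟨g, hg⟩ := MulAction.exists_smul_eq K T₀ T
  have hcard : Nat.card (T : Subgroup K) = 4 :=
    (CfsgLib.Perm.sylow_card_eq T (k := 2) (m := 273) (by rw [D.card]; norm_num) (by norm_num)).trans (by norm_num)
  have hgt : g * t₀ * g⁻¹ ∈ (T : Subgroup K) := by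
    rw [← hg]
    exact ⟨t₀, hTt₀, rfl⟩
  have ht1 : t ≠ 1 := fun h => by rw [h, orderOf_one] at ht; norm_num at ht
  have ht01 : g * t₀ * g⁻¹ ≠ 1 := fun h => by rw [conj_eq_one_iff.1 h, orderOf_one] at ho₀; norm_num at ho₀
  obtain ⟨hconj, -⟩ := D.normalizer_four (T : Subgroup K) hcard (g * t₀ * g⁻¹) hgt t hTt ht01 ht1
  obtain ⟨k, hk⟩ := isConj_iff.1 hconj
  set z := k * g with hz
  have hzt : z * t₀ * z⁻¹ = t := by rw [← hk, hz]; group
  have hdC : D.dih ≤ centralizer ({t₀} : Set K) := by
    refine sup_le (zpowers_le.2 ?_) (zpowers_le.2 ?_) <;> rw [mem_centralizer_singleton_iff]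
    · exact (Commute.self_pow D.c 3).eq
    · have h6 : t₀⁻¹ = t₀ := by
        rw [inv_eq_iff_mul_eq_one, ← pow_two, ← ho₀, pow_orderOf_eq_one]
      have h7 : D.w * t₀ * D.w⁻¹ = t₀ := by rw [ht₀, ← conj_pow, D.conj_c, inv_pow, ← ht₀, h6]
      exact mul_inv_eq_iff_eq_mul.1 h7
  refine ⟨D.dih.map (MulAut.conj z).toMonoidHom, ?_, ?_⟩
  · rintro _ ⟨y, hy, rfl⟩
    rw [mem_centralizer_singleton_iff, ← hzt]
    have := mem_centralizer_singleton_iff.1 (hdC hy)
    show z * y * z⁻¹ * (z * t₀ * z⁻¹) = z * t₀ * z⁻¹ * (z * y * z⁻¹)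
    calc _ = z * (y * t₀) * z⁻¹ := by group
      _ = z * (t₀ * y) * z⁻¹ := by rw [this]
      _ = _ := by group
  · rw [← D.card_dih]
    exact (Nat.card_congr (D.dih.equivMapOfInjective _ (MulAut.conj z).injective).toEquiv).symm

include D in
theorem commutator_borel_le (M : Subgroup K) (hM : Nat.card M = 78) (H : Subgroup K) (hHM : H ≤ M)
    (h13 : 13 ∣ Nat.card H) : ⁅M, M⁆ ≤ H := by
  haveI := D.finite
  haveI : Fact (Nat.Prime 13) := ⟨by norm_num⟩
  -- the Sylow subgroup inside `H`
  obtain ⟨x, hx⟩ := exists_prime_orderOf_dvd_card' (G := H) 13 h13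
  have hxo : orderOf (x : K) = 13 := by rw [Subgroup.orderOf_coe, hx]
  have hfact : (Nat.card K).factorization 13 = 1 := by
    rw [D.card, show (1092 : ℕ) = 13 ^ 1 * 84 by norm_num,
      Nat.factorization_mul (by norm_num) (by norm_num), Finsupp.add_apply,
      Nat.Prime.factorization_pow (by norm_num), Finsupp.single_eq_same,
      Nat.factorization_eq_zero_of_not_dvd (by norm_num : ¬ 13 ∣ 84)]
  let P : Sylow 13 K := Sylow.ofCard (zpowers (x : K)) (by rw [Nat.card_zpowers, hxo, hfact, pow_one])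
  let P₀ : Sylow 13 K := Sylow.ofCard (zpowers D.u) (by rw [Nat.card_zpowers, D.u_ord, hfact, pow_one])
  -- `M` normalises it
  have hMN : M = normalizer ((P : Subgroup K) : Set K) := by
    have hxM : (P : Subgroup K) ≤ M := zpowers_le.2 (hHM x.2)
    have hn : ((P : Subgroup K).subgroupOf M).Normal := by
      haveI : Subsingleton (Sylow 13 M) := by
        refine (Nat.card_eq_one_iff_unique.1 ?_).1
        have hd : Nat.card (Sylow 13 M) ∣ 6 := CfsgLib.Perm.card_sylow_dvd_of_card_eq (k := 1) (by rw [hM]; norm_num)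
        have hmod : Nat.card (Sylow 13 M) % 13 = 1 := card_sylow_modEq_one 13 M
        have := Nat.le_of_dvd (by norm_num) hd
        omega
      let PM : Sylow 13 M := P.subtype hxM
      exact PM.normal_of_subsingleton
    exact eq_of_le_of_card_ge ((normal_subgroupOf_iff_le_normalizer hxM).1 hn) (by rw [hM, D.normalizer_sylow13 P])
  obtain ⟨g, hg⟩ := MulAction.exists_smul_eq K P₀ P
  have hgP : (zpowers D.u).map (MulAut.conj g).toMonoidHom = zpowers (x : K) :=
    congrArg (fun S : Sylow 13 K => (S : Subgroup K)) hg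
  set B := normalizer (zpowers D.u : Set K) with hB
  have hMB : M = B.map (MulAut.conj g).toMonoidHom := by
    rw [hMN, hB]
    refine Eq.trans ?_ (map_equiv_normalizer_eq (zpowers D.u) (MulAut.conj g)).symm
    show normalizer (zpowers (x : K) : Set K) = normalizer (((zpowers D.u).map (MulAut.conj g).toMonoidHom : Subgroup K) : Set K)
    rw [hgP]
  -- the derived subgroup of the standard Borel subgroup
  have hBcard : Nat.card B = 78 := D.normalizer_sylow13 P₀
  have hcB : D.c ∈ B := by
    refine mem_normalizer_fintype fun a ha => ?_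
    obtain ⟨i, rfl⟩ := mem_zpowers_iff.1 ha
    show D.c * D.u ^ i * D.c⁻¹ ∈ zpowers D.u
    rw [← conj_zpow]
    exact zpow_mem D.conj_u i
  have hBgen : zpowers D.c ⊔ zpowers D.u = B := by
    refine eq_of_le_of_card_ge (sup_le (zpowers_le.2 hcB) le_normalizer) ?_
    rw [hBcard]
    refine Nat.le_of_dvd Nat.card_pos ?_
    have h6 : 6 ∣ Nat.card (zpowers D.c ⊔ zpowers D.u : Subgroup K) := by
      have := Subgroup.orderOf_dvd_natCard _ ((mem_sup_left (mem_zpowers D.c) : D.c ∈ zpowers D.c ⊔ zpowers D.u))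
      rwa [D.c_ord] at this
    have h13' : 13 ∣ Nat.card (zpowers D.c ⊔ zpowers D.u : Subgroup K) := by
      have := Subgroup.orderOf_dvd_natCard _ ((mem_sup_right (mem_zpowers D.u) : D.u ∈ zpowers D.c ⊔ zpowers D.u))
      rwa [D.u_ord] at this
    exact Nat.Coprime.mul_dvd_of_dvd_of_dvd (by norm_num : Nat.Coprime 6 13) h6 h13'
  have hder : ⁅B, B⁆ ≤ zpowers D.u := by
    rw [commutator_le]
    intro a ha b hb
    haveI : ((zpowers D.u).subgroupOf B).Normal := (normal_subgroupOf_iff_le_normalizer le_normalizer).2 le_rfl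
    set π := QuotientGroup.mk' ((zpowers D.u).subgroupOf B) with hπ
    have hcyc : ∀ y : B, π y ∈ zpowers (π ⟨D.c, hcB⟩) := by
      rintro ⟨y, hy⟩
      have hle : zpowers D.c ⊔ zpowers D.u ≤ ((zpowers (π ⟨D.c, hcB⟩)).comap π).map B.subtype := by
        refine sup_le (zpowers_le.2 ⟨⟨D.c, hcB⟩, mem_zpowers (π ⟨D.c, hcB⟩), rfl⟩)
          (zpowers_le.2 ⟨⟨D.u, le_normalizer (mem_zpowers D.u)⟩, ?_, rfl⟩)
        show π ⟨D.u, le_normalizer (mem_zpowers D.u)⟩ ∈ zpowers (π ⟨D.c, hcB⟩)
        have h1 : π ⟨D.u, le_normalizer (mem_zpowers D.u)⟩ = 1 := (QuotientGroup.eq_one_iff _).2 (mem_zpowers D.u)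
        rw [h1]
        exact one_mem _
      obtain ⟨y', hy', e⟩ := hle (hBgen.ge hy)
      obtain rfl : y' = ⟨y, hy⟩ := Subtype.ext e
      exact hy'
    have h : ⁅(⟨a, ha⟩ : B), (⟨b, hb⟩ : B)⁆ ∈ (zpowers D.u).subgroupOf B := by
      rw [← QuotientGroup.eq_one_iff, ← QuotientGroup.mk'_apply, map_commutatorElement,
        commutatorElement_eq_one_iff_mul_comm]
      obtain ⟨i, hi⟩ := hcyc ⟨a, ha⟩
      obtain ⟨j, hj⟩ := hcyc ⟨b, hb⟩
      simp only at hi hj
      rw [← hπ, ← hi, ← hj, zpow_mul_comm]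
    exact h
  calc ⁅M, M⁆ = (⁅B, B⁆).map (MulAut.conj g).toMonoidHom := by rw [map_commutator, ← hMB]
    _ ≤ (zpowers D.u).map (MulAut.conj g).toMonoidHom := map_mono hder
    _ = zpowers (x : K) := hgP
    _ ≤ H := zpowers_le.2 x.2

include D in
/-- All proper non trivial subgroups of `PSL(2,13)` have maximal normalisers. -/
theorem isCoatom_normalizer {H : Subgroup K} (hb : H ≠ ⊥) (ht : H ≠ ⊤) : IsCoatom (normalizer (H : Set K)) := by
  haveI := D.finite
  suffices hgood : ∃ M : Subgroup K, M ≤ normalizer (H : Set K) ∧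
      (Nat.card M = 78 ∨ Nat.card M = 12 ∨ Nat.card M = 14) by
    obtain ⟨M, hM, hc⟩ := hgood
    have hMc := D.coatom_of_card hc
    have hne : normalizer (H : Set K) ≠ ⊤ := fun h => by
      rcases D.normal_cases (normalizer_eq_top_iff.1 h) with e | e
      exacts [hb e, ht e]
    rwa [(hMc.le_iff.1 hM).resolve_left hne]
  obtain ⟨L, hL, hHL⟩ := D.le_max ht
  have hd := card_dvd_of_le hHL
  have hnorm : ∀ M : Subgroup K, H ≤ M → H.relIndex M = 2 → M ≤ normalizer (H : Set K) := fun M hle h2 =>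
    (normal_subgroupOf_iff_le_normalizer hle).1 (Subgroup.normal_of_index_eq_two h2)
  by_cases h13 : 13 ∣ Nat.card H
  · have hL78 : Nat.card L = 78 := by
      rcases D.max L hL with h | h | h
      · exact h
      · have := h13.trans (h ▸ hd); norm_num at this
      · have := h13.trans (h ▸ hd); norm_num at this
    refine ⟨L, ?_, Or.inl hL78⟩
    intro y hy
    refine mem_normalizer_fintype fun a ha => ?_
    have h1 : ⁅y, a⁆ ∈ H := D.commutator_borel_le L hL78 H hHL h13 (commutator_mem_commutator hy (hHL ha))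
    have := mul_mem h1 ha
    rwa [commutatorElement_def, inv_mul_cancel_right] at this
  by_cases h7 : 7 ∣ Nat.card H
  · have hL14 : Nat.card L = 14 := by
      rcases D.max L hL with h | h | h
      · have := h7.trans (h ▸ hd); norm_num at this
      · have := h7.trans (h ▸ hd); norm_num at this
      · exact h
    refine ⟨L, ?_, Or.inr (Or.inr hL14)⟩
    rcases eq_or_ne H L with rfl | hne
    · exact le_normalizer
    · refine hnorm L hHL ?_
      have hlt : Nat.card H ≠ 14 := fun h => hne (eq_of_le_of_card_ge hHL (by rw [h, hL14]))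
      rw [hL14] at hd
      have hH7 : Nat.card H = 7 := by
        obtain ⟨j, hj⟩ := h7
        have hj2 : j ∣ 2 := by rw [hj] at hd; exact (Nat.mul_dvd_mul_iff_left (by norm_num : 0 < 7)).1 hd
        rcases (Nat.dvd_prime Nat.prime_two).1 hj2 with rfl | rfl
        · exact hj
        · exact absurd hj hlt
      have := relIndex_mul_index hHL
      have h2 := H.card_mul_index
      have h3 := L.card_mul_index
      rw [D.card, hH7] at h2
      rw [D.card, hL14] at h3
      have h4 : L.index = 78 := by omega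
      rw [h4] at this
      omega
  have h12 : Nat.card H ∣ 12 := by
    have hcop13 : Nat.Coprime (Nat.card H) 13 := (((show Nat.Prime 13 by norm_num)).coprime_iff_not_dvd.2 h13).symm
    have hcop7 : Nat.Coprime (Nat.card H) 7 := (((show Nat.Prime 7 by norm_num)).coprime_iff_not_dvd.2 h7).symm
    rcases D.max L hL with h | h | h <;> rw [h] at hd
    · exact (hcop13.dvd_of_dvd_mul_left (show Nat.card H ∣ 13 * 6 by simpa using hd)).trans (by norm_num)
    · exact hd
    · exact (hcop7.dvd_of_dvd_mul_left (show Nat.card H ∣ 7 * 2 by simpa using hd)).trans (by norm_num)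
  have hH1 : Nat.card H ≠ 1 := fun h => hb (Subgroup.eq_bot_of_card_eq H h)
  have key : ∀ n ∈ Nat.divisors 12, n ≠ 1 → n = 12 ∨ n = 2 ∨ n = 4 ∨ n = 3 ∨ n = 6 := by decide
  rcases key _ (Nat.mem_divisors.2 ⟨h12, by norm_num⟩) hH1 with h | h | h | h | h
  · exact ⟨H, le_normalizer, Or.inr (Or.inl h)⟩
  · haveI : Fact (Nat.Prime 2) := ⟨Nat.prime_two⟩
    obtain ⟨t, ht2⟩ := exists_prime_orderOf_dvd_card' (G := H) 2 (by rw [h])
    obtain ⟨M, hM, hM12⟩ := D.exists_le_dihedral_centralizer (t : K) (by rw [Subgroup.orderOf_coe, ht2])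
    refine ⟨M, hM.trans ?_, Or.inr (Or.inl hM12)⟩
    have hHt : H = zpowers (t : K) := (eq_of_le_of_card_ge (zpowers_le.2 t.2) (by
      rw [Nat.card_zpowers, Subgroup.orderOf_coe, ht2, h])).symm
    intro y hy
    refine mem_normalizer_fintype fun a ha => ?_
    rw [hHt] at ha
    obtain ⟨i, rfl⟩ := mem_zpowers_iff.1 ha
    have hc : Commute y (t : K) := mem_centralizer_singleton_iff.1 hy
    show y * (t : K) ^ i * y⁻¹ ∈ H
    rw [(hc.zpow_right i).eq, mul_inv_cancel_right]
    exact zpow_mem t.2 i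
  · have hne : normalizer (H : Set K) ≠ ⊤ := fun e => by
      rcases D.normal_cases (normalizer_eq_top_iff.1 e) with e' | e'
      exacts [hb e', ht e']
    haveI : Nontrivial H := (nontrivial_iff_ne_bot H).2 hb
    obtain ⟨t, ht1⟩ := exists_ne (1 : H)
    obtain ⟨-, h12N⟩ := D.normalizer_four H h t t.2 t t.2 (fun e => ht1 (Subtype.ext e)) (fun e => ht1 (Subtype.ext e))
    obtain ⟨M, hM, hle⟩ := D.le_max hne
    refine ⟨normalizer (H : Set K), le_rfl, Or.inr (Or.inl ?_)⟩
    have hdN := card_dvd_of_le hle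
    rcases D.max M hM with e | e | e <;> rw [e] at hdN
    · have := h12N.trans hdN; norm_num at this
    · exact Nat.dvd_antisymm hdN h12N
    · have := h12N.trans hdN; norm_num at this
  · exact ⟨normalizer (H : Set K), le_rfl, Or.inr (Or.inl (D.normalizer_three H h))⟩
  · haveI : Fact (Nat.Prime 3) := ⟨Nat.prime_three⟩
    obtain ⟨R, hR⟩ := Sylow.exists_subgroup_card_pow_prime (G := H) 3 (n := 1) (by rw [h]; norm_num)
    rw [pow_one] at hR
    set R' := R.map H.subtype with hR'
    have hR3 : Nat.card R' = 3 := by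
      rw [← hR]; exact (Nat.card_congr (R.equivMapOfInjective _ H.subtype_injective).toEquiv).symm
    haveI hRn : R.Normal := Subgroup.normal_of_index_eq_two (by
      have := R.card_mul_index; rw [hR, h] at this; omega)
    have hHN : H ≤ normalizer (R' : Set K) := by
      intro y hy
      refine mem_normalizer_fintype ?_
      rintro _ ⟨r, hr, rfl⟩
      exact ⟨⟨y, hy⟩ * r * ⟨y, hy⟩⁻¹, hRn.conj_mem r hr _, rfl⟩
    refine ⟨normalizer (R' : Set K), hnorm _ hHN ?_, Or.inr (Or.inl (D.normalizer_three R' hR3))⟩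
    have h1 := relIndex_mul_index hHN
    have h2 := H.card_mul_index
    have h3 := (normalizer (R' : Set K)).card_mul_index
    rw [D.card, h] at h2
    rw [D.card, D.normalizer_three R' hR3] at h3
    have h4 : (normalizer (R' : Set K)).index = 91 := by omega
    rw [h4] at h1
    omega

end Data

local instance : Fact (Nat.Prime 13) := ⟨by norm_num⟩

/-- An upper unitriangular element. -/
def eU : SL(2, ZMod 13) := ⟨!![1, 1; 0, 1], by decide +kernel⟩

/-- A diagonal element of order twelve. -/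
def eC : SL(2, ZMod 13) := ⟨!![2, 0; 0, 7], by decide +kernel⟩

/-- The Weyl element. -/
def eW : SL(2, ZMod 13) := ⟨!![0, -1; 1, 0], by decide +kernel⟩

theorem elem_facts : eU ^ 13 = 1 ∧ eU * eW ≠ eW * eU ∧ (eC ^ 6) = -1 ∧ eC ^ 2 * eU ≠ eU * eC ^ 2 ∧
    eC ^ 3 * eU ≠ eU * eC ^ 3 ∧ eC * eU * eC⁻¹ = eU ^ 4 ∧ eW ^ 2 = -1 ∧ eW * eC * eW⁻¹ = eC⁻¹ := by
  refine ⟨?_, ?_, ?_, ?_, ?_, ?_, ?_, ?_⟩ <;> decide +kernel

attribute [local irreducible] eU eC eW

/-- An involution of `SL(2,13)` is `-1`. -/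
theorem eq_neg_one_of_sq {x : SL(2, ZMod 13)} (h : x ^ 2 = 1) (hx : x ≠ 1) : x = -1 := by
  have e : ∀ i j, ((x ^ 2 : SL(2, ZMod 13)) : Matrix (Fin 2) (Fin 2) (ZMod 13)) i j =
      (1 : Matrix (Fin 2) (Fin 2) (ZMod 13)) i j := fun i j => by rw [h]; rfl
  have e00 := e 0 0
  have e01 := e 0 1
  have e10 := e 1 0
  have e11 := e 1 1
  simp [pow_two, Matrix.mul_apply, Fin.sum_univ_two] at e00 e01 e10 e11
  have hd : x 0 0 * x 1 1 - x 0 1 * x 1 0 = 1 := by rw [← Matrix.det_fin_two]; exact x.2
  have htr : x 0 0 + x 1 1 ≠ 0 := by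
    intro h0
    have h2 : (2 : ZMod 13) = 0 := by linear_combination (-1 : ZMod 13) * e00 + (x 0 0) * h0 - hd
    exact absurd h2 (by decide)
  have hb : x 0 1 = 0 := by
    have : x 0 1 * (x 0 0 + x 1 1) = 0 := by linear_combination e01
    exact (mul_eq_zero.1 this).resolve_right htr
  have hc : x 1 0 = 0 := by
    have : x 1 0 * (x 0 0 + x 1 1) = 0 := by linear_combination e10
    exact (mul_eq_zero.1 this).resolve_right htr
  rw [hb, zero_mul, sub_zero] at hd
  rw [hb, zero_mul, add_zero] at e00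
  have heq : x 1 1 = x 0 0 := by linear_combination (x 0 0) * hd - (x 1 1) * e00
  rcases mul_self_eq_one_iff.1 e00 with ha | ha
  · exfalso
    apply hx
    ext i j
    fin_cases i <;> fin_cases j <;> simp [ha, hb, hc, heq]
  · ext i j
    fin_cases i <;> fin_cases j <;> simp [ha, hb, hc, heq]

theorem card_center : Nat.card (Subgroup.center SL(2, ZMod 13)) = 2 := by
  rw [CfsgLib.Classical.card_center_SL, ZMod.card, Fintype.card_fin]
  rfl

theorem neg_one_mem_center : (-1 : SL(2, ZMod 13)) ∈ Subgroup.center SL(2, ZMod 13) :=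
  mem_center_iff.2 fun g => by simp

theorem exists_data : Nonempty (Data (ProjectiveSpecialLinearGroup (Fin 2) (ZMod 13))) := by
  obtain ⟨fu, fuw, fc6, fc2, fc3, fcu, fw2, fwc⟩ := elem_facts
  set π := QuotientGroup.mk' (Subgroup.center SL(2, ZMod 13)) with hπ
  have hone : ∀ x y, π x = 1 → x * y = y * x := fun x y h =>
    (mem_center_iff.1 ((QuotientGroup.eq_one_iff x).1 h) y).symm
  have hU : π eU ≠ 1 := fun h => fuw (hone _ _ h)
  have hm1 : π (-1) = 1 := (QuotientGroup.eq_one_iff _).2 neg_one_mem_center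
  refine ⟨⟨π eU, π eC, π eW, ?_, CfsgLib.Classical.isSimpleGroup_PSL_two (by rw [ZMod.card]; norm_num),
    ?_, ?_, ?_, ?_, fun h => fuw (hone _ _ h).symm, ?_, ?_⟩⟩
  · have h := CfsgLib.Classical.Dickson.gcd_mul_card_psl (F := ZMod 13) (q := 13) (ZMod.card 13)
    rw [show Nat.gcd 2 (13 - 1) = 2 from rfl] at h
    omega
  · intro M hM
    have hcard : Fintype.card (ZMod 13) = 13 := ZMod.card 13
    rcases CfsgLib.Classical.Dickson.odd_cases (F := ZMod 13) 13 (by rw [hcard]; decide) (by rw [hcard]; norm_num) M hM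
      with h | ⟨-, k, hk, ⟨e⟩⟩ | ⟨-, -, k, hk, ⟨e⟩⟩ | ⟨F₀, _, _, h, -⟩ | ⟨F₀, _, _, r, hr, -, h, -⟩ |
        ⟨h, -, -⟩ | ⟨-, -, -, ⟨e⟩⟩ | ⟨-, h, -⟩
    · rw [hcard] at h; omega
    · rw [hcard] at hk
      right; left
      rw [Nat.card_congr e.toEquiv, DihedralGroup.nat_card]; omega
    · rw [hcard] at hk
      right; right
      rw [Nat.card_congr e.toEquiv, DihedralGroup.nat_card]; omega
    · exfalso
      rw [hcard] at h
      have h4 : Fintype.card F₀ < 4 := by nlinarith
      interval_cases hF : Fintype.card F₀ <;> norm_num at h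
    · exfalso
      rw [hcard] at h
      have h13 : Nat.Prime 13 := by norm_num
      rw [h] at h13
      exact hr.ne_one (Nat.Prime.eq_one_of_pow h13)
    · rw [hcard] at h; omega
    · right; left
      rw [Nat.card_congr e.toEquiv, Nat.card_eq_fintype_card]; decide
    · exfalso; omega
  · refine orderOf_eq_prime (by rw [← map_pow, fu, map_one]) hU
  · refine (orderOf_eq_iff (by norm_num)).2 ⟨by rw [← map_pow, fc6, hm1], fun k hk hk0 hk1 => ?_⟩
    have h2 : π eC ^ 2 ≠ 1 := fun h => fc2 (hone _ _ (by rw [map_pow]; exact h))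
    have h3 : π eC ^ 3 ≠ 1 := fun h => fc3 (hone _ _ (by rw [map_pow]; exact h))
    interval_cases k
    · exact h2 (by rw [pow_two]; rw [pow_one] at hk1; rw [hk1, one_mul])
    · exact h2 hk1
    · exact h3 hk1
    · exact h2 (by
        have h6 : π eC ^ 6 = 1 := by rw [← map_pow, fc6, hm1]
        rw [show (6 : ℕ) = 4 + 2 from rfl, pow_add, hk1, one_mul] at h6
        exact h6)
    · exact h2 (by
        have h6 : π eC ^ 6 = 1 := by rw [← map_pow, fc6, hm1]
        rw [show (6 : ℕ) = 5 + 1 from rfl, pow_add, hk1, one_mul, pow_one] at h6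
        rw [h6, one_pow])
  · rw [← map_inv, ← map_mul, ← map_mul, fcu, map_pow]
    exact pow_mem (mem_zpowers _) 4
  · rw [← map_pow, fw2, hm1]
  · rw [← map_inv, ← map_mul, ← map_mul, fwc, map_inv]

/-- Normalisers of non normal subgroups of a quotient lift. -/
theorem isCoatom_normalizer_SL {H : Subgroup SL(2, ZMod 13)} (hH : ¬ H.Normal) :
    IsCoatom (normalizer (H : Set SL(2, ZMod 13))) := by
  obtain ⟨D⟩ := exists_data
  haveI := D.simple
  set Z := Subgroup.center SL(2, ZMod 13) with hZ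
  set π := QuotientGroup.mk' Z with hπ
  have hker : π.ker = Z := QuotientGroup.ker_mk' Z
  obtain ⟨z, hz1, hzu⟩ := (Nat.card_eq_two_iff' (1 : Z)).1 card_center
  have hzmem : ∀ y ∈ Z, y = 1 ∨ y = -1 := by
    intro y hy
    by_cases hy1 : y = 1
    · exact Or.inl hy1
    right
    have hne : (-1 : SL(2, ZMod 13)) ≠ 1 := by decide
    have h1 := hzu ⟨y, hy⟩ (fun h => hy1 (congrArg Subtype.val h))
    have h2 := hzu ⟨-1, neg_one_mem_center⟩ (fun h => hne (congrArg Subtype.val h))
    exact congrArg Subtype.val (h1.trans h2.symm)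
  have hcm : (H.map π).comap π = H ⊔ Z := by rw [comap_map_eq, hker]
  -- the normaliser is the preimage
  have hN : normalizer (H : Set SL(2, ZMod 13)) = (normalizer (H.map π : Set _)).comap π := by
    rw [comap_normalizer_eq_of_surjective _ (QuotientGroup.mk'_surjective Z), hcm]
    by_cases hneg : (-1 : SL(2, ZMod 13)) ∈ H
    · rw [sup_of_le_left]
      intro y hy
      rcases hzmem y hy with rfl | rfl
      exacts [one_mem H, hneg]
    · have hodd : ¬ 2 ∣ Nat.card H := by
        intro h2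
        haveI : Fact (Nat.Prime 2) := ⟨Nat.prime_two⟩
        obtain ⟨x, hx⟩ := exists_prime_orderOf_dvd_card' (G := H) 2 h2
        apply hneg
        rw [← eq_neg_one_of_sq (x := (x : SL(2, ZMod 13))) (by
          have := pow_orderOf_eq_one x
          rw [hx] at this
          exact congrArg Subtype.val this)
          (fun e => by
            have : orderOf (x : SL(2, ZMod 13)) = 1 := by rw [e, orderOf_one]
            rw [Subgroup.orderOf_coe, hx] at this
            norm_num at this)]
        exact x.2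
      refine le_antisymm ?_ ?_
      · intro g hg
        refine mem_normalizer_fintype fun a ha => ?_
        obtain ⟨h, hh, y, hy, rfl⟩ := (mem_sup_of_normal_right).1 ha
        rw [show g * (h * y) * g⁻¹ = g * h * g⁻¹ * (g * y * g⁻¹) by group]
        exact mul_mem (mem_sup_left ((mem_normalizer_iff.1 hg h).1 hh))
          (mem_sup_right ((inferInstance : Z.Normal).conj_mem y hy g))
      · intro g hg
        refine mem_normalizer_fintype fun a ha => ?_
        obtain ⟨h, hh, y, hy, hhy⟩ := (mem_sup_of_normal_right).1 ((mem_normalizer_iff.1 hg a).1 (mem_sup_left ha))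
        rcases hzmem y hy with rfl | rfl
        · rw [mul_one] at hhy
          exact hhy ▸ hh
        · exfalso
          apply hneg
          have hy2 : (-1 : SL(2, ZMod 13)) ^ 2 = 1 := by simp
          have ho : (g * a * g⁻¹) ^ Nat.card H = 1 := by
            rw [conj_pow, orderOf_dvd_iff_pow_eq_one.1 (Subgroup.orderOf_dvd_natCard H ha), mul_one, mul_inv_cancel]
          have hc : Commute h (-1 : SL(2, ZMod 13)) := mem_center_iff.1 neg_one_mem_center h
          rw [← hhy, hc.mul_pow, orderOf_dvd_iff_pow_eq_one.1 (Subgroup.orderOf_dvd_natCard H hh), one_mul] at ho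
          obtain ⟨k, hk⟩ := Nat.odd_iff.2 (Nat.two_dvd_ne_zero.1 hodd)
          rw [hk, pow_succ, pow_mul, hy2, one_pow, one_mul] at ho
          rw [ho]
          exact one_mem H
  rw [hN]
  refine isCoatom_comap_of_surjective (QuotientGroup.mk'_surjective Z) (D.isCoatom_normalizer ?_ ?_)
  · intro h
    apply hH
    have hle : H ≤ Z := by
      rw [← hker]; exact (Subgroup.map_eq_bot_iff _).1 h
    exact ⟨fun n hn g => by rw [mem_center_iff.1 (hle hn) g, mul_inv_cancel_right]; exact hn⟩
  · intro h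
    have htop : H ⊔ Z = ⊤ := by rw [← hcm, h, comap_top]
    apply hH
    refine ⟨fun n hn g => ?_⟩
    obtain ⟨a, ha, y, hy, rfl⟩ := (mem_sup_of_normal_right).1 (htop.ge (mem_top g))
    have : a * y * n * (a * y)⁻¹ = a * n * a⁻¹ := by
      have hc := mem_center_iff.1 hy n
      calc a * y * n * (a * y)⁻¹ = a * (y * n) * y⁻¹ * a⁻¹ := by group
        _ = a * (n * y) * y⁻¹ * a⁻¹ := by rw [hc]
        _ = _ := by group
    rw [this]
    exact mul_mem (mul_mem ha hn) (inv_mem ha)

/-- Coprime abelian factors do not disturb normalisers. -/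
theorem isCoatom_normalizer_prod {K S : Type*} [Group K] [CommGroup S] [Finite K] [Finite S]
    (hKS : (Nat.card K).Coprime (Nat.card S))
    (hK : ∀ H : Subgroup K, ¬ H.Normal → IsCoatom (normalizer (H : Set K)))
    (H : Subgroup (K × S)) (hH : ¬ H.Normal) : IsCoatom (normalizer (H : Set (K × S))) := by
  set H₁ := H.map (MonoidHom.fst K S) with hH₁
  have hsplit : ∀ k s, (k, s) ∈ H → (k, (1 : S)) ∈ H ∧ ((1 : K), s) ∈ H := by
    intro k s h
    have h1 : ((1 : K), s) ∈ H := by
      obtain ⟨m, hm⟩ := exists_pow_eq_self_of_coprime (x := s) (n := Nat.card K)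
        (hKS.coprime_dvd_right (_root_.orderOf_dvd_natCard s))
      have := pow_mem (pow_mem h (Nat.card K)) m
      rw [Prod.pow_mk, Prod.pow_mk, pow_card_eq_one', one_pow, hm] at this
      exact this
    refine ⟨?_, h1⟩
    have := mul_mem h (inv_mem h1)
    simpa using this
  have hmem : ∀ k, k ∈ H₁ ↔ (k, (1 : S)) ∈ H := by
    intro k
    constructor
    · rintro ⟨⟨k', s⟩, h, rfl⟩
      exact (hsplit k' s h).1
    · exact fun h => ⟨_, h, rfl⟩
  have hconj : ∀ (g : K × S) (k : K) (s : S), g * (k, s) * g⁻¹ = (g.1 * k * g.1⁻¹, s) := fun g k s =>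
    Prod.ext rfl (by
      show g.2 * s * g.2⁻¹ = s
      rw [mul_comm g.2 s, mul_inv_cancel_right])
  have hN : normalizer (H : Set (K × S)) = (normalizer (H₁ : Set K)).comap (MonoidHom.fst K S) := by
    refine le_antisymm (fun g hg => ?_) fun g hg => ?_
    · refine mem_normalizer_fintype fun k hk => (hmem _).2 ?_
      have := (mem_normalizer_iff.1 hg (k, 1)).1 ((hmem k).1 hk)
      rwa [hconj] at this
    · refine mem_normalizer_fintype ?_
      rintro ⟨k, s⟩ hks
      rw [hconj]
      obtain ⟨h1, h2⟩ := hsplit k s hks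
      have h3 : (g.1 * k * g.1⁻¹, (1 : S)) ∈ H :=
        (hmem _).1 ((mem_normalizer_iff.1 hg k).1 ((hmem k).2 h1))
      have := mul_mem h3 h2
      simpa using this
  rw [hN]
  refine isCoatom_comap_of_surjective (φ := MonoidHom.fst K S) Prod.fst_surjective (hK H₁ fun hn => hH ?_)
  exact normalizer_eq_top_iff.1 (by rw [hN, normalizer_eq_top, comap_top])

end CfsgLib.ClassSizes.Thirteen
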