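import Mathlib
import Cfsg.Agent.Lib.HallGen.SimpleFifteen
import Cfsg.Agent.Lib.Perm.SimpleCount
import Cfsg.Agent.Lib.ClassSizes.Jordan

/-!
No finite simple group has exactly 35 Sylow `17`-subgroups.
-/

set_option linter.style.haveILetI false

open scoped Pointwise

namespace CfsgLib.ClassSizes

open Subgroup MulAction CfsgLib.HallGen

theorem card_sylow_seventeen_ne_thirtyfive {S : Type*} [Group S] [Finite S] [IsSimpleGroup S]
    [Fact (Nat.Prime 17)] : Nat.card (Sylow 17 S) ≠ 35 := by
  classical
  intro hn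
  haveI : Fintype (Sylow 17 S) := Fintype.ofFinite _
  have hcard : Fintype.card (Sylow 17 S) = 35 := by rw [← Nat.card_eq_fintype_card, hn]
  let P : Sylow 17 S := default
  have hidx : (normalizer ((P : Subgroup S) : Set S)).index = 35 := by
    rw [← hn, P.card_eq_index_normalizer]; rfl
  have hNtop : normalizer ((P : Subgroup S) : Set S) ≠ ⊤ := by
    intro h; rw [h, index_top] at hidx; omega
  have h35 : 35 ∣ Nat.card S := hidx ▸ index_dvd_card _
  have h5 : 5 ∣ Nat.card S := (show 5 ∣ 35 by norm_num).trans h35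
  have h7 : 7 ∣ Nat.card S := (show 7 ∣ 35 by norm_num).trans h35
  have hnab : ¬ IsMulCommutative S := CfsgLib.Perm.not_comm_of_not_prime fun hp => by
    have h1 := (Nat.prime_dvd_prime_iff_eq (by norm_num : Nat.Prime 5) hp).1 h5
    have h2 := (Nat.prime_dvd_prime_iff_eq (by norm_num : Nat.Prime 7) hp).1 h7
    omega
  have hdvd : 2 * Nat.card S ∣ Nat.factorial 35 :=
    hidx ▸ CfsgLib.Perm.two_mul_card_dvd_factorial_index hnab _ hNtop
  obtain ⟨a, ha⟩ := IsPGroup.iff_card.1 P.isPGroup'
  have ha2 : a < 3 := by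
    by_contra h
    have h1 : 17 ^ 3 ∣ Nat.factorial 35 :=
      ((pow_dvd_pow 17 (by omega : 3 ≤ a)).trans (ha ▸ card_subgroup_dvd_card _)).trans
        ((Dvd.intro_left 2 rfl).trans hdvd)
    norm_num [Nat.factorial] at h1
  let φ : S →* Equiv.Perm (Sylow 17 S) := MulAction.toPermHom S (Sylow 17 S)
  have hφ : Function.Injective φ := by
    rw [← MonoidHom.ker_eq_bot_iff]
    refine (MonoidHom.normal_ker φ).eq_bot_or_eq_top.resolve_right fun h => hNtop ?_
    rw [eq_top_iff]
    intro g _
    have hg : g ∈ φ.ker := h ▸ mem_top g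
    exact Sylow.smul_eq_iff_mem_normalizer.1 (Equiv.ext_iff.1 hg P)
  have hfixP : ∀ g ∈ normalizer ((P : Subgroup S) : Set S), φ g P = P := fun g hg =>
    Sylow.smul_eq_iff_mem_normalizer.2 hg
  interval_cases a
  · have : (P : Subgroup S) = ⊥ := eq_bot_of_card_eq _ (by simpa using ha)
    refine hNtop ?_
    rw [this]
    exact normalizer_eq_top _
  · -- order 17
    rw [pow_one] at ha
    haveI : IsCyclic (P : Subgroup S) := isCyclic_of_prime_card ha
    obtain ⟨g, hg⟩ := exists_prime_orderOf_dvd_card' (G := (P : Subgroup S)) 17 (by rw [ha])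
    have hgP : ∀ R : Sylow 17 S, φ (g : S) R = R → R = P := by
      intro R hgR
      by_contra hPR
      have h1 : (R : Subgroup S).subgroupOf (P : Subgroup S) = ⊤ := by
        refine eq_top_iff.2 fun x _ => ?_
        have hgen : Subgroup.zpowers g = ⊤ := eq_top_of_card_eq _ (by rw [Nat.card_zpowers, hg, ha])
        rw [← stabilizer_sylow_eq]
        obtain ⟨i, rfl⟩ := mem_zpowers_iff.1 (hgen ▸ mem_top x : x ∈ Subgroup.zpowers g)
        exact Subgroup.zpow_mem _ (MulAction.mem_stabilizer_iff.2 hgR) i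
      exact hPR (eq_of_sylow_le (subgroupOf_eq_top.1 h1)).symm
    have hC : ∀ y ∈ centralizer ((P : Subgroup S) : Set S), ∀ q : ℕ, q.Prime → orderOf y = q → q = 17 := by
      intro y hy q hq hoy
      by_contra hq7
      haveI := Fact.mk hq
      set σ := φ y with hσdef
      have hσo : orderOf σ = q := by rw [hσdef, orderOf_injective φ hφ, hoy]
      have hcomm : φ (g : S) * σ = σ * φ (g : S) := by
        rw [← map_mul, ← map_mul, mem_centralizer_iff.1 hy g g.2]
      have hσP : σ P = P := hfixP y (centralizer_le_normalizer _ hy)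
      have hinv : ∀ R, φ (g : S) R ∈ σ.support ↔ R ∈ σ.support := fun R => by
        rw [Equiv.Perm.mem_support, Equiv.Perm.mem_support, not_iff_not,
          ← Equiv.Perm.mul_apply, ← hcomm, Equiv.Perm.mul_apply, (φ (g : S)).injective.eq_iff]
      have h17 : 17 ∣ σ.support.card := by
        by_contra hnd
        let τ : Equiv.Perm {R // R ∈ σ.support} := (φ (g : S)).subtypePerm hinv
        obtain ⟨⟨R, hR⟩, hRfix⟩ := Equiv.Perm.exists_fixed_point_of_prime (n := 1) (p := 17)
          (by rwa [Fintype.card_coe]) (σ := τ) (by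
            rw [pow_one]
            ext R
            have hg7 : ((g : S)) ^ 17 = 1 := by
              have h0 := pow_orderOf_eq_one g
              rw [hg] at h0
              simpa using congrArg Subtype.val h0
            simp [τ, ← map_pow, hg7])
        have := hgP R (congrArg Subtype.val hRfix)
        subst this
        exact Equiv.Perm.mem_support.1 hR hσP
      have hσ1 : σ ≠ 1 := fun h => hq.one_lt.ne' (by rw [← hσo, h, orderOf_one])
      obtain ⟨k, hk⟩ := Equiv.Perm.cycleType_prime_order (σ := σ) (hσo ▸ hq)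
      rw [hσo] at hk
      have hsum : σ.support.card = (k + 1) * q := by
        rw [← Equiv.Perm.sum_cycleType, hk, Multiset.sum_replicate, smul_eq_mul]
      have hle : σ.support.card ≤ 34 := by
        have : σ.support ⊆ Finset.univ.erase P := fun R hR =>
          Finset.mem_erase.2 ⟨fun h => Equiv.Perm.mem_support.1 hR (h ▸ hσP), Finset.mem_univ _⟩
        refine (Finset.card_le_card this).trans ?_
        rw [Finset.card_erase_of_mem (Finset.mem_univ _), Finset.card_univ, hcard]
      have h17q : 17 ∣ k + 1 := ((Nat.coprime_primes (by norm_num) hq).2 (Ne.symm hq7)).dvd_of_dvd_mul_right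
        (hsum ▸ h17)
      have hk6 : k = 16 ∧ q = 2 := by
        obtain ⟨c, hc⟩ := h17q
        rw [hsum, hc] at hle
        have hq2 := hq.two_le
        have : c = 1 := by
          rcases c with _ | _ | c
          · omega
          · rfl
          · nlinarith
        subst this
        constructor <;> omega
      have hs := CfsgLib.Perm.hom_comm_trivial hnab (Equiv.Perm.sign.comp φ) y
      rw [MonoidHom.comp_apply, ← hσdef, Equiv.Perm.sign_of_cycleType, hk, hk6.1, hk6.2] at hs
      simp at hs
      exact absurd hs (by decide)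
    have hPC : (P : Subgroup S) ≤ centralizer ((P : Subgroup S) : Set S) := by
      intro x hx
      rw [mem_centralizer_iff]
      intro z hz
      obtain ⟨w, hw⟩ := IsCyclic.exists_generator (α := (P : Subgroup S))
      obtain ⟨i, hi⟩ := mem_zpowers_iff.1 (hw ⟨x, hx⟩)
      obtain ⟨j, hj⟩ := mem_zpowers_iff.1 (hw ⟨z, hz⟩)
      exact congrArg Subtype.val (show (⟨z, hz⟩ : (P : Subgroup S)) * ⟨x, hx⟩ = ⟨x, hx⟩ * ⟨z, hz⟩ by
        rw [← hi, ← hj, ← zpow_add, ← zpow_add, add_comm])
    have hCP : Nat.card (centralizer ((P : Subgroup S) : Set S)) = 17 := by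
      obtain ⟨b, hb⟩ : ∃ b, Nat.card (centralizer ((P : Subgroup S) : Set S)) = 17 ^ b := by
        refine ⟨_, Nat.eq_prime_pow_of_unique_prime_dvd Nat.card_pos.ne' fun {q} hq hqd => ?_⟩
        haveI := Fact.mk hq
        obtain ⟨y, hy⟩ := exists_prime_orderOf_dvd_card' q hqd
        exact hC y y.2 q hq (by rw [Subgroup.orderOf_coe, hy])
      rw [P.is_maximal' (IsPGroup.of_card hb) hPC, ha]
    set ψ := Subgroup.normalizerMonoidHom (P : Subgroup S) with hψ
    set e := ψ.ker.index with he
    have hNc : Nat.card (normalizer ((P : Subgroup S) : Set S)) = 17 * e := by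
      rw [he, ← ψ.ker.card_mul_index, hψ, Subgroup.normalizerMonoidHom_ker,
        Nat.card_congr (subgroupOfEquivOfLe (centralizer_le_normalizer _)).toEquiv, hCP]
    have hrange : Nat.card ψ.range = e := by rw [he, Subgroup.index_ker]
    have hA : Nat.card (MulAut (P : Subgroup S)) = 16 := by
      rw [IsCyclic.card_mulAut, ha, Nat.totient_prime (by norm_num)]
    have he16 : e ∣ 16 := by
      rw [← hrange, ← hA]
      exact card_subgroup_dvd_card _
    have hS : Nat.card S = e * (35 * 17) := by
      rw [mul_comm e, mul_assoc, ← hNc, ← hidx, index_mul_card]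
    have hne17 : ¬ IsPGroup 17 S :=
      CfsgLib.Perm.not_isPGroup_of_dvd (q := 5) (by norm_num) (by norm_num) h5
    by_cases he1 : e = 1
    · refine CfsgLib.Perm.not_normalizer_le_centralizer P (ha ▸ card_subgroup_dvd_card _) hne17 ?_
      rw [he1, mul_one] at hNc
      exact (Subgroup.eq_of_le_of_card_ge (centralizer_le_normalizer _) (hNc.trans hCP.symm).le).ge
    obtain ⟨i, hi, hie⟩ := (Nat.dvd_prime_pow (p := 2) (m := 4) Nat.prime_two).1 (by simpa using he16)
    have hi0 : i ≠ 0 := fun h => he1 (by rw [hie, h, pow_zero])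
    haveI : Fact (Nat.Prime 2) := ⟨Nat.prime_two⟩
    haveI hAc : IsCyclic (MulAut (P : Subgroup S)) := by
      haveI : IsCyclic (ZMod 17)ˣ := ZMod.isCyclic_units_prime (by norm_num)
      obtain ⟨f⟩ : Nonempty (MulAut (P : Subgroup S) ≃* (ZMod 17)ˣ) := by
        have h := IsCyclic.mulAutMulEquiv (P : Subgroup S)
        rw [ha] at h
        exact ⟨h⟩
      exact isCyclic_of_surjective f.symm f.symm.surjective
    obtain ⟨⟨z, hzr⟩, hz⟩ := IsCyclic.exists_generator (α := ψ.range)
    have hzo : orderOf z = e := by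
      have h1 := orderOf_eq_card_of_forall_mem_zpowers hz
      rw [Subgroup.orderOf_mk] at h1
      rw [h1, hrange]
    obtain ⟨x, rfl⟩ := MonoidHom.mem_range.1 hzr
    obtain ⟨y, hy⟩ : ∃ y : S, orderOf y = e := by
      have h1 : e ∣ orderOf (x : S) := by
        rw [← hzo, Subgroup.orderOf_coe]
        exact orderOf_map_dvd ψ x
      obtain ⟨m, hm⟩ := h1
      refine ⟨(x : S) ^ m, ?_⟩
      have hpos := orderOf_pos (x : S)
      have hm0 : m ≠ 0 := fun h => by rw [h, mul_zero] at hm; omega
      rw [orderOf_pow_of_dvd hm0 ⟨e, by rw [hm, mul_comm]⟩, hm, Nat.mul_div_cancel _ (Nat.pos_of_ne_zero hm0)]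
    obtain ⟨Q, hQ⟩ := (IsPGroup.of_card (p := 2) (n := i)
      (show Nat.card (Subgroup.zpowers y) = 2 ^ i by rw [Nat.card_zpowers, hy, hie])).exists_le_sylow
    have hQc : Nat.card (Q : Subgroup S) = e := by
      rw [hie]
      exact CfsgLib.Perm.sylow_card_eq Q (m := 35 * 17) (by rw [hS, hie]) (by norm_num)
    have hQe : Subgroup.zpowers y = Q :=
      Subgroup.eq_of_le_of_card_ge hQ (by rw [hQc, Nat.card_zpowers, hy])
    have hQcyc : IsCyclic (Q : Subgroup S) := hQe ▸ inferInstance
    have h2dvd : 2 ∣ Nat.card S := hS ▸ Dvd.dvd.mul_right (hie ▸ dvd_pow_self 2 hi0) _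
    have hmin : (Nat.card S).minFac = 2 := (Nat.minFac_eq_two_iff _).2 h2dvd
    exact CfsgLib.Perm.not_normalizer_le_centralizer Q h2dvd
      (CfsgLib.Perm.not_isPGroup_of_dvd (q := 5) (by norm_num) (by norm_num) h5)
      (IsCyclic.normalizer_le_centralizer hmin hQcyc)
  · -- order 289
    have hRc : ∀ R : Sylow 17 S, Nat.card (R : Subgroup S) = 289 := fun R => by
      rw [show (289 : ℕ) = 17 ^ 2 by norm_num, ← ha, Sylow.card_eq_multiplicity, Sylow.card_eq_multiplicity]
    have hrel : ∀ R : Sylow 17 S, P ≠ R → (R : Subgroup S).relIndex P = 17 := fun R h =>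
      relIndex_eq_prime P R h (by rw [hn]; norm_num)
    haveI : Nontrivial (Sylow 17 S) := Fintype.one_lt_card_iff_nontrivial.1 (by omega)
    obtain ⟨R0, hR0⟩ := exists_ne P
    -- an element with a single 17-cycle
    have hD : Nat.card ((R0 : Subgroup S) ⊓ P : Subgroup S) = 17 := by
      have h1 := hrel R0 hR0.symm
      rw [← inf_relIndex_right] at h1
      have h2 := relIndex_mul_relIndex ⊥ ((R0 : Subgroup S) ⊓ P) P bot_le inf_le_right
      rw [relIndex_bot_left, relIndex_bot_left, h1, hRc] at h2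
      omega
    obtain ⟨⟨d, hd⟩, hdo⟩ := exists_prime_orderOf_dvd_card' (G := ((R0 : Subgroup S) ⊓ P : Subgroup S)) 17
      (by rw [hD])
    rw [Subgroup.orderOf_mk] at hdo
    set c := φ d with hcdef
    have hco : orderOf c = 17 := by rw [hcdef, orderOf_injective φ hφ, hdo]
    obtain ⟨k, hk⟩ := Equiv.Perm.cycleType_prime_order (σ := c) (by rw [hco]; norm_num)
    rw [hco] at hk
    have hcP : c P = P := hfixP d (le_normalizer hd.2)
    have hcR : c R0 = R0 := Sylow.smul_eq_iff_mem_normalizer.2 (le_normalizer hd.1)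
    have hk0 : k = 0 := by
      have hsum : c.support.card = (k + 1) * 17 := by
        rw [← Equiv.Perm.sum_cycleType, hk, Multiset.sum_replicate, smul_eq_mul]
      have hsub : c.support ⊆ (Finset.univ.erase P).erase R0 := fun R hR =>
        Finset.mem_erase.2 ⟨fun h => Equiv.Perm.mem_support.1 hR (h ▸ hcR),
          Finset.mem_erase.2 ⟨fun h => Equiv.Perm.mem_support.1 hR (h ▸ hcP), Finset.mem_univ _⟩⟩
      have := Finset.card_le_card hsub
      rw [Finset.card_erase_of_mem (Finset.mem_erase.2 ⟨hR0, Finset.mem_univ _⟩),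
        Finset.card_erase_of_mem (Finset.mem_univ _), Finset.card_univ, hcard, hsum] at this
      omega
    subst hk0
    have hcc : c.IsCycle := by
      rw [← Equiv.Perm.card_cycleType_eq_one, hk]; simp
    have hcs : c.support.card = 17 := by
      rw [← Equiv.Perm.sum_cycleType, hk]; simp
    -- primitivity
    haveI : IsPreprimitive S (Sylow 17 S) := by
      refine IsPreprimitive.of_isTrivialBlock_base P fun {B} hPB hB => ?_
      by_cases h : B ⊆ {P}
      · exact Or.inl (Set.subsingleton_singleton.anti h)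
      right
      obtain ⟨R, hRB, hRP⟩ := Set.not_subset.1 h
      refine hB.eq_univ_of_card_lt ?_
      have horb : orbit (P : Subgroup S) R ⊆ B := by
        rintro _ ⟨⟨x, hx⟩, rfl⟩
        have hx' : x • B = B := hB.smul_eq_of_mem hPB
          (by rw [Sylow.smul_eq_iff_mem_normalizer.2 (le_normalizer hx)]; exact hPB)
        rw [← hx']
        exact ⟨R, hRB, rfl⟩
      have h17 : (orbit (P : Subgroup S) R).ncard = 17 := by
        rw [← MulAction.index_stabilizer, stabilizer_sylow_eq]
        exact hrel R (Ne.symm hRP)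
      have hPo : P ∉ orbit (P : Subgroup S) R := by
        rintro ⟨⟨x, hx⟩, hxR⟩
        apply hRP
        change x • R = P at hxR
        have : x⁻¹ • P = R := by rw [← hxR, inv_smul_smul]
        rw [Set.mem_singleton_iff, ← this,
          Sylow.smul_eq_iff_mem_normalizer.2 (le_normalizer (Subgroup.inv_mem _ hx))]
      have h18 : 18 ≤ B.ncard := by
        have := Set.ncard_le_ncard (Set.insert_subset hPB horb) (Set.toFinite _)
        rw [Set.ncard_insert_of_notMem hPo (Set.toFinite _), h17] at this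
        omega
      rw [hn]
      omega
    haveI hprim : IsPreprimitive φ.range (Sylow 17 S) := by
      let f : Sylow 17 S →ₑ[φ.rangeRestrict] Sylow 17 S := ⟨id, fun _ _ => rfl⟩
      exact IsPreprimitive.of_surjective (f := f) Function.surjective_id
    have hA := CfsgLib.ClassSizes.alternatingGroup_le_of_primeCycle φ.range hprim
      (by norm_num : Nat.Prime 17) (by rw [hcard]; norm_num) hcc hcs ⟨d, rfl⟩
    -- a conjugate not commuting with the cycle
    obtain ⟨a, ha'⟩ : c.support.Nonempty := Finset.card_pos.1 (by omega)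
    have hrest : 1 < ((c.supportᶜ).erase P).card := by
      have : P ∈ c.supportᶜ := Finset.mem_compl.2 (Equiv.Perm.notMem_support.2 hcP)
      rw [Finset.card_erase_of_mem this, Finset.card_compl, hcard, hcs]
      norm_num
    obtain ⟨b, hb, b', hb', hbb⟩ := Finset.one_lt_card.1 hrest
    rw [Finset.mem_erase, Finset.mem_compl] at hb hb'
    have hca : c a ≠ a := Equiv.Perm.mem_support.1 ha'
    have hcb : c b = b := Equiv.Perm.notMem_support.1 hb.2
    have hcb' : c b' = b' := Equiv.Perm.notMem_support.1 hb'.2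
    have hab : a ≠ b := fun h => hca (h ▸ hcb)
    have hab' : a ≠ b' := fun h => hca (h ▸ hcb')
    have haP : a ≠ P := fun h => hca (h ▸ hcP)
    set x : Equiv.Perm (Sylow 17 S) := Equiv.swap a b' * Equiv.swap a b with hx
    have hxA : x ∈ alternatingGroup (Sylow 17 S) := by
      rw [Equiv.Perm.mem_alternatingGroup, hx, map_mul, Equiv.Perm.sign_swap hab', Equiv.Perm.sign_swap hab]
      rfl
    obtain ⟨s, hs⟩ := MonoidHom.mem_range.1 (hA hxA)
    have hxa : x a = b := by
      rw [hx, Equiv.Perm.mul_apply, Equiv.swap_apply_left, Equiv.swap_apply_of_ne_of_ne hab.symm hbb]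
    have hxb' : x b' = a := by
      rw [hx, Equiv.Perm.mul_apply, Equiv.swap_apply_of_ne_of_ne hab'.symm hbb.symm, Equiv.swap_apply_right]
    have hxo : ∀ r, r ≠ a → r ≠ b → r ≠ b' → x r = r := fun r h1 h2 h3 => by
      rw [hx, Equiv.Perm.mul_apply, Equiv.swap_apply_of_ne_of_ne h1 h2, Equiv.swap_apply_of_ne_of_ne h1 h3]
    have hsN : s ∈ normalizer ((P : Subgroup S) : Set S) := by
      refine Sylow.smul_eq_iff_mem_normalizer.1 ?_
      change φ s P = P
      rw [hs, hxo P haP.symm (Ne.symm hb.1) (Ne.symm hb'.1)]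
    have hd' : s * d * s⁻¹ ∈ (P : Subgroup S) := (Subgroup.mem_normalizer_iff.1 hsN d).1 hd.2
    haveI := IsPGroup.isMulCommutative_of_card_eq_prime_sq (p := 17) (G := (P : Subgroup S))
      (by rw [hRc]; norm_num)
    have hcomm : d * (s * d * s⁻¹) = s * d * s⁻¹ * d :=
      congrArg Subtype.val (IsMulCommutative.is_comm.comm (⟨d, hd.2⟩ : (P : Subgroup S)) ⟨_, hd'⟩)
    have hcomm' : c * (x * c * x⁻¹) = x * c * x⁻¹ * c := by
      have := congrArg φ hcomm
      simpa [map_mul, map_inv, hs, ← hcdef] using this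
    set a0 := c⁻¹ a with ha0
    have hca0 : c a0 = a := by rw [ha0]; simp
    have ha0a : a0 ≠ a := fun h => hca (by rw [← h, hca0, h])
    have ha0b : a0 ≠ b := fun h => hab (by rw [← hca0, h, hcb])
    have ha0b' : a0 ≠ b' := fun h => hab' (by rw [← hca0, h, hcb'])
    have h1 : x⁻¹ a0 = a0 := Equiv.Perm.inv_eq_iff_eq.2 (hxo a0 ha0a ha0b ha0b').symm
    have h2 : x⁻¹ a = b' := Equiv.Perm.inv_eq_iff_eq.2 hxb'.symm
    have := Equiv.Perm.ext_iff.1 hcomm' a0
    simp only [Equiv.Perm.mul_apply, h1, hca0, h2, hcb', hxa, hxb', hcb] at this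
    exact hab this.symm

end CfsgLib.ClassSizes
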