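import Mathlib
import Cfsg.Agent.Lib.ClassSizes.SmallSupportPerm
import Cfsg.Agent.Lib.ClassSizes.Jordan

/-!
`(r+1)`-fold transitive groups of degree `k p + r` with `k < p` prime, `k < r`.

Let `Q` be a Sylow `p`-subgroup of the stabiliser of an `r`-set `F`. Its orbits off `F` have size `p`,
and its normaliser induces `Sym F` (Witt). Elements fixing every orbit and centralising `Q` have
`p`-th power trivial off `F`; they induce a nontrivial normal subgroup of `Sym F`, hence small-support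
elements lie in `G`.
-/

set_option autoImplicit false

namespace CfsgLib.ClassSizes.TransBound

open Equiv MulAction Finset
open scoped commutatorElement

variable {α : Type*} [Fintype α] [DecidableEq α]

open scoped Classical in
/-- orbit of `x` under `Q` -/
noncomputable def orb (Q : Subgroup (Perm α)) (x : α) : Finset α :=
  univ.filter fun y => ∃ q ∈ Q, q x = y

theorem mem_orb {Q : Subgroup (Perm α)} {x y : α} : y ∈ orb Q x ↔ ∃ q ∈ Q, q x = y := by
  classical
  simp [orb]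

theorem self_mem_orb (Q : Subgroup (Perm α)) (x : α) : x ∈ orb Q x :=
  mem_orb.2 ⟨1, Q.one_mem, rfl⟩

theorem orb_eq_of_mem {Q : Subgroup (Perm α)} {x y : α} (h : y ∈ orb Q x) : orb Q y = orb Q x := by
  obtain ⟨q, hq, rfl⟩ := mem_orb.1 h
  ext z
  rw [mem_orb, mem_orb]
  refine ⟨fun ⟨u, hu, huz⟩ => ⟨u * q, Q.mul_mem hu hq, huz⟩,
    fun ⟨u, hu, huz⟩ => ⟨u * q⁻¹, Q.mul_mem hu (Q.inv_mem hq), ?_⟩⟩
  rw [Perm.mul_apply, Perm.inv_def, Equiv.symm_apply_apply]
  exact huz

/-- the setting -/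
structure Setup (G Q : Subgroup (Perm α)) (F : Finset α) (k p r : ℕ) : Prop where
  hp : p.Prime
  hk : 1 ≤ k
  hkp : k < p
  hkr : k < r
  hn : Fintype.card α = k * p + r
  hF : F.card = r
  htrans : IsMultiplyPretransitive G α (r + 1)
  hQG : Q ≤ G
  hQp : IsPGroup p Q
  hfix : ∀ q ∈ Q, ∀ x ∈ F, q x = x
  horb : ∀ x, x ∉ F → (orb Q x).card = p
  witt : ∀ σ : Perm {x // x ∈ F}, ∃ g ∈ G, (∀ q ∈ Q, g * q * g⁻¹ ∈ Q) ∧
    ∀ x : {x // x ∈ F}, g x = σ x

theorem exists_setup (G : Subgroup (Perm α)) {k p r : ℕ} (hp : p.Prime)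
    (hn : Fintype.card α = k * p + r) (hk : 1 ≤ k) (hkp : k < p) (hkr : k < r)
    (hG : IsMultiplyPretransitive G α (r + 1)) :
    ∃ (Q : Subgroup (Perm α)) (F : Finset α), Setup G Q F k p r := by
  classical
  haveI := Fact.mk hp
  have hkp0 : 0 < k * p := Nat.mul_pos (by omega) hp.pos
  obtain ⟨F, -, hF⟩ := Finset.exists_subset_card_eq (s := (univ : Finset α)) (n := r)
    (by rw [Finset.card_univ]; omega)
  let H : Subgroup (Perm α) :=
    { carrier := {g | g ∈ G ∧ ∀ x ∈ F, g x = x}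
      one_mem' := ⟨G.one_mem, fun _ _ => rfl⟩
      mul_mem' := fun {a b} ha hb => ⟨G.mul_mem ha.1 hb.1, fun x hx => by
        rw [Perm.mul_apply, hb.2 x hx, ha.2 x hx]⟩
      inv_mem' := fun {a} ha => ⟨G.inv_mem ha.1, fun x hx => by
        rw [Perm.inv_def, Equiv.symm_apply_eq, ha.2 x hx]⟩ }
  have htr : ∀ x y, x ∉ F → y ∉ F → ∃ g ∈ H, g x = y := by
    intro x y hx hy
    obtain ⟨g, hg, hgx⟩ := CfsgLib.Perm.ktrans_exists_finset hG (by omega) (insert x F)
      (by rw [Finset.card_insert_of_notMem hx, hF]) (fun z => if z = x then y else z) (by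
        intro a ha b hb hab
        simp only [Finset.coe_insert, Set.mem_insert_iff, Finset.mem_coe] at ha hb
        by_cases h1 : a = x <;> by_cases h2 : b = x <;> simp_all)
    refine ⟨g, ⟨hg, fun z hz => ?_⟩, ?_⟩
    · rw [hgx z (Finset.mem_insert_of_mem hz), if_neg (fun h => hx (by rwa [← h]))]
    · rw [hgx x (Finset.mem_insert_self x F), if_pos rfl]
  let P : Sylow p H := default
  set Q := (P : Subgroup H).map H.subtype with hQ
  have hQH : Q ≤ H := Subgroup.map_subtype_le _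
  have hQp : IsPGroup p Q := P.isPGroup'.map _
  have hfix : ∀ q ∈ Q, ∀ x ∈ F, q x = x := fun q hq => (hQH hq).2
  have horb : ∀ x, x ∉ F → (orb Q x).card = p := by
    intro x hx
    have hsub : orb Q x ⊆ univ \ F := by
      intro y hy
      obtain ⟨q, hq, rfl⟩ := mem_orb.1 hy
      refine Finset.mem_sdiff.2 ⟨Finset.mem_univ _, fun h => hx ?_⟩
      have := hfix q hq _ h
      rwa [← q.injective this]
    have hcard : (orb Q x).card = Nat.card (MulAction.orbit Q x) := by
      have h : (MulAction.orbit Q x) = ↑(orb Q x) := by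
        ext y
        rw [MulAction.mem_orbit_iff, Finset.mem_coe, mem_orb]
        exact ⟨fun ⟨q, hq⟩ => ⟨q, q.2, hq⟩, fun ⟨q, hq, h⟩ => ⟨⟨q, hq⟩, h⟩⟩
      rw [h, Nat.card_coe_set_eq, Set.ncard_coe_finset]
    obtain ⟨e, he⟩ := hQp.card_orbit x
    have hle : (orb Q x).card ≤ k * p := by
      refine (Finset.card_le_card hsub).trans ?_
      rw [Finset.card_sdiff_of_subset (Finset.subset_univ F), Finset.card_univ, hF]
      omega
    rw [hcard, he] at hle ⊢
    have he2 : e < 2 := by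
      by_contra h
      have h1 := Nat.pow_le_pow_right hp.pos (show 2 ≤ e by omega)
      rw [pow_two] at h1
      have h2 := Nat.mul_lt_mul_of_pos_right hkp hp.pos
      omega
    have he0 : e ≠ 0 := by
      intro he0
      rw [he0, pow_zero] at he
      have hfixx : ∀ q : Q, q • x = x := fun q => by
        have hs := (Nat.card_eq_one_iff_unique.1 he).1
        exact Subtype.ext_iff.1 (hs.elim ⟨q • x, MulAction.mem_orbit x q⟩ ⟨x, MulAction.mem_orbit_self x⟩)
      let S : Subgroup H := MulAction.stabilizer H x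
      have hPS : (P : Subgroup H) ≤ S := fun h hh => hfixx ⟨h.1, ⟨h, hh, rfl⟩⟩
      have horbH : (MulAction.orbit H x) = ↑(univ \ F) := by
        ext y
        rw [MulAction.mem_orbit_iff, Finset.mem_coe, Finset.mem_sdiff]
        constructor
        · rintro ⟨g, rfl⟩
          refine ⟨Finset.mem_univ _, fun h => hx ?_⟩
          change (g : Perm α) x ∈ F at h
          have := g.2.2 _ h
          rwa [← (g : Perm α).injective this]
        · rintro ⟨-, hy⟩
          obtain ⟨g, hg, hgx⟩ := htr x y hx hy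
          exact ⟨⟨g, hg⟩, hgx⟩
      have hidx : S.index = k * p := by
        rw [MulAction.index_stabilizer, horbH, Set.ncard_coe_finset,
          Finset.card_sdiff_of_subset (Finset.subset_univ F), Finset.card_univ, hF]
        omega
      exact P.not_dvd_index ((hidx ▸ dvd_mul_left p k : p ∣ S.index).trans (Subgroup.index_dvd_of_le hPS))
    rw [show e = 1 by omega, pow_one]
  refine ⟨Q, F, hp, hk, hkp, hkr, hn, hF, hG, fun q hq => (hQH hq).1, hQp, hfix, horb, fun σ => ?_⟩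
  -- Witt
  obtain ⟨g, hg, hgσ⟩ := CfsgLib.Perm.ktrans_exists_finset hG (by omega) F (by omega)
    (fun z => if h : z ∈ F then (σ ⟨z, h⟩ : α) else z) (by
      intro a ha b hb hab
      simp only [dif_pos (Finset.mem_coe.1 ha), dif_pos (Finset.mem_coe.1 hb)] at hab
      exact Subtype.ext_iff.1 (σ.injective (Subtype.ext hab)))
  have hgF : ∀ x : {x // x ∈ F}, g x = σ x := fun x => by rw [hgσ _ x.2, dif_pos x.2]
  have hgF' : ∀ x ∈ F, g x ∈ F := fun x hx => by rw [hgF ⟨x, hx⟩]; exact (σ _).2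
  have hginv : ∀ x ∈ F, g⁻¹ x ∈ F := fun x hx => by
    obtain ⟨y, hy⟩ := σ.surjective ⟨x, hx⟩
    have : g y = x := by rw [hgF y, hy]
    rw [← this, Perm.inv_def, Equiv.symm_apply_apply]
    exact y.2
  have hconjH : ∀ h ∈ H, g * h * g⁻¹ ∈ H := fun h hh => ⟨G.mul_mem (G.mul_mem hg hh.1) (G.inv_mem hg),
    fun x hx => by
      rw [Perm.mul_apply, Perm.mul_apply, hh.2 _ (hginv x hx), Perm.inv_def, Equiv.apply_symm_apply]⟩
  let c : H →* H :=
    { toFun := fun h => ⟨g * h * g⁻¹, hconjH h h.2⟩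
      map_one' := Subtype.ext (by simp)
      map_mul' := fun a b => Subtype.ext (by simp [mul_assoc]) }
  have hc : Function.Injective c := fun a b h =>
    Subtype.ext (mul_left_cancel (mul_right_cancel (Subtype.ext_iff.1 h)))
  let P' : Sylow p H := Sylow.ofCard ((P : Subgroup H).map c) (by
    rw [Subgroup.card_map_of_injective hc, P.card_eq_multiplicity])
  obtain ⟨u, hu⟩ := MulAction.exists_smul_eq H P' P
  refine ⟨(u : Perm α) * g, G.mul_mem u.2.1 hg, fun q hq => ?_, fun x => ?_⟩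
  · obtain ⟨h, hh, rfl⟩ := hq
    refine ⟨(MulAut.conj u) (c h), ?_, ?_⟩
    · rw [← hu, Sylow.coe_subgroup_smul]
      exact Subgroup.smul_mem_pointwise_smul _ _ _ (Subgroup.mem_map_of_mem c hh)
    · show (u : Perm α) * (g * h * g⁻¹) * (u : Perm α)⁻¹ = (u : Perm α) * g * h * ((u : Perm α) * g)⁻¹
      group
  · rw [Perm.mul_apply, u.2.2 _ (hgF' _ x.2), hgF]

variable {G Q : Subgroup (Perm α)} {F : Finset α} {k p r : ℕ}

theorem Setup.orb_disjoint (S : Setup G Q F k p r) {x y : α} (hx : x ∉ F) (hy : y ∈ orb Q x) : y ∉ F := by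
  obtain ⟨q, hq, rfl⟩ := mem_orb.1 hy
  intro h
  refine hx ?_
  have := S.hfix q hq _ h
  rwa [← q.injective this]

/-- a point fixed in an orbit means the whole orbit is fixed -/
theorem Setup.fix_orbit (S : Setup G Q F k p r) {q : Perm α} (hq : q ∈ Q) {x : α} (hx : x ∉ F)
    (h : q x = x) : ∀ y ∈ orb Q x, q y = y := by
  haveI := Fact.mk S.hp
  let T : Subgroup Q := MulAction.stabilizer Q x
  have hidx : T.index = p := by
    rw [MulAction.index_stabilizer, ← S.horb x hx]
    have : (MulAction.orbit Q x) = ↑(orb Q x) := by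
      ext y
      rw [MulAction.mem_orbit_iff, Finset.mem_coe, mem_orb]
      exact ⟨fun ⟨q, hq⟩ => ⟨q, q.2, hq⟩, fun ⟨q, hq, h⟩ => ⟨⟨q, hq⟩, h⟩⟩
    rw [this, Set.ncard_coe_finset]
  have hTn : T.Normal := by
    have hnt : Nontrivial Q := by
      by_contra hh
      rw [not_nontrivial_iff_subsingleton] at hh
      have := T.index_dvd_card
      rw [hidx, Nat.card_unique] at this
      exact S.hp.ne_one (Nat.dvd_one.1 this)
    obtain ⟨e, he⟩ := IsPGroup.iff_card.mp S.hQp
    have he0 : e ≠ 0 := fun h0 => by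
      have := T.index_dvd_card
      rw [hidx, he, h0, pow_zero] at this
      exact S.hp.ne_one (Nat.dvd_one.1 this)
    refine Subgroup.normal_of_index_eq_minFac_card ?_
    rw [hidx, he, Nat.pow_minFac (by omega), S.hp.minFac_eq]
  intro y hy
  obtain ⟨u, hu, rfl⟩ := mem_orb.1 hy
  have hqT : (⟨q, hq⟩ : Q) ∈ T := h
  have h2 : q (u x) = u x := by
    have h3 : (⟨u, hu⟩ : Q)⁻¹ * ⟨q, hq⟩ * (⟨u, hu⟩ : Q)⁻¹⁻¹ ∈ T := hTn.conj_mem _ hqT _
    have h4 : (u⁻¹ * q * u⁻¹⁻¹) x = x := h3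
    rw [inv_inv, Perm.mul_apply, Perm.mul_apply, Perm.inv_def, Equiv.symm_apply_eq] at h4
    exact h4
  exact h2

/-- on an orbit every element of `Q` is a power of a fixed nontrivial one -/
theorem Setup.exists_zpow (S : Setup G Q F k p r) {x : α} (hx : x ∉ F) {v : Perm α} (hv : v ∈ Q)
    (hvx : v x ≠ x) {q : Perm α} (hq : q ∈ Q) : ∃ i : ℕ, ∀ y ∈ orb Q x, q y = (v ^ i) y := by
  classical
  haveI := Fact.mk S.hp
  have hsub : orb (Subgroup.zpowers v) x ⊆ orb Q x := fun y hy => by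
    obtain ⟨u, hu, h⟩ := mem_orb.1 hy
    exact mem_orb.2 ⟨u, Subgroup.zpowers_le.2 hv hu, h⟩
  have hcard : (orb (Subgroup.zpowers v) x).card = Nat.card (MulAction.orbit (Subgroup.zpowers v) x) := by
    have h : (MulAction.orbit (Subgroup.zpowers v) x) = ↑(orb (Subgroup.zpowers v) x) := by
      ext y
      rw [MulAction.mem_orbit_iff, Finset.mem_coe, mem_orb]
      exact ⟨fun ⟨q, hq⟩ => ⟨q, q.2, hq⟩, fun ⟨q, hq, h⟩ => ⟨⟨q, hq⟩, h⟩⟩
    rw [h, Nat.card_coe_set_eq, Set.ncard_coe_finset]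
  obtain ⟨e, he⟩ := (S.hQp.to_le (Subgroup.zpowers_le.2 hv)).card_orbit x
  have he0 : e ≠ 0 := by
    intro h0
    rw [h0, pow_zero] at he
    rw [he] at hcard
    have h1 := Finset.card_le_one.1 hcard.le (v x) (mem_orb.2 ⟨v, Subgroup.mem_zpowers v, rfl⟩)
      x (self_mem_orb _ x)
    exact hvx h1
  have heq : orb (Subgroup.zpowers v) x = orb Q x := by
    refine Finset.eq_of_subset_of_card_le hsub ?_
    rw [S.horb x hx, hcard, he]
    exact Nat.le_self_pow he0 p
  obtain ⟨u, hu, hux⟩ := mem_orb.1 (heq ▸ mem_orb.2 ⟨q, hq, rfl⟩ : q x ∈ orb (Subgroup.zpowers v) x)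
  obtain ⟨i, rfl⟩ := (mem_powers_iff_mem_zpowers).2 hu
  refine ⟨i, fun y hy => ?_⟩
  have h := S.fix_orbit (Q.mul_mem (Q.inv_mem (Q.pow_mem hv i)) hq) hx
    (by rw [Perm.mul_apply, ← hux]; exact Equiv.symm_apply_apply _ _) y hy
  rwa [Perm.mul_apply, Perm.inv_def, Equiv.symm_apply_eq] at h

theorem Setup.exists_moving (S : Setup G Q F k p r) {x : α} (hx : x ∉ F) : ∃ v ∈ Q, v x ≠ x := by
  by_contra h
  push Not at h
  have hsub : orb Q x ⊆ {x} := fun y hy => by
    obtain ⟨q, hq, rfl⟩ := mem_orb.1 hy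
    simp [h q hq]
  have := Finset.card_le_card hsub
  rw [S.horb x hx, Finset.card_singleton] at this
  have := S.hp.two_le
  omega

theorem Setup.pow_prime_fix (S : Setup G Q F k p r) {q : Perm α} (hq : q ∈ Q) {x : α} (hx : x ∉ F) :
    (q ^ p) x = x := by
  haveI := Fact.mk S.hp
  by_cases h : q x = x
  · exact Equiv.Perm.pow_apply_eq_self_of_apply_eq_self h p
  -- the stabiliser has index `p` and is normal
  let T : Subgroup Q := MulAction.stabilizer Q x
  have hmem : ∀ u : Q, u ∈ T ↔ (u : Perm α) x = x := fun u => Iff.rfl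
  have hTn : T.Normal := ⟨fun u hu g => by
    rw [hmem] at hu ⊢
    have h1 := S.fix_orbit u.2 hx hu (((g⁻¹ : Q) : Perm α) x) (mem_orb.2 ⟨_, (g⁻¹ : Q).2, rfl⟩)
    show ((g : Perm α) * (u : Perm α) * (g : Perm α)⁻¹) x = x
    rw [Subgroup.coe_inv] at h1
    rw [Perm.mul_apply, Perm.mul_apply, h1, Perm.inv_def, Equiv.apply_symm_apply]⟩
  have hidx : T.index = p := by
    rw [MulAction.index_stabilizer, ← S.horb x hx]
    have : (MulAction.orbit Q x) = ↑(orb Q x) := by
      ext y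
      rw [MulAction.mem_orbit_iff, Finset.mem_coe, mem_orb]
      exact ⟨fun ⟨q, hq⟩ => ⟨q, q.2, hq⟩, fun ⟨q, hq, h⟩ => ⟨⟨q, hq⟩, h⟩⟩
    rw [this, Set.ncard_coe_finset]
  have := T.pow_index_mem (⟨q, hq⟩ : Q)
  rw [hidx] at this
  exact this

theorem Setup.comm (S : Setup G Q F k p r) {q u : Perm α} (hq : q ∈ Q) (hu : u ∈ Q) : q * u = u * q := by
  ext x
  by_cases hx : x ∈ F
  · rw [Perm.mul_apply, Perm.mul_apply, S.hfix u hu x hx, S.hfix q hq x hx, S.hfix u hu x hx]
  obtain ⟨v, hv, hvx⟩ := S.exists_moving hx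
  obtain ⟨i, hi⟩ := S.exists_zpow hx hv hvx hq
  obtain ⟨j, hj⟩ := S.exists_zpow hx hv hvx hu
  rw [Perm.mul_apply, Perm.mul_apply, hj x (self_mem_orb Q x),
    hi _ (mem_orb.2 ⟨v ^ j, Q.pow_mem hv j, rfl⟩), hi x (self_mem_orb Q x),
    hj _ (mem_orb.2 ⟨v ^ i, Q.pow_mem hv i, rfl⟩), ← Perm.mul_apply, ← Perm.mul_apply,
    (Commute.pow_pow_self v i j).eq]

/-- the elements of `G` normalising `Q` -/
def Nrm (G Q : Subgroup (Perm α)) : Subgroup (Perm α) := G ⊓ Subgroup.normalizer (Q : Set (Perm α))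

theorem mem_Nrm_of {g : Perm α} (hg : g ∈ G) (h : ∀ q ∈ Q, g * q * g⁻¹ ∈ Q) : g ∈ Nrm G Q := by
  refine Subgroup.mem_inf.2 ⟨hg, Subgroup.mem_normalizer_iff.2 fun q => ⟨h q, fun hq => ?_⟩⟩
  have hsurj : Function.Surjective (fun q : Q => (⟨g * q * g⁻¹, h q q.2⟩ : Q)) :=
    Finite.surjective_of_injective fun a b hab =>
      Subtype.ext (mul_left_cancel (mul_right_cancel (Subtype.ext_iff.1 hab)))
  obtain ⟨u, hu⟩ := hsurj ⟨_, hq⟩
  rw [← mul_left_cancel (mul_right_cancel (Subtype.ext_iff.1 hu))]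
  exact u.2

theorem conj_mem_of_Nrm {g q : Perm α} (hg : g ∈ Nrm G Q) (hq : q ∈ Q) : g * q * g⁻¹ ∈ Q :=
  (Subgroup.mem_normalizer_iff.1 (Subgroup.mem_inf.1 hg).2 q).1 hq

theorem Setup.nrm_F (S : Setup G Q F k p r) {g : Perm α} (hg : g ∈ Nrm G Q) {x : α} : g x ∈ F ↔ x ∈ F := by
  have key : ∀ g ∈ Nrm G Q, ∀ y ∈ F, g y ∈ F := by
    intro g hg y hy
    by_contra h
    obtain ⟨v, hv, hvx⟩ := S.exists_moving h
    have := conj_mem_of_Nrm ((Nrm G Q).inv_mem hg) hv
    have h2 := S.hfix _ this y hy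
    rw [inv_inv, Perm.mul_apply, Perm.mul_apply, Perm.inv_def, Equiv.symm_apply_eq] at h2
    exact hvx h2
  refine ⟨fun h => ?_, key g hg x⟩
  have := key g⁻¹ ((Nrm G Q).inv_mem hg) _ h
  rwa [Perm.inv_def, Equiv.symm_apply_apply] at this

theorem orb_apply {g : Perm α} (hg : g ∈ Nrm G Q) (x : α) : orb Q (g x) = (orb Q x).image g := by
  ext y
  rw [mem_orb, Finset.mem_image]
  constructor
  · rintro ⟨q, hq, rfl⟩
    refine ⟨(g⁻¹ * q * g) x, mem_orb.2 ⟨_, by simpa using conj_mem_of_Nrm ((Nrm G Q).inv_mem hg) hq, rfl⟩, ?_⟩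
    show (g * (g⁻¹ * q * g)) x = (q * g) x
    rw [show g * (g⁻¹ * q * g) = q * g by group]
  · rintro ⟨z, hz, rfl⟩
    obtain ⟨q, hq, rfl⟩ := mem_orb.1 hz
    exact ⟨g * q * g⁻¹, conj_mem_of_Nrm hg hq, by rw [Perm.mul_apply, Perm.mul_apply, Perm.inv_def, Equiv.symm_apply_apply]⟩

/-- `n` acts as the power `a` on the orbit of `x` -/
def ActsPow (Q : Subgroup (Perm α)) (n : Perm α) (x : α) (a : ℕ) : Prop :=
  ∀ q ∈ Q, ∀ y ∈ orb Q x, (n * q * n⁻¹) y = (q ^ a) y

theorem Setup.exists_actsPow (S : Setup G Q F k p r) {n : Perm α} (hn : n ∈ Nrm G Q) {x : α} (hx : x ∉ F)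
    (hnx : orb Q (n x) = orb Q x) : ∃ a, ActsPow Q n x a := by
  obtain ⟨v, hv, hvx⟩ := S.exists_moving hx
  obtain ⟨a, ha⟩ := S.exists_zpow hx hv hvx (conj_mem_of_Nrm hn hv)
  refine ⟨a, fun q hq y hy => ?_⟩
  obtain ⟨i, hi⟩ := S.exists_zpow hx hv hvx hq
  have horbn : ∀ y ∈ orb Q x, n⁻¹ y ∈ orb Q x := by
    intro y hy
    rw [← hnx, orb_apply hn] at hy
    obtain ⟨z, hz, rfl⟩ := Finset.mem_image.1 hy
    rwa [Perm.inv_def, Equiv.symm_apply_apply]
  have hpow : ∀ (w : Perm α), w ∈ Q → ∀ j : ℕ, (∀ z ∈ orb Q x, q z = w z) → ∀ z ∈ orb Q x, (q ^ j) z = (w ^ j) z := by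
    intro w hw j hqw
    induction j with
    | zero => intro z _; rfl
    | succ j ih =>
      intro z hz
      rw [pow_succ, pow_succ, Perm.mul_apply, Perm.mul_apply, hqw z hz]
      exact ih _ (by
        obtain ⟨u, hu, rfl⟩ := mem_orb.1 hz
        exact mem_orb.2 ⟨w * u, Q.mul_mem hw hu, rfl⟩)
  have hconj : ∀ j : ℕ, ∀ z ∈ orb Q x, ((n * v * n⁻¹) ^ j) z = ((v ^ a) ^ j) z := by
    intro j
    induction j with
    | zero => intro z _; rfl
    | succ j ih =>
      intro z hz
      rw [pow_succ, pow_succ, Perm.mul_apply _ (n * v * n⁻¹), Perm.mul_apply _ (v ^ a), ha z hz]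
      exact ih _ (by
        obtain ⟨u, hu, rfl⟩ := mem_orb.1 hz
        exact mem_orb.2 ⟨v ^ a * u, Q.mul_mem (Q.pow_mem hv a) hu, rfl⟩)
  calc (n * q * n⁻¹) y = n (q (n⁻¹ y)) := rfl
    _ = n ((v ^ i) (n⁻¹ y)) := by rw [hi _ (horbn y hy)]
    _ = ((n * v * n⁻¹) ^ i) y := by rw [conj_pow]; rfl
    _ = ((v ^ a) ^ i) y := hconj i y hy
    _ = ((v ^ i) ^ a) y := by rw [← pow_mul, ← pow_mul, mul_comm]
    _ = (q ^ a) y := (hpow _ (Q.pow_mem hv i) a hi y hy).symm

/-- two elements fixing the orbits commute in their action on `Q` -/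
theorem Setup.comm_action (S : Setup G Q F k p r) {a b : Perm α} (ha : a ∈ Nrm G Q) (hb : b ∈ Nrm G Q)
    (ha1 : ∀ x, x ∉ F → a x ∈ orb Q x) (hb1 : ∀ x, x ∉ F → b x ∈ orb Q x) {q : Perm α} (hq : q ∈ Q) :
    Commute ⁅a, b⁆ q := by
  have hab : ∀ q ∈ Q, a * b * q * (a * b)⁻¹ = b * a * q * (b * a)⁻¹ := by
    intro q hq
    ext x
    by_cases hx : x ∈ F
    · have h1 := conj_mem_of_Nrm ((Nrm G Q).mul_mem ha hb) hq
      have h2 := conj_mem_of_Nrm ((Nrm G Q).mul_mem hb ha) hq
      rw [S.hfix _ h1 x hx, S.hfix _ h2 x hx]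
    obtain ⟨i, hi⟩ := S.exists_actsPow ha hx (orb_eq_of_mem (ha1 x hx))
    obtain ⟨j, hj⟩ := S.exists_actsPow hb hx (orb_eq_of_mem (hb1 x hx))
    have key : ∀ (a b : Perm α), a ∈ Nrm G Q → b ∈ Nrm G Q → a x ∈ orb Q x → ∀ i j : ℕ,
        ActsPow Q a x i → ActsPow Q b x j → (a * b * q * (a * b)⁻¹) x = (q ^ (j * i)) x := by
      intro a b ha hb hax i j hi hj
      have hax' : a⁻¹ x ∈ orb Q x := by
        have : x ∈ orb Q (a x) := (orb_eq_of_mem hax).symm ▸ self_mem_orb Q x
        rw [orb_apply ha] at this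
        obtain ⟨z, hz, hzx⟩ := Finset.mem_image.1 this
        rwa [show a⁻¹ x = z by rw [← hzx, Perm.inv_def, Equiv.symm_apply_apply]]
      calc (a * b * q * (a * b)⁻¹) x = a ((b * q * b⁻¹) (a⁻¹ x)) := by rw [mul_inv_rev]; rfl
        _ = a ((q ^ j) (a⁻¹ x)) := by rw [hj q hq _ hax']
        _ = (a * q ^ j * a⁻¹) x := rfl
        _ = ((q ^ j) ^ i) x := hi _ (Q.pow_mem hq j) x (self_mem_orb Q x)
        _ = (q ^ (j * i)) x := by rw [pow_mul]
    rw [key a b ha hb (ha1 x hx) i j hi hj, key b a hb ha (hb1 x hx) j i hj hi, mul_comm]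
  have hba : (b * a)⁻¹ * q * (b * a) ∈ Q := by
    simpa using conj_mem_of_Nrm ((Nrm G Q).inv_mem ((Nrm G Q).mul_mem hb ha)) hq
  have h := hab _ hba
  have e1 : b * a * ((b * a)⁻¹ * q * (b * a)) * (b * a)⁻¹ = q := by group
  have e2 : a * b * ((b * a)⁻¹ * q * (b * a)) * (a * b)⁻¹ = ⁅a, b⁆ * q * ⁅a, b⁆⁻¹ := by
    rw [commutatorElement_def]; group
  rw [e1, e2, mul_inv_eq_iff_eq_mul] at h
  exact h

theorem Setup.exists_point (S : Setup G Q F k p r) : ∃ x, x ∉ F := by
  by_contra h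
  push Not at h
  have := Finset.card_le_card (s := (univ : Finset α)) (fun x _ => h x)
  rw [Finset.card_univ, S.hn, S.hF] at this
  have := Nat.mul_pos S.hk S.hp.pos
  omega

theorem Setup.pow_congr (S : Setup G Q F k p r) {x : α} {q w : Perm α} (hw : w ∈ Q) (_hq : q ∈ Q)
    (h : ∀ z ∈ orb Q x, q z = w z) (j : ℕ) : ∀ z ∈ orb Q x, (q ^ j) z = (w ^ j) z := by
  have := S.hp
  induction j with
  | zero => intro z _; rfl
  | succ j ih =>
    intro z hz
    rw [pow_succ, pow_succ, Perm.mul_apply, Perm.mul_apply, h z hz]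
    exact ih _ (by
      obtain ⟨u, hu, rfl⟩ := mem_orb.1 hz
      exact mem_orb.2 ⟨w * u, Q.mul_mem hw hu, rfl⟩)

/-- the orbits off `F` -/
noncomputable def orbSet (Q : Subgroup (Perm α)) (F : Finset α) : Finset (Finset α) :=
  (univ \ F).image (orb Q)

theorem mem_orbSet {O : Finset α} : O ∈ orbSet Q F ↔ ∃ x, x ∉ F ∧ orb Q x = O := by
  simp [orbSet]

theorem Setup.card_orbSet (S : Setup G Q F k p r) : (orbSet Q F).card = k := by
  have h := Finset.card_eq_sum_card_image (orb Q) (univ \ F)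
  have hfib : ∀ O ∈ orbSet Q F, ((univ \ F).filter fun a => orb Q a = O).card = p := by
    intro O hO
    obtain ⟨x, hx, rfl⟩ := mem_orbSet.1 hO
    rw [← S.horb x hx]
    congr 1
    ext y
    rw [Finset.mem_filter, Finset.mem_sdiff]
    exact ⟨fun h => h.2 ▸ self_mem_orb Q y,
      fun h => ⟨⟨Finset.mem_univ _, S.orb_disjoint hx h⟩, orb_eq_of_mem h⟩⟩
  rw [show Finset.image (orb Q) (univ \ F) = orbSet Q F from rfl, Finset.sum_eq_card_nsmul hfib, smul_eq_mul, Finset.card_sdiff_of_subset (Finset.subset_univ F),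
    Finset.card_univ, S.hn, S.hF, Nat.add_sub_cancel] at h
  exact (Nat.eq_of_mul_eq_mul_right S.hp.pos h).symm

theorem Setup.image_mem (S : Setup G Q F k p r) {g : Perm α} (hg : g ∈ Nrm G Q) {O : Finset α}
    (hO : O ∈ orbSet Q F) : O.image g ∈ orbSet Q F := by
  obtain ⟨x, hx, rfl⟩ := mem_orbSet.1 hO
  exact mem_orbSet.2 ⟨g x, fun h => hx ((S.nrm_F hg).1 h), orb_apply hg x⟩

/-- action on the orbits -/
def Setup.toOrbPerm (S : Setup G Q F k p r) : Nrm G Q →* Perm {O // O ∈ orbSet Q F} where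
  toFun g :=
    { toFun := fun O => ⟨O.1.image (g : Perm α), S.image_mem g.2 O.2⟩
      invFun := fun O => ⟨O.1.image ((g : Perm α)⁻¹ : Perm α), S.image_mem ((Nrm G Q).inv_mem g.2) O.2⟩
      left_inv := fun O => Subtype.ext (by simp [Finset.image_image])
      right_inv := fun O => Subtype.ext (by simp [Finset.image_image]) }
  map_one' := Equiv.ext fun O => Subtype.ext (by simp)
  map_mul' a b := Equiv.ext fun O => Subtype.ext (by simp [Finset.image_image])

/-- action on `F` -/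
def Setup.toFPerm (S : Setup G Q F k p r) : Nrm G Q →* Perm {x // x ∈ F} where
  toFun g := Perm.subtypePerm (g : Perm α) fun _ => S.nrm_F g.2
  map_one' := rfl
  map_mul' _ _ := rfl

theorem Setup.toFPerm_surjective (S : Setup G Q F k p r) : Function.Surjective S.toFPerm := by
  intro σ
  obtain ⟨g, hg, hgQ, hgx⟩ := S.witt σ
  exact ⟨⟨g, mem_Nrm_of hg hgQ⟩, Equiv.ext fun x => Subtype.ext (hgx x)⟩

theorem Setup.mem_orb_of_ker (S : Setup G Q F k p r) {g : Nrm G Q} (hg : g ∈ S.toOrbPerm.ker) {x : α}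
    (hx : x ∉ F) : (g : Perm α) x ∈ orb Q x := by
  have h := DFunLike.congr_fun (MonoidHom.mem_ker.1 hg) ⟨orb Q x, mem_orbSet.2 ⟨x, hx, rfl⟩⟩
  have h' : (orb Q x).image (g : Perm α) = orb Q x := congrArg Subtype.val h
  have h2 := Finset.mem_image_of_mem (g : Perm α) (self_mem_orb Q x)
  rwa [h'] at h2

/-- orbit fixing elements centralising `Q` -/
def Setup.centPart (S : Setup G Q F k p r) : Subgroup (Nrm G Q) where
  carrier := {c | c ∈ S.toOrbPerm.ker ∧ ∀ q ∈ Q, Commute (c : Perm α) q}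
  one_mem' := ⟨one_mem _, fun q _ => Commute.one_left q⟩
  mul_mem' := fun {a b} ha hb => ⟨mul_mem ha.1 hb.1, fun q hq => (ha.2 q hq).mul_left (hb.2 q hq)⟩
  inv_mem' := fun {a} ha => ⟨inv_mem ha.1, fun q hq => (ha.2 q hq).inv_left⟩

theorem Setup.centPart_normal (S : Setup G Q F k p r) : S.centPart.Normal := by
  refine ⟨fun c hc g => ⟨(MonoidHom.normal_ker _).conj_mem c hc.1 g, fun q hq => ?_⟩⟩
  have h := hc.2 _ (conj_mem_of_Nrm ((Nrm G Q).inv_mem g.2) hq)
  rw [inv_inv] at h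
  have h' := h.map (MulAut.conj (g : Perm α)).toMonoidHom
  simpa [mul_assoc] using h'

theorem Setup.ker_commutator_le (S : Setup G Q F k p r) :
    ⁅S.toOrbPerm.ker, S.toOrbPerm.ker⁆ ≤ S.centPart := by
  rw [Subgroup.commutator_le]
  intro a ha b hb
  refine ⟨Subgroup.commutator_le_left _ _ (Subgroup.commutator_mem_commutator ha hb), fun q hq => ?_⟩
  exact S.comm_action a.2 b.2 (fun x hx => S.mem_orb_of_ker ha hx) (fun x hx => S.mem_orb_of_ker hb hx) hq

theorem Setup.prime_cycle (S : Setup G Q F k p r) (hk2 : 2 ≤ k) {v : Perm α} (hv : v ∈ Q) (hv1 : v ≠ 1)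
    {x : α} (hx : x ∉ F) (hmov : ∀ y, v y ≠ y → y ∈ orb Q x) : alternatingGroup α ≤ G := by
  have hvx : v x ≠ x := by
    intro h
    refine hv1 (Equiv.ext fun y => ?_)
    by_contra hy
    exact hy (S.fix_orbit hv hx h y (hmov y hy))
  have hsupp : v.support = orb Q x := by
    ext y
    rw [Equiv.Perm.mem_support]
    refine ⟨hmov y, fun hy h => hvx ?_⟩
    exact S.fix_orbit hv (S.orb_disjoint hx hy) h x (by rw [orb_eq_of_mem hy]; exact self_mem_orb Q x)
  have hcyc : v.IsCycle := by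
    refine ⟨x, hvx, fun y hy => ?_⟩
    obtain ⟨q, hq, rfl⟩ := mem_orb.1 (hmov y hy)
    obtain ⟨i, hi⟩ := S.exists_zpow hx hv hvx hq
    exact ⟨i, by rw [zpow_natCast]; exact (hi x (self_mem_orb Q x)).symm⟩
  have h2 : IsMultiplyPretransitive G α 2 := by
    haveI := S.htrans
    exact MulAction.isMultiplyPretransitive_of_le (n := r + 1) (by have := S.hkr; omega)
      (by rw [Nat.card_eq_fintype_card, S.hn]; have := Nat.mul_pos S.hk S.hp.pos; omega)
  have hle : 2 * p ≤ k * p := Nat.mul_le_mul_right p hk2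
  exact alternatingGroup_le_of_primeCycle G (MulAction.isPreprimitive_of_is_two_pretransitive h2) S.hp
    (by rw [S.hn]; have := S.hkr; have := S.hp.two_le; omega) hcyc (by rw [hsupp, S.horb x hx]) (S.hQG hv)

theorem Setup.scalar (S : Setup G Q F k p r) (hk3 : k ≤ 3)
    (hsingle : ∀ v ∈ Q, ∀ x, x ∉ F → (∀ y, v y ≠ y → y ∈ orb Q x) → 2 ≤ k → v = 1)
    {n : Perm α} (hn : n ∈ Nrm G Q) (hn1 : ∀ x, x ∉ F → n x ∈ orb Q x) :
    ∃ a : ℕ, ∀ q ∈ Q, n * q * n⁻¹ = q ^ a := by
  have hpow : ∀ x, x ∉ F → ∃ a, ActsPow Q n x a := fun x hx =>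
    S.exists_actsPow hn hx (orb_eq_of_mem (hn1 x hx))
  have hdiff : ∀ q ∈ Q, ∀ a : ℕ, n * q * n⁻¹ * (q ^ a)⁻¹ ∈ Q := fun q hq a =>
    Q.mul_mem (conj_mem_of_Nrm hn hq) (Q.inv_mem (Q.pow_mem hq a))
  have hfixdiff : ∀ q ∈ Q, ∀ a : ℕ, ∀ z, (n * q * n⁻¹) z = (q ^ a) z → (n * q * n⁻¹ * (q ^ a)⁻¹) z = z := by
    intro q hq a z h
    have hc := S.comm (conj_mem_of_Nrm hn hq) (Q.inv_mem (Q.pow_mem hq a))
    rw [hc, Perm.mul_apply, h, Perm.inv_def, Equiv.symm_apply_apply]
  have hone : ∀ q ∈ Q, ∀ a : ℕ, n * q * n⁻¹ * (q ^ a)⁻¹ = 1 → n * q * n⁻¹ = q ^ a :=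
    fun q _ a h => mul_inv_eq_one.1 h
  by_cases hA : ∃ x, x ∉ F ∧ ∀ v ∈ Q, v x = x → v = 1
  · obtain ⟨x, hx, htriv⟩ := hA
    obtain ⟨a, ha⟩ := hpow x hx
    exact ⟨a, fun q hq => hone q hq a (htriv _ (hdiff q hq a)
      (hfixdiff q hq a x (ha q hq x (self_mem_orb Q x))))⟩
  push Not at hA
  have hk2 : 2 ≤ k := by
    by_contra hk
    obtain ⟨x, hx⟩ := S.exists_point
    obtain ⟨v, hv, hvx, hv1⟩ := hA x hx
    refine hv1 (Equiv.ext fun y => ?_)
    by_cases hy : y ∈ F
    · exact S.hfix v hv y hy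
    · refine S.fix_orbit hv hx hvx y ?_
      have h1 : orb Q y = orb Q x := Finset.card_le_one.1 (by rw [S.card_orbSet]; omega) _
        (mem_orbSet.2 ⟨y, hy, rfl⟩) _ (mem_orbSet.2 ⟨x, hx, rfl⟩)
      rw [← h1]; exact self_mem_orb Q y
  obtain ⟨x₀, hx₀⟩ := S.exists_point
  obtain ⟨a, ha⟩ := hpow x₀ hx₀
  refine ⟨a, fun q hq => Equiv.ext fun y => ?_⟩
  by_cases hy : y ∈ F
  · rw [S.hfix _ (conj_mem_of_Nrm hn hq) y hy, S.hfix _ (Q.pow_mem hq a) y hy]
  by_cases hy0 : y ∈ orb Q x₀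
  · exact ha q hq y hy0
  by_cases hz : ∃ z, z ∉ F ∧ z ∉ orb Q x₀ ∧ z ∉ orb Q y
  · obtain ⟨z, hzF, hz0, hzy⟩ := hz
    obtain ⟨v, hv, hvz, hv1⟩ := hA z hzF
    -- only three orbits
    have hthree : ∀ w, w ∉ F → orb Q w = orb Q x₀ ∨ orb Q w = orb Q y ∨ orb Q w = orb Q z := by
      intro w hw
      by_contra h
      push Not at h
      have hsub : ({orb Q w, orb Q x₀, orb Q y, orb Q z} : Finset (Finset α)) ⊆ orbSet Q F := by
        intro O hO
        simp only [Finset.mem_insert, Finset.mem_singleton] at hO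
        rcases hO with rfl | rfl | rfl | rfl
        exacts [mem_orbSet.2 ⟨w, hw, rfl⟩, mem_orbSet.2 ⟨x₀, hx₀, rfl⟩, mem_orbSet.2 ⟨y, hy, rfl⟩,
          mem_orbSet.2 ⟨z, hzF, rfl⟩]
      have h1 : orb Q x₀ ≠ orb Q y := fun e => hy0 (e ▸ self_mem_orb Q y)
      have h2 : orb Q x₀ ≠ orb Q z := fun e => hz0 (e ▸ self_mem_orb Q z)
      have h3 : orb Q y ≠ orb Q z := fun e => hzy (e ▸ self_mem_orb Q z)
      have hc := Finset.card_le_card hsub
      rw [S.card_orbSet, Finset.card_insert_of_notMem (by simp [h.1, h.2.1, h.2.2]),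
        Finset.card_insert_of_notMem (by simp [h1, h2]), Finset.card_insert_of_notMem (by simp [h3]),
        Finset.card_singleton] at hc
      omega
    have hloc : ∀ u ∈ Q, ∀ x, x ∉ F → (∀ w, w ∉ F → orb Q w ≠ orb Q x → u w = w) → u = 1 := by
      intro u hu x hx h
      refine hsingle u hu x hx (fun w hw => ?_) hk2
      have hwF : w ∉ F := fun e => hw (S.hfix u hu w e)
      by_contra hne
      exact hw (h w hwF fun e => hne (e ▸ self_mem_orb Q w))
    have hvzfix : ∀ w, orb Q w = orb Q z → v w = w := fun w e =>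
      S.fix_orbit hv hzF hvz w (e ▸ self_mem_orb Q w)
    have hvy : v y ≠ y := by
      intro h
      refine hv1 (hloc v hv x₀ hx₀ fun w hw hne => ?_)
      rcases hthree w hw with e | e | e
      · exact absurd e hne
      · exact S.fix_orbit hv hy h w (e ▸ self_mem_orb Q w)
      · exact hvzfix w e
    have hveq : n * v * n⁻¹ = v ^ a := by
      refine hone v hv a (hloc _ (hdiff v hv a) y hy fun w hw hne => hfixdiff v hv a w ?_)
      rcases hthree w hw with e | e | e
      · exact ha v hv w (e ▸ self_mem_orb Q w)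
      · exact absurd e hne
      · obtain ⟨b, hb⟩ := hpow z hzF
        rw [hb v hv w (e ▸ self_mem_orb Q w), Equiv.Perm.pow_apply_eq_self_of_apply_eq_self (hvzfix w e),
          Equiv.Perm.pow_apply_eq_self_of_apply_eq_self (hvzfix w e)]
    obtain ⟨b, hb⟩ := hpow y hy
    obtain ⟨i, hi⟩ := S.exists_zpow hy hv hvy hq
    have hvb : ∀ w ∈ orb Q y, (v ^ b) w = (v ^ a) w := fun w hw => by rw [← hb v hv w hw, hveq]
    have hy' := self_mem_orb Q y
    calc (n * q * n⁻¹) y = (q ^ b) y := hb q hq y hy'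
      _ = ((v ^ i) ^ b) y := S.pow_congr (Q.pow_mem hv i) hq hi b y hy'
      _ = ((v ^ b) ^ i) y := by rw [← pow_mul, ← pow_mul, mul_comm]
      _ = ((v ^ a) ^ i) y := S.pow_congr (Q.pow_mem hv a) (Q.pow_mem hv b) hvb i y hy'
      _ = ((v ^ i) ^ a) y := by rw [← pow_mul, ← pow_mul, mul_comm]
      _ = (q ^ a) y := (S.pow_congr (Q.pow_mem hv i) hq hi a y hy').symm
  · push Not at hz
    have h := hsingle _ (hdiff q hq a) y hy (fun w hw => ?_) hk2
    · rw [hone q hq a h]
    · have hwF : w ∉ F := fun e => hw (S.hfix _ (hdiff q hq a) w e)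
      by_contra hwy
      exact hw (hfixdiff q hq a w (ha q hq w (by_contra fun h0 => hwy (hz w hwF h0))))

theorem eq_bot_of_commute_all {β : Type*} [Fintype β] [DecidableEq β] (h3 : 3 ≤ Fintype.card β)
    (I : Subgroup (Perm β)) (h : ∀ σ ∈ I, ∀ τ : Perm β, σ * τ = τ * σ) : I = ⊥ := by
  rw [Subgroup.eq_bot_iff_forall]
  intro σ hσ
  by_contra hne
  obtain ⟨a, ha⟩ : ∃ a, σ a ≠ a := by
    by_contra hh
    push Not at hh
    exact hne (Equiv.ext hh)
  obtain ⟨c, hc⟩ : ∃ c, c ∉ ({a, σ a} : Finset β) := by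
    by_contra hh
    push Not at hh
    have := Finset.card_le_card (s := (Finset.univ : Finset β)) (fun x _ => hh x)
    rw [Finset.card_univ] at this
    have := Finset.card_le_two (a := a) (b := σ a)
    omega
  simp only [Finset.mem_insert, Finset.mem_singleton, not_or] at hc
  have e := congrArg (fun τ : Perm β => τ a) (h σ hσ (Equiv.swap a c))
  simp only [Perm.mul_apply, Equiv.swap_apply_left] at e
  rw [Equiv.swap_apply_of_ne_of_ne ha (Ne.symm hc.2)] at e
  exact hc.1 (σ.injective e)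

theorem Setup.exists_small (S : Setup G Q F k p r) (hr3 : 3 ≤ r)
    (hsingle : ∀ v ∈ Q, ∀ x, x ∉ F → (∀ y, v y ≠ y → y ∈ orb Q x) → 2 ≤ k → v = 1) :
    S.centPart.map S.toFPerm ≠ ⊥ := by
  have hsurj := S.toFPerm_surjective
  have hcF : Fintype.card {x // x ∈ F} = r := by rw [Fintype.card_coe, S.hF]
  set K := S.toOrbPerm.ker with hK
  set I := K.map S.toFPerm with hI
  haveI hIn : I.Normal := Subgroup.Normal.map (MonoidHom.normal_ker _) _ hsurj
  have hI0 : I ≠ ⊥ := by
    intro h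
    have h1 : I.index ∣ K.index := Subgroup.index_map_dvd _ hsurj
    rw [h, Subgroup.index_bot, Nat.card_perm, Nat.card_eq_fintype_card, hcF] at h1
    have h2 : K.index ≤ Nat.factorial k := by
      rw [Subgroup.index_ker]
      refine (Subgroup.card_le_card_group _).trans ?_
      rw [Nat.card_perm, Nat.card_eq_fintype_card, Fintype.card_coe, S.card_orbSet]
    have h3 := Nat.le_of_dvd (Nat.pos_of_ne_zero Subgroup.index_ne_zero_of_finite) h1
    have h4 : Nat.factorial k < Nat.factorial r := (Nat.factorial_lt (by have := S.hk; omega)).2 S.hkr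
    omega
  intro hJ
  by_cases hr5 : 5 ≤ r
  · refine hI0 (SmallPerm.eq_bot_of_comm_normal (by omega) I fun x hx y hy => ?_)
    have hle : ⁅I, I⁆ ≤ ⊥ := by
      rw [← hJ, hI, ← Subgroup.map_commutator]
      exact Subgroup.map_mono S.ker_commutator_le
    exact commutatorElement_eq_one_iff_mul_comm.1 (Subgroup.mem_bot.1 (hle (Subgroup.commutator_mem_commutator hx hy)))
  · have hk3 : k ≤ 3 := by have := S.hkr; omega
    have hle : ⁅(⊤ : Subgroup (Nrm G Q)), K⁆ ≤ S.centPart := by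
      rw [Subgroup.commutator_le]
      intro g _ m hm
      refine ⟨Subgroup.commutator_le_right _ _ (Subgroup.commutator_mem_commutator (Subgroup.mem_top g) hm), fun q hq => ?_⟩
      obtain ⟨a, ha⟩ := S.scalar hk3 hsingle m.2 (fun x hx => S.mem_orb_of_ker hm hx)
      have hg' : ∀ u ∈ Q, (g : Perm α)⁻¹ * u * (g : Perm α) ∈ Q := fun u hu => by
        simpa using conj_mem_of_Nrm ((Nrm G Q).inv_mem g.2) hu
      have key : ∀ u ∈ Q, (g : Perm α) * m * (g : Perm α)⁻¹ * u * ((g : Perm α) * m * (g : Perm α)⁻¹)⁻¹ = u ^ a := by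
        intro u hu
        calc (g : Perm α) * m * (g : Perm α)⁻¹ * u * ((g : Perm α) * m * (g : Perm α)⁻¹)⁻¹
            = (g : Perm α) * ((m : Perm α) * ((g : Perm α)⁻¹ * u * (g : Perm α)) * (m : Perm α)⁻¹) * (g : Perm α)⁻¹ := by
              group
          _ = (g : Perm α) * ((g : Perm α)⁻¹ * u * (g : Perm α)) ^ a * (g : Perm α)⁻¹ := by rw [ha _ (hg' u hu)]
          _ = u ^ a := by rw [← conj_pow]; congr 1; group
      have hmQ : (m : Perm α)⁻¹ * q * (m : Perm α) ∈ Q := by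
        simpa using conj_mem_of_Nrm ((Nrm G Q).inv_mem m.2) hq
      have h1 := key _ hmQ
      have h2 := ha _ hmQ
      rw [← h2, show (m : Perm α) * ((m : Perm α)⁻¹ * q * (m : Perm α)) * (m : Perm α)⁻¹ = q by group] at h1
      show ((⁅g, m⁆ : Nrm G Q) : Perm α) * q = q * ((⁅g, m⁆ : Nrm G Q) : Perm α)
      have e : ((⁅g, m⁆ : Nrm G Q) : Perm α) = (g : Perm α) * m * (g : Perm α)⁻¹ * (m : Perm α)⁻¹ := by
        simp [commutatorElement_def]
      rw [e, ← mul_inv_eq_iff_eq_mul]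
      calc _ = (g : Perm α) * m * (g : Perm α)⁻¹ * ((m : Perm α)⁻¹ * q * (m : Perm α)) *
            ((g : Perm α) * m * (g : Perm α)⁻¹)⁻¹ := by group
        _ = q := h1
    refine hI0 (eq_bot_of_commute_all (by omega) I fun σ hσ τ => ?_)
    have hle' : ⁅(⊤ : Subgroup (Perm {x // x ∈ F})), I⁆ ≤ ⊥ := by
      rw [← hJ, hI, ← Subgroup.map_top_of_surjective _ hsurj, ← Subgroup.map_commutator]
      exact Subgroup.map_mono hle
    exact (commutatorElement_eq_one_iff_mul_comm.1 (Subgroup.mem_bot.1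
      (hle' (Subgroup.commutator_mem_commutator (Subgroup.mem_top τ) hσ)))).symm

/-- `(r+1)`-transitive of degree `k p + r` implies alternating -/
theorem alternatingGroup_le (G : Subgroup (Perm α)) {k p r : ℕ} (hp : p.Prime)
    (hn : Fintype.card α = k * p + r) (hk : 1 ≤ k) (hkp : k < p) (hkr : k < r) (hr3 : 3 ≤ r)
    (hG : IsMultiplyPretransitive G α (r + 1)) : alternatingGroup α ≤ G := by
  classical
  have hp2 := hp.two_le
  haveI := hG
  have hkp0 : 0 < k * p := Nat.mul_pos (by omega) hp.pos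
  have hcard : r + 1 ≤ Nat.card α := by rw [Nat.card_eq_fintype_card]; omega
  by_cases hsmall : Fintype.card α ≤ r + 3
  · exact IsMultiplyPretransitive.alternatingGroup_le α G
      (MulAction.isMultiplyPretransitive_of_le (n := r + 1) (by rw [Nat.card_eq_fintype_card]; omega) hcard)
  push Not at hsmall
  have hp3 : 3 ≤ p := by
    by_contra h
    have h1 : k = 1 := by omega
    rw [h1, one_mul] at hn
    omega
  have h4 : IsMultiplyPretransitive G α 4 :=
    MulAction.isMultiplyPretransitive_of_le (n := r + 1) (by omega) hcard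
  have hprim : IsPreprimitive G α := MulAction.isPreprimitive_of_is_two_pretransitive
    (MulAction.isMultiplyPretransitive_of_le (n := r + 1) (by omega) hcard)
  obtain ⟨Q, F, S⟩ := exists_setup G hp hn hk hkp hkr hG
  by_cases hsingle : ∀ v ∈ Q, ∀ x, x ∉ F → (∀ y, v y ≠ y → y ∈ orb Q x) → 2 ≤ k → v = 1
  swap
  · push Not at hsingle
    obtain ⟨v, hv, x, hx, hmov, hk2, hv1⟩ := hsingle
    exact S.prime_cycle hk2 hv hv1 hx hmov
  haveI : S.centPart.Normal := S.centPart_normal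
  haveI : (S.centPart.map S.toFPerm).Normal := Subgroup.Normal.map inferInstance _ S.toFPerm_surjective
  have hcF : Fintype.card {x // x ∈ F} = r := by rw [Fintype.card_coe, S.hF]
  have hpow : ∀ c ∈ S.centPart, (c : Perm α) ^ p = Perm.ofSubtype (S.toFPerm c ^ p) := by
    intro c hc
    ext z
    by_cases hz : z ∈ F
    · rw [Perm.ofSubtype_apply_of_mem _ hz, ← map_pow]
      rfl
    · rw [Perm.ofSubtype_apply_of_not_mem _ hz]
      obtain ⟨q, hq, hqz⟩ := mem_orb.1 (S.mem_orb_of_ker hc.1 hz)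
      have : ∀ m : ℕ, ((c : Perm α) ^ m) z = (q ^ m) z := by
        intro m
        induction m with
        | zero => rfl
        | succ m ih =>
          rw [pow_succ', Perm.mul_apply, ih, ← Perm.mul_apply, ((hc.2 q hq).pow_right m).eq, Perm.mul_apply,
            ← hqz, ← Perm.mul_apply, ← pow_succ]
      rw [this p, S.pow_prime_fix hq hz]
  rcases SmallPerm.exists_small_of_normal (by omega) _ (S.exists_small hr3 hsingle) with
    ⟨⟨a, b, c0, hab, hac, hbc, hmem⟩, hcard3⟩ | ⟨a, b, c0, e, hab, hac, hae, hbc, hbe, hce, hmem⟩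
  · -- a three-cycle, `r = 3`
    rw [hcF] at hcard3
    obtain ⟨c, hc, hcσ⟩ := Subgroup.mem_map.1 hmem
    have hσ : (Equiv.swap a b * Equiv.swap a c0).IsThreeCycle :=
      Equiv.Perm.isThreeCycle_swap_mul_swap_same hab hac hbc
    by_cases hp3' : p = 3
    · subst hp3'
      have hk2 : k = 2 := by
        have : k ≠ 1 := fun h1 => by
          rw [h1, one_mul] at hn
          omega
        omega
      subst hk2
      obtain ⟨x1, hx1⟩ := S.exists_point
      obtain ⟨q, hq, hqx⟩ := mem_orb.1 (S.mem_orb_of_ker hc.1 hx1)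
      set c' : Perm α := q⁻¹ * c with hc'
      have hc'G : c' ∈ G := G.mul_mem (G.inv_mem (S.hQG hq)) (Subgroup.mem_inf.1 c.2).1
      have hc'com : ∀ u ∈ Q, Commute c' u := fun u hu =>
        ((show Commute q u from S.comm hq hu).inv_left).mul_left (hc.2 u hu)
      have hc'F : ∀ z : {z // z ∈ F}, c' z = ((Equiv.swap a b * Equiv.swap a c0) z : α) := by
        intro z
        rw [hc', Perm.mul_apply, ← hcσ, Perm.inv_def, Equiv.symm_apply_eq]
        exact (S.hfix q hq _ ((S.toFPerm c) z).2).symm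
      have hc'1 : ∀ w ∈ orb Q x1, c' w = w := by
        intro w hw
        obtain ⟨u, hu, rfl⟩ := mem_orb.1 hw
        rw [← Perm.mul_apply, (hc'com u hu).eq, Perm.mul_apply, hc', Perm.mul_apply, ← hqx,
          Perm.inv_def, Equiv.symm_apply_apply]
      obtain ⟨x2, hx2, hx21⟩ : ∃ x2, x2 ∉ F ∧ x2 ∉ orb Q x1 := by
        by_contra h
        push Not at h
        have hsub : (univ \ F) ⊆ orb Q x1 := fun z hz => h z (Finset.mem_sdiff.1 hz).2
        have := Finset.card_le_card hsub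
        rw [Finset.card_sdiff_of_subset (Finset.subset_univ F), Finset.card_univ, S.horb x1 hx1, S.hF] at this
        omega
      have htwo : ∀ z, z ∉ F → z ∈ orb Q x1 ∨ z ∈ orb Q x2 := by
        intro z hz
        by_contra h
        push Not at h
        have hsub : ({orb Q z, orb Q x1, orb Q x2} : Finset (Finset α)) ⊆ orbSet Q F := by
          intro O hO
          simp only [Finset.mem_insert, Finset.mem_singleton] at hO
          rcases hO with rfl | rfl | rfl
          exacts [mem_orbSet.2 ⟨z, hz, rfl⟩, mem_orbSet.2 ⟨x1, hx1, rfl⟩, mem_orbSet.2 ⟨x2, hx2, rfl⟩]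
        have h1 : orb Q z ≠ orb Q x1 := fun e => h.1 (e ▸ self_mem_orb Q z)
        have h2 : orb Q z ≠ orb Q x2 := fun e => h.2 (e ▸ self_mem_orb Q z)
        have h3 : orb Q x1 ≠ orb Q x2 := fun e => hx21 (e ▸ self_mem_orb Q x2)
        have hc := Finset.card_le_card hsub
        rw [S.card_orbSet, Finset.card_insert_of_notMem (by simp [h1, h2]),
          Finset.card_insert_of_notMem (by simp [h3]), Finset.card_singleton] at hc
        omega
      have hc'2mem : c' x2 ∈ orb Q x2 := by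
        obtain ⟨u, hu, hux⟩ := mem_orb.1 (S.mem_orb_of_ker hc.1 hx2)
        exact mem_orb.2 ⟨q⁻¹ * u, Q.mul_mem (Q.inv_mem hq) hu, by rw [hc', Perm.mul_apply, Perm.mul_apply, hux]⟩
      obtain ⟨q2, hq2, hq2x⟩ := mem_orb.1 hc'2mem
      have hc'2 : ∀ w ∈ orb Q x2, c' w = q2 w := by
        intro w hw
        obtain ⟨u, hu, rfl⟩ := mem_orb.1 hw
        rw [← Perm.mul_apply, (hc'com u hu).eq, Perm.mul_apply, ← hq2x, ← Perm.mul_apply, S.comm hu hq2,
          Perm.mul_apply]
      by_cases hfix2 : q2 x2 = x2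
      · refine Equiv.Perm.alternatingGroup_le_of_isPreprimitive_of_isThreeCycle_mem hprim ?_ hc'G
        have heq : c' = Perm.ofSubtype (Equiv.swap a b * Equiv.swap a c0) := by
          ext z
          by_cases hz : z ∈ F
          · rw [Perm.ofSubtype_apply_of_mem _ hz, hc'F ⟨z, hz⟩]
          · rw [Perm.ofSubtype_apply_of_not_mem _ hz]
            rcases htwo z hz with h | h
            · exact hc'1 z h
            · rw [hc'2 z h]; exact S.fix_orbit hq2 hx2 hfix2 z h
        rw [heq, Equiv.Perm.IsThreeCycle, Equiv.Perm.cycleType_ofSubtype]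
        exact hσ
      · have hper : q2 (q2 (q2 x2)) = x2 := by
          have := S.pow_prime_fix hq2 hx2
          simpa [pow_succ] using this
        set e2 := q2 x2 with he2
        set f2 := q2 e2 with hf2
        have he2m : e2 ∈ orb Q x2 := mem_orb.2 ⟨q2, hq2, rfl⟩
        have hf2m : f2 ∈ orb Q x2 := mem_orb.2 ⟨q2 * q2, Q.mul_mem hq2 hq2, rfl⟩
        have hfe : f2 ≠ e2 := fun h => hfix2 (q2.injective h)
        have hfx : f2 ≠ x2 := fun h => hfe (by
          have h' := hper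
          rw [h] at h'
          exact h.trans h'.symm)
        have horb2 : orb Q x2 = {x2, e2, f2} := by
          refine (Finset.eq_of_subset_of_card_le ?_ ?_).symm
          · simp only [Finset.insert_subset_iff, Finset.singleton_subset_iff]
            exact ⟨self_mem_orb Q x2, he2m, hf2m⟩
          · rw [S.horb x2 hx2, Finset.card_insert_of_notMem (by simp [Ne.symm hfix2, Ne.symm hfx]),
              Finset.card_insert_of_notMem (by simp [Ne.symm hfe]), Finset.card_singleton]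
        have hFeq : ∀ z : {z // z ∈ F}, z = a ∨ z = b ∨ z = c0 := by
          intro z
          by_contra h
          push Not at h
          have hc4 := Finset.card_le_univ ({z, a, b, c0} : Finset {z // z ∈ F})
          rw [hcF, Finset.card_insert_of_notMem (by simp [h.1, h.2.1, h.2.2]),
            Finset.card_insert_of_notMem (by simp [hab, hac]), Finset.card_insert_of_notMem (by simp [hbc]),
            Finset.card_singleton] at hc4
          omega
        have hdisj : ∀ z : {z // z ∈ F}, ∀ w ∈ orb Q x2, (z : α) ≠ w := fun z w hw h =>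
          S.orb_disjoint hx2 hw (h ▸ z.2)
        have hι : Function.Injective ![(a : α), (c0 : α), (b : α), x2, e2, f2] := by
          have n1 := hdisj a _ (self_mem_orb Q x2); have n2 := hdisj b _ (self_mem_orb Q x2)
          have n3 := hdisj c0 _ (self_mem_orb Q x2); have n4 := hdisj a _ he2m; have n5 := hdisj b _ he2m
          have n6 := hdisj c0 _ he2m; have n7 := hdisj a _ hf2m; have n8 := hdisj b _ hf2m
          have n9 := hdisj c0 _ hf2m
          have m1 : (a : α) ≠ b := fun h => hab (Subtype.ext h)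
          have m2 : (a : α) ≠ c0 := fun h => hac (Subtype.ext h)
          have m3 : (b : α) ≠ c0 := fun h => hbc (Subtype.ext h)
          intro i j
          fin_cases i <;> fin_cases j <;> simp [n1, n2, n3, n4, n5, n6, n7, n8, n9, n1.symm, n2.symm,
            n3.symm, n4.symm, n5.symm, n6.symm, n7.symm, n8.symm, n9.symm, m1, m2, m3, m1.symm, m2.symm,
            m3.symm, hfix2, Ne.symm hfix2, hfe, hfe.symm, hfx, hfx.symm]
        refine SmallPerm.alt_of_three_three G h4 (by omega) ⟨_, hι⟩ hc'G ?_ ?_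
        · intro i
          fin_cases i
          · show c' a = c0
            rw [hc'F a, Perm.mul_apply, Equiv.swap_apply_left, Equiv.swap_apply_of_ne_of_ne hac.symm hbc.symm]
          · show c' c0 = b
            rw [hc'F c0, Perm.mul_apply, Equiv.swap_apply_right, Equiv.swap_apply_left]
          · show c' b = a
            rw [hc'F b, Perm.mul_apply, Equiv.swap_apply_of_ne_of_ne hab.symm hbc, Equiv.swap_apply_right]
          · show c' x2 = e2
            rw [hc'2 _ (self_mem_orb Q x2)]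
          · show c' e2 = f2
            rw [hc'2 _ he2m]
          · show c' f2 = x2
            rw [hc'2 _ hf2m]; exact hper
        · intro z hz
          by_cases hzF : z ∈ F
          · exfalso
            rcases hFeq ⟨z, hzF⟩ with h | h | h
            · exact hz ⟨0, (congrArg Subtype.val h).symm⟩
            · exact hz ⟨2, (congrArg Subtype.val h).symm⟩
            · exact hz ⟨1, (congrArg Subtype.val h).symm⟩
          rcases htwo z hzF with h | h
          · exact hc'1 z h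
          · exfalso
            rw [horb2] at h
            simp only [Finset.mem_insert, Finset.mem_singleton] at h
            rcases h with rfl | rfl | rfl
            exacts [hz ⟨3, rfl⟩, hz ⟨4, rfl⟩, hz ⟨5, rfl⟩]
    · refine Equiv.Perm.alternatingGroup_le_of_isPreprimitive_of_isThreeCycle_mem hprim ?_
        (G.pow_mem (Subgroup.mem_inf.1 c.2).1 p)
      rw [hpow c hc, hcσ, Equiv.Perm.IsThreeCycle, Equiv.Perm.cycleType_ofSubtype]
      show ((Equiv.swap a b * Equiv.swap a c0) ^ p).cycleType = {3}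
      have h3 : orderOf (Equiv.swap a b * Equiv.swap a c0) = 3 := hσ.orderOf
      rw [← pow_mod_orderOf, h3]
      have : p % 3 = 1 ∨ p % 3 = 2 := by
        have : p % 3 ≠ 0 := fun h => by
          rcases (Nat.dvd_prime hp).1 (Nat.dvd_of_mod_eq_zero h) with h' | h' <;> omega
        omega
      rcases this with h | h
      · rw [h, pow_one]; exact hσ
      · rw [h, pow_two]; exact hσ.isThreeCycle_sq
  · -- a double transposition
    obtain ⟨c, hc, hcσ⟩ := Subgroup.mem_map.1 hmem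
    have hd := G.pow_mem (Subgroup.mem_inf.1 c.2).1 p
    rw [hpow c hc, hcσ] at hd
    have hcomm : Commute (Equiv.swap a b) (Equiv.swap c0 e) :=
      Equiv.Perm.Disjoint.commute (Equiv.Perm.disjoint_swap_swap (by simp [hab, hac, hae, hbc, hbe, hce]))
    obtain ⟨m, hm⟩ : Odd p := hp.odd_of_ne_two (by omega)
    rw [hcomm.mul_pow, hm, pow_succ, pow_succ, pow_mul, pow_mul, pow_two, pow_two, Equiv.swap_mul_self,
      Equiv.swap_mul_self, one_pow, one_mul, one_mul, map_mul, Perm.ofSubtype_swap_eq, Perm.ofSubtype_swap_eq] at hd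
    exact SmallPerm.alt_of_double G h4 (by omega) (fun h => hab (Subtype.ext h)) (fun h => hac (Subtype.ext h))
      (fun h => hae (Subtype.ext h)) (fun h => hbc (Subtype.ext h)) (fun h => hbe (Subtype.ext h))
      (fun h => hce (Subtype.ext h)) hd

end CfsgLib.ClassSizes.TransBound
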