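import Mathlib

/-!
A group generated by an element of prime order `p` and a cycle of prime length `q`,
`p < q ≤ m < p + q`, restricted to the points it moves: a primitive group.
-/

set_option linter.style.haveILetI false

namespace CfsgLib.ClassSizes

open Equiv MulAction

open scoped Pointwise

variable {α : Type*} [Fintype α] [DecidableEq α]

theorem isPreprimitive_of_large_prime_cycle {β : Type*} [Fintype β] [DecidableEq β]
    (K : Subgroup (Perm β)) [IsPretransitive K β] {q : ℕ} (hq : q.Prime) {Y : Perm β}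
    (hYc : Y.IsCycle) (hYs : Y.support.card = q) (hY : Y ∈ K) (hqd : Fintype.card β < 2 * q) :
    IsPreprimitive K β := by
  classical
  obtain ⟨a, ha⟩ : Y.support.Nonempty := Finset.card_pos.1 (hYs ▸ hq.pos)
  refine IsPreprimitive.of_isTrivialBlock_base a fun {B} haB hB => ?_
  let Yk : K := ⟨Y, hY⟩
  by_cases hYB : Yk • B = B
  · right
    refine hB.eq_univ_of_card_lt ?_
    have hst : ∀ k : ℤ, Yk ^ k • B = B := fun k =>
      MulAction.mem_stabilizer_iff.1 (Subgroup.zpow_mem _ (MulAction.mem_stabilizer_iff.2 hYB) k)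
    have hsub : (Y.support : Set β) ⊆ B := by
      intro u hu
      obtain ⟨i, hi⟩ := hYc.sameCycle (Perm.mem_support.1 ha) (Perm.mem_support.1 hu)
      rw [← hst i]
      exact ⟨a, haB, by rw [← hi]; rfl⟩
    have := Set.ncard_le_ncard hsub (Set.toFinite B)
    rw [Set.ncard_coe_finset, hYs] at this
    rw [Nat.card_eq_fintype_card]
    omega
  · left
    refine hB.subsingleton_of_card_lt ?_
    have hsub : orbit (Subgroup.zpowers Yk) B ⊆ orbit K B := by
      rintro _ ⟨⟨g, hg⟩, rfl⟩
      exact ⟨g, rfl⟩
    have ho : (orbit (Subgroup.zpowers Yk) B).ncard = q := by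
      haveI := Fact.mk hq
      have hc : Nat.card (Subgroup.zpowers Yk) = q := by
        rw [Nat.card_zpowers, Subgroup.orderOf_mk, hYc.orderOf, hYs]
      rw [← MulAction.index_stabilizer]
      rcases hq.eq_one_or_self_of_dvd _
        (hc ▸ Subgroup.index_dvd_card (MulAction.stabilizer (Subgroup.zpowers Yk) B)) with h | h
      · rw [Subgroup.index_eq_one] at h
        have hm : (⟨Yk, Subgroup.mem_zpowers Yk⟩ : Subgroup.zpowers Yk) ∈
            MulAction.stabilizer (Subgroup.zpowers Yk) B := by rw [h]; exact Subgroup.mem_top _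
        exact absurd (MulAction.mem_stabilizer_iff.1 hm) hYB
      · exact h
    have := Set.ncard_le_ncard hsub (Set.toFinite _)
    rw [ho] at this
    rw [Nat.card_eq_fintype_card]
    omega

/-- A conclusion of the reduction to the moved points. -/
theorem exists_moved_points_reduction {x y : Perm α} {p q : ℕ} (hp : p.Prime) (hq : q.Prime)
    (hxo : orderOf x = p) (hyc : y.IsCycle) (hys : y.support.card = q)
    (hx1 : Perm.sign x = 1) (hy1 : Perm.sign y = 1)
    (hpq : Fintype.card α < p + q) (hq2 : Fintype.card α < 2 * q) :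
    ∃ (U : Finset α) (K : Subgroup (Perm U)) (x' y' : Perm U),
      Nonempty (Subgroup.closure ({x, y} : Set (Perm α)) ≃* K) ∧ K ≤ alternatingGroup U ∧
      IsPreprimitive K U ∧ x' ∈ K ∧ y' ∈ K ∧ x'.cycleType = x.cycleType ∧ y'.IsCycle ∧
      y'.support.card = q ∧ q ≤ U.card ∧ x.support ⊆ U := by
  classical
  set H := Subgroup.closure ({x, y} : Set (Perm α)) with hH
  set U := x.support ∪ y.support with hU
  have hxH : x ∈ H := Subgroup.subset_closure (Set.mem_insert _ _)
  have hyH : y ∈ H := Subgroup.subset_closure (Set.mem_insert_of_mem _ rfl)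
  have hfix : H ≤ fixingSubgroup (Perm α) ((U : Set α)ᶜ) := by
    rw [hH, Subgroup.closure_le]
    intro g hg
    simp only [Set.mem_insert_iff, Set.mem_singleton_iff] at hg
    rw [SetLike.mem_coe, mem_fixingSubgroup_iff]
    intro a ha
    simp only [hU, Set.mem_compl_iff, Finset.mem_coe, Finset.mem_union, not_or,
      Perm.mem_support, not_not] at ha
    rcases hg with rfl | rfl
    exacts [ha.1, ha.2]
  have hfix' : ∀ h ∈ H, ∀ a, a ∉ U → h a = a := fun h hh a ha =>
    mem_fixingSubgroup_iff (Perm α) |>.1 (hfix hh) a ha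
  have hinv : ∀ h ∈ H, ∀ a, h a ∈ U ↔ a ∈ U := by
    intro h hh a
    constructor
    · intro h1
      by_contra h2
      exact h2 (hfix' h hh a h2 ▸ h1)
    · intro h1
      by_contra h2
      have := hfix' h hh (h a) h2
      exact h2 ((h.injective this).symm ▸ h1)
  let r : H →* Perm U :=
    { toFun := fun h => h.1.subtypePerm (hinv h.1 h.2)
      map_one' := by ext; rfl
      map_mul' := fun a b => by ext; rfl }
  have hof : ∀ h : H, Perm.ofSubtype (r h) = h.1 := fun h =>
    Perm.ofSubtype_subtypePerm (hinv h.1 h.2) (fun a ha => by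
      by_contra h2; exact ha (hfix' h.1 h.2 a h2))
  have hr : Function.Injective r := fun a b hab => Subtype.ext (by rw [← hof a, ← hof b, hab])
  set x' := r ⟨x, hxH⟩ with hx'
  set y' := r ⟨y, hyH⟩ with hy'
  have hxt : x'.cycleType = x.cycleType := by rw [← Perm.cycleType_ofSubtype, hof]
  have hyt : y'.cycleType = y.cycleType := by rw [← Perm.cycleType_ofSubtype, hof]
  have hy'c : y'.IsCycle := by
    rw [← Perm.card_cycleType_eq_one, hyt, Perm.card_cycleType_eq_one]
    exact hyc
  have hy's : y'.support.card = q := by rw [← Perm.sum_cycleType, hyt, Perm.sum_cycleType, hys]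
  have hqU : q ≤ U.card := hys ▸ Finset.card_le_card Finset.subset_union_right
  have heven : r.range ≤ alternatingGroup U := by
    rintro _ ⟨h, rfl⟩
    rw [Perm.mem_alternatingGroup, ← Perm.sign_ofSubtype, hof]
    have hle : H ≤ alternatingGroup α := by
      rw [hH, Subgroup.closure_le]
      intro g hg
      simp only [Set.mem_insert_iff, Set.mem_singleton_iff] at hg
      rcases hg with rfl | rfl
      exacts [hx1, hy1]
    exact hle h.2
  obtain ⟨a, ha⟩ : y.support.Nonempty := Finset.card_pos.1 (hys ▸ hq.pos)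
  have haU : a ∈ U := Finset.mem_union_right _ ha
  -- every point of `y.support` is in the orbit of `a`
  have hyorb : ∀ u (hu : u ∈ U), u ∈ y.support → (⟨u, hu⟩ : U) ∈ orbit r.range (⟨a, haU⟩ : U) := by
    intro u hu hus
    obtain ⟨i, hi⟩ := hyc.sameCycle (Perm.mem_support.1 ha) (Perm.mem_support.1 hus)
    refine ⟨⟨r (⟨y, hyH⟩ ^ i), _, rfl⟩, Subtype.ext ?_⟩
    change (((⟨y, hyH⟩ : H) ^ i : H) : Perm α) a = u
    rw [Subgroup.coe_zpow]
    exact hi
  haveI htr : IsPretransitive r.range U := by
    refine (isPretransitive_iff_base (⟨a, haU⟩ : U)).2 fun ⟨u, hu⟩ => ?_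
    rw [← MulAction.mem_orbit_iff]
    by_cases hus : u ∈ y.support
    · exact hyorb u hu hus
    have hux : x u ≠ u := by
      rw [← Perm.mem_support]
      exact (Finset.mem_union.1 hu).resolve_right hus
    have hc : (x.cycleOf u).support.card = p := by
      have hmem : (x.cycleOf u).support.card ∈ x.cycleType := by
        rw [Perm.cycleType_def, Multiset.mem_map]
        exact ⟨x.cycleOf u, Perm.cycleOf_mem_cycleFactorsFinset_iff.2 (Perm.mem_support.2 hux), rfl⟩
      rcases hp.eq_one_or_self_of_dvd _ (hxo ▸ Perm.dvd_of_mem_cycleType hmem) with h | h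
      · exact absurd (h ▸ Perm.two_le_of_mem_cycleType hmem) (by norm_num)
      · exact h
    have hns : ¬ (x.cycleOf u).support ⊆ y.supportᶜ := by
      intro hs
      have := Finset.card_le_card hs
      rw [hc, Finset.card_compl, hys] at this
      have := hp.pos
      omega
    obtain ⟨v, hv, hvy⟩ := Finset.not_subset.1 hns
    rw [Finset.mem_compl, not_not] at hvy
    obtain ⟨⟨i, hi⟩, -⟩ := Perm.mem_support_cycleOf_iff.1 hv
    have hvU : v ∈ U := Finset.mem_union_right _ hvy
    have h1 := hyorb v hvU hvy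
    rw [← orbit_eq_iff] at h1 ⊢
    rw [← h1, orbit_eq_iff]
    refine ⟨⟨r (⟨x, hxH⟩ ^ (-i)), _, rfl⟩, Subtype.ext ?_⟩
    change (x ^ (-i)) v = u
    rw [← hi, ← Perm.mul_apply, ← zpow_add]
    simp
  refine ⟨U, r.range, x', y', ⟨MonoidHom.ofInjective hr⟩, heven, ?_, ⟨_, rfl⟩, ⟨_, rfl⟩, hxt,
    hy'c, hy's, hqU, Finset.subset_union_left⟩
  refine isPreprimitive_of_large_prime_cycle r.range hq hy'c hy's ⟨_, rfl⟩ ?_
  rw [Fintype.card_coe]
  exact lt_of_le_of_lt (Finset.card_le_univ U) hq2

/-- The group on the moved points is alternating if it contains the alternating group. -/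
theorem nonempty_equiv_alternating_fin {U : Type*} [Fintype U] [DecidableEq U] {K : Subgroup (Perm U)}
    (hK : K ≤ alternatingGroup U) (h : alternatingGroup U ≤ K) :
    Nonempty (K ≃* alternatingGroup (Fin (Fintype.card U))) :=
  ⟨(MulEquiv.subgroupCongr (le_antisymm hK h)).trans (Equiv.altCongrHom (Fintype.equivFin U))⟩

end CfsgLib.ClassSizes
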