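import Mathlib
import Cfsg.Prelude.Def_Local
import Cfsg.Agent.Lib.Transfer.Tate
import Cfsg.Agent.Lib.Components.FStar
import Cfsg.Agent.Lib.Components.Char
import Cfsg.Agent.Lib.Core.Cores
import Cfsg.Agent.Lib.PGroups.Basic
import Cfsg.Agent.Lib.HallGen.Counting

/-!
Groups with a two-generated non-abelian Sylow `p`-subgroup `P`, trivial `O_{p'}` and no normal
subgroup inside `Φ(P)`.

The basic observation: a subgroup normalised by `P` and meeting `P` outside `Φ(P)` contains `P'`
and has cyclic image of `P`; so two such subgroups meet non-trivially.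
-/

set_option autoImplicit false
set_option linter.style.haveILetI false

namespace CfsgLib.ClassSizes.TwoGen

open Subgroup
open scoped commutatorElement

variable {G : Type*} [Group G] [Finite G] {p : ℕ} [hp : Fact p.Prime] (P : Sylow p G)

/-- A fixed point of `P` outside a minimal normal subgroup `M` of index `p` in an elementary abelian
normal `V` gives, by averaging, a normal subgroup of order `p` outside `M`. -/
theorem false_of_fixed_extension {M V : Subgroup G} [M.Normal] [V.Normal] (hM : M ≠ ⊥)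
    (hmin : ∀ K : Subgroup G, K.Normal → K ≠ ⊥ → M ≤ K) (hMV : M ≤ V)
    (hab : ∀ a ∈ V, ∀ b ∈ V, a * b = b * a) (hexp : ∀ a ∈ V, a ^ p = 1)
    {u : G} (hu : u ∈ V) (huM : u ∉ M) (hfix : ∀ h ∈ (P : Subgroup G), h * u * h⁻¹ = u)
    (hV : V ≤ M ⊔ zpowers u) : False := by
  classical
  set π := QuotientGroup.mk' M with hπ
  have hπM : ∀ {x : G}, π x = 1 ↔ x ∈ M := fun {x} => QuotientGroup.eq_one_iff x
  have hcV : ∀ g : G, g * u * g⁻¹ ∈ V := fun g => (inferInstance : V.Normal).conj_mem _ hu g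
  have hne : ∀ g : G, π (g * u * g⁻¹) ≠ 1 := fun g h => huM (by
    have := (inferInstance : M.Normal).conj_mem' _ (hπM.1 h) g
    rwa [show g⁻¹ * (g * u * g⁻¹) * g = u by group] at this)
  have hord : ∀ g : G, orderOf (π (g * u * g⁻¹)) = p := fun g =>
    orderOf_eq_prime (by rw [← map_pow, hexp _ (hcV g), map_one]) (hne g)
  have hone : ∀ g : G, π (g * u * g⁻¹) ∈ zpowers (π u) := by
    intro g
    obtain ⟨m, hm, b, hb, hmb⟩ := mem_sup_of_normal_left.1 (hV (hcV g))
    obtain ⟨k, rfl⟩ := mem_zpowers_iff.1 hb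
    rw [← hmb, map_mul, hπM.2 hm, one_mul, map_zpow]
    exact Subgroup.zpow_mem_zpowers _ k
  have hgen : ∀ g : G, ∃ i : ℤ, π (g * u * g⁻¹) ^ i = π u := by
    intro g
    have h : zpowers (π (g * u * g⁻¹)) = zpowers (π u) := by
      refine Subgroup.eq_of_le_of_card_ge (zpowers_le.2 (hone g)) ?_
      rw [Nat.card_zpowers, Nat.card_zpowers, hord g]
      have := hord 1
      simp only [one_mul, inv_one, mul_one] at this
      rw [this]
    exact mem_zpowers_iff.1 (h ▸ mem_zpowers (π u))
  have hinj : ∀ g : G, ∀ a ∈ zpowers (g * u * g⁻¹), ∀ b ∈ zpowers (g * u * g⁻¹), π a = π b → a = b := by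
    intro g a ha b hb hab'
    obtain ⟨i, rfl⟩ := mem_zpowers_iff.1 ha
    obtain ⟨j, rfl⟩ := mem_zpowers_iff.1 hb
    rw [map_zpow, map_zpow, zpow_eq_zpow_iff_modEq, hord g] at hab'
    exact zpow_eq_zpow_iff_modEq.2 (hab'.of_dvd (by exact_mod_cast orderOf_dvd_of_pow_eq_one (hexp _ (hcV g))))
  let F : G ⧸ (P : Subgroup G) → G := fun q => (q.out * u * q.out⁻¹) ^ (hgen q.out).choose
  have hF1 : ∀ q, F q ∈ zpowers (q.out * u * q.out⁻¹) := fun q => Subgroup.zpow_mem_zpowers _ _
  have hF2 : ∀ q, π (F q) = π u := fun q => by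
    simp only [F, map_zpow]; exact (hgen q.out).choose_spec
  have hFV : ∀ q, F q ∈ V := fun q => V.zpow_mem (hcV _) _
  have hsame : ∀ g g' : G, (g : G ⧸ (P : Subgroup G)) = g' → g * u * g⁻¹ = g' * u * g'⁻¹ := by
    intro g g' h
    have hk := hfix _ (QuotientGroup.eq.1 h)
    calc g * u * g⁻¹ = g * ((g⁻¹ * g') * u * (g⁻¹ * g')⁻¹) * g⁻¹ := by rw [hk]
      _ = g' * u * g'⁻¹ := by group
  letI : CommGroup V :=
    { (inferInstance : Group V) with mul_comm := fun a b => Subtype.ext (hab _ a.2 _ b.2) }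
  letI : Fintype (G ⧸ (P : Subgroup G)) := Fintype.ofFinite _
  let w : V := ∏ q, (⟨F q, hFV q⟩ : V)
  have hπw : π (w : G) = π u ^ (P : Subgroup G).index := by
    set uV : V := ⟨u, hu⟩ with huV
    have h : w * (uV ^ (P : Subgroup G).index)⁻¹ ∈ M.subgroupOf V := by
      have e : w * (uV ^ (P : Subgroup G).index)⁻¹ = ∏ q, (⟨F q, hFV q⟩ : V) * uV⁻¹ := by
        rw [Finset.prod_mul_distrib, Finset.prod_const, Finset.card_univ, Subgroup.index_eq_card,
          Nat.card_eq_fintype_card, inv_pow]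
      rw [e]
      refine Subgroup.prod_mem _ fun q _ => hπM.1 ?_
      show π (F q * u⁻¹) = 1
      rw [map_mul, hF2, ← map_mul, mul_inv_cancel, map_one]
    have := hπM.2 (Subgroup.mem_subgroupOf.1 h)
    rw [Subgroup.coe_mul, Subgroup.coe_inv, Subgroup.coe_pow, map_mul, map_inv, map_pow, mul_inv_eq_one] at this
    exact this
  have hwM : (w : G) ∉ M := by
    intro h
    have := hπM.2 h
    rw [hπw, ← orderOf_dvd_iff_pow_eq_one] at this
    have h1 := hord 1
    simp only [one_mul, inv_one, mul_one] at h1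
    rw [h1] at this
    exact P.not_dvd_index this
  have hnorm : (zpowers (w : G)).Normal := by
    refine ⟨fun x hx h => ?_⟩
    obtain ⟨k, rfl⟩ := mem_zpowers_iff.1 hx
    obtain ⟨e, he⟩ := mem_zpowers_iff.1 (hone h)
    rw [← conj_zpow]
    refine Subgroup.zpow_mem _ ?_ k
    refine mem_zpowers_iff.2 ⟨e, ?_⟩
    let c : V →* V := ((MulAut.conjNormal h : MulAut V)).toMonoidHom
    have hw : c w = w ^ e := by
      rw [map_prod, ← Finset.prod_zpow]
      refine Fintype.prod_equiv (MulAction.toPerm h) _ _ fun q => Subtype.ext ?_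
      show h * F q * h⁻¹ = F (h • q) ^ e
      have hq : (h • q).out * u * (h • q).out⁻¹ = (h * q.out) * u * (h * q.out)⁻¹ := by
        refine hsame _ _ ?_
        rw [QuotientGroup.out_eq', show ((h * q.out : G) : G ⧸ (P : Subgroup G)) = h • (q.out : G ⧸ (P : Subgroup G)) from rfl,
          QuotientGroup.out_eq']
      refine hinj (h * q.out) _ ?_ _ ?_ ?_
      · obtain ⟨i, hi⟩ := mem_zpowers_iff.1 (hF1 q)
        refine mem_zpowers_iff.2 ⟨i, ?_⟩
        rw [← hi, ← conj_zpow]
        congr 1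
        group
      · rw [← hq]
        exact Subgroup.zpow_mem _ (hF1 _) e
      · rw [map_zpow, hF2, he, map_mul, map_mul, map_inv, hF2, map_mul, map_mul, map_inv]
    have := congrArg Subtype.val hw
    rw [SubgroupClass.coe_zpow] at this
    rw [← this]
    rfl
  have hwne : (w : G) ≠ 1 := fun h => hwM (h ▸ one_mem M)
  have hle := hmin _ hnorm (fun h => hwne (Subgroup.zpowers_eq_bot.1 h))
  have hcard : Nat.card (zpowers (w : G)) = p := by
    rw [Nat.card_zpowers]; exact orderOf_eq_prime (hexp _ w.2) hwne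
  rcases (Nat.dvd_prime hp.out).1 (hcard ▸ Subgroup.card_dvd_of_le hle) with h | h
  · exact hM (Subgroup.eq_bot_of_card_eq M h)
  · exact hwM ((Subgroup.eq_of_le_of_card_ge hle (by rw [h, hcard])) ▸ mem_zpowers _)

variable (hna : ¬ IsMulCommutative (P : Subgroup G)) (hgen : (frattini ↥(P : Subgroup G)).index = p ^ 2)

include hna hgen in
theorem exists_gen {x : (P : Subgroup G)} (hx : x ∉ frattini ↥(P : Subgroup G)) :
    ∃ y : (P : Subgroup G), zpowers x ⊔ zpowers y = ⊤ := by
  set Φ := frattini ↥(P : Subgroup G) with hΦ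
  set K1 := zpowers x ⊔ Φ with hK1
  have hne : K1 ≠ ⊤ := fun h => hna (by
    have := frattini_nongenerating h
    haveI : IsCyclic (P : Subgroup G) :=
      ⟨x, fun g => Subgroup.mem_zpowers_iff.1 (by rw [this]; exact mem_top g)⟩
    letI := IsCyclic.commGroup (α := (P : Subgroup G))
    exact ⟨⟨mul_comm⟩⟩)
  obtain ⟨y, hy⟩ : ∃ y, y ∉ K1 := by
    by_contra h
    push Not at h
    exact hne (eq_top_iff.2 fun g _ => h g)
  refine ⟨y, frattini_nongenerating ?_⟩
  rw [← hΦ]
  set K2 := zpowers x ⊔ zpowers y ⊔ Φ with hK2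
  refine Subgroup.eq_top_of_le_card K2 ?_
  obtain ⟨a, ha⟩ := IsPGroup.iff_card.mp (P.2.to_subgroup Φ)
  obtain ⟨b, hb⟩ := IsPGroup.iff_card.mp (P.2.to_subgroup K1)
  obtain ⟨c, hc⟩ := IsPGroup.iff_card.mp (P.2.to_subgroup K2)
  have h1 : Nat.card Φ < Nat.card K1 := by
    refine lt_of_le_of_ne (Subgroup.card_le_of_le le_sup_right) fun h => hx ?_
    rw [Subgroup.eq_of_le_of_card_ge (le_sup_right : Φ ≤ K1) h.ge]
    exact mem_sup_left (mem_zpowers x)
  have hle : K1 ≤ K2 := sup_le (le_sup_of_le_left le_sup_left) le_sup_right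
  have h2 : Nat.card K1 < Nat.card K2 := by
    refine lt_of_le_of_ne (Subgroup.card_le_of_le hle) fun h => hy ?_
    rw [Subgroup.eq_of_le_of_card_ge hle h.ge]
    exact mem_sup_left (mem_sup_right (mem_zpowers y))
  rw [ha, hb] at h1
  rw [hb, hc] at h2
  have := (Nat.pow_lt_pow_iff_right hp.out.one_lt).mp h1
  have := (Nat.pow_lt_pow_iff_right hp.out.one_lt).mp h2
  rw [← Φ.card_mul_index, hgen, ha, hc, ← pow_add]
  exact Nat.pow_le_pow_right hp.out.pos (by omega)

include hna hgen in
/-- a subgroup normalised by `P` meeting `P` outside `Φ(P)` -/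
theorem exists_cyclic_mod {N : Subgroup G} (hN : (P : Subgroup G) ≤ normalizer (N : Set G))
    (h : ¬ N ⊓ (P : Subgroup G) ≤ (frattini ↥(P : Subgroup G)).map (P : Subgroup G).subtype) :
    ∃ y ∈ (P : Subgroup G), (∀ a ∈ (P : Subgroup G), ∃ m ∈ N, m ∈ (P : Subgroup G) ∧ ∃ k : ℤ, a = m * y ^ k) ∧
      ∀ a ∈ (P : Subgroup G), ∀ b ∈ (P : Subgroup G), ⁅a, b⁆ ∈ N := by
  obtain ⟨x, hxm, hx⟩ := SetLike.not_le_iff_exists.1 h
  obtain ⟨hxN, hxP⟩ := Subgroup.mem_inf.1 hxm
  obtain ⟨y, hy⟩ := exists_gen P hna hgen (x := ⟨x, hxP⟩) fun hh => hx ⟨_, hh, rfl⟩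
  set N' := N.subgroupOf (P : Subgroup G) with hN'
  haveI : N'.Normal := ⟨fun n hn g => (Subgroup.mem_normalizer_iff.1 (hN g.2) n).1 hn⟩
  have htop : N' ⊔ zpowers y = ⊤ := by
    refine top_unique (hy.ge.trans (sup_le_sup_right (zpowers_le.2 ?_) _))
    exact hxN
  have hmem : ∀ a : (P : Subgroup G), ∃ m ∈ N', ∃ k : ℤ, a = m * y ^ k := fun a => by
    obtain ⟨m, hm, b, hb, hab⟩ := mem_sup_of_normal_left.1 (htop ▸ mem_top a : a ∈ N' ⊔ zpowers y)
    obtain ⟨k, rfl⟩ := mem_zpowers_iff.1 hb
    exact ⟨m, hm, k, hab.symm⟩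
  refine ⟨y, y.2, fun a ha => ?_, fun a ha b hb => ?_⟩
  · obtain ⟨m, hm, k, hk⟩ := hmem ⟨a, ha⟩
    exact ⟨m, hm, m.2, k, by simpa using congrArg Subtype.val hk⟩
  · obtain ⟨m, hm, k, hk⟩ := hmem ⟨a, ha⟩
    obtain ⟨m', hm', k', hk'⟩ := hmem ⟨b, hb⟩
    have : ⁅(⟨a, ha⟩ : (P : Subgroup G)), ⟨b, hb⟩⁆ ∈ N' := by
      rw [← QuotientGroup.eq_one_iff]
      show QuotientGroup.mk' N' ⁅(⟨a, ha⟩ : (P : Subgroup G)), ⟨b, hb⟩⁆ = 1
      have e1 : QuotientGroup.mk' N' m = 1 := (QuotientGroup.eq_one_iff m).2 hm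
      have e2 : QuotientGroup.mk' N' m' = 1 := (QuotientGroup.eq_one_iff m').2 hm'
      rw [map_commutatorElement, commutatorElement_eq_one_iff_commute, hk, hk', map_mul, map_mul, e1, e2,
        one_mul, one_mul, map_zpow, map_zpow]
      exact Commute.zpow_zpow_self _ k k'
    exact this

include hna hgen in
theorem inf_ne_bot {A B : Subgroup G} (hA : (P : Subgroup G) ≤ normalizer (A : Set G))
    (hB : (P : Subgroup G) ≤ normalizer (B : Set G))
    (hA' : ¬ A ⊓ (P : Subgroup G) ≤ (frattini ↥(P : Subgroup G)).map (P : Subgroup G).subtype)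
    (hB' : ¬ B ⊓ (P : Subgroup G) ≤ (frattini ↥(P : Subgroup G)).map (P : Subgroup G).subtype) :
    A ⊓ B ≠ ⊥ := by
  intro h
  obtain ⟨-, -, -, ha⟩ := exists_cyclic_mod P hna hgen hA hA'
  obtain ⟨-, -, -, hb⟩ := exists_cyclic_mod P hna hgen hB hB'
  refine hna ⟨⟨fun a b => Subtype.ext ?_⟩⟩
  show (a : G) * b = b * a
  rw [← commutatorElement_eq_one_iff_mul_comm, ← Subgroup.mem_bot, ← h]
  exact Subgroup.mem_inf.2 ⟨ha _ a.2 _ b.2, hb _ a.2 _ b.2⟩

variable (hcore : Cfsg.pPrimeCore p G = ⊥)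
  (hfrat : ((frattini ↥(P : Subgroup G)).map (P : Subgroup G).subtype).normalCore = ⊥)

omit hp in
include hfrat in
theorem eq_bot_of_le_frattini {N : Subgroup G} [N.Normal]
    (h : N ≤ (frattini ↥(P : Subgroup G)).map (P : Subgroup G).subtype) : N = ⊥ := by
  rw [eq_bot_iff, ← hfrat]
  exact Subgroup.normal_le_normalCore.2 h

include hcore hfrat in
theorem not_le_frattini {N : Subgroup G} [N.Normal] (hN : N ≠ ⊥) :
    ¬ N ⊓ (P : Subgroup G) ≤ (frattini ↥(P : Subgroup G)).map (P : Subgroup G).subtype := by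
  intro h
  have h1 := Transfer.hasNormalPComplement_of_inf_le_frattini P N h
  rw [Transfer.hasNormalPComplement_iff_coprime] at h1
  have h2 : (Cfsg.pResidual p N).map N.subtype = ⊥ := by
    rw [eq_bot_iff, ← hcore]
    refine Core.le_pPrimeCore ?_
    rwa [Subgroup.card_map_of_injective N.subtype_injective]
  have h3 : Cfsg.pResidual p N = ⊥ := by
    rwa [Subgroup.map_eq_bot_iff_of_injective _ N.subtype_injective] at h2
  have h4 : IsPGroup p N := by
    have := (Transfer.isPGroup_quotient_pResidual (p := p) (G := N))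
    exact this.of_equiv ((QuotientGroup.quotientMulEquivOfEq h3).trans QuotientGroup.quotientBot)
  have h5 : N ≤ (P : Subgroup G) := (Core.le_pCore h4).trans (Core.pCore_le_sylow P)
  exact hN (eq_bot_of_le_frattini P hfrat (by rwa [inf_eq_left.2 h5] at h))

include hna hgen hcore hfrat in
theorem exists_minimum : ∃ M : Subgroup G, M.Normal ∧ M ≠ ⊥ ∧
    ∀ K : Subgroup G, K.Normal → K ≠ ⊥ → M ≤ K := by
  classical
  have hne : (⊤ : Subgroup G).Normal ∧ (⊤ : Subgroup G) ≠ ⊥ := ⟨inferInstance, fun h => hna ⟨⟨fun a b =>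
    Subtype.ext (by
      have ha : (a : G) = 1 := Subgroup.mem_bot.1 (h ▸ mem_top _)
      have hb : (b : G) = 1 := Subgroup.mem_bot.1 (h ▸ mem_top _)
      simp [ha, hb])⟩⟩⟩
  obtain ⟨M, ⟨hMn, hM⟩, hmin⟩ :=
    (Set.toFinite {K : Subgroup G | K.Normal ∧ K ≠ ⊥}).exists_minimal ⟨⊤, hne⟩
  refine ⟨M, hMn, hM, fun K hKn hK => ?_⟩
  have h := inf_ne_bot P hna hgen (A := M) (B := K) (by rw [normalizer_eq_top]; exact le_top)
    (by rw [normalizer_eq_top]; exact le_top) (not_le_frattini P hcore hfrat hM)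
    (not_le_frattini P hcore hfrat hK)
  exact (hmin ⟨inferInstance, h⟩ inf_le_left).trans inf_le_right

include hna hgen hcore hfrat in
theorem gFitting_eq {M : Subgroup G} [M.Normal] (hM : M ≠ ⊥)
    (hmin : ∀ K : Subgroup G, K.Normal → K ≠ ⊥ → M ≤ K) :
    Cfsg.generalizedFittingSubgroup G = M ∧
      (Cfsg.fittingSubgroup G ≠ ⊥ → IsMulCommutative M) := by
  haveI hFn : (Cfsg.fittingSubgroup G).Normal := Components.fitting_normal
  haveI hEn : (Cfsg.layer G).Normal := Components.layer_normal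
  set F := Cfsg.fittingSubgroup G with hF
  set E := Cfsg.layer G with hE
  by_cases hF0 : F = ⊥
  · refine ⟨?_, fun h => absurd hF0 h⟩
    have hgF : Cfsg.generalizedFittingSubgroup G = E := by
      show E ⊔ F = E
      rw [hF0, sup_bot_eq]
    rw [hgF]
    have : Nontrivial G := by
      by_contra hnt
      rw [not_nontrivial_iff_subsingleton] at hnt
      exact hM (Subsingleton.elim _ _)
    have hE0 : E ≠ ⊥ := hgF ▸ Components.gFitting_ne_bot
    refine le_antisymm (Components.layer_le_iff.2 fun L hL => ?_) (hmin E hEn hE0)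
    rcases Components.component_le_or_commutes hL (inferInstance : M.Normal).isSubnormal with h | h
    · exact h
    · exfalso
      have hC : M ≤ Subgroup.centralizer (M : Set G) := by
        refine hmin _ inferInstance fun hb => Components.IsComponent.ne_bot hL ?_
        exact le_bot_iff.1 (hb ▸ Subgroup.commutator_eq_bot_iff_le_centralizer.1 h)
      have hMab : IsMulCommutative M :=
        ⟨⟨fun a b => Subtype.ext (Subgroup.mem_centralizer_iff.1 (hC b.2) a a.2)⟩⟩
      haveI := hMab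
      letI : CommGroup M := IsMulCommutative.instCommGroup
      exact hM (le_bot_iff.1 (hF0 ▸ Core.le_fittingSubgroup (N := M) CommGroup.isNilpotent))
  · -- `F` is an elementary abelian `p`-group
    have hMF : M ≤ F := hmin F hFn hF0
    have hFp : F ≤ (P : Subgroup G) := by
      refine le_trans ?_ (Core.pCore_le_sylow P)
      rw [hF, Core.fittingSubgroup_eq_iSup_pCore]
      refine iSup_le fun q => ?_
      by_cases hq : (q : ℕ) = p
      · rw [hq]
      · refine le_of_eq_of_le ?_ bot_le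
        rw [eq_bot_iff, ← hcore]
        haveI : (Cfsg.pCore q G).Normal := Components.pCore_normal q
        haveI : Fact (Nat.Prime q) := ⟨q.2⟩
        refine Core.le_pPrimeCore ?_
        obtain ⟨e, he⟩ := IsPGroup.iff_card.mp (Core.isPGroup_pCore q G)
        rw [he]
        exact Nat.Coprime.pow_left _ ((Nat.coprime_primes q.2 hp.out).2 hq)
    have hab : ∀ a ∈ F, ∀ b ∈ F, a * b = b * a := by
      intro a ha b hb
      rw [← commutatorElement_eq_one_iff_mul_comm, ← Subgroup.mem_bot,
        ← eq_bot_of_le_frattini P hfrat (N := ⁅F, F⁆) ?_]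
      · exact Subgroup.commutator_mem_commutator ha hb
      rw [Subgroup.commutator_le]
      intro a ha b hb
      exact ⟨⁅(⟨a, hFp ha⟩ : (P : Subgroup G)), ⟨b, hFp hb⟩⁆,
        CfsgLib.PGroups.commutator_le_frattini' P.2 (Subgroup.commutator_mem_commutator (mem_top _) (mem_top _)), rfl⟩
    have hexp : ∀ a ∈ F, a ^ p = 1 := by
      intro a ha
      let K : Subgroup G :=
        { carrier := {x | ∃ b ∈ F, b ^ p = x}
          one_mem' := ⟨1, one_mem _, one_pow _⟩
          mul_mem' := fun {x y} ⟨b, hb, hbx⟩ ⟨c, hc, hcy⟩ =>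
            ⟨b * c, mul_mem hb hc, by rw [Commute.mul_pow (hab b hb c hc), hbx, hcy]⟩
          inv_mem' := fun {x} ⟨b, hb, hbx⟩ => ⟨b⁻¹, inv_mem hb, by rw [inv_pow, hbx]⟩ }
      haveI : K.Normal := ⟨fun x ⟨b, hb, hbx⟩ g =>
        ⟨g * b * g⁻¹, hFn.conj_mem _ hb g, by rw [conj_pow, hbx]⟩⟩
      have hK : K = ⊥ := eq_bot_of_le_frattini P hfrat (by
        rintro x ⟨b, hb, rfl⟩
        exact ⟨(⟨b, hFp hb⟩ : (P : Subgroup G)) ^ p, CfsgLib.PGroups.pow_mem_frattini P.2 _, rfl⟩)
      exact Subgroup.mem_bot.1 (hK ▸ (⟨a, ha, rfl⟩ : a ^ p ∈ K))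
    obtain ⟨y, hyP, hdec, -⟩ := exists_cyclic_mod P hna hgen (N := M)
      (by rw [normalizer_eq_top]; exact le_top) (not_le_frattini P hcore hfrat hM)
    have hFM : F ≤ M := by
      by_contra hnot
      obtain ⟨u, hu⟩ := (Subgroup.isCyclic_iff_exists_zpowers_eq_top _).1
        (Subgroup.isCyclic_of_le (inf_le_right : F ⊓ zpowers y ≤ zpowers y))
      have hum : u ∈ F ⊓ zpowers y := hu ▸ mem_zpowers u
      have hFle : F ≤ M ⊔ zpowers u := by
        intro v hv
        obtain ⟨m, hm, -, k, rfl⟩ := hdec v (hFp hv)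
        refine mul_mem (mem_sup_left hm) (mem_sup_right ?_)
        rw [hu]
        refine Subgroup.mem_inf.2 ⟨?_, Subgroup.zpow_mem_zpowers y k⟩
        simpa using mul_mem (inv_mem (hMF hm)) hv
      have huM : u ∉ M := fun h => hnot (hFle.trans (sup_le le_rfl (zpowers_le.2 h)))
      have huF : u ∈ F := (Subgroup.mem_inf.1 hum).1
      refine false_of_fixed_extension P hM hmin hMF hab hexp huF huM (fun h hh => ?_) hFle
      obtain ⟨m, hm, -, k, rfl⟩ := hdec h hh
      obtain ⟨j, hj⟩ := mem_zpowers_iff.1 (Subgroup.mem_inf.1 hum).2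
      have h1 : y ^ k * u * (y ^ k)⁻¹ = u := by
        rw [← hj, ← zpow_neg, ← zpow_add, ← zpow_add]; congr 1; ring
      calc m * y ^ k * u * (m * y ^ k)⁻¹ = m * (y ^ k * u * (y ^ k)⁻¹) * m⁻¹ := by group
        _ = u := by rw [h1, hab m (hMF hm) u huF, mul_inv_cancel_right]
    have hFeq : F = M := le_antisymm hFM hMF
    have hMab : IsMulCommutative M := ⟨⟨fun a b => Subtype.ext (hab _ (hMF a.2) _ (hMF b.2))⟩⟩
    refine ⟨?_, fun _ => hMab⟩
    suffices hE0 : E = ⊥ by
      show E ⊔ F = M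
      rw [hE0, bot_sup_eq, hFeq]
    by_contra hE0
    -- `M` is central in the perfect group `E`, whose Sylow `p`-subgroup is abelian
    have hME : M ≤ E := hmin E hEn hE0
    have hcomm : ∀ e ∈ E, ∀ m ∈ M, e * m = m * e := fun e he m hm => by
      rw [← commutatorElement_eq_one_iff_mul_comm, ← Subgroup.mem_bot, ← Components.layer_commutes_fitting]
      exact Subgroup.commutator_mem_commutator he (hMF hm)
    set Q : Subgroup E := (P : Subgroup G).subgroupOf E with hQ
    haveI : IsMulCommutative Q := by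
      refine ⟨⟨fun a b => Subtype.ext (Subtype.ext ?_)⟩⟩
      show ((a : E) : G) * ((b : E) : G) = ((b : E) : G) * ((a : E) : G)
      obtain ⟨m, hm, -, k, hk⟩ := hdec _ (Subgroup.mem_subgroupOf.1 a.2)
      obtain ⟨m', hm', -, k', hk'⟩ := hdec _ (Subgroup.mem_subgroupOf.1 b.2)
      have hyE : ∀ (e : G) (m : G) (k : ℤ), e ∈ E → m ∈ M → e = m * y ^ k → y ^ k ∈ E := by
        intro e m k he hm hek
        have := mul_mem (inv_mem (hME hm)) he
        rwa [hek, inv_mul_cancel_left] at this
      have c1 : Commute m (y ^ k') := (hcomm _ (hyE _ _ _ (b : E).2 hm' hk') m hm).symm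
      have c2 : Commute (y ^ k) m' := hcomm _ (hyE _ _ _ (a : E).2 hm hk) m' hm'
      have c3 : Commute m m' := hab _ (hMF hm) _ (hMF hm')
      rw [hk, hk']
      exact ((c3.mul_right c1).mul_left (c2.mul_right (Commute.zpow_zpow_self y k k'))).eq
    obtain ⟨⟨z, hz⟩, hzne⟩ := Subgroup.ne_bot_iff_exists_ne_one.1 hM
    have hz1 : z ≠ 1 := fun h => hzne (Subtype.ext h)
    set zE : E := ⟨z, hME hz⟩ with hzE
    have hzQ : zE ∈ Q := hFp (hMF hz)
    have hcen : ∀ g : E, g * zE = zE * g := fun g => Subtype.ext (hcomm _ g.2 z hz)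
    let ϕ : Q →* Q := MonoidHom.id Q
    open scoped IsMulCommutative in
    have hker : commutator E ≤ (MonoidHom.transfer ϕ).ker :=
      Abelianization.commutator_subset_ker _
    open scoped IsMulCommutative in
    have htr := MonoidHom.transfer_eq_pow ϕ zE (fun k g₀ _ => by
      rw [mul_assoc, ← ((show Commute g₀ zE from hcen g₀).pow_right k).eq, inv_mul_cancel_left])
    open scoped IsMulCommutative in
    have hperf : commutator E = ⊤ := by
      apply Subgroup.map_injective E.subtype_injective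
      rw [_root_.commutator_def, Subgroup.map_commutator, ← MonoidHom.range_eq_map, E.range_subtype]
      exact Components.layer_perfect
    open scoped IsMulCommutative in
    have h1 : zE ^ Q.index = 1 := by
      have h := MonoidHom.mem_ker.1 (hker (hperf ▸ mem_top zE))
      rw [htr] at h
      exact Subtype.ext_iff.1 h
    have hzp : orderOf zE = p := orderOf_eq_prime (Subtype.ext (hexp z (hMF hz))) (fun h => hz1 (Subtype.ext_iff.1 h))
    have hdvd : p ∣ Q.index := hzp ▸ orderOf_dvd_of_pow_eq_one h1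
    -- `Q` is a Sylow subgroup of `E`
    have hindex : ¬ p ∣ Q.index := by
      intro hd
      apply P.not_dvd_index
      exact hd.trans (HallGen.relIndex_dvd_index_right (P : Subgroup G) E)
    exact hindex hdvd

include hna hgen hcore in
/-- `P` permutes the components transitively when the Fitting subgroup is trivial. -/
theorem transitive (hF0 : Cfsg.fittingSubgroup G = ⊥) (K L : Subgroup G) (hK : Cfsg.IsComponent K)
    (hL : Cfsg.IsComponent L) :
    ∃ x ∈ (P : Subgroup G), L = K.map (MulAut.conj x).toMonoidHom := by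
  by_contra hnot
  set orbP : Subgroup G → Prop := fun J => ∃ x ∈ (P : Subgroup G), J = K.map (MulAut.conj x).toMonoidHom with horb
  set SA : Set (Subgroup G) := {J | Cfsg.IsComponent J ∧ orbP J} with hSA
  set SB : Set (Subgroup G) := {J | Cfsg.IsComponent J ∧ ¬ orbP J} with hSB
  have hmul : ∀ (J : Subgroup G) (g h : G), (J.map (MulAut.conj h).toMonoidHom).map (MulAut.conj g).toMonoidHom =
      J.map (MulAut.conj (g * h)).toMonoidHom := fun J g h => by
    rw [Subgroup.map_map]
    congr 1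
    ext z
    simp [mul_assoc]
  have hone : ∀ J : Subgroup G, J.map (MulAut.conj (1 : G)).toMonoidHom = J := fun J => by
    rw [show (MulAut.conj (1 : G)).toMonoidHom = MonoidHom.id G by ext z; simp, Subgroup.map_id]
  have hcomp : ∀ (J : Subgroup G) (g : G), Cfsg.IsComponent J → Cfsg.IsComponent (J.map (MulAut.conj g).toMonoidHom) :=
    fun J g hJ => Components.isComponent_map_equiv (MulAut.conj g) hJ
  have horbP : ∀ J : Subgroup G, ∀ g ∈ (P : Subgroup G), orbP J → orbP (J.map (MulAut.conj g).toMonoidHom) := by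
    rintro J g hg ⟨x, hx, rfl⟩
    exact ⟨g * x, mul_mem hg hx, hmul K g x⟩
  have hinv : ∀ J : Subgroup G, ∀ g ∈ (P : Subgroup G), ¬ orbP J → ¬ orbP (J.map (MulAut.conj g).toMonoidHom) := by
    intro J g hg hJ h
    have := horbP _ g⁻¹ (inv_mem hg) h
    rw [hmul, inv_mul_cancel] at this
    exact hJ (by rwa [hone] at this)
  have hnorm : ∀ S : Set (Subgroup G), (∀ J ∈ S, ∀ g ∈ (P : Subgroup G), J.map (MulAut.conj g).toMonoidHom ∈ S) →
      (P : Subgroup G) ≤ normalizer ((sSup S : Subgroup G) : Set G) := by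
    intro S hS g hg
    have key : ∀ g ∈ (P : Subgroup G), ∀ a ∈ sSup S, g * a * g⁻¹ ∈ sSup S := by
      intro g hg a ha
      have : (sSup S).map (MulAut.conj g).toMonoidHom ≤ sSup S := by
        rw [sSup_eq_iSup, Subgroup.map_iSup]
        refine iSup_le fun J => ?_
        rw [Subgroup.map_iSup]
        exact iSup_le fun hJ => (le_sSup (hS J hJ g hg)).trans (le_of_eq sSup_eq_iSup)
      exact this ⟨a, ha, rfl⟩
    rw [Subgroup.mem_normalizer_iff]
    refine fun a => ⟨key g hg a, fun h => ?_⟩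
    have := key g⁻¹ (inv_mem hg) _ h
    rwa [show g⁻¹ * (g * a * g⁻¹) * g⁻¹⁻¹ = a by group] at this
  have hAn := hnorm SA fun J hJ g hg => ⟨hcomp J g hJ.1, horbP J g hg hJ.2⟩
  have hBn := hnorm SB fun J hJ g hg => ⟨hcomp J g hJ.1, hinv J g hg hJ.2⟩
  -- each side meets `P` outside the Frattini subgroup
  have hside : ∀ S : Set (Subgroup G), (∀ J ∈ S, Cfsg.IsComponent J) → S.Nonempty →
      (P : Subgroup G) ≤ normalizer ((sSup S : Subgroup G) : Set G) →
      ¬ sSup S ⊓ (P : Subgroup G) ≤ (frattini ↥(P : Subgroup G)).map (P : Subgroup G).subtype := by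
    intro S hS ⟨J, hJ⟩ hn hle
    set A := sSup S with hA
    set H := A ⊔ (P : Subgroup G) with hH
    haveI : (A.subgroupOf H).Normal :=
      (normal_subgroupOf_iff_le_normalizer le_sup_left).2 (sup_le le_normalizer hn)
    let PH : Sylow p H := P.subtype le_sup_right
    let e : (P : Subgroup G) ≃* (PH : Subgroup H) :=
      (Subgroup.subgroupOfEquivOfLe (le_sup_right : (P : Subgroup G) ≤ H)).symm.trans
        (MulEquiv.subgroupCongr (Sylow.coe_subtype P le_sup_right).symm)
    have hle' : A.subgroupOf H ⊓ (PH : Subgroup H) ≤ (frattini (PH : Subgroup H)).map (PH : Subgroup H).subtype := by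
      intro a ha
      obtain ⟨ha1, ha2⟩ := Subgroup.mem_inf.1 ha
      have haP : (a : G) ∈ (P : Subgroup G) := by
        rw [Sylow.coe_subtype, Subgroup.mem_subgroupOf] at ha2
        exact ha2
      obtain ⟨b, hb, hba⟩ := hle (Subgroup.mem_inf.2 ⟨Subgroup.mem_subgroupOf.1 ha1, haP⟩)
      refine ⟨e b, frattini_le_comap_frattini_of_surjective (φ := e.toMonoidHom) e.surjective hb, ?_⟩
      exact Subtype.ext hba
    have h1 := Transfer.hasNormalPComplement_of_inf_le_frattini PH (A.subgroupOf H) hle'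
    have hAH : A ≤ H := le_sup_left
    have h2 : Cfsg.HasNormalPComplement p A :=
      Transfer.hasNormalPComplement_of_surjective (Subgroup.subgroupOfEquivOfLe hAH).toMonoidHom
        (Subgroup.subgroupOfEquivOfLe hAH).surjective h1
    rw [Transfer.hasNormalPComplement_iff_coprime] at h2
    -- `A` is perfect
    have hperf : A ≤ ⁅A, A⁆ := by
      refine sSup_le fun J' hJ' => ?_
      have hle2 : J' ≤ A := le_sSup hJ'
      exact (Components.IsComponent.commutator_eq_self (hS J' hJ')).ge.trans (commutator_mono hle2 hle2)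
    haveI : (Cfsg.pResidual p A).Normal := Transfer.pResidual_normal
    have htop : Cfsg.pResidual p A = ⊤ := by
      by_contra hne
      have hq := (Transfer.isPGroup_quotient_pResidual (p := p) (G := A))
      haveI := hq.isNilpotent
      have hAperf : commutator A = ⊤ := by
        apply Subgroup.map_injective A.subtype_injective
        rw [_root_.commutator_def, Subgroup.map_commutator, ← MonoidHom.range_eq_map, A.range_subtype]
        exact le_antisymm (commutator_le_self A) hperf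
      have hQperf : commutator (A ⧸ Cfsg.pResidual p A) = ⊤ := by
        have h := congrArg (Subgroup.map (QuotientGroup.mk' (Cfsg.pResidual p A))) hAperf
        rw [_root_.commutator_def, Subgroup.map_commutator,
          Subgroup.map_top_of_surjective _ (QuotientGroup.mk'_surjective _)] at h
        rw [_root_.commutator_def]
        exact h
      have hall : ∀ k, (⊤ : Subgroup (A ⧸ Cfsg.pResidual p A)).lowerCentralSeries k = ⊤ := by
        intro k
        induction k with
        | zero => simp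
        | succ k ih => rw [Subgroup.lowerCentralSeries_succ, ih, ← _root_.commutator_def, hQperf]
      have hb := Subgroup.lowerCentralSeries_eq_bot_iff_nilpotencyClass_le.2
        (le_refl (Group.nilpotencyClass (A ⧸ Cfsg.pResidual p A)))
      rw [hall] at hb
      refine hne (eq_top_iff.2 fun a _ => ?_)
      rw [← QuotientGroup.eq_one_iff, ← Subgroup.mem_bot, ← hb]
      exact mem_top _
    rw [htop, Subgroup.card_top] at h2
    have hJc : (Nat.card J).Coprime p :=
      h2.coprime_dvd_left (Subgroup.card_dvd_of_le (le_sSup hJ))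
    refine Components.IsComponent.ne_bot (hS J hJ) (le_bot_iff.1 (hcore ▸ ?_))
    exact Components.subnormal_coprime_le_pPrimeCore (hS J hJ).1 hJc
  refine inf_ne_bot P hna hgen hAn hBn
    (hside SA (fun J hJ => hJ.1) ⟨K, hK, 1, one_mem _, (hone K).symm⟩ hAn)
    (hside SB (fun J hJ => hJ.1) ⟨L, hL, hnot⟩ hBn) ?_
  -- the two sides meet trivially
  have hAB : sSup SA ≤ Subgroup.centralizer ((sSup SB : Subgroup G) : Set G) := by
    refine sSup_le fun J hJ => ?_
    rw [Subgroup.le_centralizer_iff]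
    refine sSup_le fun J' hJ' => ?_
    exact Subgroup.commutator_eq_bot_iff_le_centralizer.1 (Components.components_commute hJ'.1 hJ.1 fun h =>
      hJ'.2 (h ▸ hJ.2))
  have hE : Cfsg.layer G ≤ sSup SA ⊔ sSup SB := by
    refine Components.layer_le_iff.2 fun J hJ => ?_
    by_cases h : orbP J
    · exact (le_sSup (show J ∈ SA from ⟨hJ, h⟩)).trans le_sup_left
    · exact (le_sSup (show J ∈ SB from ⟨hJ, h⟩)).trans le_sup_right
  have hin : ∀ S : Set (Subgroup G), (∀ J ∈ S, Cfsg.IsComponent J) → sSup S ≤ Cfsg.layer G :=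
    fun S hS => sSup_le fun J hJ => Components.le_layer (hS J hJ)
  haveI : (Cfsg.layer G).Normal := Components.layer_normal
  set Z := Cfsg.layer G ⊓ Subgroup.centralizer (Cfsg.layer G : Set G) with hZ
  haveI : IsMulCommutative Z := ⟨⟨fun a b => Subtype.ext
    (Subgroup.mem_centralizer_iff.1 (Subgroup.mem_inf.1 b.2).2 a (Subgroup.mem_inf.1 a.2).1)⟩⟩
  letI : CommGroup Z := IsMulCommutative.instCommGroup
  have hZ0 : Z = ⊥ := le_bot_iff.1 (hF0 ▸ Core.le_fittingSubgroup (N := Z) CommGroup.isNilpotent)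
  rw [eq_bot_iff, ← hZ0]
  refine le_inf (inf_le_left.trans (hin SA fun J hJ => hJ.1)) ?_
  rw [Subgroup.le_centralizer_iff]
  refine hE.trans (sup_le ?_ ?_)
  · rw [Subgroup.le_centralizer_iff]
    exact inf_le_right.trans (Subgroup.le_centralizer_iff.1 hAB)
  · rw [Subgroup.le_centralizer_iff]
    exact inf_le_left.trans hAB

end CfsgLib.ClassSizes.TwoGen
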